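import Mathlib
import Groth.Prelude.Def_RelSpec

/-!
# Quasi-coherent algebras from their sections over affine opens
-/

noncomputable section

universe u

open CategoryTheory CategoryTheory.Limits AlgebraicGeometry TopologicalSpace Opposite RelSpec

namespace Groth.Agent.SymAlgRel

variable {S : Scheme.{u}} {F : S.AffineZariskiSiteᵒᵖ ⥤ CommRingCat.{u}}
  {α : (Scheme.AffineZariskiSite.toOpensFunctor S).op ⋙ S.presheaf ⟶ F} (H : α.Coequifibered)

theorem isAff (U : S.AffineZariskiSite) : IsAffineOpen U.toOpens := U.2

variable (α) in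
/-- the structure map over an affine open -/
def strAt (U : S.AffineZariskiSite) : Γ(S, U.toOpens) ⟶ F.obj (op U) := α.app (op U)

/-- the gluing datum -/
abbrev gd : (Scheme.AffineZariskiSite.directedCover S).RelativeGluingData :=
  Scheme.AffineZariskiSite.relativeGluingData H

instance : ((gd H).functor ⋙ Scheme.forget).IsLocallyDirected :=
  Scheme.Cover.RelativeGluingData.instIsLocallyDirectedI₀CompFunctorForgetOfIsThin ..

/-- the glued scheme -/
def total : Scheme.{u} := (gd H).glued

/-- its structure morphism -/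
def proj : total H ⟶ S := (gd H).toBase

/-- the charts -/
def chartι (U : S.AffineZariskiSite) : Spec (F.obj (op U)) ⟶ total H := (gd H).cover.f U

instance (U : S.AffineZariskiSite) : IsOpenImmersion (chartι H U) := (gd H).cover.map_prop _

theorem chartι_proj (U : S.AffineZariskiSite) :
    chartι H U ≫ proj H = Spec.map (strAt α U) ≫ (isAff U).fromSpec :=
  colimit.ι_desc _ _

theorem proj_preimage (U : S.AffineZariskiSite) : proj H ⁻¹ᵁ U.toOpens = (chartι H U).opensRange := by
  simpa using! (gd H).toBase_preimage_eq_opensRange_ι U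

theorem chartι_res {U V : S.AffineZariskiSite} (i : V ⟶ U) :
    Spec.map (F.map i.op) ≫ chartι H U = chartι H V :=
  colimit.w (gd H).functor i

theorem top_le_chartι_preimage (U : S.AffineZariskiSite) :
    (⊤ : (Spec (F.obj (op U))).Opens) ≤ chartι H U ⁻¹ᵁ (proj H ⁻¹ᵁ U.toOpens) := by
  rw [← Scheme.Hom.comp_preimage, chartι_proj, Scheme.Hom.comp_preimage, (isAff U).fromSpec_preimage_self]
  exact le_top

instance : IsAffineHom (proj H) where
  isAffine_preimage U hU := by
    rw [proj_preimage H ⟨U, hU⟩]
    exact isAffineOpen_opensRange (chartι H ⟨U, hU⟩)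

/-- sections over an affine open -/
def secAff (U : S.AffineZariskiSite) : Γ(total H, proj H ⁻¹ᵁ U.toOpens) ⟶ F.obj (op U) :=
  (chartι H U).appLE (proj H ⁻¹ᵁ U.toOpens) ⊤ (top_le_chartι_preimage H U) ≫
    (Scheme.ΓSpecIso (F.obj (op U))).hom

set_option backward.isDefEq.respectTransparency false in
theorem isIso_secAff (U : S.AffineZariskiSite) : IsIso (secAff H U) := by
  have : IsIso ((chartι H U).appLE (proj H ⁻¹ᵁ U.toOpens) ⊤ (top_le_chartι_preimage H U)) := by
    have h : chartι H U ⁻¹ᵁ (proj H ⁻¹ᵁ U.toOpens) = ⊤ := top_le_iff.mp (top_le_chartι_preimage H U)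
    have : IsIso ((chartι H U).app (proj H ⁻¹ᵁ U.toOpens)) :=
      Scheme.Hom.isIso_app _ _ (proj_preimage H U).le
    rw [Scheme.Hom.appLE, show (homOfLE (top_le_chartι_preimage H U)) = eqToHom h.symm from rfl]
    infer_instance
  dsimp only [secAff]
  infer_instance

set_option backward.isDefEq.respectTransparency false in
theorem proj_app_secAff (U : S.AffineZariskiSite) :
    (proj H).app U.toOpens ≫ secAff H U = strAt α U := by
  have h1 := Scheme.Hom.congr_app (chartι_proj H U) U.toOpens
  have h2 := (Scheme.Hom.comp_app (chartι H U) (proj H) U.toOpens).symm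
  have hk : ∀ k : (op ⊤ : (Spec (F.obj (op U))).Opensᵒᵖ) ⟶ op ⊤,
      (Spec (F.obj (op U))).presheaf.map k = 𝟙 _ := fun k => by
    rw [Subsingleton.elim k (𝟙 _)]; exact CategoryTheory.Functor.map_id _ _
  simp only [secAff, Scheme.Hom.appLE, Category.assoc]
  rw [reassoc_of% h2, h1, Scheme.Hom.comp_app, (isAff U).fromSpec_app_self]
  simp only [Category.assoc]
  rw [Scheme.Hom.naturality_assoc]
  simp only [← Functor.map_comp_assoc]
  erw [hk, Category.id_comp]
  rw [← cancel_epi (Scheme.ΓSpecIso Γ(S, U.toOpens)).hom, Iso.hom_inv_id_assoc]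
  erw [Scheme.ΓSpecIso_naturality]

set_option backward.isDefEq.respectTransparency false in
/-- naturality of the identification -/
def secRestrict : (Scheme.AffineZariskiSite.toOpensFunctor S).op ⋙ ((proj H).base _* (total H).presheaf) ⟶ F where
  app U := secAff H U.unop
  naturality U V i := by
    change (total H).presheaf.map (homOfLE ((proj H).preimage_mono (Scheme.AffineZariskiSite.toOpens_mono i.unop.le))).op ≫
        secAff H V.unop = secAff H U.unop ≫ F.map i.unop.op
    simp only [secAff, Category.assoc, ← Scheme.ΓSpecIso_naturality]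
    simp only [← Category.assoc]
    congr 1
    simp only [Scheme.Hom.appTop, Scheme.Hom.appLE, Category.assoc]
    have h1 := (Scheme.Hom.comp_app (Spec.map (F.map i.unop.op))
      (chartι H U.unop) (proj H ⁻¹ᵁ U.unop.toOpens)).symm
    rw [Scheme.Hom.naturality_assoc, Scheme.Hom.naturality, reassoc_of% h1,
      Scheme.Hom.congr_app (chartι_res H i.unop), Category.assoc, ← Functor.map_comp, ← Functor.map_comp]
    rfl

/-- the quasi-coherent algebra with the given sections on affine opens -/
def algOfAffine : QCAlg S := QCAlg.directImage (proj H)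

theorem isIso_secRestrict : IsIso (secRestrict H) :=
  haveI : ∀ U, IsIso ((secRestrict H).app U) := fun U => isIso_secAff H U.unop
  NatIso.isIso_of_isIso_app _

/-- the identification of its sections on affine opens -/
def algOfAffineIso :
    (Scheme.AffineZariskiSite.toOpensFunctor S).op ⋙ (algOfAffine H).presheaf ≅ F :=
  @asIso _ _ _ _ (secRestrict H) (isIso_secRestrict H)

theorem algOfAffineIso_hom_app (U : S.AffineZariskiSite) :
    (algOfAffineIso H).hom.app (op U) = secAff H U := rfl

theorem str_algOfAffineIso (U : S.AffineZariskiSite) :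
    (algOfAffine H).str.app (op U.toOpens) ≫ secAff H U = strAt α U :=
  proj_app_secAff H U

/-- two maps into a quasi-coherent algebra agreeing on affine opens agree -/
theorem presheaf_ext {G : TopCat.Presheaf CommRingCat.{u} S.carrier} (B : QCAlg S) {p q : G ⟶ B.presheaf}
    (h : ∀ U : S.AffineZariskiSite, p.app (op U.toOpens) = q.app (op U.toOpens)) : p = q := by
  apply (Functor.IsCoverDense.restrictHomEquivHom (G := Scheme.AffineZariskiSite.toOpensFunctor S)
    (K := Opens.grothendieckTopology S) (ℱ := G)
    (ℱ' := (⟨B.presheaf, B.isSheaf⟩ : TopCat.Sheaf CommRingCat.{u} S.carrier))).symm.injective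
  ext U : 2
  exact h U.unop

/-- extending a map given on affine opens -/
def extend {G : TopCat.Presheaf CommRingCat.{u} S.carrier} (B : QCAlg S)
    (p : (Scheme.AffineZariskiSite.toOpensFunctor S).op ⋙ G ⟶
      (Scheme.AffineZariskiSite.toOpensFunctor S).op ⋙ B.presheaf) : G ⟶ B.presheaf :=
  Functor.IsCoverDense.restrictHomEquivHom (G := Scheme.AffineZariskiSite.toOpensFunctor S)
    (K := Opens.grothendieckTopology S) (ℱ := G)
    (ℱ' := (⟨B.presheaf, B.isSheaf⟩ : TopCat.Sheaf CommRingCat.{u} S.carrier)) p

theorem extend_app {G : TopCat.Presheaf CommRingCat.{u} S.carrier} (B : QCAlg S)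
    (p : (Scheme.AffineZariskiSite.toOpensFunctor S).op ⋙ G ⟶
      (Scheme.AffineZariskiSite.toOpensFunctor S).op ⋙ B.presheaf) (U : S.AffineZariskiSite) :
    (extend B p).app (op U.toOpens) = p.app (op U) :=
  NatTrans.congr_app ((Functor.IsCoverDense.restrictHomEquivHom (G := Scheme.AffineZariskiSite.toOpensFunctor S)
    (K := Opens.grothendieckTopology S) (ℱ := G)
    (ℱ' := (⟨B.presheaf, B.isSheaf⟩ : TopCat.Sheaf CommRingCat.{u} S.carrier))).symm_apply_apply p) (op U)

end Groth.Agent.SymAlgRel
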