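import Mathlib

/-!
# Gluing of modules given on the members of a basis-like family of opens

`GlueData`: opens `O i`, modules `G i` whose sections only depend on the trace on `O i`, and transition maps
along a transitive relation `R` ("is a basic open of"), bijective inside the smaller open.
-/

set_option autoImplicit false

noncomputable section

universe u

open CategoryTheory CategoryTheory.Limits AlgebraicGeometry TopologicalSpace Opposite

namespace Groth.Agent.SymAlgRel.BasicGlue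

variable {X : Scheme.{u}}

/-- restriction of sections -/
abbrev rs (M : X.Modules) {V W : X.Opens} (h : V ≤ W) (s : Γ(M, W)) : Γ(M, V) :=
  M.presheaf.map (homOfLE h).op s

theorem rs_rs (M : X.Modules) {V W W' : X.Opens} (h : V ≤ W) (h' : W ≤ W') (s : Γ(M, W')) :
    rs M h (rs M h' s) = rs M (h.trans h') s := by
  show (M.presheaf.map _ ≫ M.presheaf.map _) s = _
  rw [← M.presheaf.map_comp]
  rfl

theorem rs_self (M : X.Modules) {W : X.Opens} (h : W ≤ W) (s : Γ(M, W)) : rs M h s = s :=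
  ConcreteCategory.congr_hom (M.presheaf.map_id (op W)) s

theorem app_rs {M N : X.Modules} (f : M ⟶ N) {V W : X.Opens} (h : V ≤ W) (s : Γ(M, W)) :
    f.app V (rs M h s) = rs N h (f.app W s) :=
  ConcreteCategory.congr_hom (f.mapPresheaf.naturality (homOfLE h).op) s

theorem eq_of_cover (M : X.Modules) {κ : Type u} (U : κ → X.Opens) {W : X.Opens} (hle : ∀ k, U k ≤ W)
    (hcover : ∀ x ∈ W, ∃ k, x ∈ U k) {s t : Γ(M, W)} (h : ∀ k, rs M (hle k) s = rs M (hle k) t) : s = t :=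
  TopCat.Sheaf.eq_of_locally_eq' ⟨M.presheaf, M.isSheaf⟩ U W (fun k => homOfLE (hle k))
    (fun x hx => TopologicalSpace.Opens.mem_iSup.2 (hcover x hx)) s t h

theorem exists_glue (M : X.Modules) {κ : Type u} (U : κ → X.Opens) {W : X.Opens} (hle : ∀ k, U k ≤ W)
    (hcover : ∀ x ∈ W, ∃ k, x ∈ U k) (s : ∀ k, Γ(M, U k))
    (h : ∀ k l, rs M inf_le_left (s k) = (rs M inf_le_right (s l) : Γ(M, U k ⊓ U l))) :
    ∃ t : Γ(M, W), ∀ k, rs M (hle k) t = s k :=
  (TopCat.Sheaf.existsUnique_gluing' ⟨M.presheaf, M.isSheaf⟩ U W (fun k => homOfLE (hle k))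
    (fun x hx => TopologicalSpace.Opens.mem_iSup.2 (hcover x hx)) s h).exists

/-- a morphism bijective on sections over the small opens is an isomorphism -/
theorem isIso_of_bijective {M N : X.Modules} (f : M ⟶ N) {κ : Type u} (O : κ → X.Opens)
    (hO : ∀ x : X, ∃ k, x ∈ O k) (h : ∀ k (W : X.Opens), W ≤ O k → Function.Bijective (f.app W)) : IsIso f := by
  rw [Scheme.Modules.Hom.isIso_iff_isIso_app]
  intro W
  rw [ConcreteCategory.isIso_iff_bijective]
  have hinj : ∀ W : X.Opens, Function.Injective (f.app W) := fun W s t hst =>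
    eq_of_cover M (fun k => W ⊓ O k) (fun k => inf_le_left)
      (fun x hx => (hO x).imp fun k hk => ⟨hx, hk⟩) fun k => (h k _ inf_le_right).1 (by rw [app_rs, app_rs, hst])
  refine ⟨hinj W, fun t => ?_⟩
  choose s hs using fun k => (h k (W ⊓ O k) inf_le_right).2 (rs N inf_le_left t)
  obtain ⟨s', hs'⟩ := exists_glue M (fun k => W ⊓ O k) (fun k => inf_le_left)
    (fun x hx => (hO x).imp fun k hk => ⟨hx, hk⟩) s fun k l => hinj _ (by
      rw [app_rs, app_rs, hs, hs, rs_rs, rs_rs])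
  exact ⟨s', eq_of_cover N (fun k => W ⊓ O k) (fun k => inf_le_left)
    (fun x hx => (hO x).imp fun k hk => ⟨hx, hk⟩) fun k => by rw [← app_rs, hs', hs]⟩

section ev

variable (W : X.Opens)

/-- sections over `W`, as a functor to types -/
def ev : X.Modules ⥤ Type u :=
  Scheme.Modules.toPresheaf X ⋙ (CategoryTheory.evaluation _ _).obj (op W) ⋙ forget AddCommGrpCat.{u}

instance : PreservesLimitsOfSize.{u, u} (ev (X := X) W) := by
  haveI : PreservesLimitsOfSize.{u, u} (forget AddCommGrpCat.{u}) := AddCommGrpCat.forget_preservesLimits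
  haveI : PreservesLimitsOfSize.{u, u}
      (((CategoryTheory.evaluation (Opens X)ᵒᵖ AddCommGrpCat.{u})).obj (op W) ⋙ forget AddCommGrpCat.{u}) :=
    comp_preservesLimits _ _
  exact comp_preservesLimits (Scheme.Modules.toPresheaf X) _

theorem exists_pi_section {ι : Type u} (G : ι → X.Modules) (s : ∀ i, Γ(G i, W)) :
    ∃ t : Γ(∏ᶜ G, W), ∀ i, (Pi.π G i).app W t = s i := by
  let h := isLimitOfHasProductOfPreservesLimit (ev W) G
  let c : Fan (fun i => (ev W).obj (G i)) := Fan.mk PUnit.{u+1} (fun i => ↾fun _ => s i)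
  exact ⟨h.lift c PUnit.unit, fun i => ConcreteCategory.congr_hom (h.fac c ⟨i⟩) PUnit.unit⟩

theorem pi_section_ext {ι : Type u} (G : ι → X.Modules) (t t' : Γ(∏ᶜ G, W))
    (h : ∀ i, (Pi.π G i).app W t = (Pi.π G i).app W t') : t = t' :=
  Concrete.isLimit_ext _ (isLimitOfHasProductOfPreservesLimit (ev W) G) t t' fun ⟨i⟩ => h i

theorem exists_equalizer_section {A B : X.Modules} (f g : A ⟶ B) (s : Γ(A, W)) (hs : f.app W s = g.app W s) :
    ∃ t : Γ(equalizer f g, W), (equalizer.ι f g).app W t = s := by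
  let h := isLimitOfHasEqualizerOfPreservesLimit (ev W) f g
  let c : Fork ((ev W).map f) ((ev W).map g) :=
    Fork.ofι (↾fun _ => s : PUnit.{u+1} ⟶ (ev W).obj A) (ConcreteCategory.hom_ext _ _ fun _ => hs)
  exact ⟨h.lift c PUnit.unit, ConcreteCategory.congr_hom (h.fac c WalkingParallelPair.zero) PUnit.unit⟩

theorem equalizer_section_inj {A B : X.Modules} (f g : A ⟶ B) :
    Function.Injective ((equalizer.ι f g).app W) := by
  intro t t' h
  refine Concrete.isLimit_ext _ (isLimitOfHasEqualizerOfPreservesLimit (ev W) f g) t t' ?_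
  rintro (_ | _)
  · exact h
  · show ((equalizer.ι f g).app W ≫ f.app W) t = ((equalizer.ι f g).app W ≫ f.app W) t'
    exact congrArg (f.app W) h

end ev

/-- the gluing datum -/
structure GlueData (X : Scheme.{u}) where
  /-- the index type -/
  ι : Type u
  /-- the opens -/
  O : ι → X.Opens
  /-- `R i j`: the open `j` is a basic open of `i` -/
  R : ι → ι → Prop
  le : ∀ {i j}, R i j → O j ≤ O i
  trans : ∀ {i j k}, R i j → R j k → R i k
  cover : ∀ x : X, ∃ i, x ∈ O i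
  inter : ∀ i j (x : X), x ∈ O i → x ∈ O j → ∃ k, R i k ∧ R j k ∧ x ∈ O k
  /-- the modules -/
  G : ι → X.Modules
  /-- the transition maps -/
  φ : ∀ {i j}, R i j → (G i ⟶ G j)
  comp : ∀ {i j k} (a : R i j) (b : R j k) (W : X.Opens) (s : Γ(G i, W)),
    (φ b).app W ((φ a).app W s) = (φ (trans a b)).app W s
  bij : ∀ {i j} (a : R i j) (W : X.Opens), W ≤ O j → Function.Bijective ((φ a).app W)
  bij_rs : ∀ (i) (W : X.Opens), Function.Bijective (rs (G i) (inf_le_left : W ⊓ O i ≤ W))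

namespace GlueData

variable (d : GlueData X)

/-- pairs `(i, basic open of i)` -/
abbrev Pair : Type u := {p : d.ι × d.ι // d.R p.1 p.2}

/-- the first map -/
def left : ∏ᶜ d.G ⟶ ∏ᶜ fun p : d.Pair => d.G p.1.2 := Pi.lift fun p => Pi.π d.G p.1.2

/-- the second map -/
def right : ∏ᶜ d.G ⟶ ∏ᶜ fun p : d.Pair => d.G p.1.2 := Pi.lift fun p => Pi.π d.G p.1.1 ≫ d.φ p.2

/-- the glued module -/
abbrev L : X.Modules := equalizer d.left d.right

/-- the identification -/
def lam (i : d.ι) : d.L ⟶ d.G i := equalizer.ι d.left d.right ≫ Pi.π d.G i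

@[reassoc]
theorem lam_φ {i j : d.ι} (a : d.R i j) : d.lam i ≫ d.φ a = d.lam j := by
  have h := congrArg (· ≫ Pi.π (fun p : d.Pair => d.G p.1.2) ⟨(i, j), a⟩) (equalizer.condition d.left d.right)
  simp only [Category.assoc, left, right] at h
  erw [Pi.lift_π, Pi.lift_π] at h
  rw [lam, lam, Category.assoc]
  exact h.symm

theorem lam_app_φ {i j : d.ι} (a : d.R i j) (W : X.Opens) (s : Γ(d.L, W)) :
    (d.φ a).app W ((d.lam i).app W s) = (d.lam j).app W s :=
  congrArg (fun f : d.L ⟶ d.G j => f.app W s) (d.lam_φ a)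

theorem section_ext {W : X.Opens} (s t : Γ(d.L, W)) (h : ∀ i, (d.lam i).app W s = (d.lam i).app W t) : s = t :=
  equalizer_section_inj W _ _ (pi_section_ext W _ _ _ h)

theorem exists_section {W : X.Opens} (s : ∀ i, Γ(d.G i, W))
    (h : ∀ {i j} (a : d.R i j), (d.φ a).app W (s i) = s j) : ∃ t : Γ(d.L, W), ∀ i, (d.lam i).app W t = s i := by
  obtain ⟨u, hu⟩ := exists_pi_section W d.G s
  obtain ⟨t, ht⟩ := exists_equalizer_section W d.left d.right u (pi_section_ext W _ _ _ fun p => by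
    have hl : d.left ≫ Pi.π (fun q : d.Pair => d.G q.1.2) p = Pi.π d.G p.1.2 := Pi.lift_π ..
    have hr : d.right ≫ Pi.π (fun q : d.Pair => d.G q.1.2) p = Pi.π d.G p.1.1 ≫ d.φ p.2 := Pi.lift_π ..
    refine (congrArg (fun f => Scheme.Modules.Hom.app f W u) hl).trans
      (Eq.trans ?_ (congrArg (fun f => Scheme.Modules.Hom.app f W u) hr).symm)
    show (Pi.π d.G p.1.2).app W u = (d.φ p.2).app W ((Pi.π d.G p.1.1).app W u)
    rw [hu, hu, h])
  exact ⟨t, fun i => (congrArg ((Pi.π d.G i).app W) ht).trans (hu i)⟩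

theorem G_ext (j : d.ι) {W : X.Opens} {κ : Type u} (U : κ → X.Opens) (hle : ∀ k, U k ≤ W)
    (hcover : ∀ x ∈ W, x ∈ d.O j → ∃ k, x ∈ U k) {s t : Γ(d.G j, W)}
    (h : ∀ k, rs _ (hle k) s = rs _ (hle k) t) : s = t := by
  refine (d.bij_rs j W).1 (eq_of_cover (d.G j) (fun k => U k ⊓ d.O j) (fun k => inf_le_inf_right _ (hle k))
    (fun x hx => (hcover x hx.1 hx.2).imp fun k hk => ⟨hk, hx.2⟩) fun k => ?_)
  rw [rs_rs, rs_rs, ← rs_rs _ (inf_le_left : U k ⊓ d.O j ≤ U k) (hle k), h,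
    rs_rs]

theorem bijective_lam (i : d.ι) (W : X.Opens) (hW : W ≤ d.O i) : Function.Bijective ((d.lam i).app W) := by
  classical
  refine ⟨fun s t hst => d.section_ext s t fun j => ?_, fun t => ?_⟩
  · refine d.G_ext j (fun k : {k // d.R i k ∧ d.R j k} => W ⊓ d.O k.1) (fun _ => inf_le_left) ?_ fun k => ?_
    · intro x hx hxj
      obtain ⟨k, hik, hjk, hk⟩ := d.inter i j x (hW hx) hxj
      exact ⟨⟨k, hik, hjk⟩, hx, hk⟩
    · refine (d.bij k.2.2 _ inf_le_right).1 ?_
      rw [app_rs, app_rs, d.lam_app_φ, d.lam_app_φ, ← d.lam_app_φ k.2.1, ← d.lam_app_φ k.2.1, hst]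
  · -- the values of the section on every member
    have key : ∀ j, ∃ σ : Γ(d.G j, W), ∀ k (a : d.R i k) (b : d.R j k),
        (d.φ b).app (W ⊓ d.O k) (rs _ inf_le_left σ) = (d.φ a).app (W ⊓ d.O k) (rs _ inf_le_left t) := by
      intro j
      choose σ hσ using fun k : {k // d.R i k ∧ d.R j k} =>
        (d.bij k.2.2 (W ⊓ d.O k.1) inf_le_right).2 ((d.φ k.2.1).app _ (rs _ inf_le_left t))
      obtain ⟨τ, hτ⟩ := exists_glue (d.G j) (fun k : {k // d.R i k ∧ d.R j k} => W ⊓ d.O k.1)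
        (W := W ⊓ d.O j) (fun k => inf_le_inf_left _ (d.le k.2.2)) (fun x hx => by
          obtain ⟨k, hik, hjk, hk⟩ := d.inter i j x (hW hx.1) hx.2
          exact ⟨⟨k, hik, hjk⟩, hx.1, hk⟩) σ (fun k k' => by
          refine eq_of_cover (d.G j)
            (fun l : {l // d.R k.1 l ∧ d.R k'.1 l} => (W ⊓ d.O k.1) ⊓ (W ⊓ d.O k'.1) ⊓ d.O l.1)
            (fun _ => inf_le_left) (fun x hx => by
              obtain ⟨l, h1, h2, hl⟩ := d.inter k.1 k'.1 x hx.1.2 hx.2.2
              exact ⟨⟨l, h1, h2⟩, hx, hl⟩) fun l => (d.bij (d.trans k.2.2 l.2.1) _ inf_le_right).1 ?_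
          rw [rs_rs, rs_rs]
          conv_lhs => rw [← d.comp k.2.2 l.2.1, app_rs, hσ, ← app_rs, d.comp, rs_rs]
          conv_rhs => rw [← d.comp k'.2.2 l.2.2, app_rs, hσ, ← app_rs, d.comp, rs_rs])
      obtain ⟨σ', rfl⟩ := (d.bij_rs j W).2 τ
      refine ⟨σ', fun k a b => ?_⟩
      rw [← hσ ⟨k, a, b⟩, ← hτ ⟨k, a, b⟩, rs_rs]
    choose σ hσ using key
    have hfam : ∀ {j l} (a : d.R j l), (d.φ a).app W (σ j) = σ l := by
      intro j l a
      refine d.G_ext l (fun k : {k // d.R i k ∧ d.R l k} => W ⊓ d.O k.1) (fun _ => inf_le_left) ?_ fun k => ?_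
      · intro x hx hxl
        obtain ⟨k, hik, hlk, hk⟩ := d.inter i l x (hW hx) hxl
        exact ⟨⟨k, hik, hlk⟩, hx, hk⟩
      · refine (d.bij k.2.2 _ inf_le_right).1 ?_
        rw [hσ l k.1 k.2.1 k.2.2, ← app_rs, d.comp, hσ j k.1 k.2.1 (d.trans a k.2.2)]
    obtain ⟨s, hs⟩ := d.exists_section σ hfam
    refine ⟨s, (hs i).trans ?_⟩
    refine d.G_ext i (fun k : {k // d.R i k} => W ⊓ d.O k.1) (fun _ => inf_le_left) ?_ fun k => ?_
    · intro x hx hxi
      obtain ⟨k, hik, -, hk⟩ := d.inter i i x hxi hxi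
      exact ⟨⟨k, hik⟩, hx, hk⟩
    · exact (d.bij k.2 _ inf_le_right).1 (hσ i k.1 k.2 k.2)

/-- the morphism into the glued module -/
def lift {M : X.Modules} (ν : ∀ i, M ⟶ d.G i) (h : ∀ {i j} (a : d.R i j), ν i ≫ d.φ a = ν j) : M ⟶ d.L :=
  equalizer.lift (Pi.lift ν) (by
    refine Pi.hom_ext _ _ fun p => ?_
    simp only [left, right, Category.assoc]
    erw [Pi.lift_π, Pi.lift_π]
    rw [Pi.lift_π, Pi.lift_π_assoc, h])

@[reassoc]
theorem lift_lam {M : X.Modules} (ν : ∀ i, M ⟶ d.G i) (h : ∀ {i j} (a : d.R i j), ν i ≫ d.φ a = ν j) (i : d.ι) :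
    d.lift ν h ≫ d.lam i = ν i := by
  rw [lift, lam, equalizer.lift_ι_assoc, Pi.lift_π]

theorem hom_ext_L {M : X.Modules} {f g : M ⟶ d.L} (h : ∀ i, f ≫ d.lam i = g ≫ d.lam i) : f = g :=
  equalizer.hom_ext (Pi.hom_ext _ _ fun i => by simpa only [lam, Category.assoc] using h i)

end GlueData

end Groth.Agent.SymAlgRel.BasicGlue

end
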