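import Groth.Agent.BCModel.SectPull

/-!
# Sections of inverse images on small affines, canonically
-/

set_option autoImplicit false
set_option backward.isDefEq.respectTransparency false

noncomputable section

universe u

open CategoryTheory AlgebraicGeometry Opposite TopologicalSpace TensorProduct
open Groth.Agent.QCohBase Groth.Agent.GenLocus Groth.Agent.DCohBridge Groth.Agent.FlatOver

namespace Groth.Agent.SymAlgRel

variable {X X' : Scheme.{u}} (g : X' ⟶ X) (F : X.Modules)

section

variable (W : X.Opens) (V : X'.Opens) (e : V ≤ g ⁻¹ᵁ W)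

/-- Sections of the inverse image as a module over sections on the base. -/
@[reducible]
def pullModuleLE : Module Γ(X, W) Γ((Scheme.Modules.pullback g).obj F, V) :=
  Module.compHom _ (g.appLE W V e).hom

/-- The inverse image of sections followed by restriction, as a linear map. -/
def pullSecLE :
    letI := pullModuleLE g F W V e
    Γ(F, W) →ₗ[Γ(X, W)] Γ((Scheme.Modules.pullback g).obj F, V) :=
  letI := pullModuleLE g F W V e
  { toFun := fun m => mres _ e (pullSec g F W m)
    map_add' := fun a b => by rw [map_add, map_add]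
    map_smul' := fun r m => by rw [pullSec_smul, mres_smul]; rfl }

end

/-- Sections of the inverse image on an affine are the base change of the sections. -/
theorem isBaseChange_pullSecLE [F.IsQuasicoherent] {W : X.Opens} (hW : IsAffineOpen W)
    {V : X'.Opens} (hW' : IsAffineOpen V) (e : V ≤ g ⁻¹ᵁ W) :
    letI := (g.appLE W V e).hom.toAlgebra
    letI := pullModuleLE g F W V e
    haveI : IsScalarTower Γ(X, W) Γ(X', V) Γ((Scheme.Modules.pullback g).obj F, V) :=
      .of_algebraMap_smul fun _ _ => rfl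
    IsBaseChange Γ(X', V) (pullSecLE g F W V e) := by
  letI algS := (g.appLE W V e).hom.toAlgebra
  letI := pullModuleLE g F W V e
  haveI : IsScalarTower Γ(X, W) Γ(X', V) Γ((Scheme.Modules.pullback g).obj F, V) :=
    .of_algebraMap_smul fun _ _ => rfl
  let F' := (Scheme.Modules.pullback g).obj F
  haveI : F'.IsQuasicoherent := QCohPull.isQuasicoherent_pullback g F
  let Φ := (pullSecLE g F W V e).liftBaseChange Γ(X', V)
  suffices hΦ : Function.Bijective Φ from
    IsBaseChange.of_equiv (LinearEquiv.ofBijective Φ hΦ) fun m => by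
      show Φ _ = _
      rw [LinearMap.liftBaseChange_tmul, one_smul]
  have hpt : ∀ (P : Ideal Γ(X', V)) [P.IsMaximal], ∃ (x : X') (hx : x ∈ V),
      (hW'.primeIdealOf ⟨x, hx⟩).asIdeal = P := fun P _ => AssPts.exists_point hW' P
  choose pt hpt' heq using hpt
  letI modN : ∀ (P : Ideal Γ(X', V)) [P.IsMaximal], Module Γ(X', V) (F'.presheaf.stalk (pt P)) :=
    fun P _ => germModule F' (pt P) (hpt' P)
  haveI hN : ∀ (P : Ideal Γ(X', V)) [P.IsMaximal],
      IsLocalizedModule.AtPrime P (germₗ F' (pt P) (hpt' P)) := fun P _ => by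
    have := isLocalizedModule_germₗ F' hW' (pt P) (hpt' P)
    simp only [heq P] at this
    exact this
  haveI hM : ∀ (P : Ideal Γ(X', V)) [P.IsMaximal],
      IsLocalizedModule.AtPrime P (germₗ F' (pt P) (hpt' P) ∘ₗ Φ) := fun P _ => by
    let x := pt P
    let hx := hpt' P
    have hy : g.base x ∈ W := e hx
    letI algY : Algebra Γ(X, W) (X.presheaf.stalk (g.base x)) := (X.presheaf.germ W (g.base x) hy).hom.toAlgebra
    letI algX' : Algebra Γ(X', V) (X'.presheaf.stalk x) := (X'.presheaf.germ (V) x hx).hom.toAlgebra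
    letI algP : Algebra (X.presheaf.stalk (g.base x)) (X'.presheaf.stalk x) := (stφ g x).toAlgebra
    letI algX : Algebra Γ(X, W) (X'.presheaf.stalk x) := ((stφ g x).comp (X.presheaf.germ W (g.base x) hy).hom).toAlgebra
    haveI : IsScalarTower Γ(X, W) (X.presheaf.stalk (g.base x)) (X'.presheaf.stalk x) :=
      .of_algebraMap_eq fun _ => rfl
    haveI : IsScalarTower Γ(X, W) Γ(X', V) (X'.presheaf.stalk x) :=
      .of_algebraMap_eq fun r => (germ_stφ g x W hy r).trans
        (X'.presheaf.germ_res_apply (homOfLE e) x hx (g.app W r)).symm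
    letI mY : Module Γ(X, W) (F.presheaf.stalk (g.base x)) := germModule F (g.base x) hy
    haveI : IsScalarTower Γ(X, W) (X.presheaf.stalk (g.base x)) (F.presheaf.stalk (g.base x)) :=
      .of_algebraMap_smul fun _ _ => rfl
    letI mP : Module (X.presheaf.stalk (g.base x)) (F'.presheaf.stalk x) := Module.compHom _ (stφ g x)
    haveI : IsScalarTower (X.presheaf.stalk (g.base x)) (X'.presheaf.stalk x) (F'.presheaf.stalk x) :=
      .of_algebraMap_smul fun _ _ => rfl
    letI mX : Module Γ(X, W) (F'.presheaf.stalk x) :=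
      Module.compHom _ ((stφ g x).comp (X.presheaf.germ W (g.base x) hy).hom)
    haveI : IsScalarTower Γ(X, W) (X'.presheaf.stalk x) (F'.presheaf.stalk x) :=
      .of_algebraMap_smul fun _ _ => rfl
    haveI : IsScalarTower Γ(X, W) (X.presheaf.stalk (g.base x)) (F'.presheaf.stalk x) :=
      .of_algebraMap_smul fun _ _ => rfl
    haveI : IsScalarTower Γ(X', V) (X'.presheaf.stalk x) (F'.presheaf.stalk x) :=
      .of_algebraMap_smul fun _ _ => rfl
    haveI : IsScalarTower Γ(X, W) Γ(X', V) (F'.presheaf.stalk x) :=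
      .of_algebraMap_smul fun r m => by
        show X'.presheaf.germ V x hx (X'.presheaf.map (homOfLE e).op (g.app W r)) • m =
          stφ g x (X.presheaf.germ W (g.base x) hy r) • m
        rw [TopCat.Presheaf.germ_res_apply, germ_stφ]
    haveI hlY : IsLocalization.AtPrime (X.presheaf.stalk (g.base x)) (hW.primeIdealOf ⟨g.base x, hy⟩).asIdeal :=
      hW.isLocalization_stalk ⟨g.base x, hy⟩
    haveI := isLocalizedModule_germₗ F hW (g.base x) hy
    have h1 : IsBaseChange (X.presheaf.stalk (g.base x)) (germₗ F (g.base x) hy) :=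
      (isLocalizedModule_iff_isBaseChange (hW.primeIdealOf ⟨g.base x, hy⟩).asIdeal.primeCompl _ _).1 inferInstance
    let u : F.presheaf.stalk (g.base x) →ₗ[X.presheaf.stalk (g.base x)] F'.presheaf.stalk x :=
      (pushStalkHom g x F').hom ∘ₗ ((DerSch.stalkFunctor X (g.base x)).map
        ((Scheme.Modules.pullbackPushforwardAdjunction g).unit.app F)).hom
    let E : (X'.presheaf.stalk x) ⊗[X.presheaf.stalk (g.base x)] (F.presheaf.stalk (g.base x))
        ≃ₗ[X'.presheaf.stalk x] F'.presheaf.stalk x :=
      ((stalkPullIso g x).app F).toLinearEquiv.symm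
    have h2 : IsBaseChange (X'.presheaf.stalk x) u := IsBaseChange.of_equiv E fun m => by
      show ((stalkPullIso g x).app F).toLinearEquiv.symm _ = _
      rw [LinearEquiv.symm_apply_eq]
      exact (pushStalk_unit g x F m).symm
    have h12 := h1.comp h2
    have h3 : IsBaseChange (X'.presheaf.stalk x) ((germₗ F' x hx ∘ₗ Φ).restrictScalars Γ(X, W) ∘ₗ
        TensorProduct.mk Γ(X, W) Γ(X', V) Γ(F, W) 1) := by
      convert h12 using 1
      refine LinearMap.ext fun m => ?_
      show germₗ F' x hx (Φ ((1 : Γ(X', V)) ⊗ₜ[Γ(X, W)] m)) = u (germₗ F (g.base x) hy m)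
      rw [LinearMap.liftBaseChange_tmul, one_smul]
      show gmM F' V hx (mres F' e (pullSec g F W m)) = pushStalkHom g x F' _
      rw [show gmM F' V hx (mres F' e (pullSec g F W m)) = gmM F' (g ⁻¹ᵁ W) (e hx) (pullSec g F W m) from
        F'.presheaf.germ_res_apply (homOfLE e) x hx _]
      erw [DerSch.stalkFunctor_map_germ]
      exact (pushStalkHom_germ g x F' W hy _).symm
    have h4 := (TensorProduct.isBaseChange Γ(X, W) Γ(F, W) Γ(X', V)).of_comp h3
    haveI hl : IsLocalization.AtPrime (X'.presheaf.stalk x) (hW'.primeIdealOf ⟨x, hx⟩).asIdeal :=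
      hW'.isLocalization_stalk ⟨x, hx⟩
    have h5 := (isLocalizedModule_iff_isBaseChange (hW'.primeIdealOf ⟨x, hx⟩).asIdeal.primeCompl
      (X'.presheaf.stalk x) (germₗ F' x hx ∘ₗ Φ)).2 h4
    have e₀ : (hW'.primeIdealOf ⟨x, hx⟩).asIdeal = P := heq P
    simp only [e₀] at h5
    exact h5
  refine bijective_of_isLocalized_maximal (fun P _ => F'.presheaf.stalk (pt P))
    (fun P _ => germₗ F' (pt P) (hpt' P) ∘ₗ Φ) (fun P _ => F'.presheaf.stalk (pt P))
    (fun P _ => germₗ F' (pt P) (hpt' P)) Φ fun P _ => ?_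
  have : IsLocalizedModule.map P.primeCompl (germₗ F' (pt P) (hpt' P) ∘ₗ Φ) (germₗ F' (pt P) (hpt' P)) Φ =
      LinearMap.id := by
    refine IsLocalizedModule.linearMap_ext P.primeCompl (germₗ F' (pt P) (hpt' P) ∘ₗ Φ)
      (germₗ F' (pt P) (hpt' P)) ?_
    rw [IsLocalizedModule.map_comp]
    rfl
  rw [this]
  exact Function.bijective_id

end Groth.Agent.SymAlgRel
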