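import Mathlib
import Groth.Agent.SymAlgRel.SectBC
import Groth.Agent.QCohBase.Qcqs
import Groth.Agent.SymAlgRel.BasicGlue

/-! Affine base change. -/

set_option autoImplicit false
set_option backward.isDefEq.respectTransparency false
set_option backward.isDefEq.respectTransparency.types false
set_option linter.style.haveILetI false
set_option maxHeartbeats 1000000

noncomputable section

universe u

open CategoryTheory AlgebraicGeometry Opposite TopologicalSpace TensorProduct
open Groth.Agent.QCohBase Groth.Agent.GenLocus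

namespace Groth.Agent.SymAlgRel

theorem isBaseChange_pushout {R S A B M N : Type u} [CommRing R] [CommRing S] [CommRing A] [CommRing B]
    [Algebra R S] [Algebra R A] [Algebra R B] [Algebra A B] [Algebra S B] [IsScalarTower R A B]
    [IsScalarTower R S B] [Algebra.IsPushout R S A B]
    [AddCommGroup M] [Module R M] [Module A M] [IsScalarTower R A M]
    [AddCommGroup N] [Module R N] [Module A N] [Module B N] [Module S N] [IsScalarTower R A N]
    [IsScalarTower R S N] [IsScalarTower A B N] [IsScalarTower S B N]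
    (l : M →ₗ[A] N) (hl : IsBaseChange B l) : IsBaseChange S (l.restrictScalars R) :=
  IsBaseChange.of_equiv ((Algebra.IsPushout.cancelBaseChange R S A B M).symm ≪≫ₗ hl.equiv.restrictScalars S)
    fun m => by
      show hl.equiv ((Algebra.IsPushout.cancelBaseChange R S A B M).symm (1 ⊗ₜ[R] m)) = l m
      rw [← Algebra.IsPushout.cancelBaseChange_tmul R S A B M m, LinearEquiv.symm_apply_apply, hl.equiv_tmul,
        one_smul]

theorem bijective_of_isBaseChange {R S M N N' : Type u} [CommRing R] [CommRing S] [Algebra R S]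
    [AddCommGroup M] [Module R M] [AddCommGroup N] [Module R N] [Module S N] [IsScalarTower R S N]
    [AddCommGroup N'] [Module R N'] [Module S N'] [IsScalarTower R S N']
    (l : M →ₗ[R] N) (hl : IsBaseChange S l) (l' : M →ₗ[R] N') (hl' : IsBaseChange S l')
    (φ : N →ₗ[S] N') (h : ∀ m, φ (l m) = l' m) : Function.Bijective φ := by
  have e : φ = (hl.equiv.symm ≪≫ₗ hl'.equiv).toLinearMap := by
    refine hl.algHom_ext _ _ fun m => ?_
    show φ (l m) = hl'.equiv (hl.equiv.symm (l m))
    rw [h, hl.equiv_symm_apply, hl'.equiv_tmul, one_smul]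
  rw [e]
  exact (hl.equiv.symm ≪≫ₗ hl'.equiv).bijective

theorem isIso_of_bijective_affine {X : Scheme.{u}} {M N : X.Modules} (φ : M ⟶ N) {κ : Type u} (O : κ → X.Opens)
    (hO : ∀ x : X, ∃ k, x ∈ O k)
    (h : ∀ k (W : X.Opens), IsAffineOpen W → W ≤ O k → Function.Bijective (φ.app W)) : IsIso φ := by
  refine BasicGlue.isIso_of_bijective φ O hO fun k W hW => ?_
  have aff : ∀ V : X.Opens, ∃ A : V → X.Opens, (∀ x, IsAffineOpen (A x)) ∧ (∀ x, A x ≤ V) ∧ V ≤ iSup A := by
    intro V
    choose A hA hxA hAV using fun x : V => Opens.isBasis_iff_nbhd.1 X.isBasis_affineOpens x.2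
    exact ⟨A, hA, hAV, fun x hx => Opens.mem_iSup.2 ⟨⟨x, hx⟩, hxA ⟨x, hx⟩⟩⟩
  have hinj : ∀ V : X.Opens, V ≤ O k → Function.Injective (φ.app V) := by
    intro V hV s t hst
    obtain ⟨A, hA, hAV, hcov⟩ := aff V
    refine QCohBase.eq_of_iSup_le M A hAV hcov s t fun x => (h k _ (hA x) ((hAV x).trans hV)).1 ?_
    rw [← app_nat, ← app_nat, hst]
  refine ⟨hinj W hW, fun t => ?_⟩
  obtain ⟨A, hA, hAV, hcov⟩ := aff W
  choose s hs using fun x => (h k _ (hA x) ((hAV x).trans hW)).2 (mres N (hAV x) t)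
  obtain ⟨s', hs', -⟩ := TopCat.Sheaf.existsUnique_gluing' ⟨M.presheaf, M.isSheaf⟩ A W
    (fun x => homOfLE (hAV x)) hcov s (fun x y => hinj _ (inf_le_left.trans ((hAV x).trans hW)) (by
      show φ.app _ (mres M (inf_le_left : A x ⊓ A y ≤ A x) (s x)) =
        φ.app _ (mres M (inf_le_right : A x ⊓ A y ≤ A y) (s y))
      rw [← app_nat, ← app_nat, hs, hs, mres_mres, mres_mres]))
  refine ⟨s', QCohBase.eq_of_iSup_le N A hAV hcov _ _ fun x => ?_⟩
  rw [app_nat, ← hs x]
  exact congrArg _ (hs' x)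

open Scheme.Modules in
theorem isIso_affineBC {X S X' S' : Scheme.{u}} (f : X ⟶ S) (g : S' ⟶ S)
    (g' : X' ⟶ X) (f' : X' ⟶ S') (h : IsPullback g' f' f g) [IsAffineHom f]
    (F : X.Modules) [F.IsQuasicoherent] :
    IsIso (((pullbackPushforwardAdjunction g).homEquiv ((pushforward f).obj F)
        ((pushforward f').obj ((Scheme.Modules.pullback g').obj F))).symm
      ((pushforward f).map ((pullbackPushforwardAdjunction g').unit.app F) ≫
        (pushforwardComp g' f).hom.app ((Scheme.Modules.pullback g').obj F) ≫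
        (pushforwardCongr h.w).hom.app ((Scheme.Modules.pullback g').obj F) ≫
        (pushforwardComp f' g).inv.app ((Scheme.Modules.pullback g').obj F))) := by
  haveI : IsAffineHom f' := MorphismProperty.of_isPullback (P := @IsAffineHom) h inferInstance
  set G := (pushforward f).obj F
  set P := (Scheme.Modules.pullback g').obj F
  set H := (pushforward f').obj P
  let adj := pullbackPushforwardAdjunction g
  set v : G ⟶ (pushforward g).obj H := (pushforward f).map ((pullbackPushforwardAdjunction g').unit.app F) ≫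
        (pushforwardComp g' f).hom.app P ≫
        (pushforwardCongr h.w).hom.app P ≫
        (pushforwardComp f' g).inv.app P with hv
  set φ := (adj.homEquiv G H).symm v
  haveI : G.IsQuasicoherent := isQuasicoherent_pushforward F f
  have key : ∀ (U : S.Opens) (hU : IsAffineOpen U) (U' : S'.Opens) (hU' : IsAffineOpen U') (e : U' ≤ g ⁻¹ᵁ U),
      Function.Bijective (φ.app U') := by
    intro U hU U' hU' e
    let W := f ⁻¹ᵁ U
    have hW : IsAffineOpen W := hU.preimage f
    let V := f' ⁻¹ᵁ U'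
    have hV : IsAffineOpen V := hU'.preimage f'
    have eV : V ≤ g' ⁻¹ᵁ W := by
      show f' ⁻¹ᵁ U' ≤ g' ⁻¹ᵁ f ⁻¹ᵁ U
      rw [← Scheme.Hom.comp_preimage, h.w, Scheme.Hom.comp_preimage]
      exact f'.preimage_mono e
    have hUY : V = g' ⁻¹ᵁ W ⊓ f' ⁻¹ᵁ U' := (inf_eq_right.mpr eV).symm
    have hpo := (isIso_pushoutSection_iff h (US := U) (UT := U') (UX := W) e le_rfl hUY).mp
      (isIso_pushoutSection_of_isAffineOpen h e le_rfl hUY hU hU' hW)
    rw [← Scheme.Hom.app_eq_appLE, ← Scheme.Hom.app_eq_appLE] at hpo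
    letI a1 : Algebra Γ(S, U) Γ(S', U') := (g.appLE U U' e).hom.toAlgebra
    letI a2 : Algebra Γ(S, U) Γ(X, W) := (f.app U).hom.toAlgebra
    letI a3 : Algebra Γ(S', U') Γ(X', V) := (f'.app U').hom.toAlgebra
    letI a4 : Algebra Γ(X, W) Γ(X', V) := (g'.appLE W V eV).hom.toAlgebra
    letI a5 : Algebra Γ(S, U) Γ(X', V) :=
      ((g'.appLE W V eV).hom.comp (f.app U).hom).toAlgebra
    haveI : IsScalarTower Γ(S, U) Γ(X, W) Γ(X', V) := .of_algebraMap_eq fun _ => rfl
    haveI : IsScalarTower Γ(S, U) Γ(S', U') Γ(X', V) := .of_algebraMap_eq fun r =>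
      ConcreteCategory.congr_hom hpo.w r
    haveI : Algebra.IsPushout Γ(S, U) Γ(S', U') Γ(X, W) Γ(X', V) :=
      Algebra.IsPushout.symm ((CommRingCat.isPushout_iff_isPushout (R := Γ(S, U)) (S := Γ(S', U'))
        (R' := Γ(X, W)) (S' := Γ(X', V))).mp hpo)
    letI m1 := pullModuleLE g' F W V eV
    haveI : IsScalarTower Γ(X, W) Γ(X', V) Γ(P, V) := .of_algebraMap_smul fun _ _ => rfl
    letI m2 : Module Γ(S, U) Γ(F, W) := Module.compHom _ (f.app U).hom
    haveI : IsScalarTower Γ(S, U) Γ(X, W) Γ(F, W) := .of_algebraMap_smul fun _ _ => rfl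
    letI m3 : Module Γ(S, U) Γ(P, V) :=
      Module.compHom _ ((g'.appLE W V eV).hom.comp (f.app U).hom)
    haveI : IsScalarTower Γ(S, U) Γ(X, W) Γ(P, V) := .of_algebraMap_smul fun _ _ => rfl
    letI m4 : Module Γ(S', U') Γ(P, V) := Module.compHom _ (f'.app U').hom
    haveI : IsScalarTower Γ(S', U') Γ(X', V) Γ(P, V) := .of_algebraMap_smul fun _ _ => rfl
    haveI : IsScalarTower Γ(S, U) Γ(S', U') Γ(P, V) := .of_algebraMap_smul fun r m =>
      congrArg (· • m) (ConcreteCategory.congr_hom hpo.w r).symm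
    have hR := isBaseChange_pushout (R := Γ(S, U)) (S := Γ(S', U')) (pullSecLE g' F W V eV)
      (isBaseChange_pullSecLE g' F hW hV eV)
    letI n1 := pullModuleLE g G U U' e
    haveI : IsScalarTower Γ(S, U) Γ(S', U') Γ((Scheme.Modules.pullback g).obj G, U') :=
      .of_algebraMap_smul fun _ _ => rfl
    have hL := isBaseChange_pullSecLE g G hU hU' e
    let ψ : Γ((Scheme.Modules.pullback g).obj G, U') →ₗ[Γ(S', U')] Γ(P, V) :=
      { toFun := φ.app U'
        map_add' := fun a b => map_add _ a b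
        map_smul' := fun r m => Scheme.Modules.Hom.app_smul φ r m }
    refine bijective_of_isBaseChange (pullSecLE g G U U' e) hL ((pullSecLE g' F W V eV).restrictScalars Γ(S, U))
      hR ψ fun m => ?_
    show φ.app U' (mres _ e (pullSec g G U m)) = mres P eV (pullSec g' F W m)
    refine (app_nat φ e (pullSec g G U m)).symm.trans ?_
    have h1 : adj.homEquiv G H φ = v := (adj.homEquiv G H).apply_symm_apply v
    rw [adj.homEquiv_unit] at h1
    have h2 : φ.app (g ⁻¹ᵁ U) (pullSec g G U m) = v.app U m :=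
      ConcreteCategory.congr_hom (congrArg (fun ψ => Scheme.Modules.Hom.app ψ U) h1) m
    refine (congrArg (mres H e) h2).trans ?_
    exact mres_mres P _ (f'.preimage_mono e) (pullSec g' F W m)
  refine isIso_of_bijective_affine φ (fun U : S.affineOpens => g ⁻¹ᵁ U.1) (fun x => ?_)
    fun U U' hU' hle => key U.1 U.2 U' hU' hle
  obtain ⟨U, hU, hxU, -⟩ := Opens.isBasis_iff_nbhd.1 S.isBasis_affineOpens (U := ⊤) (Opens.mem_top (g x))
  exact ⟨⟨U, hU⟩, hxU⟩

end Groth.Agent.SymAlgRel
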