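import Groth.Prelude.Def_RelProj
import Groth.Agent.EGA2G.Graded

/-!
# A common Veronese degree
-/

set_option autoImplicit false

noncomputable section

universe u

open CategoryTheory AlgebraicGeometry TopologicalSpace Opposite DirectSum

namespace Groth.Agent.SymAlgRel.VeronDeg

variable {A : Type u} [CommRing A] (𝒢 : ℕ → AddSubgroup A) [GradedRing 𝒢]

def intGr (n : ℕ) : Submodule ℤ A := AddSubgroup.toIntSubmodule (𝒢 n)

instance : GradedRing (intGr 𝒢) :=
  { one_mem := SetLike.GradedOne.one_mem (A := 𝒢)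
    mul_mem := fun {_ _ _ _} ha hb => SetLike.GradedMul.mul_mem (A := 𝒢) ha hb
    decompose' := DirectSum.decompose 𝒢
    left_inv := DirectSum.Decomposition.left_inv (ℳ := 𝒢)
    right_inv := DirectSum.Decomposition.right_inv (ℳ := 𝒢) }

theorem exists_deg {B : Type u} [CommRing B] (g : B →+* A) (hg : ∀ b, g b ∈ 𝒢 0) (hft : g.FiniteType) :
    ∃ h : ℕ, 0 < h ∧ ∀ k : ℕ, 0 < k →
      (∀ n : ℕ, 0 < n → intGr 𝒢 (n * (k * h)) = intGr 𝒢 (k * h) ^ n) ∧
      ∃ T : Finset A, (↑T : Set A) ⊆ (𝒢 (k * h) : Set A) ∧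
        intGr 𝒢 (k * h) = intGr 𝒢 0 * Submodule.span ℤ (↑T : Set A) := by
  classical
  haveI : Algebra.FiniteType (intGr 𝒢 0) A := by
    letI := g.toAlgebra
    obtain ⟨t, ht⟩ := (show Algebra.FiniteType B A from hft).out
    refine ⟨⟨t, eq_top_iff.2 fun x htop => ?_⟩⟩
    clear htop
    have hx : x ∈ Algebra.adjoin B (t : Set A) := ht ▸ Algebra.mem_top
    induction hx using Algebra.adjoin_induction with
    | mem y hy => exact Algebra.subset_adjoin hy
    | algebraMap r => exact (Algebra.adjoin (intGr 𝒢 0) (t : Set A)).algebraMap_mem ⟨g r, hg r⟩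
    | add a b _ _ ha hb => exact add_mem ha hb
    | mul a b _ _ ha hb => exact mul_mem ha hb
  obtain ⟨h, hh, hpow⟩ := EGA2G.exists_pow_degree_eq (intGr 𝒢)
  refine ⟨h, hh, fun k hk => ⟨fun n hn => ?_, ?_⟩⟩
  · rw [← mul_assoc, hpow (n * k) (Nat.mul_pos hn hk), hpow k hk, ← pow_mul, mul_comm n k]
  obtain ⟨s, hs, hhom⟩ := GradedAlgebra.exists_finset_adjoin_eq_top_and_homogeneous_ne_zero (intGr 𝒢)
  choose d hd hxd using fun i : s => hhom i i.2
  let D := k * h
  let M : Set A := {m : A | ∃ a : s → ℕ, ∑ i, a i * d i = D ∧ m = ∏ i : s, (i : A) ^ a i}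
  have hM : M.Finite := by
    refine (Set.finite_range fun a : s → Fin (D + 1) => ∏ i : s, (i : A) ^ (a i : ℕ)).subset ?_
    rintro _ ⟨a, ha, rfl⟩
    refine ⟨fun i => ⟨a i, ?_⟩, rfl⟩
    have h1 : a i * d i ≤ ∑ j, a j * d j :=
      Finset.single_le_sum (f := fun j => a j * d j) (fun _ _ => Nat.zero_le _) (Finset.mem_univ i)
    have h2 : a i ≤ a i * d i := Nat.le_mul_of_pos_right _ (Nat.pos_of_ne_zero (hd i))
    omega
  have hsub : M ⊆ (𝒢 D : Set A) := by
    rintro _ ⟨a, ha, rfl⟩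
    show _ ∈ intGr 𝒢 D
    rw [← ha]
    refine SetLike.prod_mem_graded _ _ _ fun i _ => ?_
    simpa using SetLike.pow_mem_graded (a i) (hxd i)
  refine ⟨hM.toFinset, by simpa using hsub, le_antisymm (fun y hy => ?_) ?_⟩
  · have h3 := EGA2G.mem_span_monomials (intGr 𝒢) (fun i : s => (i : A)) d hxd (by simpa using hs) hy
    rw [hM.coe_toFinset]
    clear hy
    induction h3 using Submodule.span_induction with
    | mem z hz =>
      rw [← one_mul z]
      exact Submodule.mul_mem_mul (SetLike.GradedOne.one_mem (A := 𝒢)) (Submodule.subset_span hz)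
    | zero => exact zero_mem _
    | add a b _ _ ha hb => exact add_mem ha hb
    | smul c z _ hz =>
      have h0 : intGr 𝒢 0 * intGr 𝒢 0 ≤ intGr 𝒢 0 := Submodule.mul_le.2 fun a ha b hb => by
        simpa using SetLike.mul_mem_graded ha hb
      have h4 : (c : A) * z ∈ intGr 𝒢 0 * (intGr 𝒢 0 * Submodule.span ℤ M) := Submodule.mul_mem_mul c.2 hz
      rw [← mul_assoc] at h4
      exact mul_le_mul' h0 le_rfl h4
  · rw [hM.coe_toFinset]
    refine Submodule.mul_le.2 fun a ha b hb => ?_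
    have hb' : b ∈ intGr 𝒢 D := (Submodule.span_le.2 hsub : Submodule.span ℤ M ≤ intGr 𝒢 D) hb
    have := SetLike.mul_mem_graded ha hb'
    rwa [zero_add] at this

theorem exists_common_deg {Y : Scheme.{u}} (𝒮 : RelProj.QCGrAlg Y) {ι : Type u} [Finite ι] (U : ι → Y.Opens)
    (hU : ∀ i, IsAffineOpen (U i)) (hft : ∀ i, (𝒮.str.app (op (U i))).hom.FiniteType) :
    ∃ d : ℕ, 0 < d ∧ ∀ i,
      (∀ n : ℕ, 0 < n →
        AddSubgroup.toIntSubmodule (𝒮.deg (U i) (hU i) (n * d)) =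
          AddSubgroup.toIntSubmodule (𝒮.deg (U i) (hU i) d) ^ n) ∧
      ∃ T : Finset (𝒮.presheaf.obj (op (U i))),
        (↑T : Set (𝒮.presheaf.obj (op (U i)))) ⊆ (𝒮.deg (U i) (hU i) d : Set (𝒮.presheaf.obj (op (U i)))) ∧
        AddSubgroup.toIntSubmodule (𝒮.deg (U i) (hU i) d) =
          AddSubgroup.toIntSubmodule (𝒮.deg (U i) (hU i) 0) *
            Submodule.span ℤ (↑T : Set (𝒮.presheaf.obj (op (U i)))) := by
  classical
  haveI := Fintype.ofFinite ι
  choose h hh hk using fun i => exists_deg (𝒮.deg (U i) (hU i)) (𝒮.str.app (op (U i))).hom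
    (𝒮.str_mem (U i) (hU i)) (hft i)
  refine ⟨∏ i, h i, Finset.prod_pos fun i _ => hh i, fun i => ?_⟩
  obtain ⟨k, hk'⟩ := Finset.dvd_prod_of_mem h (Finset.mem_univ i)
  have hpos : 0 < ∏ j, h j := Finset.prod_pos fun i _ => hh i
  rw [hk', mul_comm (h i) k]
  exact hk i k (Nat.pos_of_ne_zero fun h0 => by rw [hk', h0, mul_zero] at hpos; exact lt_irrefl 0 hpos)

end Groth.Agent.SymAlgRel.VeronDeg
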