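import Mathlib
import Groth.Prelude.Def_RelProj4
import Groth.Agent.EGA2Misc.ProjQMap
import Groth.Agent.EGA2Misc.ProjQComp
import Groth.Agent.SymAlgRel.ProjBCRing

/-!
# The relative `Proj` commutes with base change
-/

noncomputable section

universe u

open CategoryTheory CategoryTheory.Limits AlgebraicGeometry TopologicalSpace Opposite
open HomogeneousLocalization
open scoped HomogeneousIdeal TensorProduct

namespace Groth.Agent.SymAlgRel

theorem exists_not_mem_of_isPushout {R R' A B : Type u} [CommRing R] [CommRing R'] [CommRing A] [CommRing B]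
    {𝒜 : ℕ → AddSubgroup A} [GradedRing 𝒜] {ℬ : ℕ → AddSubgroup B} [GradedRing ℬ]
    (a : R →+* A) (b : R' →+* B) (hb : ∀ r, b r ∈ ℬ 0) (σ : R →+* R') (ψ : 𝒜 →+*ᵍ ℬ)
    (hsq : ∀ r, b (σ r) = ψ (a r))
    (hpo : CategoryTheory.IsPushout (CommRingCat.ofHom σ) (CommRingCat.ofHom a) (CommRingCat.ofHom b)
      (CommRingCat.ofHom (RingHomClass.toRingHom ψ)))
    (I : Ideal B) {n : ℕ} {c : B} (hc : c ∈ ℬ n) (hcI : c ∉ I) :
    ∃ x ∈ 𝒜 n, ψ x ∉ I := by
  letI := a.toAlgebra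
  letI := σ.toAlgebra
  letI := b.toAlgebra
  letI := (RingHomClass.toRingHom ψ).toAlgebra
  letI := (b.comp σ).toAlgebra
  haveI : IsScalarTower R R' B := .of_algebraMap_eq fun _ => rfl
  haveI : IsScalarTower R A B := .of_algebraMap_eq fun r => hsq r
  have hB : Algebra.IsPushout R R' A B := CommRingCat.isPushout_iff_isPushout.1 hpo
  by_contra hcon
  push Not at hcon
  refine hcI ?_
  rw [← DirectSum.decompose_of_mem_same (ℳ := ℬ) hc, ← GradedRing.proj_apply]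
  obtain ⟨y, rfl⟩ := hB.out.equiv.surjective c
  clear hc hcI
  induction y using TensorProduct.induction_on with
  | zero => simp
  | tmul r x =>
    rw [IsBaseChange.equiv_tmul, Algebra.smul_def]
    have h1 := proj_mul_right (𝒜 := ℬ) (hb r) (ψ x) n
    rw [zero_add] at h1
    show GradedRing.proj ℬ n (b r * ψ x) ∈ I
    rw [h1, GradedRing.proj_apply, ← GradedRingHom.map_directSumDecompose]
    exact Ideal.mul_mem_left _ _ (hcon _ (SetLike.coe_mem _))
  | add y z hy hz => rw [map_add, map_add]; exact add_mem hy hz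

variable {Y Y' P P' : Scheme.{u}} {ψ : Y' ⟶ Y} {𝒮 : RelProj.QCGrAlg Y} {𝒮' : RelProj.QCGrAlg Y'}
  (u : RelProj.QGrHom ψ 𝒮 𝒮') (hu : RelSpec.IsQBaseChange u.toQHom)
  {p : P ⟶ Y} {chart : ∀ (U : Y.Opens) (hU : IsAffineOpen U), (((p ⁻¹ᵁ U : P.Opens) : Scheme.{u}) ≅ Proj (𝒮.deg U hU))}
  (hP : RelProj.IsRelProj 𝒮 p chart)
  {p' : P' ⟶ Y'} {chart' : ∀ (U : Y'.Opens) (hU : IsAffineOpen U), (((p' ⁻¹ᵁ U : P'.Opens) : Scheme.{u}) ≅ Proj (𝒮'.deg U hU))}
  (hP' : RelProj.IsRelProj 𝒮' p' chart')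

include hu in
theorem domQ_eq_top : RelProj.domQ u p' chart' = ⊤ := by
  rw [eq_top_iff]
  intro y _
  obtain ⟨_, ⟨U, hU, rfl⟩, hxU, -⟩ :=
    Y.isBasis_affineOpens.exists_subset_of_mem_open (Set.mem_univ (ψ (p' y))) isOpen_univ
  obtain ⟨_, ⟨V, hV, rfl⟩, hxV, hVU⟩ :=
    Y'.isBasis_affineOpens.exists_subset_of_mem_open (show p' y ∈ ψ ⁻¹ᵁ U from hxU) (ψ ⁻¹ᵁ U).2
  obtain ⟨w, rfl⟩ : y ∈ (RelProj.emb p' chart' V hV).opensRange := by
    rw [EGA2Misc.opensRange_emb]; exact hxV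
  let i := (Proj.affineOpenCover (𝒮'.deg V hV)).idx w
  obtain ⟨z, hz⟩ := (Proj.affineOpenCover (𝒮'.deg V hV)).covers w
  have hwi : w ∈ Proj.basicOpen (𝒮'.deg V hV) i.2.1 := by
    rw [← Proj.opensRange_awayι (𝒮'.deg V hV) i.2.1 i.2.2 i.1.2]
    exact ⟨z, hz⟩
  obtain ⟨x, hx, hxw⟩ := exists_not_mem_of_isPushout (𝒮.str.app (op U)).hom (𝒮'.str.app (op V)).hom
    (𝒮'.str_mem V hV) (ψ.appLE U V hVU).hom (u.gradedAt U hU V hV hVU)
    (fun r => (ConcreteCategory.congr_hom (u.toQHom.str_appLE U V hVU) r).symm)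
    (hu U hU V hV hVU) w.asHomogeneousIdeal.toIdeal i.2.2 ((ProjectiveSpectrum.mem_basicOpen _ _ _).1 hwi)
  exact EGA2Misc.mem_domQ_of_mem_emb u U hU V hV hVU i.1.2 x hx _
    ⟨w, (ProjectiveSpectrum.mem_basicOpen _ _ _).2 hxw, rfl⟩

include hu hP hP' in
theorem exists_isProjQMap : ∃ h : P' ⟶ P, RelProj.IsProjQMap u p chart p' chart' h := by
  obtain ⟨v, hv, -⟩ := EGA2Misc.existsUnique_projQMapOn u hP hP'
  have htop : RelProj.domQ u p' chart' = ⊤ := domQ_eq_top u hu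
  haveI : IsIso (RelProj.domQ u p' chart').ι := by
    rw [htop]; exact inferInstanceAs (IsIso P'.topIso.hom)
  refine ⟨inv (RelProj.domQ u p' chart').ι ≫ v, htop, fun U hU U' hU' hle d hd f hf => ?_⟩
  refine Eq.trans ?_ (hv U hU U' hU' hle d hd f hf
    (RelProj.range_awayEmb_subset_domQ u p' chart' U hU U' hU' hle hd f hf))
  rw [← Category.assoc]
  congr 1
  rw [IsIso.comp_inv_eq, IsOpenImmersion.lift_fac]

include hu hP hP' in
theorem isPullback_projQMap (h : P' ⟶ P) (hh : RelProj.IsProjQMap u p chart p' chart' h) :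
    IsPullback h p' p ψ := by
  let D := RelProj.domQ u p' chart'
  have hD : RelProj.IsProjQMapOn u p chart p' chart' D (D.ι ≫ h) := by
    intro U hU U' hU' hle d hd f hf hW
    rw [IsOpenImmersion.lift_fac_assoc]
    exact hh.2 U hU U' hU' hle d hd f hf
  have hsq : h ≫ p = p' ≫ ψ := by
    haveI : IsIso D.ι := by
      have hD' : D = ⊤ := hh.1
      rw [hD']; exact inferInstanceAs (IsIso P'.topIso.hom)
    rw [← cancel_epi D.ι, ← Category.assoc]
    exact EGA2Misc.projQMapOn_comp u hP hP' _ hD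
  let c : P' ⟶ pullback p ψ := pullback.lift h p' hsq
  suffices IsIso c from
    IsPullback.of_iso_pullback ⟨hsq⟩ (asIso c) (pullback.lift_fst _ _ _) (pullback.lift_snd _ _ _)
  let J := Σ (V : {V : Y.affineOpens × Y'.affineOpens // (V.2 : Y'.Opens) ≤ ψ ⁻¹ᵁ (V.1 : Y.Opens)})
    (d : {d : ℕ // 0 < d}), 𝒮.deg V.1.1.1 V.1.1.2 d.1
  let O : J → (pullback p ψ).Opens := fun j =>
    pullback.fst p ψ ⁻¹ᵁ (RelProj.emb p chart j.1.1.1.1 j.1.1.1.2 ''ᵁ
      Proj.basicOpen (𝒮.deg j.1.1.1.1 j.1.1.1.2) j.2.2.1) ⊓ pullback.snd p ψ ⁻¹ᵁ (j.1.1.2.1 : Y'.Opens)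
  have hO : ⨆ j, O j = ⊤ := by
    rw [eq_top_iff]
    intro z _
    obtain ⟨U, hU, d, hd, f, hf, hzf⟩ := EGA2Misc.exists_mem_emb p chart (pullback.fst p ψ z)
    have hzU : ψ (pullback.snd p ψ z) ∈ U := by
      rw [← Scheme.Hom.comp_apply, ← pullback.condition, Scheme.Hom.comp_apply]
      exact EGA2Misc.mem_of_mem_emb hzf
    obtain ⟨_, ⟨V, hV, rfl⟩, hzV, hVU⟩ :=
      Y'.isBasis_affineOpens.exists_subset_of_mem_open (show pullback.snd p ψ z ∈ ψ ⁻¹ᵁ U from hzU) (ψ ⁻¹ᵁ U).2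
    exact Opens.mem_iSup.2 ⟨⟨⟨(⟨U, hU⟩, ⟨V, hV⟩), hVU⟩, ⟨d, hd⟩, ⟨f, hf⟩⟩, hzf, hzV⟩
  refine IsZariskiLocalAtTarget.of_iSup_eq_top (P := MorphismProperty.isomorphisms Scheme) O hO fun j => ?_
  obtain ⟨⟨⟨⟨U, hU⟩, ⟨V, hV⟩⟩, hle⟩, ⟨d, hd⟩, ⟨f, hf⟩⟩ := j
  let χ := u.gradedAt U hU V hV hle
  let σA := CommRingCat.ofHom (baseHom (𝒮.str.app (op U)).hom (𝒮.str_mem U hU) f)
  let σB := CommRingCat.ofHom (baseHom (𝒮'.str.app (op V)).hom (𝒮'.str_mem V hV) (χ f))
  have hp1 : IsPullback (Spec.map (CommRingCat.ofHom (Away.map χ f))) (Spec.map σB) (Spec.map σA)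
      (Spec.map (ψ.appLE U V hle)) :=
    (isPullback_SpecMap_of_isPushout _ _ _ _ (isPushout_away (𝒮.str.app (op U)).hom (𝒮.str_mem U hU)
      (𝒮'.str.app (op V)).hom (𝒮'.str_mem V hV) (ψ.appLE U V hle).hom χ
      (fun r => (ConcreteCategory.congr_hom (u.toQHom.str_appLE U V hle) r).symm)
      (hu U hU V hV hle) hf)).flip
  let k := Proj.awayι (𝒮.deg U hU) f hf hd ≫ RelProj.emb p chart U hU
  have e₁ : Spec.map σA ≫ hU.fromSpec = k ≫ p := by
    rw [Category.assoc, EGA2Misc.emb_comp hP, Proj.awayι_toSpecZero_assoc, ← Spec.map_comp_assoc]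
    rfl
  have e₂ : Spec.map (ψ.appLE U V hle) ≫ hU.fromSpec = hV.fromSpec ≫ ψ :=
    IsAffineOpen.SpecMap_appLE_fromSpec ψ hU hV hle
  let m := pullback.map (Spec.map σA) (Spec.map (ψ.appLE U V hle)) p ψ k hV.fromSpec hU.fromSpec e₁ e₂
  let γ := hp1.isoPullback.hom ≫ m
  let aE := RelProj.awayEmb u p' chart' U hU V hV hle hd f hf
  haveI : IsOpenImmersion aE := by simp only [aE, RelProj.awayEmb]; infer_instance
  have haE : aE ≫ h = Spec.map (CommRingCat.ofHom (Away.map χ f)) ≫ k := hh.2 U hU V hV hle d hd f hf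
  have haE' : aE ≫ p' = Spec.map σB ≫ hV.fromSpec := by
    show (Proj.awayι (𝒮'.deg V hV) _ _ _ ≫ RelProj.emb p' chart' V hV) ≫ p' = _
    rw [Category.assoc, EGA2Misc.emb_comp hP', Proj.awayι_toSpecZero_assoc, ← Spec.map_comp_assoc]
    rfl
  have hγ : aE ≫ c = γ := by
    refine pullback.hom_ext ?_ ?_
    · simp only [γ, m, c, pullback.map, Category.assoc, pullback.lift_fst, haE]
      rw [IsPullback.isoPullback_hom_fst_assoc]
    · simp only [γ, m, c, pullback.map, Category.assoc, pullback.lift_snd, haE']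
      rw [IsPullback.isoPullback_hom_snd_assoc]
  let W₀ := pullback.fst p ψ ⁻¹ᵁ (RelProj.emb p chart U hU ''ᵁ Proj.basicOpen (𝒮.deg U hU) f) ⊓
    pullback.snd p ψ ⁻¹ᵁ V
  haveI hoi : IsOpenImmersion γ := by simp only [γ, m]; infer_instance
  have hrange : γ.opensRange = W₀ := by
    show (hp1.isoPullback.hom ≫ m).opensRange = W₀
    rw [Scheme.Hom.opensRange_comp_of_isIso]
    refine TopologicalSpace.Opens.ext ?_
    show Set.range m = _
    rw [Scheme.Pullback.range_map, hV.range_fromSpec]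
    have hk : k.opensRange = RelProj.emb p chart U hU ''ᵁ Proj.basicOpen (𝒮.deg U hU) f := by
      rw [Scheme.Hom.opensRange_comp, Proj.opensRange_awayι]
    show pullback.fst p ψ ⁻¹' (k.opensRange : Set P) ∩ _ = _
    rw [hk]
    rfl
  have hpre : aE.opensRange = c ⁻¹ᵁ W₀ := by
    refine le_antisymm ?_ fun y hy => ?_
    · rintro _ ⟨x, rfl⟩
      show c (aE x) ∈ W₀
      rw [← Scheme.Hom.comp_apply, hγ, ← hrange]
      exact ⟨x, rfl⟩
    · obtain ⟨hy1, hy2⟩ : pullback.fst p ψ (c y) ∈ RelProj.emb p chart U hU ''ᵁ Proj.basicOpen (𝒮.deg U hU) f ∧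
          pullback.snd p ψ (c y) ∈ V := hy
      rw [← Scheme.Hom.comp_apply, pullback.lift_fst] at hy1
      rw [← Scheme.Hom.comp_apply, pullback.lift_snd] at hy2
      have hyD : y ∈ D := by
        show y ∈ RelProj.domQ u p' chart'
        rw [hh.1]; trivial
      obtain ⟨U', hU', hle', hy'⟩ := (EGA2Misc.mem_emb_iff u hP hP' hD U hU hd f hf ⟨y, hyD⟩).1
        (by rw [Scheme.Hom.comp_apply]; exact hy1)
      have hy'U' : p' y ∈ U' := EGA2Misc.mem_of_mem_emb hy'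
      obtain ⟨r, r', hr, hVx⟩ := exists_basicOpen_le_affine_inter hV hU' (p' y) ⟨hy2, hy'U'⟩
      have hW := hV.basicOpen r
      have hWU' : Y'.basicOpen r ≤ U' := hr ▸ Y'.basicOpen_le r'
      have h1 := (EGA2Misc.mem_emb_res_iff hP' U' hU' _ hW r' hr hWU' y hVx _).2 hy'
      have h2 : y ∈ RelProj.emb p' chart' V hV ''ᵁ Proj.basicOpen (𝒮'.deg V hV) (χ f) := by
        refine (EGA2Misc.mem_emb_res_iff hP' V hV _ hW r rfl (Y'.basicOpen_le r) y hVx _).1 ?_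
        convert h1 using 3
        show (u.appLE U V hle ≫ 𝒮'.presheaf.map (homOfLE (Y'.basicOpen_le r)).op).hom f =
          (u.appLE U U' hle' ≫ 𝒮'.presheaf.map (homOfLE hWU').op).hom f
        rw [RelSpec.QHom.appLE_map, RelSpec.QHom.appLE_map]
      obtain ⟨w, hw, hwy⟩ := h2
      obtain ⟨x, hx⟩ := (SetLike.ext_iff.1 (Proj.opensRange_awayι (𝒮'.deg V hV) _ (χ.map_mem hf) hd) w).2 hw
      refine ⟨x, ?_⟩
      show aE x = y
      simp only [aE, RelProj.awayEmb, Scheme.Hom.comp_apply]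
      exact (congrArg _ hx).trans hwy
  let e := aE.isoOpensRange ≪≫ Scheme.isoOfEq _ hpre
  let a := γ.isoOpensRange ≪≫ Scheme.isoOfEq _ hrange
  refine (MorphismProperty.cancel_left_of_respectsIso (MorphismProperty.isomorphisms Scheme) e.hom _).1 ?_
  have h1 : e.hom ≫ c ∣_ W₀ = a.hom := by
    rw [← cancel_mono W₀.ι, Category.assoc, morphismRestrict_ι]
    simp only [e, a, Iso.trans_hom, Category.assoc]
    refine ((congrArg (aE.isoOpensRange.hom ≫ ·) (Scheme.isoOfEq_hom_ι_assoc _ _ _)).trans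
      (Scheme.Hom.isoOpensRange_hom_ι_assoc _ _)).trans ?_
    rw [Scheme.isoOfEq_hom_ι, Scheme.Hom.isoOpensRange_hom_ι, hγ]
  rw [h1]
  exact (inferInstance : IsIso a.hom)

end Groth.Agent.SymAlgRel
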