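import Mathlib
import Groth.Prelude.Def_RelSpec2
import Groth.Prelude.Def_RelProj4

/-!
# Relative spectrum and base change
-/

noncomputable section

universe u

open CategoryTheory CategoryTheory.Limits AlgebraicGeometry TopologicalSpace Opposite RelSpec

namespace Groth.Agent.SymAlgRel

theorem isPullback_spec {S S' : Scheme.{u}} {g : S' ⟶ S} {A : QCAlg S} {B : QCAlg S'} (u : QHom g A B)
    (hu : IsQBaseChange u) (h : B.spec ⟶ A.spec) (hh : IsSpecQMap u h) : IsPullback h B.π A.π g := by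
  let J := {V : S'.affineOpens // ∃ U : S.affineOpens, (V : S'.Opens) ≤ g ⁻¹ᵁ U}
  have hJ : ⨆ V : J, (V.1 : S'.Opens) = ⊤ := by
    rw [eq_top_iff]
    intro x _
    obtain ⟨_, ⟨U, hU, rfl⟩, hxU, -⟩ :=
      S.isBasis_affineOpens.exists_subset_of_mem_open (Set.mem_univ (g x)) isOpen_univ
    obtain ⟨_, ⟨V, hV, rfl⟩, hxV, hVU⟩ :=
      S'.isBasis_affineOpens.exists_subset_of_mem_open (show x ∈ g ⁻¹ᵁ U from hxU) (g ⁻¹ᵁ U).2
    exact Opens.mem_iSup.2 ⟨⟨⟨V, hV⟩, ⟨U, hU⟩, hVU⟩, hxV⟩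
  have hsq : h ≫ A.π = B.π ≫ g := by
    refine Scheme.hom_ext_of_forall _ _ fun z => ?_
    obtain ⟨⟨⟨V, hV⟩, ⟨U, hU⟩, hle⟩, hz⟩ :=
      Opens.mem_iSup.1 (show B.π z ∈ ⨆ V : J, (V.1 : S'.Opens) by rw [hJ]; trivial)
    refine ⟨(B.ι V hV).opensRange, by rw [← B.π_preimage V hV]; exact hz, ?_⟩
    rw [← cancel_epi (B.ι V hV).isoOpensRange.hom, Scheme.Hom.isoOpensRange_hom_ι_assoc,
      Scheme.Hom.isoOpensRange_hom_ι_assoc, reassoc_of% (hh U hU V hV hle), A.ι_π, reassoc_of% (B.ι_π V hV),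
      ← IsAffineOpen.SpecMap_appLE_fromSpec g hU hV hle, ← Spec.map_comp_assoc, ← Spec.map_comp_assoc,
      u.str_appLE]
  let c : B.spec ⟶ pullback A.π g := pullback.lift h B.π hsq
  suffices IsIso c from
    IsPullback.of_iso_pullback ⟨hsq⟩ (asIso c) (pullback.lift_fst _ _ _) (pullback.lift_snd _ _ _)
  refine IsZariskiLocalAtTarget.of_iSup_eq_top (P := MorphismProperty.isomorphisms Scheme)
    (fun V : J => pullback.snd A.π g ⁻¹ᵁ (V.1 : S'.Opens))
    (by rw [← Scheme.Hom.preimage_iSup, hJ, Scheme.Hom.preimage_top]) fun V => ?_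
  obtain ⟨⟨V, hV⟩, ⟨U, hU⟩, hle⟩ := V
  have S1 : IsPullback (A.ι U hU) (Spec.map (A.str.app (op U))) A.π hU.fromSpec :=
    (IsOpenImmersion.isPullback _ _ _ _ (A.ι_π U hU)
      (by rw [IsAffineOpen.opensRange_fromSpec]; exact A.π_preimage U hU)).flip
  have S2 : IsPullback (Spec.map (u.appLE U V hle)) (Spec.map (B.str.app (op V)))
      (Spec.map (A.str.app (op U))) (Spec.map (g.appLE U V hle)) :=
    (isPullback_SpecMap_of_isPushout _ _ _ _ (hu U hU V hV hle)).flip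
  have S3 := S2.paste_horiz S1
  rw [← hh U hU V hV hle, IsAffineOpen.SpecMap_appLE_fromSpec g hU hV hle] at S3
  have S3' : IsPullback ((B.ι V hV ≫ c) ≫ pullback.fst A.π g) (Spec.map (B.str.app (op V))) A.π
      (hV.fromSpec ≫ g) := by
    rw [Category.assoc, pullback.lift_fst]; exact S3
  have S4 : IsPullback (B.ι V hV ≫ c) (Spec.map (B.str.app (op V))) (pullback.snd A.π g) hV.fromSpec :=
    S3'.of_right (by rw [Category.assoc, pullback.lift_snd, B.ι_π]) (IsPullback.of_hasPullback A.π g)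
  let W := pullback.snd A.π g ⁻¹ᵁ V
  haveI hoi : IsOpenImmersion (B.ι V hV ≫ c) :=
    MorphismProperty.of_isPullback (P := @IsOpenImmersion) S4.flip inferInstance
  have hrange : (B.ι V hV ≫ c).opensRange = W := by
    refine le_antisymm ?_ fun z hz => ?_
    · rintro _ ⟨x, rfl⟩
      show pullback.snd A.π g ((B.ι V hV ≫ c) x) ∈ V
      rw [← Scheme.Hom.comp_apply, S4.w, Scheme.Hom.comp_apply]
      exact (SetLike.ext_iff.1 hV.opensRange_fromSpec _).1 ⟨_, rfl⟩
    · obtain ⟨v, hv⟩ := (SetLike.ext_iff.1 hV.opensRange_fromSpec _).2 (show pullback.snd A.π g z ∈ V from hz)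
      obtain ⟨x, hx, -⟩ := Scheme.exists_preimage_of_isPullback S4 z v hv.symm
      exact ⟨x, hx⟩
  have hpre : (B.ι V hV).opensRange = c ⁻¹ᵁ W := by
    rw [← B.π_preimage V hV, ← Scheme.Hom.comp_preimage, pullback.lift_snd]
  let e := (B.ι V hV).isoOpensRange ≪≫ Scheme.isoOfEq _ hpre
  let a := (B.ι V hV ≫ c).isoOpensRange ≪≫ Scheme.isoOfEq _ hrange
  refine (MorphismProperty.cancel_left_of_respectsIso (MorphismProperty.isomorphisms Scheme) e.hom _).1 ?_
  have h1 : e.hom ≫ c ∣_ W = a.hom := by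
    rw [← cancel_mono W.ι, Category.assoc, morphismRestrict_ι]
    simp only [e, a, Iso.trans_hom, Category.assoc]
    refine ((congrArg ((B.ι V hV).isoOpensRange.hom ≫ ·) (Scheme.isoOfEq_hom_ι_assoc _ _ _)).trans
      (Scheme.Hom.isoOpensRange_hom_ι_assoc _ _)).trans ?_
    rw [Scheme.isoOfEq_hom_ι, Scheme.Hom.isoOpensRange_hom_ι]
  rw [h1]
  exact (inferInstance : IsIso a.hom)

end Groth.Agent.SymAlgRel
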