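import Mathlib

/-!
# Symmetric algebras: semilinear functoriality and localization
-/

noncomputable section

universe u

namespace Groth.Agent.SymAlgRel

variable {R R' R'' : Type u} [CommRing R] [CommRing R'] [CommRing R'']
  {M M' M'' : Type u} [AddCommGroup M] [Module R M] [AddCommGroup M'] [Module R' M']
  [AddCommGroup M''] [Module R'' M'']

/-- A ring homomorphism out of a symmetric algebra is determined on scalars and generators. -/
theorem ringHom_ext {C : Type u} [CommRing C] {f g : SymmetricAlgebra R M →+* C}
    (h₁ : ∀ r, f (algebraMap R _ r) = g (algebraMap R _ r))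
    (h₂ : ∀ m, f (SymmetricAlgebra.ι R M m) = g (SymmetricAlgebra.ι R M m)) : f = g := by
  refine RingHom.ext fun x => ?_
  induction x using SymmetricAlgebra.induction with
  | algebraMap r => exact h₁ r
  | ι m => exact h₂ m
  | mul a b ha hb => rw [map_mul, map_mul, ha, hb]
  | add a b ha hb => rw [map_add, map_add, ha, hb]

/-- the homomorphism of symmetric algebras attached to a semilinear map -/
def symMap (σ : R →+* R') (l : M →+ M') (hl : ∀ (r : R) (m : M), l (r • m) = σ r • l m) :
    SymmetricAlgebra R M →+* SymmetricAlgebra R' M' :=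
  letI := ((algebraMap R' (SymmetricAlgebra R' M')).comp σ).toAlgebra
  (SymmetricAlgebra.lift (R := R) (M := M) (A := SymmetricAlgebra R' M')
    { toFun := fun m => SymmetricAlgebra.ι R' M' (l m)
      map_add' := fun a b => by rw [map_add, map_add]
      map_smul' := fun r m => by
        rw [hl, map_smul, Algebra.smul_def]
        rfl }).toRingHom

theorem symMap_algebraMap (σ : R →+* R') (l : M →+ M') (hl : ∀ (r : R) (m : M), l (r • m) = σ r • l m)
    (r : R) : symMap σ l hl (algebraMap R _ r) = algebraMap R' _ (σ r) := by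
  letI := ((algebraMap R' (SymmetricAlgebra R' M')).comp σ).toAlgebra
  exact (AlgHom.commutes _ r)

theorem symMap_ι (σ : R →+* R') (l : M →+ M') (hl : ∀ (r : R) (m : M), l (r • m) = σ r • l m)
    (m : M) : symMap σ l hl (SymmetricAlgebra.ι R M m) = SymmetricAlgebra.ι R' M' (l m) := by
  letI := ((algebraMap R' (SymmetricAlgebra R' M')).comp σ).toAlgebra
  exact SymmetricAlgebra.lift_ι_apply _ m

theorem symMap_id (l : M →+ M) (h : ∀ m, l m = m) (hl : ∀ (r : R) (m : M), l (r • m) = RingHom.id R r • l m) :
    symMap (RingHom.id R) l hl = RingHom.id _ :=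
  ringHom_ext (fun r => symMap_algebraMap _ _ hl r) (fun m => by rw [symMap_ι, h]; rfl)

theorem symMap_comp (σ : R →+* R') (τ : R' →+* R'') (ρ : R →+* R'') (hρ : ∀ r, ρ r = τ (σ r))
    (l : M →+ M') (k : M' →+ M'') (n : M →+ M'') (hn : ∀ m, n m = k (l m))
    (hl : ∀ (r : R) (m : M), l (r • m) = σ r • l m) (hk : ∀ (r : R') (m : M'), k (r • m) = τ r • k m)
    (hn' : ∀ (r : R) (m : M), n (r • m) = ρ r • n m) :
    symMap ρ n hn' = (symMap τ k hk).comp (symMap σ l hl) :=
  ringHom_ext (fun r => by rw [RingHom.comp_apply, symMap_algebraMap, symMap_algebraMap, symMap_algebraMap, hρ])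
    (fun m => by rw [RingHom.comp_apply, symMap_ι, symMap_ι, symMap_ι, hn])

section loc

variable [Algebra R R'] [Module R M'] [IsScalarTower R R' M'] (f : R) [IsLocalization.Away f R']
  (l : M →ₗ[R] M') [IsLocalizedModule (Submonoid.powers f) l]

/-- The symmetric algebra commutes with localization at an element. -/
theorem isLocalization_symMap (hl : ∀ (r : R) (m : M), l.toAddMonoidHom (r • m) = algebraMap R R' r • l.toAddMonoidHom m) :
    letI := (symMap (algebraMap R R') l.toAddMonoidHom hl).toAlgebra
    IsLocalization.Away (algebraMap R (SymmetricAlgebra R M) f) (SymmetricAlgebra R' M') := by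
  let T := symMap (algebraMap R R') l.toAddMonoidHom hl
  letI := T.toAlgebra
  let s := algebraMap R (SymmetricAlgebra R M) f
  let L := Localization.Away s
  have hu : IsUnit (algebraMap R L f) := by
    rw [IsScalarTower.algebraMap_apply R (SymmetricAlgebra R M) L]
    exact IsLocalization.Away.algebraMap_isUnit s
  letI : Algebra R' L := (IsLocalization.Away.lift f hu).toAlgebra
  haveI : IsScalarTower R R' L := .of_algebraMap_eq fun r => (IsLocalization.Away.lift_eq f hu r).symm
  let g : M →ₗ[R] L := (IsScalarTower.toAlgHom R (SymmetricAlgebra R M) L).toLinearMap ∘ₗ SymmetricAlgebra.ι R M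
  have hug : ∀ x : Submonoid.powers f, IsUnit (algebraMap R (Module.End R L) x) := by
    rintro ⟨_, n, rfl⟩
    obtain ⟨v, hv⟩ := hu.pow n
    rw [Module.End.isUnit_iff]
    have h : ∀ y : L, algebraMap R (Module.End R L) (f ^ n) y = v.1 * y := fun y => by
      rw [Module.algebraMap_end_apply, Algebra.smul_def, map_pow, hv]
    refine ⟨fun a b hab => ?_, fun b => ⟨v⁻¹.1 * b, ?_⟩⟩
    · simp only [h] at hab
      exact v.isUnit.mul_left_cancel hab
    · rw [h, ← mul_assoc, Units.mul_inv, one_mul]
  let g' : M' →ₗ[R] L := IsLocalizedModule.lift (Submonoid.powers f) l g hug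
  let g'' : M' →ₗ[R'] L := LinearMap.extendScalarsOfIsLocalization (Submonoid.powers f) R' g'
  let χ : SymmetricAlgebra R' M' →ₐ[R'] L := SymmetricAlgebra.lift g''
  have hus : IsUnit (T s) := by
    rw [show T s = algebraMap R' _ (algebraMap R R' f) from symMap_algebraMap _ _ hl f]
    exact (IsLocalization.Away.algebraMap_isUnit f).map _
  let φ : L →+* SymmetricAlgebra R' M' := IsLocalization.Away.lift s hus
  have hφ : ∀ a, φ (algebraMap _ L a) = T a := IsLocalization.Away.lift_eq s hus
  have hχT : χ.toRingHom.comp T = algebraMap (SymmetricAlgebra R M) L := by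
    refine ringHom_ext (fun r => ?_) fun m => ?_
    · show χ (T _) = _
      rw [show T (algebraMap R _ r) = algebraMap R' _ (algebraMap R R' r) from symMap_algebraMap _ _ hl r,
        AlgHom.commutes, ← IsScalarTower.algebraMap_apply R R' L,
        ← IsScalarTower.algebraMap_apply R (SymmetricAlgebra R M) L]
    · show χ (T _) = _
      rw [show T (SymmetricAlgebra.ι R M m) = SymmetricAlgebra.ι R' M' (l m) from symMap_ι _ _ hl m]
      show SymmetricAlgebra.lift g'' _ = _
      rw [SymmetricAlgebra.lift_ι_apply]
      exact IsLocalizedModule.lift_apply (Submonoid.powers f) l g hug m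
  have h1 : χ.toRingHom.comp φ = RingHom.id L := by
    refine IsLocalization.ringHom_ext (Submonoid.powers s) ?_
    refine RingHom.ext fun a => ?_
    show χ (φ (algebraMap _ L a)) = algebraMap _ L a
    rw [hφ]
    exact congr($hχT a)
  have hbase : ∀ r : R', φ (algebraMap R' L r) = algebraMap R' (SymmetricAlgebra R' M') r := by
    have : φ.comp (algebraMap R' L) = algebraMap R' (SymmetricAlgebra R' M') := by
      refine IsLocalization.ringHom_ext (Submonoid.powers f) (RingHom.ext fun r => ?_)
      show φ (algebraMap R' L (algebraMap R R' r)) = _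
      rw [← IsScalarTower.algebraMap_apply R R' L, IsScalarTower.algebraMap_apply R (SymmetricAlgebra R M) L, hφ]
      exact symMap_algebraMap _ _ hl r
    exact fun r => congr($this r)
  let φ' : L →ₐ[R'] SymmetricAlgebra R' M' := { φ with commutes' := hbase }
  have h2 : φ'.comp χ = AlgHom.id R' _ := by
    refine SymmetricAlgebra.algHom_ext ?_
    refine LinearMap.restrictScalars_injective R ?_
    refine IsLocalizedModule.ext (Submonoid.powers f) l ?_ (LinearMap.ext fun m => ?_)
    · rintro ⟨_, n, rfl⟩
      obtain ⟨v, hv⟩ := ((IsLocalization.Away.algebraMap_isUnit (S := R') f).pow n).map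
        (algebraMap R' (SymmetricAlgebra R' M'))
      rw [Module.End.isUnit_iff]
      have h : ∀ y : SymmetricAlgebra R' M', algebraMap R (Module.End R _) (f ^ n) y = v.1 * y := fun y => by
        rw [Module.algebraMap_end_apply, ← algebraMap_smul R' (f ^ n) y, Algebra.smul_def, map_pow, hv]
      refine ⟨fun a b hab => ?_, fun b => ⟨v⁻¹.1 * b, ?_⟩⟩
      · simp only [h] at hab
        exact v.isUnit.mul_left_cancel hab
      · rw [h, ← mul_assoc, Units.mul_inv, one_mul]
    · show φ (χ (SymmetricAlgebra.ι R' M' (l m))) = SymmetricAlgebra.ι R' M' (l m)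
      have := congr($hχT (SymmetricAlgebra.ι R M m))
      rw [RingHom.comp_apply, show T (SymmetricAlgebra.ι R M m) = SymmetricAlgebra.ι R' M' (l m) from
        symMap_ι _ _ hl m] at this
      exact (congrArg φ this).trans ((hφ _).trans (symMap_ι _ _ hl m))
  let e : L ≃ₐ[SymmetricAlgebra R M] SymmetricAlgebra R' M' :=
    { φ with
      invFun := χ
      left_inv := fun a => congr($h1 a)
      right_inv := fun b => congr($h2 b)
      commutes' := hφ }
  exact IsLocalization.isLocalization_of_algEquiv (Submonoid.powers s) e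

end loc

end Groth.Agent.SymAlgRel
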