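import Mathlib
import Groth.Prelude.Def_Coh
import Groth.Prelude.Def_RelSpec
import Groth.Agent.RelFP.Scheme
import Groth.Agent.SymAlgRel.Ring
import Groth.Agent.SymAlgRel.Glue

/-!
# The symmetric algebra of a quasi-coherent module
-/

noncomputable section

universe u

open CategoryTheory CategoryTheory.Limits AlgebraicGeometry TopologicalSpace Opposite RelSpec
open Groth.Agent.QCohBase

namespace Groth.Agent.SymAlgRel

variable {S : Scheme.{u}} (E : S.Modules)

abbrev site (S : Scheme.{u}) := Scheme.AffineZariskiSite.toOpensFunctor S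

theorem toOpens_le {U V : S.AffineZariskiSite} (i : V ⟶ U) : V.toOpens ≤ U.toOpens :=
  Scheme.AffineZariskiSite.toOpens_mono i.le

/-- sections of the symmetric algebra on affine opens -/
def symFun : S.AffineZariskiSiteᵒᵖ ⥤ CommRingCat.{u} where
  obj U := CommRingCat.of (SymmetricAlgebra Γ(S, U.unop.toOpens) Γ(E, U.unop.toOpens))
  map {U V} i := CommRingCat.ofHom (symMap (ores (toOpens_le i.unop)) (mres E (toOpens_le i.unop))
    (fun r m => mres_smul E _ r m))
  map_id U := by
    refine CommRingCat.hom_ext (ringHom_ext (fun r => ?_) (fun m => ?_))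
    · refine (symMap_algebraMap _ _ (fun r m => mres_smul E _ r m) r).trans ?_
      show algebraMap _ _ _ = algebraMap _ _ r
      congr 1
      exact ConcreteCategory.congr_hom (S.presheaf.map_id _) r
    · refine (symMap_ι _ _ (fun r m => mres_smul E _ r m) m).trans ?_
      show SymmetricAlgebra.ι _ _ _ = SymmetricAlgebra.ι _ _ m
      congr 1
      exact mres_refl E _ m
  map_comp {U V W} i k := by
    refine CommRingCat.hom_ext ?_
    exact symMap_comp (ores (toOpens_le i.unop)) (ores (toOpens_le k.unop)) (ores (toOpens_le (i ≫ k).unop))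
      (fun r => (ores_ores (toOpens_le i.unop) (toOpens_le k.unop) r).symm)
      (mres E (toOpens_le i.unop)) (mres E (toOpens_le k.unop)) (mres E (toOpens_le (i ≫ k).unop))
      (fun m => (mres_mres E (toOpens_le i.unop) (toOpens_le k.unop) m).symm)
      (fun r m => mres_smul E _ r m) (fun r m => mres_smul E _ r m) (fun r m => mres_smul E _ r m)

/-- scalars -/
def symStr : (site S).op ⋙ S.presheaf ⟶ symFun E where
  app U := CommRingCat.ofHom (algebraMap Γ(S, U.unop.toOpens) (SymmetricAlgebra Γ(S, U.unop.toOpens) Γ(E, U.unop.toOpens)))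
  naturality U V i := CommRingCat.hom_ext (RingHom.ext fun r =>
    (symMap_algebraMap _ _ (fun r m => mres_smul E (toOpens_le i.unop) r m) r).symm)

variable (hE : Coh.IsQCoh E)

include hE in
theorem symStr_coequifibered : (symStr E).Coequifibered := by
  haveI : E.IsQuasicoherent := hE
  refine Scheme.AffineZariskiSite.coequifibered_iff_forall_isLocalizationAway.mpr fun U f => ?_
  have hle : S.basicOpen f ≤ U.toOpens := S.basicOpen_le f
  letI := Groth.Agent.RelFP.resModule E hle
  letI : Algebra Γ(S, U.toOpens) Γ(S, S.basicOpen f) := (ores hle).toAlgebra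
  haveI : IsScalarTower Γ(S, U.toOpens) Γ(S, S.basicOpen f) Γ(E, S.basicOpen f) :=
    .of_algebraMap_smul fun _ _ => rfl
  haveI : IsLocalization.Away f Γ(S, S.basicOpen f) := (isAff U).isLocalization_basicOpen f
  haveI := Groth.Agent.RelFP.isLocalizedModule_mresₗ E (isAff U) f rfl hle
  exact isLocalization_symMap f (Groth.Agent.RelFP.mresₗ E hle) (fun r m => mres_smul E hle r m)

/-- the symmetric algebra -/
def symQC : QCAlg S := algOfAffine (symStr_coequifibered E hE)

/-- its sections on affine opens -/
def symSec (U : S.AffineZariskiSite) :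
    (symQC E hE).presheaf.obj (op U.toOpens) ⟶
      CommRingCat.of (SymmetricAlgebra Γ(S, U.toOpens) Γ(E, U.toOpens)) :=
  (algOfAffineIso (symStr_coequifibered E hE)).hom.app (op U)

instance (U : S.AffineZariskiSite) : IsIso (symSec E hE U) :=
  inferInstanceAs (IsIso ((algOfAffineIso (symStr_coequifibered E hE)).hom.app (op U)))

theorem str_symSec (U : S.AffineZariskiSite) :
    (symQC E hE).str.app (op U.toOpens) ≫ symSec E hE U =
      CommRingCat.ofHom (algebraMap Γ(S, U.toOpens) (SymmetricAlgebra Γ(S, U.toOpens) Γ(E, U.toOpens))) :=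
  str_algOfAffineIso (symStr_coequifibered E hE) U

theorem symSec_res {U V : S.AffineZariskiSite} (i : V ⟶ U) (x : (symQC E hE).presheaf.obj (op U.toOpens)) :
    symSec E hE V ((symQC E hE).presheaf.map (homOfLE (toOpens_le i)).op x) =
      (symFun E).map i.op (symSec E hE U x) :=
  ConcreteCategory.congr_hom ((algOfAffineIso (symStr_coequifibered E hE)).hom.naturality i.op) x

theorem inv_symSec_res {U V : S.AffineZariskiSite} (i : V ⟶ U)
    (x : SymmetricAlgebra Γ(S, U.toOpens) Γ(E, U.toOpens)) :
    inv (symSec E hE V) ((symFun E).map i.op x) =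
      (symQC E hE).presheaf.map (homOfLE (toOpens_le i)).op (inv (symSec E hE U) x) := by
  have e : ∀ W : S.AffineZariskiSite,
      inv (symSec E hE W) = (algOfAffineIso (symStr_coequifibered E hE)).inv.app (op W) := fun W =>
    IsIso.inv_eq_of_hom_inv_id ((algOfAffineIso (symStr_coequifibered E hE)).hom_inv_id_app _)
  rw [e, e]
  exact ConcreteCategory.congr_hom ((algOfAffineIso (symStr_coequifibered E hE)).inv.naturality i.op) x

/-- two maps of modules agreeing on affine opens agree -/
theorem modules_hom_ext {M N : S.Modules} {a b : M ⟶ N}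
    (h : ∀ U : S.AffineZariskiSite, a.app U.toOpens = b.app U.toOpens) : a = b := by
  have : a.mapPresheaf = b.mapPresheaf := by
    apply (Functor.IsCoverDense.restrictHomEquivHom (G := site S)
      (K := Opens.grothendieckTopology S) (ℱ := M.presheaf)
      (ℱ' := (⟨N.presheaf, N.isSheaf⟩ : TopCat.Sheaf AddCommGrpCat.{u} S.carrier))).symm.injective
    ext U : 2
    exact h U.unop
  ext U x
  exact ConcreteCategory.congr_hom (NatTrans.congr_app this (op U)) x

/-- generators on affine opens -/
def symGen : (site S).op ⋙ E.presheaf ⟶ (site S).op ⋙ (symQC E hE).toModule.presheaf where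
  app U := AddCommGrpCat.ofHom
    ((inv (symSec E hE U.unop)).hom.toAddMonoidHom.comp
      (SymmetricAlgebra.ι Γ(S, U.unop.toOpens) Γ(E, U.unop.toOpens)).toAddMonoidHom)
  naturality U V i := by
    ext m
    refine ((congrArg (inv (symSec E hE V.unop))
      (symMap_ι _ _ (fun r m => mres_smul E (toOpens_le i.unop) r m) m)).symm.trans ?_)
    exact inv_symSec_res E hE i.unop _

/-- generators, as a map of presheaves -/
def symJPre : E.presheaf ⟶ (symQC E hE).toModule.presheaf :=
  Functor.IsCoverDense.restrictHomEquivHom (G := site S)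
    (K := Opens.grothendieckTopology S) (ℱ := E.presheaf)
    (ℱ' := (⟨(symQC E hE).toModule.presheaf, (symQC E hE).toModule.isSheaf⟩ :
      TopCat.Sheaf AddCommGrpCat.{u} S.carrier)) (symGen E hE)

theorem symJPre_app (U : S.AffineZariskiSite) (m : Γ(E, U.toOpens)) :
    (symJPre E hE).app (op U.toOpens) m =
      inv (symSec E hE U) (SymmetricAlgebra.ι Γ(S, U.toOpens) Γ(E, U.toOpens) m) :=
  ConcreteCategory.congr_hom (NatTrans.congr_app ((Functor.IsCoverDense.restrictHomEquivHom (G := site S)
    (K := Opens.grothendieckTopology S) (ℱ := E.presheaf)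
    (ℱ' := (⟨(symQC E hE).toModule.presheaf, (symQC E hE).toModule.isSheaf⟩ :
      TopCat.Sheaf AddCommGrpCat.{u} S.carrier))).symm_apply_apply (symGen E hE)) (op U)) m

theorem inv_symSec_algebraMap (U : S.AffineZariskiSite) (r : Γ(S, U.toOpens)) :
    inv (symSec E hE U) (algebraMap Γ(S, U.toOpens) (SymmetricAlgebra Γ(S, U.toOpens) Γ(E, U.toOpens)) r) =
      (symQC E hE).str.app (op U.toOpens) r :=
  ConcreteCategory.congr_hom ((IsIso.comp_inv_eq (symSec E hE U)).2 (str_symSec E hE U).symm) r

/-- the canonical map of modules -/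
def symJ : E ⟶ (symQC E hE).toModule :=
  ⟨PresheafOfModules.homMk (symJPre E hE) fun W (r : Γ(S, W.unop)) (m : Γ(E, W.unop)) => by
    have key := TopCat.Sheaf.eq_of_locally_eq'
      (⟨(symQC E hE).presheaf, (symQC E hE).isSheaf⟩ : TopCat.Sheaf CommRingCat.{u} S.carrier)
      (fun U : {U : S.AffineZariskiSite // U.toOpens ≤ W.unop} => U.1.toOpens) W.unop
      (fun U => homOfLE U.2) (fun s hs => by
        obtain ⟨V, hV, hsV, hVW⟩ := Opens.isBasis_iff_nbhd.1 S.isBasis_affineOpens hs
        exact Opens.mem_iSup.2 ⟨⟨⟨V, hV⟩, hVW⟩, hsV⟩)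
    refine key _ _ fun U => ?_
    have n1 : mres (symQC E hE).toModule U.2 ((symJPre E hE).app W (r • m)) =
        (symJPre E hE).app (op U.1.toOpens) (mres E U.2 (r • m)) :=
      (ConcreteCategory.congr_hom ((symJPre E hE).naturality (homOfLE U.2).op) _).symm
    have n2 : mres (symQC E hE).toModule U.2 ((symJPre E hE).app W m) =
        (symJPre E hE).app (op U.1.toOpens) (mres E U.2 m) :=
      (ConcreteCategory.congr_hom ((symJPre E hE).naturality (homOfLE U.2).op) _).symm
    show mres (symQC E hE).toModule U.2 ((symJPre E hE).app W (r • m)) =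
      mres (symQC E hE).toModule U.2 (r • (show Γ((symQC E hE).toModule, W.unop) from (symJPre E hE).app W m))
    rw [mres_smul, n1, mres_smul, n2, symJPre_app, symJPre_app, LinearMap.map_smul, Algebra.smul_def, map_mul,
      inv_symSec_algebraMap]
    rfl⟩

theorem symJ_app (U : S.AffineZariskiSite) (m : Γ(E, U.toOpens)) :
    (symJ E hE).app U.toOpens m = inv (symSec E hE U) (SymmetricAlgebra.ι Γ(S, U.toOpens) Γ(E, U.toOpens) m) :=
  symJPre_app E hE U m

variable (B : QCAlg S) (φ : E ⟶ B.toModule)

/-- the extension on an affine open -/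
def symLift (U : S.Opens) : SymmetricAlgebra Γ(S, U) Γ(E, U) →+* B.presheaf.obj (op U) :=
  letI := (B.str.app (op U)).hom.toAlgebra
  (SymmetricAlgebra.lift (R := Γ(S, U)) (M := Γ(E, U)) (A := B.presheaf.obj (op U))
    { toFun := fun m => φ.app U m
      map_add' := map_add (φ.app U).hom
      map_smul' := fun r m => (map_smul (φ.val.app (op U)).hom r m) }).toRingHom

theorem symLift_algebraMap (U : S.Opens) (r : Γ(S, U)) :
    symLift E B φ U (algebraMap Γ(S, U) _ r) = B.str.app (op U) r := by
  letI := (B.str.app (op U)).hom.toAlgebra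
  exact AlgHom.commutes _ r

theorem symLift_ι (U : S.Opens) (m : Γ(E, U)) :
    symLift E B φ U (SymmetricAlgebra.ι Γ(S, U) Γ(E, U) m) = φ.app U m := by
  letI := (B.str.app (op U)).hom.toAlgebra
  exact SymmetricAlgebra.lift_ι_apply _ m

/-- the extension, on the affine opens -/
def symLiftNat : symFun E ⟶ (site S).op ⋙ B.presheaf where
  app U := CommRingCat.ofHom (symLift E B φ U.unop.toOpens)
  naturality U V i := by
    refine CommRingCat.hom_ext (ringHom_ext (fun r => ?_) (fun m => ?_))
    · refine (congrArg (symLift E B φ V.unop.toOpens)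
        (symMap_algebraMap (ores (toOpens_le i.unop)) (mres E (toOpens_le i.unop)) (fun r m => mres_smul E _ r m) r)).trans ?_
      refine ((symLift_algebraMap E B φ _ _).trans ?_).trans
        (congrArg (B.presheaf.map ((site S).map i.unop).op) (symLift_algebraMap E B φ U.unop.toOpens r).symm)
      exact ConcreteCategory.congr_hom (B.str.naturality ((site S).map i.unop).op) r
    · refine (congrArg (symLift E B φ V.unop.toOpens)
        (symMap_ι (ores (toOpens_le i.unop)) (mres E (toOpens_le i.unop)) (fun r m => mres_smul E _ r m) m)).trans ?_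
      refine ((symLift_ι E B φ _ _).trans ?_).trans
        (congrArg (B.presheaf.map ((site S).map i.unop).op) (symLift_ι E B φ U.unop.toOpens m).symm)
      exact ConcreteCategory.congr_hom (φ.mapPresheaf.naturality ((site S).map i.unop).op) m

theorem isSymAlg_symQC : IsSymAlg E (symQC E hE) (symJ E hE) := by
  intro B φ
  let H := symStr_coequifibered E hE
  let q : (site S).op ⋙ (symQC E hE).presheaf ⟶ (site S).op ⋙ B.presheaf :=
    (algOfAffineIso H).hom ≫ symLiftNat E B φ
  have hq : ∀ (U : S.AffineZariskiSite) (x),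
      (extend B q).app (op U.toOpens) x = symLift E B φ U.toOpens (symSec E hE U x) := fun U x =>
    ConcreteCategory.congr_hom (extend_app B q U) x
  refine ⟨⟨extend B q, presheaf_ext B fun U => CommRingCat.hom_ext (RingHom.ext fun r => ?_)⟩, ?_, ?_⟩
  · show (extend B q).app (op U.toOpens) ((symQC E hE).str.app (op U.toOpens) r) = _
    rw [hq]
    exact (congrArg (symLift E B φ U.toOpens) (ConcreteCategory.congr_hom (str_symSec E hE U) r)).trans
      (symLift_algebraMap E B φ _ r)
  · refine modules_hom_ext fun U => ?_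
    ext m
    show (extend B q).app (op U.toOpens) ((symJ E hE).app U.toOpens m) = _
    rw [hq, symJ_app]
    refine (congrArg (symLift E B φ U.toOpens) ?_).trans (symLift_ι E B φ _ m)
    exact ConcreteCategory.congr_hom (IsIso.inv_hom_id (symSec E hE U)) _
  · intro ψ hψ
    refine QCAlg.hom_ext (presheaf_ext B fun U => ?_)
    rw [← cancel_epi (inv (symSec E hE U))]
    refine CommRingCat.hom_ext (ringHom_ext (fun r => ?_) fun m => ?_)
    · show ψ.hom.app (op U.toOpens) (inv (symSec E hE U) _) = (extend B q).app (op U.toOpens) (inv (symSec E hE U) _)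
      rw [hq, inv_symSec_algebraMap]
      refine (ConcreteCategory.congr_hom (NatTrans.congr_app ψ.comm (op U.toOpens)) r).trans ?_
      exact ((congrArg (symLift E B φ U.toOpens) (ConcreteCategory.congr_hom (str_symSec E hE U) r)).trans
        (symLift_algebraMap E B φ _ r)).symm
    · show ψ.hom.app (op U.toOpens) (inv (symSec E hE U) _) = (extend B q).app (op U.toOpens) (inv (symSec E hE U) _)
      rw [hq, ← symJ_app]
      refine (ConcreteCategory.congr_hom (congrArg (fun t : E ⟶ B.toModule => t.app U.toOpens) hψ) m).trans ?_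
      refine ((congrArg (symLift E B φ U.toOpens) ?_).trans (symLift_ι E B φ _ m)).symm
      rw [symJ_app]
      exact ConcreteCategory.congr_hom (IsIso.inv_hom_id (symSec E hE U)) _

/-- Over an affine open, the sections of any symmetric algebra form the symmetric algebra of the sections. -/
theorem bijective_symLift {A : QCAlg S} {j : E ⟶ A.toModule} (hA : IsSymAlg E A j) (hE : Coh.IsQCoh E)
    (U : S.Opens) (hU : IsAffineOpen U) : Function.Bijective (symLift E A j U) := by
  obtain ⟨f, hf, hfu⟩ := isSymAlg_symQC E hE A j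
  obtain ⟨g, hg, -⟩ := hA (symQC E hE) (symJ E hE)
  have comp : ∀ {X Y Z : QCAlg S} (a : X ⟶ Y) (b : Y ⟶ Z),
      QCAlg.Hom.toModuleMap (a ≫ b) = QCAlg.Hom.toModuleMap a ≫ QCAlg.Hom.toModuleMap b := fun _ _ => rfl
  have h1 : f ≫ g = 𝟙 _ := by
    refine ((isSymAlg_symQC E hE) _ (symJ E hE)).unique ?_ ?_
    · rw [comp, ← Category.assoc, hf, hg]
    · exact Category.comp_id _
  have h2 : g ≫ f = 𝟙 _ := by
    refine (hA _ j).unique ?_ ?_
    · rw [comp, ← Category.assoc, hg, hf]
    · exact Category.comp_id _
  let V : S.AffineZariskiSite := ⟨U, hU⟩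
  have hbij : Function.Bijective (fun y => f.hom.app (op V.toOpens) (inv (symSec E hE V) y)) := by
    refine Function.Bijective.comp ?_ ((ConcreteCategory.bijective_of_isIso (inv (symSec E hE V))))
    exact Function.bijective_iff_has_inverse.2 ⟨g.hom.app (op V.toOpens),
      fun x => ConcreteCategory.congr_hom (NatTrans.congr_app (congrArg QCAlg.Hom.hom h1) (op V.toOpens)) x,
      fun x => ConcreteCategory.congr_hom (NatTrans.congr_app (congrArg QCAlg.Hom.hom h2) (op V.toOpens)) x⟩
  convert hbij using 1
  funext y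
  have : symLift E A j U = ((f.hom.app (op V.toOpens)).hom.comp (inv (symSec E hE V)).hom) := by
    refine ringHom_ext (fun r => ?_) fun m => ?_
    · rw [symLift_algebraMap, RingHom.comp_apply]
      refine (ConcreteCategory.congr_hom (NatTrans.congr_app f.comm (op V.toOpens)) r).symm.trans ?_
      exact congrArg (f.hom.app (op V.toOpens)) (inv_symSec_algebraMap E hE V r).symm
    · rw [symLift_ι, RingHom.comp_apply]
      refine (ConcreteCategory.congr_hom (congrArg (fun t : E ⟶ A.toModule => t.app V.toOpens) hf) m).symm.trans ?_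
      exact congrArg (f.hom.app (op V.toOpens)) (symJ_app E hE V m)
  rw [this]
  rfl

end Groth.Agent.SymAlgRel
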