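import Mathlib
import Groth.Prelude.Def_RelProj2
import Groth.Agent.GenLocus.Basic
import Groth.Agent.TensorMod.Invertible
import Groth.Agent.EGA2Misc.ProjTN
import Groth.Agent.EGA2Misc.ProjQMap
import Groth.Agent.EGA2Misc.ProjQComp
import Groth.Agent.SymAlgRel.Exists

/-!
# The graded symmetric algebra of an invertible module and its `Proj`
-/

noncomputable section

universe u

open CategoryTheory CategoryTheory.Limits AlgebraicGeometry TopologicalSpace Opposite RelSpec
open HomogeneousLocalization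
open scoped HomogeneousIdeal
open Groth.Agent.QCohBase Groth.Agent.GenLocus

namespace Groth.Agent.SymAlgRel

section free

variable {S : Scheme.{u}} (E : S.Modules) {A : QCAlg S} {j : E ⟶ A.toModule}

/-- Sections over an affine open where `E` has a frame form a polynomial ring. -/
theorem bijective_eval₂ (hA : IsSymAlg E A j) (hE : Coh.IsQCoh E) {U : S.Opens} (hU : IsAffineOpen U)
    {e : Γ(E, U)} (he : IsFrame E e) :
    Function.Bijective (Polynomial.eval₂RingHom (A.str.app (op U)).hom (j.app U e)) := by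
  let R := Γ(S, U)
  let le : R ≃ₗ[R] Γ(E, U) := LinearEquiv.ofBijective (LinearMap.toSpanSingleton R Γ(E, U) e) he.bijective
  let b : Module.Basis PUnit.{u + 1} R Γ(E, U) := (Module.Basis.singleton PUnit.{u + 1} R).map le
  have hb : b PUnit.unit = e := by
    simp [b, le]
  let eq : Polynomial R ≃ₐ[R] SymmetricAlgebra R Γ(E, U) :=
    (MvPolynomial.uniqueAlgEquiv R PUnit.{u + 1}).symm.trans (SymmetricAlgebra.equivMvPolynomial b).symm
  have key : Polynomial.eval₂RingHom (A.str.app (op U)).hom (j.app U e) =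
      (symLift E A j U).comp eq.toRingEquiv.toRingHom := by
    refine Polynomial.ringHom_ext (fun r => ?_) ?_
    · show _ = symLift E A j U (eq (Polynomial.C r))
      rw [Polynomial.coe_eval₂RingHom, Polynomial.eval₂_C, ← Polynomial.algebraMap_eq, AlgEquiv.commutes,
        symLift_algebraMap]
    · show _ = symLift E A j U (eq Polynomial.X)
      have hX : eq Polynomial.X = SymmetricAlgebra.ι R Γ(E, U) e := by
        rw [← hb]
        simp [eq]
      rw [hX, symLift_ι, Polynomial.coe_eval₂RingHom, Polynomial.eval₂_X]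
  rw [key]
  exact (bijective_symLift E hA hE U hU).comp eq.bijective

end free

variable {X PL : Scheme.{u}} {L : X.Modules} {𝒮 : RelProj.QCGrAlg X} {j : L ⟶ 𝒮.toModule}

/-- the generator in degree one -/
def tgen (j : L ⟶ 𝒮.toModule) {V : X.Opens} (e : Γ(L, V)) : 𝒮.presheaf.obj (op V) := j.app V e

variable (hj : RelProj.IsGrSymAlg L 𝒮 j) (hLq : Coh.IsQCoh L) {V : X.Opens} (hV : IsAffineOpen V)
  {e : Γ(L, V)} (he : IsFrame L e)

omit hV in
include hj in
theorem tgen_mem (hV : IsAffineOpen V) (e : Γ(L, V)) : tgen j e ∈ 𝒮.deg V hV 1 := hj.2 V hV e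

include hj in
theorem str_tgen_pow_mem (r : Γ(X, V)) (n : ℕ) :
    (𝒮.str.app (op V)).hom r * tgen j e ^ n ∈ 𝒮.deg V hV n := by
  have h1 := SetLike.pow_mem_graded n (A := 𝒮.deg V hV) (tgen_mem hj hV e)
  have h2 := SetLike.mul_mem_graded (A := 𝒮.deg V hV) (𝒮.str_mem V hV r) h1
  simpa [tgen] using h2

include hj hLq hV he in
theorem bijective_tgen :
    Function.Bijective (Polynomial.eval₂RingHom (𝒮.str.app (op V)).hom (tgen j e)) :=
  bijective_eval₂ L hj.1 hLq hV he

include hj hLq hV he in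
theorem str_mul_pow_eq_zero {r : Γ(X, V)} {n : ℕ}
    (h : (𝒮.str.app (op V)).hom r * tgen j e ^ n = 0) : r = 0 := by
  have hinj := (bijective_tgen hj hLq hV he).1
  have h1 : Polynomial.monomial n r = 0 := hinj (by
    rw [map_zero, Polynomial.coe_eval₂RingHom, Polynomial.eval₂_monomial]; exact h)
  simpa using congrArg (fun p => Polynomial.coeff p n) h1

include hj hLq hV he in
theorem str_mul_pow_inj {r r' : Γ(X, V)} {n : ℕ}
    (h : (𝒮.str.app (op V)).hom r * tgen j e ^ n = (𝒮.str.app (op V)).hom r' * tgen j e ^ n) : r = r' := by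
  refine sub_eq_zero.1 (str_mul_pow_eq_zero hj hLq hV he (n := n) ?_)
  rw [map_sub, sub_mul, h, sub_self]

include hj hLq hV he in
theorem exists_eq_of_mem_deg {x : 𝒮.presheaf.obj (op V)} {n : ℕ} (hx : x ∈ 𝒮.deg V hV n) :
    ∃ r, x = (𝒮.str.app (op V)).hom r * tgen j e ^ n := by
  obtain ⟨p, hp⟩ := (bijective_tgen hj hLq hV he).2 x
  rw [Polynomial.coe_eval₂RingHom, Polynomial.eval₂_eq_sum, Polynomial.sum_def] at hp
  refine ⟨p.coeff n, ?_⟩
  letI := 𝒮.graded V hV
  have h0 : ∀ i y, y ∈ 𝒮.deg V hV i → GradedRing.proj (𝒮.deg V hV) n y = if i = n then y else 0 := by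
    intro i y hy
    rw [GradedRing.proj_apply]
    split_ifs with h
    · subst h; exact DirectSum.decompose_of_mem_same _ hy
    · exact DirectSum.decompose_of_mem_ne _ hy h
  have hx' := h0 n x hx
  rw [if_pos rfl] at hx'
  rw [← hx', ← hp, map_sum, Finset.sum_congr rfl fun i _ => h0 i _ (str_tgen_pow_mem hj hV _ i),
    Finset.sum_ite_eq' p.support n]
  split_ifs with h
  · rfl
  · rw [Polynomial.notMem_support_iff.1 h, map_zero, zero_mul]

include hj hLq hV he in
theorem basicOpen_tgen_eq_top : Proj.basicOpen (𝒮.deg V hV) (tgen j e) = ⊤ := by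
  rw [eq_top_iff]
  intro w _
  refine (ProjectiveSpectrum.mem_basicOpen _ _ _).2 fun hw => w.not_irrelevant_le ?_
  show (HomogeneousIdeal.irrelevant (𝒮.deg V hV)).toIdeal ≤ w.asHomogeneousIdeal.toIdeal
  refine (HomogeneousIdeal.toIdeal_irrelevant_le _).2 fun i hi b hb => ?_
  obtain ⟨r, rfl⟩ := exists_eq_of_mem_deg hj hLq hV he hb
  obtain ⟨k, rfl⟩ := Nat.exists_eq_add_one_of_ne_zero hi.ne'
  rw [pow_succ, ← mul_assoc]
  exact Ideal.mul_mem_left _ _ hw

include hj hLq hV he in
theorem bijective_str_away :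
    Function.Bijective ((fromZeroRingHom (𝒮.deg V hV) (Submonoid.powers (tgen j e))).comp
      (𝒮.strZero V hV).hom) := by
  constructor
  · rw [injective_iff_map_eq_zero]
    intro r hr
    have h1 := congrArg HomogeneousLocalization.val hr
    rw [HomogeneousLocalization.val_zero] at h1
    have h2 : Localization.mk ((𝒮.str.app (op V)).hom r) (1 : Submonoid.powers (tgen j e)) = 0 := h1
    rw [Localization.mk_eq_mk', IsLocalization.mk'_eq_zero_iff] at h2
    obtain ⟨⟨_, m, rfl⟩, hm⟩ := h2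
    exact str_mul_pow_eq_zero hj hLq hV he (n := m) (by rw [mul_comm]; exact hm)
  · intro q
    obtain ⟨k, a, ha, rfl⟩ := Away.mk_surjective (𝒮.deg V hV) (tgen_mem hj hV e) q
    obtain ⟨r, rfl⟩ := exists_eq_of_mem_deg hj hLq hV he ha
    refine ⟨r, HomogeneousLocalization.val_injective _ ?_⟩
    rw [Away.val_mk]
    show Localization.mk ((𝒮.str.app (op V)).hom r) (1 : Submonoid.powers (tgen j e)) = _
    rw [Localization.mk_eq_mk_iff, Localization.r_iff_exists]
    exact ⟨1, by simp [mul_comm]⟩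

include hj hLq hV he in
/-- `Proj` of the sections over a frame is the base. -/
theorem isIso_away_spec :
    IsIso (Spec.map (CommRingCat.ofHom (fromZeroRingHom (𝒮.deg V hV) (Submonoid.powers (tgen j e)))) ≫
      Spec.map (𝒮.strZero V hV)) := by
  rw [← Spec.map_comp]
  haveI : IsIso (𝒮.strZero V hV ≫ CommRingCat.ofHom (fromZeroRingHom (𝒮.deg V hV) (Submonoid.powers (tgen j e)))) :=
    (ConcreteCategory.isIso_iff_bijective _).2 (bijective_str_away hj hLq hV he)
  infer_instance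

variable {pL : PL ⟶ X}
  {chartL : ∀ (U : X.Opens) (hU : IsAffineOpen U), (((pL ⁻¹ᵁ U : PL.Opens) : Scheme.{u}) ≅ Proj (𝒮.deg U hU))}
  (hPL : RelProj.IsRelProj 𝒮 pL chartL)

variable (pL chartL) in
/-- the chart of `Proj` over a frame -/
def frameChart {V : X.Opens} (hV : IsAffineOpen V) (e : Γ(L, V)) (hj : RelProj.IsGrSymAlg L 𝒮 j) :
    Spec (CommRingCat.of (Away (𝒮.deg V hV) (tgen j e))) ⟶ PL :=
  Proj.awayι (𝒮.deg V hV) (tgen j e) (tgen_mem hj hV e) one_pos ≫ RelProj.emb pL chartL V hV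

instance {V : X.Opens} (hV : IsAffineOpen V) (e : Γ(L, V)) (hj : RelProj.IsGrSymAlg L 𝒮 j) :
    IsOpenImmersion (frameChart pL chartL hV e hj) := by
  unfold frameChart
  infer_instance

include hLq he in
theorem opensRange_frameChart : (frameChart pL chartL hV e hj).opensRange = pL ⁻¹ᵁ V := by
  show (Proj.awayι _ _ _ _ ≫ _).opensRange = _
  rw [Scheme.Hom.opensRange_comp, Proj.opensRange_awayι, basicOpen_tgen_eq_top hj hLq hV he,
    Scheme.Hom.image_top_eq_opensRange, EGA2Misc.opensRange_emb]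

include hPL in
theorem frameChart_comp :
    frameChart pL chartL hV e hj ≫ pL =
      (Spec.map (CommRingCat.ofHom (fromZeroRingHom (𝒮.deg V hV) (Submonoid.powers (tgen j e)))) ≫
        Spec.map (𝒮.strZero V hV)) ≫ hV.fromSpec := by
  rw [frameChart, Category.assoc, EGA2Misc.emb_comp hPL, Proj.awayι_toSpecZero_assoc, Category.assoc]

include hj hLq hPL in
/-- The `Proj` of the graded symmetric algebra of an invertible module is the base. -/
theorem isIso_pL (hL : PicF.IsInvertible L) : IsIso pL := by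
  let J := {W : X.affineOpens // ∃ e : Γ(L, W.1), IsFrame L e}
  have hcov : ⨆ W : J, W.1.1 = ⊤ := by
    rw [eq_top_iff]
    intro x _
    obtain ⟨U, hU, hxU, -, e, he⟩ := exists_isFrame hL (show x ∈ (⊤ : X.Opens) from trivial)
    exact Opens.mem_iSup.2 ⟨⟨⟨U, hU⟩, e, he⟩, hxU⟩
  refine IsZariskiLocalAtTarget.of_iSup_eq_top (P := MorphismProperty.isomorphisms Scheme)
    (fun W : J => W.1.1) hcov fun W => ?_
  obtain ⟨⟨V, hV⟩, e, he⟩ := W
  let fc := frameChart pL chartL hV e hj
  haveI := isIso_away_spec hj hLq hV he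
  let ψ := Spec.map (CommRingCat.ofHom (fromZeroRingHom (𝒮.deg V hV) (Submonoid.powers (tgen j e)))) ≫
    Spec.map (𝒮.strZero V hV)
  let i₁ := fc.isoOpensRange ≪≫ Scheme.isoOfEq _ (opensRange_frameChart hj hLq hV he)
  have h1 : i₁.hom ≫ pL ∣_ V = ψ ≫ hV.isoSpec.inv := by
    rw [← cancel_mono V.ι, Category.assoc, morphismRestrict_ι, Category.assoc, hV.isoSpec_inv_ι]
    refine Eq.trans ?_ (frameChart_comp hj hV hPL)
    simp only [i₁, Iso.trans_hom, Category.assoc]
    exact (congrArg (fc.isoOpensRange.hom ≫ ·) (Scheme.isoOfEq_hom_ι_assoc _ _ _)).trans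
      (Scheme.Hom.isoOpensRange_hom_ι_assoc _ _)
  refine (MorphismProperty.cancel_left_of_respectsIso (MorphismProperty.isomorphisms Scheme) i₁.hom _).1 ?_
  rw [h1]
  show IsIso _
  infer_instance

include hPL hj hLq he in
theorem mem_emb_frame_iff (c : Γ(X, V)) (d : ℕ) (hd : 0 < d) (y : PL) (hy : pL y ∈ V) :
    y ∈ RelProj.emb pL chartL V hV ''ᵁ Proj.basicOpen (𝒮.deg V hV) ((𝒮.str.app (op V)).hom c * tgen j e ^ d) ↔
      pL y ∈ X.basicOpen c := by
  obtain ⟨z, rfl⟩ : y ∈ (frameChart pL chartL hV e hj).opensRange := by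
    rw [opensRange_frameChart hj hLq hV he]; exact hy
  let χ := (fromZeroRingHom (𝒮.deg V hV) (Submonoid.powers (tgen j e))).comp (𝒮.strZero V hV).hom
  have hel : Away.isLocalizationElem (tgen_mem hj hV e) (str_tgen_pow_mem hj hV (e := e) c d) = χ c := by
    refine HomogeneousLocalization.val_injective _ ?_
    rw [Away.isLocalizationElem, Away.val_mk]
    show _ = Localization.mk ((𝒮.str.app (op V)).hom c) (1 : Submonoid.powers (tgen j e))
    rw [Localization.mk_eq_mk_iff, Localization.r_iff_exists]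
    exact ⟨1, by simp [mul_comm]⟩
  have h1 : pL (frameChart pL chartL hV e hj z) =
      hV.fromSpec (Spec.map (CommRingCat.ofHom χ) z) := by
    rw [← Scheme.Hom.comp_apply, frameChart_comp hj hV hPL, ← Spec.map_comp, Scheme.Hom.comp_apply]
    rfl
  have h2 : (pL (frameChart pL chartL hV e hj z) ∈ X.basicOpen c) ↔ χ c ∉ z.asIdeal := by
    rw [h1]
    exact SetLike.ext_iff.1 (hV.fromSpec_preimage_basicOpen c) _
  rw [h2, ← hel]
  have h3 := SetLike.ext_iff.1 (Proj.awayι_preimage_basicOpen (𝒮.deg V hV) (tgen_mem hj hV e) one_pos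
    (str_tgen_pow_mem hj hV (e := e) c d) hd) z
  refine Iff.trans ?_ h3
  constructor
  · rintro ⟨w, hw, hwy⟩
    rw [frameChart, Scheme.Hom.comp_apply] at hwy
    have hw' := (RelProj.emb pL chartL V hV).isOpenEmbedding.injective hwy
    subst hw'
    exact hw
  · intro h
    exact ⟨Proj.awayι (𝒮.deg V hV) (tgen j e) (tgen_mem hj hV e) one_pos z, h, (Scheme.Hom.comp_apply _ _ z).symm⟩

/-- `L^{⊗d}` is generated by `s` over `W` -/
def Gens (𝒮 : RelProj.QCGrAlg X) (W : X.Opens) (hW : IsAffineOpen W) (d : ℕ)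
    (s : 𝒮.presheaf.obj (op W)) : Prop :=
  ((𝒮.deg W hW d : AddSubgroup (𝒮.presheaf.obj (op W))) : Set (𝒮.presheaf.obj (op W))) ⊆
    (Ideal.span {s} : Set (𝒮.presheaf.obj (op W)))

include hj hLq he in
theorem gens_iff (c : Γ(X, V)) (d : ℕ) :
    Gens 𝒮 V hV d ((𝒮.str.app (op V)).hom c * tgen j e ^ d) ↔ IsUnit c := by
  constructor
  · intro h
    have h0 : tgen j e ^ d ∈ 𝒮.deg V hV d := by simpa using str_tgen_pow_mem hj hV (e := e) 1 d
    obtain ⟨y, hy⟩ := Ideal.mem_span_singleton'.1 (h h0)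
    obtain ⟨p, rfl⟩ := (bijective_tgen hj hLq hV he).2 y
    refine IsUnit.of_mul_eq_one_right (p.coeff 0) ?_
    have hinj := (bijective_tgen hj hLq hV he).1
    have hp : p * Polynomial.monomial d c = Polynomial.monomial d 1 := hinj (by
      rw [map_mul]
      simp only [Polynomial.coe_eval₂RingHom, Polynomial.eval₂_monomial]
      rw [map_one, one_mul]
      exact hy)
    have := congrArg (fun q => Polynomial.coeff q d) hp
    simpa [← Polynomial.C_mul_X_pow_eq_monomial, ← mul_assoc, Polynomial.coeff_mul_X_pow'] using this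
  · intro hc x hx
    obtain ⟨r, rfl⟩ := exists_eq_of_mem_deg hj hLq hV he hx
    obtain ⟨v, rfl⟩ := hc
    refine Ideal.mem_span_singleton'.2 ⟨(𝒮.str.app (op V)).hom (r * v⁻¹.1), ?_⟩
    rw [← mul_assoc, ← map_mul, mul_assoc, Units.inv_mul, mul_one]

include hj in
theorem res_tgen {W : X.Opens} (h : W ≤ V) :
    (𝒮.presheaf.map (homOfLE h).op).hom (tgen j e) = tgen j (mres L h e) :=
  (ConcreteCategory.congr_hom (j.mapPresheaf.naturality (homOfLE h).op) e).symm

include hj hLq hPL in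
/-- Where a section of `L^{⊗d}` does not vanish. -/
theorem mem_emb_iff_gens (hL : PicF.IsInvertible L) (W : X.Opens) (hW : IsAffineOpen W) {d : ℕ} (hd : 0 < d)
    (s : 𝒮.presheaf.obj (op W)) (hs : s ∈ 𝒮.deg W hW d) (y : PL) (hy : pL y ∈ W) :
    y ∈ RelProj.emb pL chartL W hW ''ᵁ Proj.basicOpen (𝒮.deg W hW) s ↔
      ∃ (V : X.Opens) (hV : IsAffineOpen V) (hVW : V ≤ W), pL y ∈ V ∧ Gens 𝒮 V hV d (𝒮.res hW hV hVW s) := by
  constructor
  · intro h
    obtain ⟨V₀, hV₀, hx₀, hV₀W, e, he⟩ := exists_isFrame hL hy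
    obtain ⟨r, r', hr, hx⟩ := exists_basicOpen_le_affine_inter hW hV₀ (pL y) ⟨hy, hx₀⟩
    have hV := hW.basicOpen r
    have hVW : X.basicOpen r ≤ W := X.basicOpen_le r
    have hVV₀ : X.basicOpen r ≤ V₀ := hr ▸ X.basicOpen_le r'
    have h' := (EGA2Misc.mem_emb_res_iff hPL W hW _ hV r rfl hVW y hx s).2 h
    obtain ⟨c, hc⟩ : ∃ c, 𝒮.res hW hV hVW s =
        (𝒮.str.app (op (X.basicOpen r))).hom c * tgen j (mres L hVV₀ e) ^ d :=
      exists_eq_of_mem_deg hj hLq hV (he.res hVV₀) ((𝒮.res hW hV hVW).map_mem hs)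
    rw [hc, mem_emb_frame_iff hj hLq hV (he.res hVV₀) hPL c d hd y hx] at h'
    have hV' := hV.basicOpen c
    have hV'V := X.basicOpen_le c
    refine ⟨_, hV', hV'V.trans hVW, h', ?_⟩
    have e1 : 𝒮.res hW hV' (hV'V.trans hVW) s =
        (𝒮.str.app (op (X.basicOpen c))).hom (ores hV'V c) * tgen j (mres L hV'V (mres L hVV₀ e)) ^ d := by
      have : 𝒮.res hW hV' (hV'V.trans hVW) s =
          (𝒮.presheaf.map (homOfLE hV'V).op).hom (𝒮.res hW hV hVW s) :=
        ConcreteCategory.congr_hom (𝒮.presheaf.map_comp (homOfLE hVW).op (homOfLE hV'V).op) s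
      rw [this, hc, map_mul, map_pow, res_tgen hj]
      congr 1
      exact (ConcreteCategory.congr_hom (𝒮.str.naturality (homOfLE hV'V).op) c).symm
    rw [e1, gens_iff hj hLq hV' ((he.res hVV₀).res hV'V)]
    exact X.toRingedSpace.isUnit_res_basicOpen c
  · rintro ⟨V, hV, hVW, hx, hg⟩
    obtain ⟨V₀, hV₀, hx₀, hV₀V, e, he⟩ := exists_isFrame hL hx
    obtain ⟨r, hr, hxr⟩ := hV.exists_basicOpen_le ⟨pL y, hx₀⟩ hx
    obtain ⟨a, ha, hxa⟩ := (hW.exists_basicOpen_le ⟨pL y, hxr⟩ hy :
      ∃ a, X.basicOpen a ≤ X.basicOpen r ∧ pL y ∈ X.basicOpen a)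
    have hV' := hW.basicOpen a
    have hV'W : X.basicOpen a ≤ W := X.basicOpen_le a
    have hV'V : X.basicOpen a ≤ V := ha.trans (X.basicOpen_le r)
    refine (EGA2Misc.mem_emb_res_iff hPL W hW _ hV' a rfl hV'W y hxa s).1 ?_
    obtain ⟨c, hc⟩ : ∃ c, 𝒮.res hW hV' hV'W s =
        (𝒮.str.app (op (X.basicOpen a))).hom c * tgen j (mres L (ha.trans hr) e) ^ d :=
      exists_eq_of_mem_deg hj hLq hV' (he.res (ha.trans hr)) ((𝒮.res hW hV' hV'W).map_mem hs)
    rw [hc, mem_emb_frame_iff hj hLq hV' (he.res (ha.trans hr)) hPL c d hd y hxa]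
    haveI : L.IsQuasicoherent := hLq
    -- a power of the frame comes from `V`
    obtain ⟨n, m, hm⟩ := exists_pow_smul_eq_mres L hV r rfl (X.basicOpen_le r) (mres L hr e)
    have hmd : tgen j m ^ d ∈ 𝒮.deg V hV d := by
      simpa using SetLike.pow_mem_graded d (tgen_mem hj hV m)
    obtain ⟨z, hz⟩ := Ideal.mem_span_singleton'.1 (hg hmd)
    have hu : IsUnit (ores hV'V r) := by
      have := (X.toRingedSpace.isUnit_res_basicOpen r).map (ores ha)
      exact (ores_ores (X.basicOpen_le r) ha r).subst (motive := fun w => IsUnit w) this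
    have hm' : tgen j (mres L hV'V m) = (𝒮.str.app (op _)).hom (ores hV'V r ^ n) * tgen j (mres L (ha.trans hr) e) := by
      have h1 : mres L hV'V m = ores hV'V r ^ n • mres L (ha.trans hr) e := by
        have := congrArg (mres L ha) hm
        rw [mres_mres, mres_smul, mres_mres, map_pow, ores_ores] at this
        exact this
      rw [tgen, h1]
      exact map_smul (j.val.app (op _)).hom _ _
    have hz' := congrArg (𝒮.presheaf.map (homOfLE hV'V).op).hom hz
    rw [map_mul, map_pow, res_tgen hj, hm', mul_pow] at hz'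
    have e2 : (𝒮.presheaf.map (homOfLE hV'V).op).hom (𝒮.res hW hV hVW s) = 𝒮.res hW hV' hV'W s :=
      (ConcreteCategory.congr_hom (𝒮.presheaf.map_comp (homOfLE hVW).op (homOfLE hV'V).op) s).symm
    rw [e2, hc, ← map_pow] at hz'
    have hg' : Gens 𝒮 _ hV' d ((𝒮.str.app (op _)).hom c * tgen j (mres L (ha.trans hr) e) ^ d) := by
      intro x hx
      obtain ⟨r₀, rfl⟩ := exists_eq_of_mem_deg hj hLq hV' (he.res (ha.trans hr)) hx
      obtain ⟨v, hv⟩ := ((hu.pow n).pow d)
      rw [← hv] at hz'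
      refine Ideal.mem_span_singleton'.2 ⟨(𝒮.str.app (op _)).hom (r₀ * v⁻¹.1) *
        (𝒮.presheaf.map (homOfLE hV'V).op).hom z, ?_⟩
      rw [mul_assoc, hz', ← mul_assoc, ← map_mul, mul_assoc, Units.inv_mul, mul_one]
    have hcu := (gens_iff hj hLq hV' (he.res (ha.trans hr)) c d).1 hg'
    rw [X.basicOpen_of_isUnit hcu]
    exact hxa

end Groth.Agent.SymAlgRel
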