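import Mathlib
import Groth.Prelude.Def_RelProj4
import Groth.Agent.EGA2Misc.ProjQMap
import Groth.Agent.EGA2Misc.ProjQComp
import Groth.Agent.SymAlgRel.GrSym

/-!
# The morphism `r_{L,ψ}` into a relative `Proj`
-/

noncomputable section

universe u

open CategoryTheory CategoryTheory.Limits AlgebraicGeometry TopologicalSpace Opposite
open HomogeneousLocalization
open scoped HomogeneousIdeal
open Groth.Agent.QCohBase Groth.Agent.GenLocus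

namespace Groth.Agent.SymAlgRel

section proj

variable {A : Type u} [CommRing A] {𝒜 : ℕ → AddSubgroup A} [GradedRing 𝒜]

theorem basicOpen_eq_bot_of_isNilpotent {f : A} (hf : IsNilpotent f) : Proj.basicOpen 𝒜 f = ⊥ := by
  rw [eq_bot_iff]
  intro w hw
  obtain ⟨n, hn⟩ := hf
  exact ((ProjectiveSpectrum.mem_basicOpen _ _ _).1 hw)
    (w.isPrime.mem_of_pow_mem n (hn ▸ zero_mem _))

theorem isNilpotent_of_basicOpen_eq_bot {f : A} {d : ℕ} (hf : f ∈ 𝒜 d) (hd : 0 < d)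
    (h : Proj.basicOpen 𝒜 f = ⊥) : IsNilpotent f := by
  have hempty : IsEmpty (Spec (CommRingCat.of (Away 𝒜 f))) := ⟨fun z => by
    have := (Proj.opensRange_awayι 𝒜 f hf hd).le ⟨z, rfl⟩
    rw [h] at this
    exact this⟩
  haveI : Subsingleton (Away 𝒜 f) := PrimeSpectrum.isEmpty_iff_subsingleton.1 hempty
  have h1 := congrArg HomogeneousLocalization.val (Subsingleton.elim (1 : Away 𝒜 f) 0)
  rw [HomogeneousLocalization.val_one, HomogeneousLocalization.val_zero] at h1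
  obtain ⟨⟨_, n, rfl⟩, hn⟩ := (IsLocalization.map_eq_zero_iff (Submonoid.powers f)
    (Localization (Submonoid.powers f)) (1 : A)).1 (by rw [map_one]; exact h1)
  exact ⟨n, by simpa using hn⟩

theorem exists_mem_basicOpen_le {W : (Proj 𝒜).Opens} {w : Proj 𝒜} (hw : w ∈ W) :
    ∃ (d : ℕ) (f : A), 0 < d ∧ f ∈ 𝒜 d ∧ w ∈ Proj.basicOpen 𝒜 f ∧ Proj.basicOpen 𝒜 f ≤ W := by
  obtain ⟨_, ⟨a, rfl⟩, hwa, haW⟩ :=
    (ProjectiveSpectrum.isTopologicalBasis_basic_opens 𝒜).exists_subset_of_mem_open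
      (show w ∈ (W : Set (Proj 𝒜)) from hw) W.2
  have hwa' : w ∈ Proj.basicOpen 𝒜 a := hwa
  rw [show Proj.basicOpen 𝒜 a = ⨆ i : ℕ, Proj.basicOpen 𝒜 (GradedRing.proj 𝒜 i a) from
    ProjectiveSpectrum.basicOpen_eq_union_of_projection 𝒜 a] at hwa'
  obtain ⟨i, hi⟩ := Opens.mem_iSup.1 hwa'
  let c := (Proj.affineOpenCover 𝒜).idx w
  obtain ⟨z, hz⟩ := (Proj.affineOpenCover 𝒜).covers w
  have hwc : w ∈ Proj.basicOpen 𝒜 c.2.1 := by
    rw [← Proj.opensRange_awayι 𝒜 c.2.1 c.2.2 c.1.2]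
    exact ⟨z, hz⟩
  refine ⟨i + c.1.1, GradedRing.proj 𝒜 i a * c.2.1, Nat.add_pos_right _ c.1.2,
    SetLike.mul_mem_graded (by rw [GradedRing.proj_apply]; exact SetLike.coe_mem _) c.2.2, ?_, ?_⟩
  · rw [Proj.basicOpen_mul]
    exact ⟨hi, hwc⟩
  · refine (ProjectiveSpectrum.basicOpen_mul_le_left 𝒜 _ _).trans fun v hv => haW ?_
    show v ∈ ProjectiveSpectrum.basicOpen 𝒜 a
    rw [ProjectiveSpectrum.basicOpen_eq_union_of_projection 𝒜 a]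
    exact Opens.mem_iSup.2 ⟨i, hv⟩

end proj

variable {Y X P PL : Scheme.{u}} {q : X ⟶ Y} {L : X.Modules} {𝒮 : RelProj.QCGrAlg Y} {𝒮L : RelProj.QCGrAlg X}
  {j : L ⟶ 𝒮L.toModule} (u : RelProj.QGrHom q 𝒮 𝒮L)
  {p : P ⟶ Y} {chart : ∀ (U : Y.Opens) (hU : IsAffineOpen U), (((p ⁻¹ᵁ U : P.Opens) : Scheme.{u}) ≅ Proj (𝒮.deg U hU))}
  {pL : PL ⟶ X} {chartL : ∀ (U : X.Opens) (hU : IsAffineOpen U), (((pL ⁻¹ᵁ U : PL.Opens) : Scheme.{u}) ≅ Proj (𝒮L.deg U hU))}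

theorem res_gradedAt (U : Y.Opens) (hU : IsAffineOpen U) (W : X.Opens) (hW : IsAffineOpen W)
    (hle : W ≤ q ⁻¹ᵁ U) (V : X.Opens) (hV : IsAffineOpen V) (hVW : V ≤ W) (f : 𝒮.presheaf.obj (op U)) :
    𝒮L.res hW hV hVW (u.gradedAt U hU W hW hle f) = (u.appLE U V (hVW.trans hle)).hom f := by
  show (u.appLE U W hle ≫ 𝒮L.presheaf.map (homOfLE hVW).op).hom f = _
  rw [RelSpec.QHom.appLE_map]

/-- `f` generates `L^{⊗d}` near `x` -/
def GenAt (𝒮L : RelProj.QCGrAlg X) (u : RelProj.QGrHom q 𝒮 𝒮L) (U : Y.Opens) (d : ℕ)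
    (f : 𝒮.presheaf.obj (op U)) (x : X) : Prop :=
  ∃ (V : X.Opens) (hV : IsAffineOpen V) (hle : V ≤ q ⁻¹ᵁ U),
    x ∈ V ∧ Gens 𝒮L V hV d ((u.appLE U V hle).hom f)

variable (hj : RelProj.IsGrSymAlg L 𝒮L j) (hLq : Coh.IsQCoh L) (hL : PicF.IsInvertible L)
  (hP : RelProj.IsRelProj 𝒮 p chart) (hPL : RelProj.IsRelProj 𝒮L pL chartL)

include hj hLq hL hPL in
theorem exists_mem_emb_iff_genAt (U : Y.Opens) (hU : IsAffineOpen U) {d : ℕ} (hd : 0 < d)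
    (f : 𝒮.presheaf.obj (op U)) (hf : f ∈ 𝒮.deg U hU d) (y : PL) :
    (∃ (W : X.Opens) (hW : IsAffineOpen W) (hle : W ≤ q ⁻¹ᵁ U),
      y ∈ RelProj.emb pL chartL W hW ''ᵁ Proj.basicOpen (𝒮L.deg W hW) (u.gradedAt U hU W hW hle f)) ↔
      GenAt 𝒮L u U d f (pL y) := by
  constructor
  · rintro ⟨W, hW, hle, h⟩
    obtain ⟨V, hV, hVW, hyV, hg⟩ := (mem_emb_iff_gens hj hLq hPL hL W hW hd _
      ((u.gradedAt U hU W hW hle).map_mem hf) y (EGA2Misc.mem_of_mem_emb h)).1 h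
    exact ⟨V, hV, hVW.trans hle, hyV, res_gradedAt u U hU W hW hle V hV hVW f ▸ hg⟩
  · rintro ⟨V, hV, hle, hyV, hg⟩
    refine ⟨V, hV, hle, (mem_emb_iff_gens hj hLq hPL hL V hV hd _
      ((u.gradedAt U hU V hV hle).map_mem hf) y hyV).2 ⟨V, hV, le_rfl, hyV, ?_⟩⟩
    exact (congrArg (Gens 𝒮L V hV d) (res_gradedAt u U hU V hV hle V hV le_rfl f)).mpr hg

include hj hLq hL hPL in
theorem mem_domQ_of_genAt (U : Y.Opens) (hU : IsAffineOpen U) {d : ℕ} (hd : 0 < d)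
    (f : 𝒮.presheaf.obj (op U)) (hf : f ∈ 𝒮.deg U hU d) (y : PL) (h : GenAt 𝒮L u U d f (pL y)) :
    y ∈ RelProj.domQ u pL chartL := by
  obtain ⟨W, hW, hle, hy⟩ := (exists_mem_emb_iff_genAt u hj hLq hL hPL U hU hd f hf y).2 h
  exact EGA2Misc.mem_domQ_of_mem_emb u U hU W hW hle hd f hf y hy

variable {r : ((RelProj.domQ u pL chartL : PL.Opens) : Scheme.{u}) ⟶ P}
  (hr : RelProj.IsProjQMapOn u p chart pL chartL (RelProj.domQ u pL chartL) r)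

include hj hLq hL hP hPL hr in
theorem mem_preimage_iff (U : Y.Opens) (hU : IsAffineOpen U) {d : ℕ} (hd : 0 < d)
    (f : 𝒮.presheaf.obj (op U)) (hf : f ∈ 𝒮.deg U hU d) (x : (RelProj.domQ u pL chartL : PL.Opens)) :
    r x ∈ RelProj.emb p chart U hU ''ᵁ Proj.basicOpen (𝒮.deg U hU) f ↔ GenAt 𝒮L u U d f (pL x.1) :=
  (EGA2Misc.mem_emb_iff u hP hPL hr U hU hd f hf x).trans
    (exists_mem_emb_iff_genAt u hj hLq hL hPL U hU hd f hf x.1)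

/-- the union defining `X_t` -/
theorem genAt_top_iff (hY : IsAffineOpen (⊤ : Y.Opens)) (d : ℕ) (f : 𝒮.presheaf.obj (op ⊤)) (x : X) :
    GenAt 𝒮L u ⊤ d f x ↔
      ∃ (V : X.Opens) (hV : IsAffineOpen V), x ∈ V ∧
        Gens 𝒮L V hV d ((u.appLE ⊤ V (le_top.trans (Scheme.Hom.preimage_top q).ge)).hom f) := by
  refine ⟨fun ⟨V, hV, _, hx, hg⟩ => ⟨V, hV, hx, hg⟩, fun ⟨V, hV, hx, hg⟩ => ⟨V, hV, _, hx, hg⟩⟩

include hj hLq hL hP hPL hr in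
theorem preimage_basicOpen_eq (hY : IsAffineOpen (⊤ : Y.Opens)) (d : ℕ) (hd : 0 < d)
    (f : 𝒮.presheaf.obj (op ⊤)) (hf : f ∈ 𝒮.deg ⊤ hY d) :
    (RelProj.domQ u pL chartL).ι ''ᵁ (r ⁻¹ᵁ ((RelProj.emb p chart ⊤ hY) ''ᵁ Proj.basicOpen (𝒮.deg ⊤ hY) f)) =
      pL ⁻¹ᵁ
        (⨆ V : {V : X.affineOpens //
          ((𝒮L.deg V.1 V.2 d : AddSubgroup (𝒮L.presheaf.obj (op (V.1 : X.Opens)))) : Set (𝒮L.presheaf.obj (op (V.1 : X.Opens)))) ⊆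
            (Ideal.span {(u.appLE ⊤ (V.1 : X.Opens) (le_top.trans (Scheme.Hom.preimage_top q).ge)).hom f} : Set (𝒮L.presheaf.obj (op (V.1 : X.Opens))))},
          (V.1.1 : X.Opens)) := by
  refine SetLike.ext fun y => ?_
  constructor
  · rintro ⟨x, hx, rfl⟩
    obtain ⟨V, hV, hyV, hg⟩ := (genAt_top_iff u hY d f _).1
      ((mem_preimage_iff u hj hLq hL hP hPL hr ⊤ hY hd f hf x).1 hx)
    exact Opens.mem_iSup.2 ⟨⟨⟨V, hV⟩, hg⟩, hyV⟩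
  · intro h
    obtain ⟨⟨⟨V, hV⟩, hg⟩, hyV⟩ := Opens.mem_iSup.1 (show pL y ∈ _ from h)
    have hgen : GenAt 𝒮L u ⊤ d f (pL y) := (genAt_top_iff u hY d f _).2 ⟨V, hV, hyV, hg⟩
    exact ⟨⟨y, mem_domQ_of_genAt u hj hLq hL hPL ⊤ hY hd f hf y hgen⟩,
      (mem_preimage_iff u hj hLq hL hP hPL hr ⊤ hY hd f hf ⟨y, _⟩).2 hgen, rfl⟩

include hj hLq hL hP hPL in
theorem domQ_eq_top_iff (hY : IsAffineOpen (⊤ : Y.Opens)) :
    RelProj.domQ u pL chartL = ⊤ ↔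
      ∀ x : X, ∃ (n : ℕ) (_ : 0 < n) (s : 𝒮.presheaf.obj (op ⊤)) (_ : s ∈ 𝒮.deg ⊤ hY n)
        (V : X.Opens) (hV : IsAffineOpen V), x ∈ V ∧
          ((𝒮L.deg V hV n : AddSubgroup (𝒮L.presheaf.obj (op V))) : Set (𝒮L.presheaf.obj (op V))) ⊆
            (Ideal.span {(u.appLE ⊤ V (le_top.trans (Scheme.Hom.preimage_top q).ge)).hom s} : Set (𝒮L.presheaf.obj (op V))) := by
  haveI := isIso_pL hj hLq hPL hL
  constructor
  · intro h x
    obtain ⟨y, rfl⟩ := pL.homeomorph.surjective x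
    obtain ⟨v, hv, -⟩ := EGA2Misc.existsUnique_projQMapOn u hP hPL
    have hy : y ∈ RelProj.domQ u pL chartL := by rw [h]; trivial
    obtain ⟨w, hw⟩ : v ⟨y, hy⟩ ∈ (RelProj.emb p chart ⊤ hY).opensRange := by
      rw [EGA2Misc.opensRange_emb]; trivial
    obtain ⟨d, f, hd, hf, hwf, -⟩ := exists_mem_basicOpen_le (show w ∈ (⊤ : (Proj (𝒮.deg ⊤ hY)).Opens) from trivial)
    obtain ⟨V, hV, hyV, hg⟩ := (genAt_top_iff u hY d f _).1
      ((mem_preimage_iff u hj hLq hL hP hPL hv ⊤ hY hd f hf ⟨y, hy⟩).1 ⟨w, hwf, hw⟩)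
    exact ⟨d, hd, f, hf, V, hV, hyV, hg⟩
  · intro h
    rw [eq_top_iff]
    intro y _
    obtain ⟨n, hn, s, hs, V, hV, hx, hg⟩ := h (pL y)
    exact mem_domQ_of_genAt u hj hLq hL hPL ⊤ hY hn s hs y ((genAt_top_iff u hY n s _).2 ⟨V, hV, hx, hg⟩)

include hj hLq hL hP hPL hr in
theorem isDominant_iff (hY : IsAffineOpen (⊤ : Y.Opens)) :
    IsDominant r ↔
      ∀ (n : ℕ), 0 < n → ∀ s ∈ 𝒮.deg ⊤ hY n,
        (∀ x : X, ∃ (V : X.Opens) (_ : IsAffineOpen V), x ∈ V ∧ IsNilpotent ((u.appLE ⊤ V (le_top.trans (Scheme.Hom.preimage_top q).ge)).hom s)) →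
          IsNilpotent s := by
  haveI := isIso_pL hj hLq hPL hL
  let e := RelProj.emb p chart ⊤ hY
  constructor
  · intro hdom n hn s hs hloc
    refine isNilpotent_of_basicOpen_eq_bot hs hn ?_
    rw [eq_bot_iff]
    intro w hw
    obtain ⟨_, hxW, x, rfl⟩ := hdom.denseRange.inter_open_nonempty _ (e ''ᵁ Proj.basicOpen (𝒮.deg ⊤ hY) s).2
      ⟨e w, w, hw, rfl⟩
    obtain ⟨V₁, hV₁, hle₁, hxV₁, hg⟩ := (mem_preimage_iff u hj hLq hL hP hPL hr ⊤ hY hn s hs x).1 hxW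
    obtain ⟨V, hV, hxV, hnil⟩ := hloc (pL x.1)
    have hle : V ≤ q ⁻¹ᵁ ⊤ := le_top.trans (Scheme.Hom.preimage_top q).ge
    have h1 : x.1 ∈ RelProj.emb pL chartL V₁ hV₁ ''ᵁ
        Proj.basicOpen (𝒮L.deg V₁ hV₁) (u.gradedAt ⊤ hY V₁ hV₁ hle₁ s) := by
      refine (mem_emb_iff_gens hj hLq hPL hL V₁ hV₁ hn _ ((u.gradedAt ⊤ hY V₁ hV₁ hle₁).map_mem hs) x.1 hxV₁).2
        ⟨V₁, hV₁, le_rfl, hxV₁, ?_⟩
      exact (congrArg (Gens 𝒮L V₁ hV₁ n) (res_gradedAt u ⊤ hY V₁ hV₁ hle₁ V₁ hV₁ le_rfl s)).mpr hg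
    obtain ⟨a, b, hab, hxa⟩ := exists_basicOpen_le_affine_inter hV₁ hV (pL x.1) ⟨hxV₁, hxV⟩
    have hW := hV₁.basicOpen a
    have h2 := (EGA2Misc.mem_emb_res_iff hPL V₁ hV₁ _ hW a rfl (X.basicOpen_le a) x.1 hxa _).2 h1
    have h3 : 𝒮L.res hV₁ hW (X.basicOpen_le a) (u.gradedAt ⊤ hY V₁ hV₁ hle₁ s) =
        𝒮L.res hV hW (hab ▸ X.basicOpen_le b) (u.gradedAt ⊤ hY V hV hle s) := by
      rw [res_gradedAt, res_gradedAt]
    have hnil' : IsNilpotent (u.gradedAt ⊤ hY V hV hle s) := hnil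
    rw [h3] at h2
    obtain ⟨v, h4, -⟩ := h2
    exact (SetLike.ext_iff.1 (basicOpen_eq_bot_of_isNilpotent
      (hnil'.map (𝒮L.res hV hW (hab ▸ X.basicOpen_le b)))) v).1 h4
  · intro h
    refine ⟨dense_iff_inter_open.2 fun O hO hne => ?_⟩
    obtain ⟨y₀, hy₀⟩ := hne
    obtain ⟨w, hw⟩ : y₀ ∈ e.opensRange := by rw [EGA2Misc.opensRange_emb]; trivial
    obtain ⟨d, f, hd, hf, hwf, hfO⟩ := exists_mem_basicOpen_le (W := e ⁻¹ᵁ ⟨O, hO⟩) (w := w)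
      (show e w ∈ O from hw ▸ hy₀)
    by_contra hcon
    have hnone : ∀ x : X, ¬ GenAt 𝒮L u ⊤ d f x := by
      intro x hgen
      obtain ⟨y, rfl⟩ := pL.homeomorph.surjective x
      have hy := mem_domQ_of_genAt u hj hLq hL hPL ⊤ hY hd f hf y hgen
      obtain ⟨w', hw', hr'⟩ := (mem_preimage_iff u hj hLq hL hP hPL hr ⊤ hY hd f hf ⟨y, hy⟩).2 hgen
      exact hcon ⟨r ⟨y, hy⟩, hr' ▸ hfO hw', ⟨y, hy⟩, rfl⟩
    have hnil : IsNilpotent f := by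
      refine h d hd f hf fun x => ?_
      obtain ⟨V, hV, hxV, -, e', he'⟩ := exists_isFrame hL (show x ∈ (⊤ : X.Opens) from trivial)
      have hle : V ≤ q ⁻¹ᵁ ⊤ := le_top.trans (Scheme.Hom.preimage_top q).ge
      refine ⟨V, hV, hxV, ?_⟩
      obtain ⟨c, hc⟩ : ∃ c, u.gradedAt ⊤ hY V hV hle f = (𝒮L.str.app (op V)).hom c * tgen j e' ^ d :=
        exists_eq_of_mem_deg hj hLq hV he' ((u.gradedAt ⊤ hY V hV hle).map_mem hf)
      have hbot : X.basicOpen c = ⊥ := by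
        rw [eq_bot_iff]
        intro x' hx'
        obtain ⟨y, rfl⟩ := pL.homeomorph.surjective x'
        refine (hnone (pL y) ?_).elim
        refine (exists_mem_emb_iff_genAt u hj hLq hL hPL ⊤ hY hd f hf y).1 ⟨V, hV, hle, ?_⟩
        rw [hc, mem_emb_frame_iff hj hLq hV he' hPL c d hd y (X.basicOpen_le c hx')]
        exact hx'
      have hcnil : IsNilpotent c := by
        rw [← PrimeSpectrum.basicOpen_eq_bot_iff]
        rw [← hV.fromSpec_preimage_basicOpen c, hbot]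
        rfl
      show IsNilpotent (u.gradedAt ⊤ hY V hV hle f)
      rw [hc]
      exact (Commute.all _ _).isNilpotent_mul_right (hcnil.map _)
    rw [basicOpen_eq_bot_of_isNilpotent hnil] at hwf
    exact hwf

section Colim

variable {Λ : Type u} [Preorder Λ] {𝒯 : Λ → RelProj.QCGrAlg Y}
  (φ : ∀ i, (𝒯 i).toQCAlg ⟶ 𝒮.toQCAlg) (hφ : ∀ i, RelProj.IsGradedHom (φ i))
  (ui : ∀ i, RelProj.QGrHom q (𝒯 i) 𝒮L) (hui : ∀ i (U : Y.Opens), (ui i).app U = (φ i).hom.app (op U) ≫ u.app U)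

include hui hφ in
theorem domQ_le_of_comp (i : Λ) :
    RelProj.domQ (ui i) pL chartL ≤ RelProj.domQ u pL chartL := by
  intro y hy
  obtain ⟨U, hU, U', hU', hle, d, hd, b, hb, hyb⟩ := EGA2Misc.domChart_cover (ui i) ⟨y, hy⟩
  have hm := (EGA2Misc.mem_domChart (ui i) ⟨y, hy⟩ U hU U' hU' hle hd b hb).1 hyb
  rw [EGA2Misc.gradedAt_comp (hui i) (hv := hφ i)] at hm
  exact EGA2Misc.mem_domQ_of_mem_emb u U hU U' hU' hle hd _
    (((RelProj.QGrHom.ofHom (φ i) (hφ i)).gradedAt U hU U hU le_rfl).map_mem hb) y hm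

include hui in
theorem domQ_mono_index (t : ∀ i k, i ≤ k → ((𝒯 i).toQCAlg ⟶ (𝒯 k).toQCAlg))
    (ht : ∀ i k (h : i ≤ k), RelProj.IsGradedHom (t i k h)) (hφt : ∀ i k (h : i ≤ k), t i k h ≫ φ k = φ i)
    {i k : Λ} (h : i ≤ k) :
    RelProj.domQ (ui i) pL chartL ≤ RelProj.domQ (ui k) pL chartL := by
  refine domQ_le_of_comp (ui k) (𝒯 := fun _ : Λ => 𝒯 i) (fun _ => t i k h) (fun _ => ht i k h)
    (fun _ => ui i) (fun _ U => ?_) i
  rw [hui, hui, ← hφt i k h, RelSpec.QCAlg.comp_hom, NatTrans.comp_app, Category.assoc]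

include hui hφ in
theorem exists_mem_domQ_index
    (hsurj : ∀ (U : Y.Opens), IsAffineOpen U → ∀ x : 𝒮.presheaf.obj (op U),
      ∃ (i : Λ) (z : (𝒯 i).presheaf.obj (op U)), ((φ i).hom.app (op U)).hom z = x)
    {y : PL} (hy : y ∈ RelProj.domQ u pL chartL) : ∃ i, y ∈ RelProj.domQ (ui i) pL chartL := by
  obtain ⟨U, hU, U', hU', hle, d, hd, b, hb, hyb⟩ := EGA2Misc.domChart_cover u ⟨y, hy⟩
  have hm := (EGA2Misc.mem_domChart u ⟨y, hy⟩ U hU U' hU' hle hd b hb).1 hyb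
  obtain ⟨i, z, hz⟩ := hsurj U hU b
  letI := (𝒯 i).graded U hU
  letI := 𝒮.graded U hU
  let ν := (RelProj.QGrHom.ofHom (φ i) (hφ i)).gradedAt U hU U hU le_rfl
  let z' : (𝒯 i).presheaf.obj (op U) := DirectSum.decompose ((𝒯 i).deg U hU) z d
  have hz' : ν z' = b := by
    show ν (DirectSum.decompose ((𝒯 i).deg U hU) z d) = b
    rw [GradedRingHom.map_directSumDecompose, EGA2Misc.gradedAt_ofHom_apply, hz]
    exact DirectSum.decompose_of_mem_same _ hb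
  refine ⟨i, EGA2Misc.mem_domQ_of_mem_emb (ui i) U hU U' hU' hle hd z' (SetLike.coe_mem _) y ?_⟩
  rw [EGA2Misc.gradedAt_comp (hui i) (hv := hφ i)]
  rw [← hz'] at hm
  exact hm

end Colim

end Groth.Agent.SymAlgRel
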