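import Mathlib
import Groth.Prelude.Def_RelProj4
import Groth.Agent.SymAlgRel.RLpsi

/-!
# When the morphism `r_{L,ψ}` into a relative `Proj` is an immersion
-/

noncomputable section

universe u

open CategoryTheory CategoryTheory.Limits AlgebraicGeometry TopologicalSpace Opposite
open HomogeneousLocalization
open scoped HomogeneousIdeal
open Groth.Agent.QCohBase Groth.Agent.GenLocus

namespace Groth.Agent.SymAlgRel

theorem isClosedImmersion_specMap_iff {R S : CommRingCat.{u}} (f : R ⟶ S) :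
    IsClosedImmersion (Spec.map f) ↔ Function.Surjective f := by
  refine ⟨fun h => ?_, IsClosedImmersion.spec_of_surjective f⟩
  have h1 := (IsClosedImmersion.isAffine_surjective_of_isAffine (Spec.map f)).2
  have h2 := Scheme.ΓSpecIso_naturality f
  intro y
  obtain ⟨x, hx⟩ := h1 ((Scheme.ΓSpecIso S).inv y)
  refine ⟨(Scheme.ΓSpecIso R).hom x, ?_⟩
  have h3 := ConcreteCategory.congr_hom h2 x
  rw [CommRingCat.comp_apply, CommRingCat.comp_apply, hx] at h3
  rw [← h3]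
  exact ConcreteCategory.congr_hom (Scheme.ΓSpecIso S).inv_hom_id y

theorem restrict_iSup {Z P : Scheme.{u}} (g : Z ⟶ P) (Q : MorphismProperty Scheme.{u})
    [IsZariskiLocalAtTarget Q] {ι : Type u} (W : ι → P.Opens) (h : ∀ a, Q (g ∣_ W a)) :
    Q (g ∣_ ⨆ a, W a) := by
  refine IsZariskiLocalAtTarget.of_iSup_eq_top (fun a => (⨆ a, W a).ι ⁻¹ᵁ W a) ?_ fun a => ?_
  · rw [eq_top_iff]
    intro y _
    obtain ⟨a, ha⟩ := Opens.mem_iSup.1 y.2
    exact Opens.mem_iSup.2 ⟨a, ha⟩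
  · refine (Q.arrow_mk_iso_iff (morphismRestrictRestrict g _ _ ≪≫ morphismRestrictEq g ?_)).2 (h a)
    rw [Scheme.Hom.image_preimage_eq_opensRange_inf, Scheme.Opens.opensRange_ι]
    exact inf_eq_right.2 (le_iSup W a)

theorem exists_comp_restrict {Z P : Scheme.{u}} (g : Z ⟶ P) (O : P.Opens) (hO : ∀ z, g z ∈ O) :
    ∃ (i : Z ⟶ (g ⁻¹ᵁ O : Z.Opens)), IsIso i ∧ g = i ≫ (g ∣_ O) ≫ O.ι := by
  have htop : g ⁻¹ᵁ O = ⊤ := eq_top_iff.2 fun z _ => hO z
  haveI : IsIso (g ⁻¹ᵁ O).ι := by rw [htop]; exact inferInstanceAs (IsIso Z.topIso.hom)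
  exact ⟨inv (g ⁻¹ᵁ O).ι, inferInstance, by rw [morphismRestrict_ι, IsIso.inv_hom_id_assoc]⟩

theorem isClosedImmersion_restrict_of_le {Z P : Scheme.{u}} (g : Z ⟶ P) [IsImmersion g] (W : P.Opens)
    (hW : W ≤ g.coborderRange) : IsClosedImmersion (g ∣_ W) := by
  have hiso : IsIso (g.coborderRange.ι ∣_ W) := by
    rw [isIso_iff_isOpenImmersion_and_surjective]
    refine ⟨IsZariskiLocalAtTarget.restrict (P := @IsOpenImmersion) inferInstance W, ⟨fun y => ?_⟩⟩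
    exact ⟨⟨⟨y.1, hW y.2⟩, y.2⟩, Subtype.ext (morphismRestrict_base_coe _ _ _)⟩
  have h1 : IsClosedImmersion ((g.liftCoborder ≫ g.coborderRange.ι) ∣_ W) := by
    rw [morphismRestrict_comp]
    haveI := hiso
    exact (MorphismProperty.cancel_right_of_respectsIso @IsClosedImmersion _ _).2
      (IsZariskiLocalAtTarget.restrict (P := @IsClosedImmersion) inferInstance _)
  exact g.liftCoborder_ι.subst (motive := fun φ => IsClosedImmersion (φ ∣_ W)) h1

variable {Y X P PL : Scheme.{u}} {q : X ⟶ Y} {L : X.Modules} {𝒮 : RelProj.QCGrAlg Y} {𝒮L : RelProj.QCGrAlg X}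
  {j : L ⟶ 𝒮L.toModule} (u : RelProj.QGrHom q 𝒮 𝒮L)
  {p : P ⟶ Y} {chart : ∀ (U : Y.Opens) (hU : IsAffineOpen U), (((p ⁻¹ᵁ U : P.Opens) : Scheme.{u}) ≅ Proj (𝒮.deg U hU))}
  {pL : PL ⟶ X} {chartL : ∀ (U : X.Opens) (hU : IsAffineOpen U), (((pL ⁻¹ᵁ U : PL.Opens) : Scheme.{u}) ≅ Proj (𝒮L.deg U hU))}

/-- the open `X_f` -/
def xs (U : Y.Opens) (d : ℕ) (f : 𝒮.presheaf.obj (op U)) : X.Opens :=
  ⨆ V : {V : X.affineOpens // ∃ hle : (V : X.Opens) ≤ q ⁻¹ᵁ U,
    Gens 𝒮L V.1 V.2 d ((u.appLE U V.1 hle).hom f)}, (V.1.1 : X.Opens)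

theorem mem_xs {U : Y.Opens} {d : ℕ} {f : 𝒮.presheaf.obj (op U)} {x : X} :
    x ∈ xs u U d f ↔ GenAt 𝒮L u U d f x := by
  refine ⟨fun h => ?_, fun ⟨V, hV, hle, hx, hg⟩ => Opens.mem_iSup.2 ⟨⟨⟨V, hV⟩, hle, hg⟩, hx⟩⟩
  obtain ⟨⟨⟨V, hV⟩, hle, hg⟩, hx⟩ := Opens.mem_iSup.1 h
  exact ⟨V, hV, hle, hx, hg⟩

theorem xs_le (U : Y.Opens) (d : ℕ) (f : 𝒮.presheaf.obj (op U)) : xs u U d f ≤ q ⁻¹ᵁ U :=
  iSup_le fun V => V.2.1

theorem xs_top_eq (d : ℕ) (f : 𝒮.presheaf.obj (op ⊤)) :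
    (⨆ V : {V : X.affineOpens //
      ((𝒮L.deg V.1 V.2 d : AddSubgroup (𝒮L.presheaf.obj (op (V.1 : X.Opens)))) : Set (𝒮L.presheaf.obj (op (V.1 : X.Opens)))) ⊆
        (Ideal.span {(u.appLE ⊤ (V.1 : X.Opens) (le_top.trans (Scheme.Hom.preimage_top q).ge)).hom f} : Set (𝒮L.presheaf.obj (op (V.1 : X.Opens))))},
      (V.1.1 : X.Opens)) = xs u ⊤ d f :=
  le_antisymm (iSup_le fun V x hx => Opens.mem_iSup.2 ⟨⟨V.1, le_top.trans (Scheme.Hom.preimage_top q).ge, V.2⟩, hx⟩)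
    (iSup_le fun V x hx => Opens.mem_iSup.2 ⟨⟨V.1, V.2.2⟩, hx⟩)

/-- every function on the open `T` is a fraction `u(a) / u(f) ^ m` -/
def Frac (U : Y.Opens) (hU : IsAffineOpen U) (T : X.Opens) (hle : T ≤ q ⁻¹ᵁ U) (d : ℕ)
    (f : 𝒮.presheaf.obj (op U)) : Prop :=
  ∀ t : X.presheaf.obj (op T), ∃ (m : ℕ) (_ : 0 < m) (a : 𝒮.presheaf.obj (op U)) (_ : a ∈ 𝒮.deg U hU (m * d)),
    (𝒮L.str.app (op T)).hom t * ((u.appLE U T hle).hom f) ^ m = (u.appLE U T hle).hom a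

/-- what `u` kills in degrees divisible by `d` is killed by a power of `f` -/
def Tors (U : Y.Opens) (hU : IsAffineOpen U) (T : X.Opens) (hle : T ≤ q ⁻¹ᵁ U) (d : ℕ)
    (f : 𝒮.presheaf.obj (op U)) : Prop :=
  ∀ (m : ℕ), 0 < m → ∀ a ∈ 𝒮.deg U hU (m * d), (u.appLE U T hle).hom a = 0 → ∃ k : ℕ, 0 < k ∧ f ^ k * a = 0

variable (hj : RelProj.IsGrSymAlg L 𝒮L j) (hLq : Coh.IsQCoh L) (hL : PicF.IsInvertible L)
  (hP : RelProj.IsRelProj 𝒮 p chart) (hPL : RelProj.IsRelProj 𝒮L pL chartL)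

section chart

variable (U : Y.Opens) (hU : IsAffineOpen U) {d : ℕ} (hd : 0 < d)
  (f : 𝒮.presheaf.obj (op U)) (hf : f ∈ 𝒮.deg U hU d) (hT : IsAffineOpen (xs u U d f))

include hj hLq hL hPL hd hf in
theorem mem_emb_xs (y : PL) (hy : pL y ∈ xs u U d f) :
    y ∈ RelProj.emb pL chartL (xs u U d f) hT ''ᵁ
      Proj.basicOpen (𝒮L.deg (xs u U d f) hT) (u.gradedAt U hU (xs u U d f) hT (xs_le u U d f) f) := by
  obtain ⟨⟨⟨V, hV⟩, hle, hg⟩, hx⟩ := Opens.mem_iSup.1 hy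
  have hVT : V ≤ xs u U d f := fun z hz => Opens.mem_iSup.2 ⟨⟨⟨V, hV⟩, hle, hg⟩, hz⟩
  refine (mem_emb_iff_gens hj hLq hPL hL _ hT hd _
    ((u.gradedAt U hU _ hT (xs_le u U d f)).map_mem hf) y hy).2 ⟨V, hV, hVT, hx, ?_⟩
  exact (congrArg (Gens 𝒮L V hV d) (res_gradedAt u U hU _ hT (xs_le u U d f) V hV hVT f)).mpr hg

include hj hLq hL hPL hd hf in
theorem bijective_base :
    Function.Bijective ((fromZeroRingHom (𝒮L.deg (xs u U d f) hT)
      (Submonoid.powers (u.gradedAt U hU (xs u U d f) hT (xs_le u U d f) f))).comp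
        (𝒮L.strZero (xs u U d f) hT).hom) := by
  haveI := isIso_pL hj hLq hPL hL
  let T := xs u U d f
  let ψ := u.gradedAt U hU T hT (xs_le u U d f)
  let a := Proj.awayι (𝒮L.deg T hT) (ψ f) (ψ.map_mem hf) hd ≫ RelProj.emb pL chartL T hT
  let β := 𝒮L.strZero T hT ≫ CommRingCat.ofHom (fromZeroRingHom (𝒮L.deg T hT) (Submonoid.powers (ψ f)))
  have hcomp : a ≫ pL = Spec.map β ≫ hT.fromSpec := by
    simp only [a, β, Category.assoc, EGA2Misc.emb_comp hPL, Proj.awayι_toSpecZero_assoc, Spec.map_comp]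
  haveI : IsOpenImmersion (Spec.map β) := by
    haveI : IsOpenImmersion (Spec.map β ≫ hT.fromSpec) := hcomp ▸ inferInstance
    exact IsOpenImmersion.of_comp _ hT.fromSpec
  have hsurj : Function.Surjective (Spec.map β) := by
    intro z
    obtain ⟨y, hy⟩ := pL.homeomorph.surjective (hT.fromSpec z)
    have hyT : pL y ∈ T := by
      have : hT.fromSpec z ∈ (T : Set X) := by rw [← hT.range_fromSpec]; exact ⟨z, rfl⟩
      exact (show pL y = hT.fromSpec z from hy) ▸ this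
    obtain ⟨w, hw, rfl⟩ := mem_emb_xs u hj hLq hL hPL U hU hd f hf hT y hyT
    obtain ⟨v, rfl⟩ := (Proj.opensRange_awayι (𝒮L.deg T hT) (ψ f) (ψ.map_mem hf) hd).ge hw
    refine ⟨v, hT.fromSpec.isOpenEmbedding.injective ?_⟩
    rw [← Scheme.Hom.comp_apply, ← hcomp, ← hy, Scheme.Hom.comp_apply]
    rfl
  haveI : IsIso (Spec.map β) := (isIso_iff_isOpenImmersion_and_surjective _).2 ⟨inferInstance, ⟨hsurj⟩⟩
  exact (isIso_SpecMap_iff).1 (inferInstance : IsIso (Spec.map β))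

include hj hLq hL hPL hd hf in
theorem surjective_away_iff :
    Function.Surjective (Away.map (u.gradedAt U hU (xs u U d f) hT (xs_le u U d f)) f) ↔
      Frac u U hU (xs u U d f) (xs_le u U d f) d f := by
  let T := xs u U d f
  let ψ := u.gradedAt U hU T hT (xs_le u U d f)
  have hψf : ∀ x, ψ x = (u.appLE U T (xs_le u U d f)).hom x := fun _ => rfl
  have hb := bijective_base u hj hLq hL hPL U hU hd f hf hT
  constructor
  · intro hs t
    obtain ⟨q', hq'⟩ := hs ((fromZeroRingHom (𝒮L.deg T hT) (Submonoid.powers (ψ f))).comp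
      (𝒮L.strZero T hT).hom t)
    obtain ⟨k, a, ha, rfl⟩ := Away.mk_surjective (𝒮.deg U hU) hf q'
    have h1 := congrArg HomogeneousLocalization.val hq'
    rw [Away.map_mk, Away.val_mk] at h1
    replace h1 : Localization.mk (ψ a) (⟨ψ f ^ k, k, rfl⟩ : Submonoid.powers (ψ f)) =
        Localization.mk ((𝒮L.str.app (op T)).hom t) 1 := h1
    rw [Localization.mk_eq_mk_iff, Localization.r_iff_exists] at h1
    obtain ⟨⟨_, m, rfl⟩, hm⟩ := h1
    refine ⟨m + k + 1, Nat.succ_pos _, f ^ (m + 1) * a, ?_, ?_⟩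
    · have h2 := SetLike.mul_mem_graded (A := 𝒮.deg U hU) (SetLike.pow_mem_graded (m + 1) hf) ha
      simp only [smul_eq_mul] at h2
      convert h2 using 2
      ring
    · rw [← hψf, ← hψf, map_mul, map_pow]
      simp only [OneMemClass.coe_one, one_mul] at hm
      calc (𝒮L.str.app (op T)).hom t * ψ f ^ (m + k + 1)
          = ψ f ^ m * (ψ f ^ k * (𝒮L.str.app (op T)).hom t) * ψ f := by ring
        _ = ψ f ^ m * ψ a * ψ f := by rw [← hm]
        _ = ψ f ^ (m + 1) * ψ a := by ring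
  · intro hfr q'
    obtain ⟨t, rfl⟩ := hb.2 q'
    obtain ⟨m, hm0, a, ha, hma⟩ := hfr t
    refine ⟨Away.mk (𝒮.deg U hU) hf m a (by simpa using ha), HomogeneousLocalization.val_injective _ ?_⟩
    rw [Away.map_mk, Away.val_mk]
    show _ = Localization.mk ((𝒮L.str.app (op T)).hom t) 1
    rw [Localization.mk_eq_mk_iff, Localization.r_iff_exists]
    refine ⟨1, ?_⟩
    simp only [OneMemClass.coe_one, one_mul]
    exact (hma.symm.trans (mul_comm _ _))

include hf in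
theorem injective_away_iff :
    Function.Injective (Away.map (u.gradedAt U hU (xs u U d f) hT (xs_le u U d f)) f) ↔
      Tors u U hU (xs u U d f) (xs_le u U d f) d f := by
  let T := xs u U d f
  let ψ := u.gradedAt U hU T hT (xs_le u U d f)
  have hψf : ∀ x, ψ x = (u.appLE U T (xs_le u U d f)).hom x := fun _ => rfl
  constructor
  · intro hinj m hm a ha h0
    have h1 : Away.map ψ f (Away.mk (𝒮.deg U hU) hf m a (by simpa using ha)) = 0 := by
      refine HomogeneousLocalization.val_injective _ ?_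
      rw [Away.map_mk, Away.val_mk, HomogeneousLocalization.val_zero, Localization.mk_eq_mk',
        IsLocalization.mk'_eq_zero_iff]
      exact ⟨1, (congrArg (_ * ·) h0).trans (mul_zero _)⟩
    have h2 := congrArg HomogeneousLocalization.val (hinj (h1.trans (map_zero _).symm))
    rw [Away.val_mk, HomogeneousLocalization.val_zero, Localization.mk_eq_mk',
      IsLocalization.mk'_eq_zero_iff] at h2
    obtain ⟨⟨_, k, rfl⟩, hk⟩ := h2
    exact ⟨k + 1, Nat.succ_pos _, by rw [pow_succ', mul_assoc]; exact (congrArg (f * ·) hk).trans (mul_zero f)⟩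
  · intro htor
    rw [injective_iff_map_eq_zero]
    intro q' hq'
    obtain ⟨k, a, ha, rfl⟩ := Away.mk_surjective (𝒮.deg U hU) hf q'
    have h1 := congrArg HomogeneousLocalization.val hq'
    rw [Away.map_mk, Away.val_mk, HomogeneousLocalization.val_zero, Localization.mk_eq_mk',
      IsLocalization.mk'_eq_zero_iff] at h1
    obtain ⟨⟨_, m, rfl⟩, hm⟩ := h1
    obtain ⟨i, -, hi⟩ := htor (m + 1 + k) (by omega) (f ^ (m + 1) * a) (by
      have h2 := SetLike.mul_mem_graded (A := 𝒮.deg U hU) (SetLike.pow_mem_graded (m + 1) hf) ha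
      simpa [add_mul] using h2) (by
      rw [← hψf, map_mul, map_pow, pow_succ', mul_assoc]
      exact (congrArg (ψ f * ·) hm).trans (mul_zero _))
    refine HomogeneousLocalization.val_injective _ ?_
    rw [Away.val_mk, HomogeneousLocalization.val_zero, Localization.mk_eq_mk', IsLocalization.mk'_eq_zero_iff]
    exact ⟨⟨f ^ (i + (m + 1)), _, rfl⟩, by show f ^ (i + (m + 1)) * a = 0; rw [pow_add, mul_assoc]; exact hi⟩

end chart

variable {r : ((RelProj.domQ u pL chartL : PL.Opens) : Scheme.{u}) ⟶ P}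
  (hr : RelProj.IsProjQMapOn u p chart pL chartL (RelProj.domQ u pL chartL) r)

section chart

variable (U : Y.Opens) (hU : IsAffineOpen U) {d : ℕ} (hd : 0 < d)
  (f : 𝒮.presheaf.obj (op U)) (hf : f ∈ 𝒮.deg U hU d)

include hj hLq hL hP hPL hr hd hf in
theorem restrict_iff (hT : IsAffineOpen (xs u U d f)) (Q : MorphismProperty Scheme.{u}) [Q.RespectsIso] :
    Q (r ∣_ (RelProj.emb p chart U hU ''ᵁ Proj.basicOpen (𝒮.deg U hU) f)) ↔
      Q (Spec.map (CommRingCat.ofHom (Away.map (u.gradedAt U hU (xs u U d f) hT (xs_le u U d f)) f))) := by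
  let T := xs u U d f
  let ψ := u.gradedAt U hU T hT (xs_le u U d f)
  let dc := EGA2Misc.domChart u pL chartL U hU T hT (xs_le u U d f) hd f hf
  let W₀ := RelProj.emb p chart U hU ''ᵁ Proj.basicOpen (𝒮.deg U hU) f
  have hrange : dc.opensRange = r ⁻¹ᵁ W₀ := by
    refine SetLike.ext fun z => ?_
    refine (EGA2Misc.mem_domChart u z U hU T hT (xs_le u U d f) hd f hf).trans ?_
    refine Iff.trans ?_ (mem_preimage_iff u hj hLq hL hP hPL hr U hU hd f hf z).symm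
    rw [← mem_xs]
    exact ⟨fun h => EGA2Misc.mem_of_mem_emb h, mem_emb_xs u hj hLq hL hPL U hU hd f hf hT z.1⟩
  let e := dc.isoOpensRange ≪≫ Scheme.isoOfEq _ hrange
  let k := Proj.awayι (𝒮.deg U hU) f hf hd ≫ RelProj.emb p chart U hU
  have hk : k.opensRange = W₀ := by rw [Scheme.Hom.opensRange_comp, Proj.opensRange_awayι]
  let a' := k.isoOpensRange ≪≫ Scheme.isoOfEq _ hk
  have haE : dc ≫ r = Spec.map (CommRingCat.ofHom (Away.map ψ f)) ≫ k := hr U hU T hT (xs_le u U d f) d hd f hf _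
  have h1 : e.hom ≫ r ∣_ W₀ = Spec.map (CommRingCat.ofHom (Away.map ψ f)) ≫ a'.hom := by
    rw [← cancel_mono W₀.ι, Category.assoc, morphismRestrict_ι, Category.assoc]
    refine Eq.trans ?_ (haE.trans ?_)
    · simp only [e, Iso.trans_hom, Category.assoc]
      exact (congrArg (dc.isoOpensRange.hom ≫ ·) (Scheme.isoOfEq_hom_ι_assoc _ _ _)).trans
        (Scheme.Hom.isoOpensRange_hom_ι_assoc _ _)
    · congr 1
      simp only [a', Iso.trans_hom, Category.assoc]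
      exact ((congrArg (k.isoOpensRange.hom ≫ ·) (Scheme.isoOfEq_hom_ι _ _)).trans
        (Scheme.Hom.isoOpensRange_hom_ι _)).symm
  refine (MorphismProperty.cancel_left_of_respectsIso Q e.hom _).symm.trans ?_
  rw [h1]
  exact MorphismProperty.cancel_right_of_respectsIso Q _ a'.hom

include hj hLq hL hP hPL hr hd hf in
theorem isClosedImmersion_restrict_iff (hT : IsAffineOpen (xs u U d f)) :
    IsClosedImmersion (r ∣_ (RelProj.emb p chart U hU ''ᵁ Proj.basicOpen (𝒮.deg U hU) f)) ↔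
      Frac u U hU (xs u U d f) (xs_le u U d f) d f := by
  exact ((restrict_iff u hj hLq hL hP hPL hr U hU hd f hf hT @IsClosedImmersion).trans
    (isClosedImmersion_specMap_iff _)).trans (surjective_away_iff u hj hLq hL hPL U hU hd f hf hT)

include hj hLq hL hP hPL hr hd hf in
theorem isIso_restrict_iff (hT : IsAffineOpen (xs u U d f)) :
    IsIso (r ∣_ (RelProj.emb p chart U hU ''ᵁ Proj.basicOpen (𝒮.deg U hU) f)) ↔
      Frac u U hU (xs u U d f) (xs_le u U d f) d f ∧ Tors u U hU (xs u U d f) (xs_le u U d f) d f := by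
  refine (restrict_iff u hj hLq hL hP hPL hr U hU hd f hf hT (MorphismProperty.isomorphisms Scheme)).trans ?_
  rw [MorphismProperty.isomorphisms.iff, isIso_SpecMap_iff,
    ← surjective_away_iff u hj hLq hL hPL U hU hd f hf hT, ← injective_away_iff u U hU f hf hT]
  exact and_comm

include hj hLq hL hP hPL hr hd hf in
theorem isAffineOpen_xs (htop : RelProj.domQ u pL chartL = ⊤)
    (h : IsClosedImmersion (r ∣_ (RelProj.emb p chart U hU ''ᵁ Proj.basicOpen (𝒮.deg U hU) f))) :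
    IsAffineOpen (xs u U d f) := by
  let D := RelProj.domQ u pL chartL
  haveI := isIso_pL hj hLq hPL hL
  haveI : IsIso D.ι := by
    show IsIso (RelProj.domQ u pL chartL).ι
    rw [htop]; exact inferInstanceAs (IsIso PL.topIso.hom)
  let W₀ := RelProj.emb p chart U hU ''ᵁ Proj.basicOpen (𝒮.deg U hU) f
  have hW : IsAffineOpen W₀ := by
    have := isAffineOpen_opensRange (Proj.awayι (𝒮.deg U hU) f hf hd ≫ RelProj.emb p chart U hU)
    rwa [Scheme.Hom.opensRange_comp, Proj.opensRange_awayι] at this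
  haveI : IsAffine W₀ := hW
  haveI := h
  have hA : IsAffineOpen (r ⁻¹ᵁ W₀) := isAffine_of_isAffineHom (r ∣_ W₀)
  let e := D.ι ≫ pL
  have him : e ''ᵁ (r ⁻¹ᵁ W₀) = xs u U d f := by
    refine SetLike.ext fun x => ⟨?_, fun hx => ?_⟩
    · rintro ⟨z, hz, rfl⟩
      exact (mem_xs u).2 ((mem_preimage_iff u hj hLq hL hP hPL hr U hU hd f hf z).1 hz)
    · obtain ⟨z, rfl⟩ := e.homeomorph.surjective x
      exact ⟨z, (mem_preimage_iff u hj hLq hL hP hPL hr U hU hd f hf z).2 ((mem_xs u).1 hx), rfl⟩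
  exact him ▸ hA.image_of_isOpenImmersion e

end chart

include hj hLq hL hPL in
theorem domQ_eq_top_of_forall
    (h : ∀ x : X, ∃ (U : Y.Opens) (hU : IsAffineOpen U) (d : ℕ) (_ : 0 < d) (f : 𝒮.presheaf.obj (op U))
      (_ : f ∈ 𝒮.deg U hU d), x ∈ xs u U d f) : RelProj.domQ u pL chartL = ⊤ := by
  rw [eq_top_iff]
  intro y _
  obtain ⟨U, hU, d, hd, f, hf, hx⟩ := h (pL y)
  exact mem_domQ_of_genAt u hj hLq hL hPL U hU hd f hf y ((mem_xs u).1 hx)

include hj hLq hL hP hPL hr in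
/-- If standard opens whose preimages cover have good restrictions, so has their union. -/
theorem prop_of_family (Q : MorphismProperty Scheme.{u}) [IsZariskiLocalAtTarget Q] {ι : Type u}
    (U : ι → Y.Opens) (hU : ∀ a, IsAffineOpen (U a)) (d : ι → ℕ) (hd : ∀ a, 0 < d a)
    (f : ∀ a, 𝒮.presheaf.obj (op (U a))) (hf : ∀ a, f a ∈ 𝒮.deg (U a) (hU a) (d a))
    (hcov : ∀ x : X, ∃ a, x ∈ xs u (U a) (d a) (f a))
    (hQ : ∀ a, Q (r ∣_ (RelProj.emb p chart (U a) (hU a) ''ᵁ Proj.basicOpen (𝒮.deg (U a) (hU a)) (f a)))) :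
    RelProj.domQ u pL chartL = ⊤ ∧
      (∀ z, r z ∈ ⨆ a, RelProj.emb p chart (U a) (hU a) ''ᵁ Proj.basicOpen (𝒮.deg (U a) (hU a)) (f a)) ∧
      Q (r ∣_ ⨆ a, RelProj.emb p chart (U a) (hU a) ''ᵁ Proj.basicOpen (𝒮.deg (U a) (hU a)) (f a)) := by
  refine ⟨domQ_eq_top_of_forall u hj hLq hL hPL fun x => ?_, fun z => ?_, restrict_iSup r Q _ hQ⟩
  · obtain ⟨a, ha⟩ := hcov x
    exact ⟨U a, hU a, d a, hd a, f a, hf a, ha⟩
  · obtain ⟨a, ha⟩ := hcov (pL z.1)
    exact Opens.mem_iSup.2 ⟨a, (mem_preimage_iff u hj hLq hL hP hPL hr (U a) (hU a) (hd a) (f a) (hf a) z).2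
      ((mem_xs u).1 ha)⟩

include hj hLq hL hP hPL hr in
theorem isImmersion_of_forall
    (h : ∀ x : X, ∃ (U : Y.Opens) (hU : IsAffineOpen U) (d : ℕ) (_ : 0 < d) (f : 𝒮.presheaf.obj (op U))
      (_ : f ∈ 𝒮.deg U hU d), x ∈ xs u U d f ∧ IsAffineOpen (xs u U d f) ∧
        Frac u U hU (xs u U d f) (xs_le u U d f) d f) :
    RelProj.domQ u pL chartL = ⊤ ∧ IsImmersion r := by
  choose U hU d hd f hf hx hT hF using h
  obtain ⟨h1, h2, h3⟩ := prop_of_family u hj hLq hL hP hPL hr @IsClosedImmersion U hU d hd f hf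
    (fun x => ⟨x, hx x⟩) fun x => (isClosedImmersion_restrict_iff u hj hLq hL hP hPL hr (U x) (hU x) (hd x)
      (f x) (hf x) (hT x)).2 (hF x)
  obtain ⟨i, hi, e⟩ := exists_comp_restrict r _ h2
  haveI := hi
  haveI := h3
  exact ⟨h1, by rw [e]; infer_instance⟩

include hj hLq hL hP hPL hr in
/-- Around every point there is a good standard open. -/
theorem exists_good (htop : RelProj.domQ u pL chartL = ⊤) (O : P.Opens) (hO : ∀ z, r z ∈ O)
    (hQ : ∀ W : P.Opens, W ≤ O → IsClosedImmersion (r ∣_ W)) (x : X) (U : Y.Opens) (hU : IsAffineOpen U)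
    (hxU : q x ∈ U) :
    ∃ (d : ℕ) (_ : 0 < d) (f : 𝒮.presheaf.obj (op U)) (_ : f ∈ 𝒮.deg U hU d),
      x ∈ xs u U d f ∧ RelProj.emb p chart U hU ''ᵁ Proj.basicOpen (𝒮.deg U hU) f ≤ O ∧
        IsAffineOpen (xs u U d f) ∧ Frac u U hU (xs u U d f) (xs_le u U d f) d f := by
  haveI := isIso_pL hj hLq hPL hL
  obtain ⟨y, rfl⟩ := pL.homeomorph.surjective x
  have hy : y ∈ RelProj.domQ u pL chartL := by rw [htop]; trivial
  obtain ⟨w, hw⟩ : r ⟨y, hy⟩ ∈ (RelProj.emb p chart U hU).opensRange := by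
    rw [EGA2Misc.opensRange_emb]
    show p (r ⟨y, hy⟩) ∈ U
    rw [← Scheme.Hom.comp_apply, EGA2Misc.projQMapOn_comp u hP hPL r hr]
    exact hxU
  obtain ⟨d, f, hd, hf, hwf, hfO⟩ := exists_mem_basicOpen_le (W := RelProj.emb p chart U hU ⁻¹ᵁ O)
    (show RelProj.emb p chart U hU w ∈ O from hw.symm ▸ hO ⟨y, hy⟩)
  have hle : RelProj.emb p chart U hU ''ᵁ Proj.basicOpen (𝒮.deg U hU) f ≤ O := by
    rintro _ ⟨v, hv, rfl⟩
    exact hfO hv
  have hcl := hQ _ hle
  have hT := isAffineOpen_xs u hj hLq hL hP hPL hr U hU hd f hf htop hcl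
  exact ⟨d, hd, f, hf, (mem_xs u).2 ((mem_preimage_iff u hj hLq hL hP hPL hr U hU hd f hf ⟨y, hy⟩).1 ⟨w, hwf, hw⟩),
    hle, hT, (isClosedImmersion_restrict_iff u hj hLq hL hP hPL hr U hU hd f hf hT).1 hcl⟩

include hj hLq hL hP hPL hr in
theorem exists_good_of_isImmersion (htop : RelProj.domQ u pL chartL = ⊤) (hi : IsImmersion r) (x : X)
    (U : Y.Opens) (hU : IsAffineOpen U) (hxU : q x ∈ U) :
    ∃ (d : ℕ) (_ : 0 < d) (f : 𝒮.presheaf.obj (op U)) (_ : f ∈ 𝒮.deg U hU d),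
      x ∈ xs u U d f ∧ IsAffineOpen (xs u U d f) ∧ Frac u U hU (xs u U d f) (xs_le u U d f) d f := by
  haveI := hi
  obtain ⟨d, hd, f, hf, hx, -, hT, hF⟩ := exists_good u hj hLq hL hP hPL hr htop r.coborderRange
    (fun z => subset_coborder ⟨z, rfl⟩)
    (fun W hW => isClosedImmersion_restrict_of_le r W hW) x U hU hxU
  exact ⟨d, hd, f, hf, hx, hT, hF⟩

end Groth.Agent.SymAlgRel
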