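import Groth.Agent.SymAlgRel.ConeComplement
import Groth.Prelude.Def_RelProj4

/-!
# Functoriality of the cone immersion
-/

set_option autoImplicit false
set_option backward.isDefEq.respectTransparency false
set_option backward.isDefEq.respectTransparency.types false

noncomputable section

universe u

open CategoryTheory CategoryTheory.Limits AlgebraicGeometry TopologicalSpace Opposite RelSpec
open Groth.Agent.QCohBase
open scoped HomogeneousIdeal

namespace Groth.Agent.SymAlgRel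

theorem awayι_lift_congr {A B : Type u} [CommRing A] [CommRing B] {σ : Type u} [SetLike σ A] [AddSubgroupClass σ A]
    {𝒜 : ℕ → σ} [GradedRing 𝒜] {f f' : A} (e : f = f') (hf : f ∈ 𝒜 1) (hf' : f' ∈ 𝒜 1) (g : A →+* B)
    (h : IsUnit (g f)) (h' : IsUnit (g f')) :
    Spec.map (CommRingCat.ofHom ((IsLocalization.Away.lift f h).comp
        (algebraMap (HomogeneousLocalization.Away 𝒜 f) (Localization.Away f)))) ≫ Proj.awayι 𝒜 f hf one_pos =
      Spec.map (CommRingCat.ofHom ((IsLocalization.Away.lift f' h').comp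
        (algebraMap (HomogeneousLocalization.Away 𝒜 f') (Localization.Away f')))) ≫ Proj.awayι 𝒜 f' hf' one_pos := by
  subst e
  rfl

theorem coneImm_comm {Y Y' PC PC' : Scheme.{u}} (q : Y' ⟶ Y)
    (𝒮 : RelProj.QCGrAlg Y) (𝒮' : RelProj.QCGrAlg Y') (h0 : RelCone.StrZeroBij 𝒮) (h0' : RelCone.StrZeroBij 𝒮')
    (u : RelProj.QGrHom q 𝒮 𝒮')
    (𝒮h : RelProj.QCGrAlg Y) (ι : 𝒮.toQCAlg ⟶ 𝒮h.toQCAlg) (z : 𝒮h.presheaf.obj (op ⊤))
    (hz : RelCone.IsPolyOver 𝒮 𝒮h ι z)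
    (pC : PC ⟶ Y) (chartC : ∀ (U : Y.Opens) (hU : IsAffineOpen U), (((pC ⁻¹ᵁ U : PC.Opens) : Scheme.{u}) ≅ Proj (𝒮h.deg U hU)))
    (hC : RelProj.IsRelProj 𝒮h pC chartC)
    (𝒮h' : RelProj.QCGrAlg Y') (ι' : 𝒮'.toQCAlg ⟶ 𝒮h'.toQCAlg) (z' : 𝒮h'.presheaf.obj (op ⊤))
    (hz' : RelCone.IsPolyOver 𝒮' 𝒮h' ι' z')
    (pC' : PC' ⟶ Y') (chartC' : ∀ (U : Y'.Opens) (hU : IsAffineOpen U), (((pC' ⁻¹ᵁ U : PC'.Opens) : Scheme.{u}) ≅ Proj (𝒮h'.deg U hU)))
    (hC' : RelProj.IsRelProj 𝒮h' pC' chartC')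
    (uh : RelProj.QGrHom q 𝒮h 𝒮h')
    (huh : ∀ U : Y.Opens, ι.hom.app (op U) ≫ uh.app U = u.app U ≫ ι'.hom.app (op (q ⁻¹ᵁ U)))
    (huhz : (uh.app ⊤).hom z = RelCone.restrictTop 𝒮h' z' (q ⁻¹ᵁ ⊤))
    (Φh : ((RelProj.domQ uh pC' chartC' : PC'.Opens) : Scheme.{u}) ⟶ PC)
    (hΦh : RelProj.IsProjQMapOn uh pC chartC pC' chartC' (RelProj.domQ uh pC' chartC') Φh)
    (Φc : 𝒮'.toQCAlg.spec ⟶ 𝒮.toQCAlg.spec) (hΦc : RelSpec.IsSpecQMap u.toQHom Φc)
    (i : 𝒮.toQCAlg.spec ⟶ PC) (hi : RelCone.IsConeImm 𝒮 hz pC chartC i)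
    (i' : 𝒮'.toQCAlg.spec ⟶ PC') (hi' : RelCone.IsConeImm 𝒮' hz' pC' chartC' i') :
    Set.range i'.base ⊆ ((RelProj.domQ uh pC' chartC' : PC'.Opens) : Set PC') ∧
      ∀ i'' : 𝒮'.toQCAlg.spec ⟶ ((RelProj.domQ uh pC' chartC' : PC'.Opens) : Scheme.{u}),
        i'' ≫ (RelProj.domQ uh pC' chartC').ι = i' → i'' ≫ Φh = Φc ≫ i := by
  have hzz : ∀ (U : Y.Opens) (hU : IsAffineOpen U) (U' : Y'.Opens) (hU' : IsAffineOpen U') (hle : U' ≤ q ⁻¹ᵁ U),
      uh.gradedAt U hU U' hU' hle (RelCone.restrictTop 𝒮h z U) = RelCone.restrictTop 𝒮h' z' U' := by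
    intro U hU U' hU' hle
    have h1 := ConcreteCategory.congr_hom (uh.naturality (le_top : U ≤ ⊤)) z
    refine (congrArg (𝒮h'.presheaf.map (homOfLE hle).op).hom h1.symm).trans ?_
    refine (congrArg (fun w => (𝒮h'.presheaf.map (homOfLE hle).op).hom ((𝒮h'.presheaf.map _).hom w)) huhz).trans ?_
    show (𝒮h'.presheaf.map _).hom ((𝒮h'.presheaf.map _).hom ((𝒮h'.presheaf.map _).hom z')) = (𝒮h'.presheaf.map _).hom z'
    rw [← ConcreteCategory.comp_apply, ← ConcreteCategory.comp_apply, ← Functor.map_comp, ← Functor.map_comp]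
    rfl
  have hcover : ∀ c : 𝒮'.toQCAlg.spec, ∃ (U : Y.Opens) (hU : IsAffineOpen U) (U' : Y'.Opens) (hU' : IsAffineOpen U')
      (_ : U' ≤ q ⁻¹ᵁ U), c ∈ (𝒮'.toQCAlg.ι U' hU').opensRange := fun c => by
    obtain ⟨U, hU, hy, -⟩ := Opens.isBasis_iff_nbhd.1 Y.isBasis_affineOpens (Opens.mem_top (q (𝒮'.toQCAlg.π c)))
    obtain ⟨U', hU', hy', hle⟩ := Opens.isBasis_iff_nbhd.1 Y'.isBasis_affineOpens
      (show 𝒮'.toQCAlg.π c ∈ q ⁻¹ᵁ U from hy)
    exact ⟨U, hU, U', hU', hle, by rw [← QCAlg.π_preimage]; exact hy'⟩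
  have hu1 : ∀ (U : Y.Opens) (hU : IsAffineOpen U) (U' : Y'.Opens) (hU' : IsAffineOpen U') (hle : U' ≤ q ⁻¹ᵁ U),
      IsUnit ((hz'.evalOne U' hU') (uh.gradedAt U hU U' hU' hle (RelCone.restrictTop 𝒮h z U))) :=
    fun U hU U' hU' hle => by rw [hzz, hz'.evalOne_z]; exact isUnit_one
  let L := fun (U : Y.Opens) (hU : IsAffineOpen U) (U' : Y'.Opens) (hU' : IsAffineOpen U') (hle : U' ≤ q ⁻¹ᵁ U) =>
    (IsLocalization.Away.lift (uh.gradedAt U hU U' hU' hle (RelCone.restrictTop 𝒮h z U)) (hu1 U hU U' hU' hle)).comp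
      (algebraMap (HomogeneousLocalization.Away (𝒮h'.deg U' hU') (uh.gradedAt U hU U' hU' hle (RelCone.restrictTop 𝒮h z U)))
        (Localization.Away (uh.gradedAt U hU U' hU' hle (RelCone.restrictTop 𝒮h z U))))
  have hβ : ∀ (U : Y.Opens) (hU : IsAffineOpen U) (U' : Y'.Opens) (hU' : IsAffineOpen U') (hle : U' ≤ q ⁻¹ᵁ U),
      𝒮'.toQCAlg.ι U' hU' ≫ i' = Spec.map (CommRingCat.ofHom (L U hU U' hU' hle)) ≫
        RelProj.awayEmb uh pC' chartC' U hU U' hU' hle one_pos _ (hz.deg_z U hU) := fun U hU U' hU' hle => by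
    rw [hi' U' hU', RelProj.awayEmb, ← Category.assoc, ← Category.assoc]
    exact congrArg (· ≫ _) (awayι_lift_congr (hzz U hU U' hU' hle) _ (hz'.deg_z U' hU') (hz'.evalOne U' hU') _
      (by rw [hz'.evalOne_z]; exact isUnit_one)).symm
  refine ⟨?_, fun i'' hi'' => Scheme.hom_ext_of_forall _ _ fun c => ?_⟩
  · rintro _ ⟨c, rfl⟩
    obtain ⟨U, hU, U', hU', hle, t, rfl⟩ := hcover c
    rw [← Scheme.Hom.comp_apply, hβ U hU U' hU' hle]
    have := RelProj.range_awayEmb_subset_domQ uh pC' chartC' U hU U' hU' hle one_pos _ (hz.deg_z U hU)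
    rw [Scheme.Opens.range_ι] at this
    exact this ⟨Spec.map (CommRingCat.ofHom (L U hU U' hU' hle)) t, rfl⟩
  · obtain ⟨U, hU, U', hU', hle, hc⟩ := hcover c
    refine ⟨_, hc, ?_⟩
    rw [← cancel_epi (𝒮'.toQCAlg.ι U' hU').isoOpensRange.hom, Scheme.Hom.isoOpensRange_hom_ι_assoc,
      Scheme.Hom.isoOpensRange_hom_ι_assoc]
    let lft := IsOpenImmersion.lift (RelProj.domQ uh pC' chartC').ι _
      (RelProj.range_awayEmb_subset_domQ uh pC' chartC' U hU U' hU' hle one_pos _ (hz.deg_z U hU))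
    have e1 : 𝒮'.toQCAlg.ι U' hU' ≫ i'' = Spec.map (CommRingCat.ofHom (L U hU U' hU' hle)) ≫ lft := by
      rw [← cancel_mono (RelProj.domQ uh pC' chartC').ι, Category.assoc, hi'', Category.assoc,
        IsOpenImmersion.lift_fac, hβ U hU U' hU' hle]
    rw [← Category.assoc, e1, Category.assoc, hΦh U hU U' hU' hle 1 one_pos _ (hz.deg_z U hU) _,
      ← Category.assoc (𝒮'.toQCAlg.ι U' hU'), hΦc U hU U' hU' hle, Category.assoc, hi U hU,
      ← Spec.map_comp_assoc, ← Spec.map_comp_assoc]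
    congr 2
    refine CommRingCat.hom_ext (RingHom.ext fun x => ?_)
    obtain ⟨n, b, hb, rfl⟩ := HomogeneousLocalization.Away.mk_surjective (𝒮h.deg U hU) (hz.deg_z U hU) x
    have key : (hz'.evalOne U' hU').comp (uh.appLE U U' hle).hom =
        (u.appLE U U' hle).hom.comp (hz.evalOne U hU) := by
      refine poly_hom_ext hz hU (fun a => ?_) ?_
      · rw [RingHom.comp_apply, RingHom.comp_apply, hz.evalOne_ι]
        have h1 : (uh.appLE U U' hle).hom ((ι.hom.app (op U)).hom a) =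
            (ι'.hom.app (op U')).hom ((u.appLE U U' hle).hom a) := by
          refine (congrArg (𝒮h'.presheaf.map (homOfLE hle).op).hom (ConcreteCategory.congr_hom (huh U) a)).trans ?_
          exact (ConcreteCategory.congr_hom (ι'.hom.naturality (homOfLE hle).op) _).symm
        rw [h1, hz'.evalOne_ι]
      · rw [RingHom.comp_apply, RingHom.comp_apply, hz.evalOne_z, map_one]
        exact (congrArg _ (hzz U hU U' hU' hle)).trans (hz'.evalOne_z U' hU')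
    show L U hU U' hU' hle (HomogeneousLocalization.Away.map _ _ _) = (u.appLE U U' hle).hom (hz.awayZToBase U hU _)
    rw [hz.awayZToBase_of_val U hU _ b n (HomogeneousLocalization.Away.val_mk (𝒮h.deg U hU) n (hz.deg_z U hU) b hb)]
    refine Eq.trans ?_ (RingHom.congr_fun key b)
    rw [HomogeneousLocalization.Away.map_mk]
    simp only [L, RingHom.comp_apply, HomogeneousLocalization.algebraMap_apply, HomogeneousLocalization.Away.val_mk,
      Localization.mk_eq_mk', IsLocalization.Away.lift, IsLocalization.lift_mk', Units.mul_inv_eq_iff_eq_mul,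
      IsUnit.coe_liftRight]
    simp [map_pow, hzz U hU U' hU' hle, hz'.evalOne_z]

end Groth.Agent.SymAlgRel
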