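import Mathlib
import Groth.Prelude.Def_RelProj4
import Groth.Agent.SymAlgRel.RLimm

/-!
# `r_{L,ψ}` for a colimit of graded algebras: immersions
-/

noncomputable section

universe u

open CategoryTheory CategoryTheory.Limits AlgebraicGeometry TopologicalSpace Opposite
open scoped HomogeneousIdeal
open Groth.Agent.QCohBase Groth.Agent.GenLocus

namespace Groth.Agent.SymAlgRel

theorem frac_congr {Y X : Scheme.{u}} {q : X ⟶ Y} {𝒮 : RelProj.QCGrAlg Y} {𝒮L : RelProj.QCGrAlg X}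
    {u : RelProj.QGrHom q 𝒮 𝒮L} {U : Y.Opens} {hU : IsAffineOpen U} {T T' : X.Opens} (e : T = T')
    {hle : T ≤ q ⁻¹ᵁ U} {hle' : T' ≤ q ⁻¹ᵁ U} {d : ℕ} {f : 𝒮.presheaf.obj (op U)}
    (h : Frac u U hU T hle d f) : Frac u U hU T' hle' d f := by
  subst e
  exact h

variable {Y X : Scheme.{u}} {q : X ⟶ Y} {𝒮 𝒯 : RelProj.QCGrAlg Y} {𝒮L : RelProj.QCGrAlg X}
  (u : RelProj.QGrHom q 𝒮 𝒮L) (u' : RelProj.QGrHom q 𝒯 𝒮L) (v : 𝒯.toQCAlg ⟶ 𝒮.toQCAlg)
  (hu : ∀ U : Y.Opens, u'.app U = v.hom.app (op U) ≫ u.app U)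

include hu in
theorem appLE_comp (U : Y.Opens) (V : X.Opens) (hle : V ≤ q ⁻¹ᵁ U) (f : 𝒯.presheaf.obj (op U)) :
    (u'.appLE U V hle).hom f = (u.appLE U V hle).hom ((v.hom.app (op U)).hom f) := by
  show (u'.app U ≫ 𝒮L.presheaf.map (homOfLE hle).op).hom f = _
  rw [hu]
  rfl

include hu in
theorem xs_comp (U : Y.Opens) (d : ℕ) (f : 𝒯.presheaf.obj (op U)) :
    xs u' U d f = xs u U d ((v.hom.app (op U)).hom f) := by
  refine SetLike.ext fun x => ?_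
  rw [mem_xs, mem_xs]
  constructor <;> rintro ⟨V, hV, hle, hx, hg⟩ <;> refine ⟨V, hV, hle, hx, ?_⟩
  · exact appLE_comp u u' v hu U V hle f ▸ hg
  · exact (appLE_comp u u' v hu U V hle f).symm ▸ hg

include hu in
theorem frac_comp (hv : RelProj.IsGradedHom v) (U : Y.Opens) (hU : IsAffineOpen U) (T : X.Opens)
    (hle : T ≤ q ⁻¹ᵁ U) (d : ℕ) (f : 𝒯.presheaf.obj (op U)) (h : Frac u' U hU T hle d f) :
    Frac u U hU T hle d ((v.hom.app (op U)).hom f) := by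
  intro t
  obtain ⟨m, hm, a, ha, hma⟩ := h t
  refine ⟨m, hm, (v.hom.app (op U)).hom a, hv U hU _ _ ha, ?_⟩
  rw [appLE_comp u u' v hu, appLE_comp u u' v hu] at hma
  exact hma

include hu in
theorem good_comp (hv : RelProj.IsGradedHom v)
    (h : ∀ x : X, ∃ (U : Y.Opens) (hU : IsAffineOpen U) (d : ℕ) (_ : 0 < d) (f : 𝒯.presheaf.obj (op U))
      (_ : f ∈ 𝒯.deg U hU d), x ∈ xs u' U d f ∧ IsAffineOpen (xs u' U d f) ∧
        Frac u' U hU (xs u' U d f) (xs_le u' U d f) d f) (x : X) :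
    ∃ (U : Y.Opens) (hU : IsAffineOpen U) (d : ℕ) (_ : 0 < d) (f : 𝒮.presheaf.obj (op U))
      (_ : f ∈ 𝒮.deg U hU d), x ∈ xs u U d f ∧ IsAffineOpen (xs u U d f) ∧
        Frac u U hU (xs u U d f) (xs_le u U d f) d f := by
  obtain ⟨U, hU, d, hd, f, hf, hx, hT, hF⟩ := h x
  have e := xs_comp u u' v hu U d f
  exact ⟨U, hU, d, hd, _, hv U hU _ _ hf, e ▸ hx, e ▸ hT,
    frac_comp u u' v hu hv U hU _ (xs_le u U d _) d f (frac_congr e hF)⟩

/-- A finitely generated algebra of fractions. -/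
theorem frac_of_generators (U : Y.Opens) (hU : IsAffineOpen U) (T : X.Opens) (hle : T ≤ q ⁻¹ᵁ U)
    (d : ℕ) (f : 𝒮.presheaf.obj (op U)) (hf : f ∈ 𝒮.deg U hU d) (G : Set Γ(X, T))
    (hG : letI := (q.appLE U T hle).hom.toAlgebra; Algebra.adjoin Γ(Y, U) G = ⊤)
    (h : ∀ t ∈ G, ∃ (m : ℕ) (_ : 0 < m) (a : 𝒮.presheaf.obj (op U)) (_ : a ∈ 𝒮.deg U hU (m * d)),
      (𝒮L.str.app (op T)).hom t * ((u.appLE U T hle).hom f) ^ m = (u.appLE U T hle).hom a) :
    Frac u U hU T hle d f := by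
  letI := (q.appLE U T hle).hom.toAlgebra
  let g := (u.appLE U T hle).hom f
  let st := (𝒮L.str.app (op T)).hom
  intro t
  have ht : t ∈ Algebra.adjoin Γ(Y, U) G := by rw [hG]; trivial
  induction ht using Algebra.adjoin_induction with
  | mem x hx => exact h x hx
  | algebraMap c =>
    refine ⟨1, one_pos, (𝒮.str.app (op U)).hom c * f,
      by simpa using SetLike.mul_mem_graded (A := 𝒮.deg U hU) (𝒮.str_mem U hU c) hf, ?_⟩
    rw [pow_one, map_mul]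
    congr 1
    exact (ConcreteCategory.congr_hom (u.toQHom.str_appLE U T hle) c).symm
  | add x y _ _ hx hy =>
    obtain ⟨m, hm, a, ha, hma⟩ := hx
    obtain ⟨n, hn, b, hb, hnb⟩ := hy
    refine ⟨m + n, Nat.lt_add_right _ hm, a * f ^ n + b * f ^ m, add_mem ?_ ?_, ?_⟩
    · simpa [add_mul] using SetLike.mul_mem_graded (A := 𝒮.deg U hU) ha (SetLike.pow_mem_graded n hf)
    · simpa [add_mul, add_comm] using SetLike.mul_mem_graded (A := 𝒮.deg U hU) hb (SetLike.pow_mem_graded m hf)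
    · calc st (x + y) * g ^ (m + n) = st x * g ^ m * g ^ n + st y * g ^ n * g ^ m := by
            rw [map_add]; ring
        _ = _ := by rw [hma, hnb]; simp [map_add, map_mul, map_pow, g]
  | mul x y _ _ hx hy =>
    obtain ⟨m, hm, a, ha, hma⟩ := hx
    obtain ⟨n, hn, b, hb, hnb⟩ := hy
    refine ⟨m + n, Nat.lt_add_right _ hm, a * b,
      by simpa [add_mul] using SetLike.mul_mem_graded (A := 𝒮.deg U hU) ha hb, ?_⟩
    calc st (x * y) * g ^ (m + n) = (st x * g ^ m) * (st y * g ^ n) := by rw [map_mul]; ring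
      _ = _ := by rw [hma, hnb, map_mul]

section colim

variable {Λ : Type u} [Preorder Λ] [IsDirected Λ (· ≤ ·)] [Nonempty Λ] (𝒮i : Λ → RelProj.QCGrAlg Y)
  (φ : ∀ i, (𝒮i i).toQCAlg ⟶ 𝒮.toQCAlg) (hφ : ∀ i, RelProj.IsGradedHom (φ i))
  (t : ∀ i j, i ≤ j → ((𝒮i i).toQCAlg ⟶ (𝒮i j).toQCAlg)) (ht : ∀ i j (h : i ≤ j), RelProj.IsGradedHom (t i j h))
  (hφt : ∀ i j (h : i ≤ j), t i j h ≫ φ j = φ i)
  (hsurj : ∀ (U : Y.Opens), IsAffineOpen U → ∀ x : 𝒮.presheaf.obj (op U),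
    ∃ (i : Λ) (y : (𝒮i i).presheaf.obj (op U)), ((φ i).hom.app (op U)).hom y = x)
  (ui : ∀ i, RelProj.QGrHom q (𝒮i i) 𝒮L) (hui : ∀ i (U : Y.Opens), (ui i).app U = (φ i).hom.app (op U) ≫ u.app U)

include hφ hsurj in
theorem exists_lift_deg (U : Y.Opens) (hU : IsAffineOpen U) {d : ℕ} {b : 𝒮.presheaf.obj (op U)}
    (hb : b ∈ 𝒮.deg U hU d) :
    ∃ (i : Λ) (z : (𝒮i i).presheaf.obj (op U)), z ∈ (𝒮i i).deg U hU d ∧ ((φ i).hom.app (op U)).hom z = b := by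
  obtain ⟨i, z, hz⟩ := hsurj U hU b
  refine ⟨i, DirectSum.decompose ((𝒮i i).deg U hU) z d, SetLike.coe_mem _, ?_⟩
  let ν := RelProj.gradedHomAt (φ i) (hφ i) U hU
  show ν (DirectSum.decompose ((𝒮i i).deg U hU) z d) = b
  rw [GradedRingHom.map_directSumDecompose]
  show (DirectSum.decompose (𝒮.deg U hU) (((φ i).hom.app (op U)).hom z) d : 𝒮.presheaf.obj (op U)) = b
  rw [hz]
  exact DirectSum.decompose_of_mem_same _ hb

include hui hφt in
theorem ui_comp {i j : Λ} (h : i ≤ j) (U : Y.Opens) :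
    (ui i).app U = (t i j h).hom.app (op U) ≫ (ui j).app U := by
  rw [hui, hui, ← hφt i j h, RelSpec.QCAlg.comp_hom, NatTrans.comp_app, Category.assoc]

include hui hφt ht hφ hsurj in
theorem exists_index [LocallyOfFiniteType q] (U : Y.Opens) (hU : IsAffineOpen U) {d : ℕ}
    (f : 𝒮.presheaf.obj (op U)) (hf : f ∈ 𝒮.deg U hU d) (hT : IsAffineOpen (xs u U d f))
    (hF : Frac u U hU (xs u U d f) (xs_le u U d f) d f) :
    ∃ i, ∀ k, i ≤ k → ∃ z, z ∈ (𝒮i k).deg U hU d ∧ xs (ui k) U d z = xs u U d f ∧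
      Frac (ui k) U hU (xs (ui k) U d z) (xs_le (ui k) U d z) d z := by
  classical
  let T := xs u U d f
  have hle : T ≤ q ⁻¹ᵁ U := xs_le u U d f
  letI := (q.appLE U T hle).hom.toAlgebra
  have hft : Algebra.FiniteType Γ(Y, U) Γ(X, T) := q.finiteType_appLE hU hT hle
  obtain ⟨G, hG⟩ := hft.out
  choose m hm a ha hma using hF
  obtain ⟨i₀, z, hz, hzf⟩ := exists_lift_deg 𝒮i φ hφ hsurj U hU hf
  choose idx y hy hya using fun g => exists_lift_deg 𝒮i φ hφ hsurj U hU (ha g)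
  obtain ⟨j, hj⟩ := Finset.exists_le (insert i₀ (G.image idx))
  refine ⟨j, fun k hk => ?_⟩
  have h₀ : i₀ ≤ k := (hj _ (Finset.mem_insert_self _ _)).trans hk
  let zk := ((t i₀ k h₀).hom.app (op U)).hom z
  have hzk : ∀ (i : Λ) (h : i ≤ k) (w : (𝒮i i).presheaf.obj (op U)),
      ((φ k).hom.app (op U)).hom (((t i k h).hom.app (op U)).hom w) = ((φ i).hom.app (op U)).hom w := by
    intro i h w
    exact congrArg (fun ψ : (𝒮i i).toQCAlg ⟶ 𝒮.toQCAlg => (ψ.hom.app (op U)).hom w) (hφt i k h)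
  have hx : xs (ui k) U d zk = T := by
    rw [xs_comp u (ui k) (φ k) (hui k), hzk, hzf]
  refine ⟨zk, ht i₀ k h₀ U hU _ _ hz, hx, ?_⟩
  have key : Frac (ui k) U hU T hle d zk := by
    refine frac_of_generators (ui k) U hU T hle d zk (ht i₀ k h₀ U hU _ _ hz) G hG fun g hg => ?_
    have hik : idx g ≤ k := (hj _ (Finset.mem_insert_of_mem (Finset.mem_image_of_mem _ hg))).trans hk
    refine ⟨m g, hm g, ((t _ k hik).hom.app (op U)).hom (y g), ht _ k hik U hU _ _ (hy g), ?_⟩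
    rw [appLE_comp u (ui k) (φ k) (hui k), appLE_comp u (ui k) (φ k) (hui k), hzk, hzk, hzf, hya]
    exact hma g
  exact frac_congr hx.symm key

end colim

end Groth.Agent.SymAlgRel
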