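import Mathlib
import Groth.Prelude.Def_RelProj4
import Groth.Agent.SymAlgRel.Exists
import Groth.Agent.SymAlgRel.SectBC
import Groth.Agent.SymAlgRel.SpecBC

/-!
# The symmetric algebra commutes with base change
-/

noncomputable section

universe u

open CategoryTheory CategoryTheory.Limits AlgebraicGeometry TopologicalSpace Opposite RelSpec
open Groth.Agent.QCohBase Groth.Agent.GenLocus

namespace Groth.Agent.SymAlgRel

section ring

variable {R R' M M' : Type u} [CommRing R] [CommRing R'] [Algebra R R'] [AddCommGroup M] [Module R M]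
  [AddCommGroup M'] [Module R' M'] [Module R M'] [IsScalarTower R R' M']

theorem isPushout_symMap (l : M →ₗ[R] M') (hb : IsBaseChange R' l)
    (hl : ∀ (r : R) (m : M), l.toAddMonoidHom (r • m) = algebraMap R R' r • l.toAddMonoidHom m) :
    IsPushout (CommRingCat.ofHom (algebraMap R R')) (CommRingCat.ofHom (algebraMap R (SymmetricAlgebra R M)))
      (CommRingCat.ofHom (algebraMap R' (SymmetricAlgebra R' M')))
      (CommRingCat.ofHom (symMap (algebraMap R R') l.toAddMonoidHom hl)) := by
  refine IsPushout.of_isColimit' ⟨CommRingCat.hom_ext (RingHom.ext fun r =>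
    (symMap_algebraMap _ _ hl r).symm)⟩ ?_
  refine PushoutCocone.IsColimit.mk _ (fun s => ?_) (fun s => ?_) (fun s => ?_) (fun s m h₁ h₂ => ?_)
  · letI : Algebra R' s.pt := s.inl.hom.toAlgebra
    letI : Algebra R s.pt := (s.inl.hom.comp (algebraMap R R')).toAlgebra
    haveI : IsScalarTower R R' s.pt := .of_algebraMap_eq fun _ => rfl
    let ν : SymmetricAlgebra R M →ₐ[R] s.pt :=
      { s.inr.hom with commutes' := fun r => (ConcreteCategory.congr_hom s.condition r).symm }
    exact CommRingCat.ofHom
      (SymmetricAlgebra.lift (hb.lift (ν.toLinearMap ∘ₗ SymmetricAlgebra.ι R M))).toRingHom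
  · letI : Algebra R' s.pt := s.inl.hom.toAlgebra
    letI : Algebra R s.pt := (s.inl.hom.comp (algebraMap R R')).toAlgebra
    haveI : IsScalarTower R R' s.pt := .of_algebraMap_eq fun _ => rfl
    exact CommRingCat.hom_ext (RingHom.ext fun r => AlgHom.commutes _ r)
  · letI : Algebra R' s.pt := s.inl.hom.toAlgebra
    letI : Algebra R s.pt := (s.inl.hom.comp (algebraMap R R')).toAlgebra
    haveI : IsScalarTower R R' s.pt := .of_algebraMap_eq fun _ => rfl
    refine CommRingCat.hom_ext (ringHom_ext (fun r => ?_) fun m => ?_)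
    · refine (congrArg _ (symMap_algebraMap _ _ hl r)).trans ((AlgHom.commutes _ _).trans ?_)
      exact ConcreteCategory.congr_hom s.condition r
    · refine (congrArg _ (symMap_ι _ _ hl m)).trans ((SymmetricAlgebra.lift_ι_apply _ _).trans ?_)
      exact hb.lift_eq _ m
  · letI : Algebra R' s.pt := s.inl.hom.toAlgebra
    letI : Algebra R s.pt := (s.inl.hom.comp (algebraMap R R')).toAlgebra
    haveI : IsScalarTower R R' s.pt := .of_algebraMap_eq fun _ => rfl
    let μ : SymmetricAlgebra R' M' →ₐ[R'] s.pt :=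
      { m.hom with commutes' := fun r => ConcreteCategory.congr_hom h₁ r }
    refine CommRingCat.hom_ext ?_
    refine (congrArg AlgHom.toRingHom (a₁ := μ) ?_).trans rfl
    refine SymmetricAlgebra.algHom_ext (hb.algHom_ext _ _ fun x => ?_)
    refine Eq.trans ?_ ((SymmetricAlgebra.lift_ι_apply _ (l x)).trans (hb.lift_eq _ x)).symm
    show m.hom (SymmetricAlgebra.ι R' M' (l x)) = _
    exact (congrArg m.hom (symMap_ι _ _ hl x)).symm.trans (ConcreteCategory.congr_hom h₂ _)

end ring

variable {S S' : Scheme.{u}} {g : S' ⟶ S} (E : S.Modules) (hE : Coh.IsQCoh E) {A : QCAlg S}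
  {j : E ⟶ A.toModule} (hA : IsSymAlg E A j) {B : QCAlg S'}
  {j' : (Scheme.Modules.pullback g).obj E ⟶ B.toModule}
  (hB : IsSymAlg ((Scheme.Modules.pullback g).obj E) B j') (u : QHom g A B)
  (hu : ∀ (U : S.Opens), IsAffineOpen U → ∀ (x : Γ(E, U)),
    (u.app U).hom ((j.app U) x) =
      (j'.app (g ⁻¹ᵁ U)) (((Scheme.Modules.pullbackPushforwardAdjunction g).unit.app E).app U x))

include hE hA hB hu in
theorem isQBaseChange_sym : IsQBaseChange u := by
  haveI : E.IsQuasicoherent := hE
  intro U hU V hV hle
  let E' := (Scheme.Modules.pullback g).obj E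
  have hE' : Coh.IsQCoh E' := QCohPull.isQuasicoherent_pullback g E
  letI := (g.appLE U V hle).hom.toAlgebra
  letI := pullModuleLE g E U V hle
  haveI : IsScalarTower Γ(S, U) Γ(S', V) Γ(E', V) := .of_algebraMap_smul fun _ _ => rfl
  let l := pullSecLE g E U V hle
  have hl : ∀ (r : Γ(S, U)) (m : Γ(E, U)),
      l.toAddMonoidHom (r • m) = algebraMap Γ(S, U) Γ(S', V) r • l.toAddMonoidHom m := fun r m =>
    map_smul l r m
  have hpo := isPushout_symMap l (isBaseChange_pullSecLE g E hU hV hle) hl
  let eA := (RingEquiv.ofBijective _ (bijective_symLift E hA hE U hU)).toCommRingCatIso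
  let eB := (RingEquiv.ofBijective _ (bijective_symLift E' hB hE' V hV)).toCommRingCatIso
  refine hpo.of_iso (Iso.refl _) (Iso.refl _) eA eB ((Category.comp_id _).trans (Category.id_comp _).symm)
    ?_ ?_ ?_
  · refine CommRingCat.hom_ext (RingHom.ext fun r => ?_)
    exact (symLift_algebraMap E A j U r)
  · refine CommRingCat.hom_ext (RingHom.ext fun r => ?_)
    exact (symLift_algebraMap E' B j' V r)
  · refine CommRingCat.hom_ext (ringHom_ext (fun r => ?_) fun m => ?_)
    · show symLift E' B j' V (symMap _ _ hl (algebraMap _ _ r)) = (u.appLE U V hle).hom (symLift E A j U (algebraMap _ _ r))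
      rw [symMap_algebraMap, symLift_algebraMap, symLift_algebraMap]
      exact (ConcreteCategory.congr_hom (u.str_appLE U V hle) r).symm
    · show symLift E' B j' V (symMap _ _ hl (SymmetricAlgebra.ι _ _ m)) = (u.appLE U V hle).hom (symLift E A j U (SymmetricAlgebra.ι _ _ m))
      rw [symMap_ι, symLift_ι, symLift_ι]
      refine (ConcreteCategory.congr_hom (j'.mapPresheaf.naturality (homOfLE hle).op) (pullSec g E U m)).trans ?_
      exact congrArg (B.presheaf.map (homOfLE hle).op) (hu U hU m).symm

end Groth.Agent.SymAlgRel
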