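import Groth.Agent.SymAlgRel.RLmain

/-!
# Scheme-theoretic density of the image of `r_{L,σ}`
-/

set_option autoImplicit false
set_option backward.isDefEq.respectTransparency false
set_option backward.isDefEq.respectTransparency.types false

noncomputable section

universe u

open CategoryTheory Limits AlgebraicGeometry Opposite TopologicalSpace RelSpec HomogeneousLocalization
open Groth.Agent.QCohBase Groth.Agent.GenLocus
open scoped HomogeneousIdeal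

namespace Groth.Agent.SymAlgRel

theorem ker_ideal_eq_bot {Z W : Scheme.{u}} (r : Z ⟶ W) [QuasiCompact r] (V : W.affineOpens)
    (h : Function.Injective (r.app V.1).hom) : r.ker.ideal V = (⊥ : Scheme.IdealSheafData W).ideal V := by
  rw [Scheme.Hom.ker_apply, Scheme.IdealSheafData.ideal_bot, Pi.bot_apply,
    ← RingHom.injective_iff_ker_eq_bot]
  exact h

theorem specMap_appLE_apply {R S : CommRingCat.{u}} {Z : Scheme.{u}} (φ : R ⟶ S) (k : Spec R ⟶ Z)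
    (T : Z.Opens) (h : ⊤ ≤ (Spec.map φ ≫ k) ⁻¹ᵁ T) (h' : ⊤ ≤ k ⁻¹ᵁ T) (g : Γ(Z, T)) :
    (Scheme.ΓSpecIso S).hom ((Spec.map φ ≫ k).appLE T ⊤ h g) = φ ((Scheme.ΓSpecIso R).hom (k.appLE T ⊤ h' g)) := by
  have e : (Spec.map φ ≫ k).appLE T ⊤ h = k.appLE T ⊤ h' ≫ (Spec.map φ).appTop := by
    rw [← Scheme.Hom.appLE_comp_appLE _ _ T ⊤ ⊤ h' le_rfl, Scheme.Hom.appTop, Scheme.Hom.app_eq_appLE]
    rfl
  rw [e, CommRingCat.comp_apply]
  exact ConcreteCategory.congr_hom (Scheme.ΓSpecIso_naturality φ) _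

variable {Y X P PL : Scheme.{u}} {q : X ⟶ Y} {L : X.Modules} {𝒮 : RelProj.QCGrAlg Y} {𝒮L : RelProj.QCGrAlg X}
  {j : L ⟶ 𝒮L.toModule} (u : RelProj.QGrHom q 𝒮 𝒮L)
  {p : P ⟶ Y} {chart : ∀ (U : Y.Opens) (hU : IsAffineOpen U), (((p ⁻¹ᵁ U : P.Opens) : Scheme.{u}) ≅ Proj (𝒮.deg U hU))}
  {pL : PL ⟶ X} {chartL : ∀ (U : X.Opens) (hU : IsAffineOpen U), (((pL ⁻¹ᵁ U : PL.Opens) : Scheme.{u}) ≅ Proj (𝒮L.deg U hU))}
  (hj : RelProj.IsGrSymAlg L 𝒮L j) (hLq : Coh.IsQCoh L) (hL : PicF.IsInvertible L)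
  (hP : RelProj.IsRelProj 𝒮 p chart) (hPL : RelProj.IsRelProj 𝒮L pL chartL)
  {r : ((RelProj.domQ u pL chartL : PL.Opens) : Scheme.{u}) ⟶ P}
  (hr : RelProj.IsProjQMapOn u p chart pL chartL (RelProj.domQ u pL chartL) r)

omit hr in
/-- A section killed by the standard chart has vanishing fraction. -/
theorem away_map_eq_zero_of_chart (hr : RelProj.IsProjQMapOn u p chart pL chartL (RelProj.domQ u pL chartL) r)
    (U : Y.Opens) (hU : IsAffineOpen U) {d : ℕ} (hd : 0 < d) (f : 𝒮.presheaf.obj (op U))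
    (hf : f ∈ 𝒮.deg U hU d) (B : X.Opens) (hB : IsAffineOpen B) (hle : B ≤ q ⁻¹ᵁ U) (T : P.Opens)
    (hT : ⊤ ≤ (Proj.awayι (𝒮.deg U hU) f hf hd ≫ RelProj.emb p chart U hU) ⁻¹ᵁ T)
    (g : Γ(P, T)) (hg : r.app T g = 0) :
    Away.map (u.gradedAt U hU B hB hle) f
      ((Scheme.ΓSpecIso (CommRingCat.of (Away (𝒮.deg U hU) f))).hom
        ((Proj.awayι (𝒮.deg U hU) f hf hd ≫ RelProj.emb p chart U hU).appLE T ⊤ hT g)) = 0 := by
  have hdc : EGA2Misc.domChart u pL chartL U hU B hB hle hd f hf ≫ r =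
      Spec.map (CommRingCat.ofHom (Away.map (u.gradedAt U hU B hB hle) f)) ≫
        (Proj.awayι (𝒮.deg U hU) f hf hd ≫ RelProj.emb p chart U hU) := hr U hU B hB hle d hd f hf _
  have h1 : ∀ (φ : Spec (CommRingCat.of (Away (𝒮L.deg B hB) (u.gradedAt U hU B hB hle f))) ⟶ P)
      (_ : EGA2Misc.domChart u pL chartL U hU B hB hle hd f hf ≫ r = φ)
      (hle' : ⊤ ≤ φ ⁻¹ᵁ T), φ.appLE T ⊤ hle' g = 0 := by
    rintro _ rfl hle'
    rw [Scheme.Hom.comp_appLE, CommRingCat.comp_apply, hg, map_zero]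
  have h2 := specMap_appLE_apply (CommRingCat.ofHom (Away.map (u.gradedAt U hU B hB hle) f))
    (Proj.awayι (𝒮.deg U hU) f hf hd ≫ RelProj.emb p chart U hU) T (fun v _ => hT trivial) hT g
  rw [h1 _ hdc _, map_zero] at h2
  exact h2.symm

include hj hLq hL hPL in
theorem eq_zero_of_chartwise (U : Y.Opens) (hU : IsAffineOpen U)
    {d : ℕ} (hd : 0 < d) (f : 𝒮.presheaf.obj (op U)) (hf : f ∈ 𝒮.deg U hU d)
    (hK : Tors u U hU (xs u U d f) (xs_le u U d f) d f) (q' : Away (𝒮.deg U hU) f)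
    (h : ∀ (B : X.Opens) (hB : IsAffineOpen B) (hle : B ≤ q ⁻¹ᵁ U), Away.map (u.gradedAt U hU B hB hle) f q' = 0) :
    q' = 0 := by
  obtain ⟨m, a, ha, rfl⟩ := Away.mk_surjective (𝒮.deg U hU) hf q'
  have hloc : (u.appLE U (xs u U d f) (xs_le u U d f)).hom (f * a) = 0 := by
    choose V hV hxV hVW e he using fun x : (xs u U d f : X.Opens) =>
      exists_isFrame hL (show x.1 ∈ (q ⁻¹ᵁ U : X.Opens) from xs_le u U d f x.2)
    choose c hc hBc using fun x => xs_inf_eq_basicOpen u hj hLq hL hPL U hU hd f hf (hV x) (hVW x) (he x)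
    refine eq_of_ares 𝒮L.toQCAlg (fun x => X.basicOpen (c x)) (fun x => (hBc x).ge.trans inf_le_left)
      (fun x hx => Opens.mem_iSup.2 ⟨⟨x, hx⟩, (hBc ⟨x, hx⟩).le ⟨hx, hxV ⟨x, hx⟩⟩⟩) _ _ fun x => ?_
    have hBV : X.basicOpen (c x) ≤ V x := X.basicOpen_le _
    have hB : IsAffineOpen (X.basicOpen (c x)) := (hV x).basicOpen (c x)
    have hBle : X.basicOpen (c x) ≤ q ⁻¹ᵁ U := hBV.trans (hVW x)
    rw [map_zero, ← ares_appLE u U _ (xs_le u U d f) (f * a), ares_ares, ares_appLE]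
    have h3 := congrArg HomogeneousLocalization.val (h _ hB hBle)
    rw [Away.map_mk, Away.val_mk, HomogeneousLocalization.val_zero, Localization.mk_eq_mk',
      IsLocalization.mk'_eq_zero_iff] at h3
    obtain ⟨⟨_, i, rfl⟩, hi⟩ := h3
    obtain ⟨c', hc'⟩ : ∃ c', u.gradedAt U hU _ hB hBle a =
        (𝒮L.str.app (op (X.basicOpen (c x)))).hom c' * tgen j (mres L hBV (e x)) ^ (m • d) :=
      exists_eq_of_mem_deg hj hLq hB ((he x).res hBV) ((u.gradedAt U hU _ hB hBle).map_mem ha)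
    have hfB : u.gradedAt U hU _ hB hBle f = (𝒮L.str.app (op (X.basicOpen (c x)))).hom (ores hBV (c x)) *
        tgen j (mres L hBV (e x)) ^ d := by
      show (u.appLE U _ hBle).hom f = _
      rw [← ares_appLE u U _ hBle f, ← ares_ares 𝒮L.toQCAlg (hVW x) hBV, ares_appLE,
        hc x, map_mul, map_pow, ares_str, ← res_tgen hj]
    replace hi : u.gradedAt U hU _ hB hBle f ^ i * u.gradedAt U hU _ hB hBle a = 0 := hi
    rw [hfB, hc', mul_pow, ← map_pow, mul_mul_mul_comm, ← map_mul, ← pow_mul, ← pow_add] at hi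
    have hz := str_mul_pow_eq_zero hj hLq hB ((he x).res hBV) hi
    have hu : IsUnit (ores hBV (c x) ^ i) := (X.toRingedSpace.isUnit_res_basicOpen (c x)).pow i
    rw [hu.mul_right_eq_zero.1 hz, map_zero, zero_mul] at hc'
    show u.gradedAt U hU _ hB hBle (f * a) = 0
    rw [map_mul, hc', mul_zero]
  obtain ⟨i, -, hi⟩ := hK (m + 1) (Nat.succ_pos _) (f * a) (by
    have := SetLike.mul_mem_graded (A := 𝒮.deg U hU) hf ha
    simpa [add_mul, add_comm, smul_eq_mul] using this) hloc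
  refine HomogeneousLocalization.val_injective _ ?_
  rw [Away.val_mk, HomogeneousLocalization.val_zero, Localization.mk_eq_mk', IsLocalization.mk'_eq_zero_iff]
  exact ⟨⟨f ^ (i + 1), _, rfl⟩, by show f ^ (i + 1) * a = 0; rw [pow_succ, mul_assoc]; exact hi⟩

theorem eq_zero_of_appLE {R : CommRingCat.{u}} {Z : Scheme.{u}} (k : Spec R ⟶ Z) [IsOpenImmersion k]
    (h : ⊤ ≤ k ⁻¹ᵁ (k ''ᵁ ⊤)) (g : Γ(Z, k ''ᵁ ⊤))
    (h0 : (Scheme.ΓSpecIso R).hom (k.appLE (k ''ᵁ ⊤) ⊤ h g) = 0) : g = 0 := by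
  refine ((ConcreteCategory.isIso_iff_bijective (k.appIso ⊤).hom).1 inferInstance).1 ?_
  rw [Scheme.Hom.appIso_hom', map_zero]
  refine ((ConcreteCategory.isIso_iff_bijective (Scheme.ΓSpecIso R).hom).1 inferInstance).1 ?_
  rw [map_zero]
  exact h0

include hj hLq hL hPL hr in
theorem chart_injective (U : Y.Opens) (hU : IsAffineOpen U)
    {d : ℕ} (hd : 0 < d) (f : 𝒮.presheaf.obj (op U)) (hf : f ∈ 𝒮.deg U hU d)
    (hK : Tors u U hU (xs u U d f) (xs_le u U d f) d f) :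
    Function.Injective (r.app ((Proj.awayι (𝒮.deg U hU) f hf hd ≫ RelProj.emb p chart U hU) ''ᵁ ⊤)).hom := by
  rw [injective_iff_map_eq_zero]
  intro g hg
  have hTle : ⊤ ≤ (Proj.awayι (𝒮.deg U hU) f hf hd ≫ RelProj.emb p chart U hU) ⁻¹ᵁ
      ((Proj.awayι (𝒮.deg U hU) f hf hd ≫ RelProj.emb p chart U hU) ''ᵁ ⊤) := fun v _ => ⟨v, trivial, rfl⟩
  have h1 := eq_zero_of_chartwise u hj hLq hL hPL U hU hd f hf hK _
    (fun B hB hle => away_map_eq_zero_of_chart u hr U hU hd f hf B hB hle _ hTle g hg)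
  exact eq_zero_of_appLE _ hTle g h1

include hj hLq hL hP hPL hr in
theorem isSchemeTheoreticallyDominant_of_tors [QuasiCompact r]
    (h : ∀ y : Y, ∃ (U : Y.Opens) (hU : IsAffineOpen U), y ∈ U ∧
      ∀ (d : ℕ), 0 < d → ∀ f ∈ 𝒮.deg U hU d, Tors u U hU (xs u U d f) (xs_le u U d f) d f) :
    IsSchemeTheoreticallyDominant r := by
  choose U hU hyU hK using h
  let J := Σ y : Y, {z : ℕ × 𝒮.presheaf.obj (op (U y)) // 0 < z.1 ∧ z.2 ∈ 𝒮.deg (U y) (hU y) z.1}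
  let k : ∀ z : J, Spec (CommRingCat.of (Away (𝒮.deg (U z.1) (hU z.1)) z.2.1.2)) ⟶ P := fun z =>
    Proj.awayι (𝒮.deg (U z.1) (hU z.1)) z.2.1.2 z.2.2.2 z.2.2.1 ≫ RelProj.emb p chart (U z.1) (hU z.1)
  have hA : ∀ z : J, IsAffineOpen (k z ''ᵁ ⊤) := fun z => by
    rw [Scheme.Hom.image_top_eq_opensRange]; exact isAffineOpen_opensRange (k z)
  have hcov : ⨆ z, k z ''ᵁ ⊤ = ⊤ := by
    refine eq_top_iff.2 fun y _ => ?_
    obtain ⟨w, hw⟩ : y ∈ (RelProj.emb p chart (U (p y)) (hU (p y))).opensRange := by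
      rw [EGA2Misc.opensRange_emb]; exact hyU (p y)
    obtain ⟨d, f, hd, hf, hwf, -⟩ := exists_mem_basicOpen_le (show w ∈ (⊤ : Scheme.Opens (Proj _)) from trivial)
    obtain ⟨v, hv⟩ := (Proj.opensRange_awayι (𝒮.deg (U (p y)) (hU (p y))) f hf hd).ge hwf
    exact Opens.mem_iSup.2 ⟨⟨p y, ⟨(d, f), hd, hf⟩⟩, v, trivial, by
      show RelProj.emb p chart _ _ (Proj.awayι _ _ _ _ v) = y
      rw [hv, hw]⟩
  refine ⟨Scheme.IdealSheafData.ext_of_iSup_eq_top (fun z => ⟨k z ''ᵁ ⊤, hA z⟩) hcov fun z => ?_⟩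
  obtain ⟨y, ⟨⟨d, f⟩, hd, hf⟩⟩ := z
  refine ker_ideal_eq_bot r ⟨_, hA ⟨y, ⟨(d, f), hd, hf⟩⟩⟩ ?_
  exact chart_injective u hj hLq hL hPL hr (U y) (hU y) hd f hf (hK y d hd f hf)

end Groth.Agent.SymAlgRel
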