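import Mathlib
import Groth.Prelude.Def_RelProj4
import Groth.Agent.EGA2Misc.RelProjMap
import Groth.Agent.EGA2Misc.ProjQComp
import Groth.Agent.SymAlgRel.Exists
import Groth.Agent.SymAlgRel.SymBC
import Groth.Agent.SymAlgRel.ProjBC

/-!
# Homomorphisms out of graded symmetric algebras
-/

noncomputable section

universe u

open CategoryTheory CategoryTheory.Limits AlgebraicGeometry TopologicalSpace Opposite
open scoped HomogeneousIdeal
open Groth.Agent.QCohBase Groth.Agent.GenLocus

namespace Groth.Agent.SymAlgRel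

section ring

variable {A : Type u} [CommRing A] {𝒜 : ℕ → AddSubgroup A} [GradedRing 𝒜]

/-- Induction on homogeneous elements from homogeneous generators. -/
theorem mem_closure_of_gen (H : ℕ → A → Prop) (hH : ∀ i x, H i x → x ∈ 𝒜 i) (h1 : H 0 1)
    (hmul : ∀ i k x y, H i x → H k y → H (i + k) (x * y)) (G : Set A) (hG : ∀ x ∈ G, ∃ i, H i x)
    (hgen : Subring.closure G = ⊤) {n : ℕ} {x : A} (hx : x ∈ 𝒜 n) :
    x ∈ AddSubgroup.closure {y | H n y} := by
  let T : AddSubgroup A := AddSubgroup.closure {y | ∃ i, H i y}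
  let R : Subring A :=
    { T with
      one_mem' := AddSubgroup.subset_closure ⟨0, h1⟩
      mul_mem' := fun {a b} ha hb => by
        show a * b ∈ T
        induction ha using AddSubgroup.closure_induction with
        | mem y hy =>
          obtain ⟨i, hy⟩ := hy
          induction hb using AddSubgroup.closure_induction with
          | mem z hz =>
            obtain ⟨k, hz⟩ := hz
            exact AddSubgroup.subset_closure ⟨i + k, hmul i k y z hy hz⟩
          | zero => rw [mul_zero]; exact T.zero_mem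
          | add z w _ _ hz hw => rw [mul_add]; exact T.add_mem hz hw
          | neg z _ hz => rw [mul_neg]; exact T.neg_mem hz
        | zero => rw [zero_mul]; exact T.zero_mem
        | add y w _ _ hy hw => rw [add_mul]; exact T.add_mem hy hw
        | neg y _ hy => rw [neg_mul]; exact T.neg_mem hy }
  have hxT : x ∈ T := by
    have : Subring.closure G ≤ R := Subring.closure_le.2 fun y hy => AddSubgroup.subset_closure (hG y hy)
    rw [hgen] at this
    exact this trivial
  rw [← DirectSum.decompose_of_mem_same 𝒜 hx, ← GradedRing.proj_apply]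
  clear hx
  induction hxT using AddSubgroup.closure_induction with
  | mem y hy =>
    obtain ⟨i, hy⟩ := hy
    rw [GradedRing.proj_apply]
    by_cases h : i = n
    · subst h
      rw [DirectSum.decompose_of_mem_same 𝒜 (hH i y hy)]
      exact AddSubgroup.subset_closure hy
    · rw [DirectSum.decompose_of_mem_ne 𝒜 (hH i y hy) h]
      exact zero_mem _
  | zero => rw [map_zero]; exact zero_mem _
  | add y w _ _ hy hw => rw [map_add]; exact add_mem hy hw
  | neg y _ hy => rw [map_neg]; exact neg_mem hy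

variable {B : Type u} [CommRing B] {ℬ : ℕ → AddSubgroup B} [GradedRing ℬ]

theorem surj_pos_of_gen (ψ : 𝒜 →+*ᵍ ℬ) (hgen : Subring.closure ((ℬ 0 : Set B) ∪ (ℬ 1 : Set B)) = ⊤)
    (h1 : ∀ y ∈ ℬ 1, ∃ x ∈ 𝒜 1, ψ x = y) {n : ℕ} (hn : 1 ≤ n) {y : B} (hy : y ∈ ℬ n) :
    ∃ x ∈ 𝒜 n, ψ x = y := by
  have h := mem_closure_of_gen (𝒜 := ℬ)
    (fun i z => z ∈ ℬ i ∧ (1 ≤ i → ∀ c ∈ ℬ 0, ∃ x ∈ 𝒜 i, ψ x = c * z)) (fun i z hz => hz.1)
    ⟨SetLike.one_mem_graded ℬ, fun h => absurd h (by omega)⟩ ?_ _ ?_ hgen hy
  · clear hy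
    induction h using AddSubgroup.closure_induction with
    | mem z hz => simpa using hz.2 hn 1 (SetLike.one_mem_graded ℬ)
    | zero => exact ⟨0, zero_mem _, map_zero ψ⟩
    | add a b _ _ ha hb =>
      obtain ⟨a', ha', rfl⟩ := ha
      obtain ⟨b', hb', rfl⟩ := hb
      exact ⟨a' + b', add_mem ha' hb', map_add ψ _ _⟩
    | neg a _ ha =>
      obtain ⟨a', ha', rfl⟩ := ha
      exact ⟨-a', neg_mem ha', map_neg ψ _⟩
  · rintro i k x y ⟨hx, hx'⟩ ⟨hy, hy'⟩
    refine ⟨SetLike.mul_mem_graded hx hy, fun hik c hc => ?_⟩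
    rcases Nat.eq_zero_or_pos i with rfl | hi
    · rw [zero_add] at hik
      obtain ⟨a, ha, hae⟩ := hy' hik (c * x) (by simpa using SetLike.mul_mem_graded hc hx)
      exact ⟨a, by rwa [zero_add], by rw [hae, mul_assoc]⟩
    · rcases Nat.eq_zero_or_pos k with rfl | hk
      · obtain ⟨a, ha, hae⟩ := hx' hi (c * y) (by simpa using SetLike.mul_mem_graded hc hy)
        exact ⟨a, by rwa [add_zero], by rw [hae]; ring⟩
      · obtain ⟨a, ha, hae⟩ := hx' hi c hc
        obtain ⟨b, hb, hbe⟩ := hy' hk 1 (SetLike.one_mem_graded ℬ)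
        exact ⟨a * b, SetLike.mul_mem_graded ha hb, by rw [map_mul, hae, hbe]; ring⟩
  · rintro z (hz | hz)
    · exact ⟨0, hz, fun h => absurd h (by omega)⟩
    · refine ⟨1, hz, fun _ c hc => h1 _ ?_⟩
      simpa using SetLike.mul_mem_graded hc hz

end ring

/-- the ring homomorphism out of a symmetric algebra -/
def symTo {R M C : Type u} [CommRing R] [AddCommGroup M] [Module R M] [CommRing C] (ρ : R →+* C)
    (l : M →+ C) (hl : ∀ (r : R) (m : M), l (r • m) = ρ r * l m) : SymmetricAlgebra R M →+* C :=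
  letI := ρ.toAlgebra
  (SymmetricAlgebra.lift (R := R) (M := M) (A := C)
    { toFun := l
      map_add' := map_add l
      map_smul' := fun r m => hl r m }).toRingHom

theorem symTo_algebraMap {R M C : Type u} [CommRing R] [AddCommGroup M] [Module R M] [CommRing C]
    (ρ : R →+* C) (l : M →+ C) (hl : ∀ (r : R) (m : M), l (r • m) = ρ r * l m) (r : R) :
    symTo ρ l hl (algebraMap R _ r) = ρ r := by
  letI := ρ.toAlgebra
  exact AlgHom.commutes _ r

theorem symTo_ι {R M C : Type u} [CommRing R] [AddCommGroup M] [Module R M] [CommRing C]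
    (ρ : R →+* C) (l : M →+ C) (hl : ∀ (r : R) (m : M), l (r • m) = ρ r * l m) (m : M) :
    symTo ρ l hl (SymmetricAlgebra.ι R M m) = l m := by
  letI := ρ.toAlgebra
  exact SymmetricAlgebra.lift_ι_apply _ m

variable {S S' : Scheme.{u}} (g : S' ⟶ S) (E : S.Modules) (hE : Coh.IsQCoh E)
  {A : RelSpec.QCAlg S} {j : E ⟶ A.toModule} (hA : RelSpec.IsSymAlg E A j)

/-- ring maps out of the sections of a symmetric algebra agree if they agree on scalars and generators -/
theorem hom_ext_sym (hE : Coh.IsQCoh E) (hA : RelSpec.IsSymAlg E A j) {U : S.Opens} (hU : IsAffineOpen U)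
    {C : Type u} [CommRing C] {f h : A.presheaf.obj (op U) →+* C}
    (h₁ : ∀ r, f (A.str.app (op U) r) = h (A.str.app (op U) r))
    (h₂ : ∀ m : Γ(E, U), f (j.app U m) = h (j.app U m)) : f = h := by
  refine RingHom.ext fun x => ?_
  obtain ⟨y, rfl⟩ := (bijective_symLift E hA hE U hU).2 x
  have : f.comp (symLift E A j U) = h.comp (symLift E A j U) :=
    ringHom_ext (fun r => by rw [RingHom.comp_apply, RingHom.comp_apply, symLift_algebraMap]; exact h₁ r)
      (fun m => by rw [RingHom.comp_apply, RingHom.comp_apply, symLift_ι]; exact h₂ m)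
  exact congr($this y)

theorem closure_sym_eq_top (hE : Coh.IsQCoh E) (hA : RelSpec.IsSymAlg E A j) {U : S.Opens} (hU : IsAffineOpen U) :
    Subring.closure (Set.range (A.str.app (op U)).hom ∪
      Set.range (fun m : Γ(E, U) => (j.app U m : A.presheaf.obj (op U)))) = ⊤ := by
  rw [eq_top_iff]
  intro x hx
  clear hx
  obtain ⟨y, rfl⟩ := (bijective_symLift E hA hE U hU).2 x
  induction y using SymmetricAlgebra.induction with
  | algebraMap r => rw [symLift_algebraMap]; exact Subring.subset_closure (Or.inl ⟨r, rfl⟩)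
  | ι m => rw [symLift_ι]; exact Subring.subset_closure (Or.inr ⟨m, rfl⟩)
  | mul a b ha hb => rw [map_mul]; exact mul_mem ha hb
  | add a b ha hb => rw [map_add]; exact add_mem ha hb

section push

variable {B : RelSpec.QCAlg S'} (φ : (Scheme.Modules.pullback g).obj E ⟶ B.toModule)

/-- generators pushed to the direct image -/
def pushGen (U : S.Opens) : Γ(E, U) →+ B.presheaf.obj (op (g ⁻¹ᵁ U)) where
  toFun m := φ.app (g ⁻¹ᵁ U) (pullSec g E U m)
  map_zero' := by rw [map_zero]; exact map_zero (φ.app _).hom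
  map_add' a b := by rw [map_add]; exact map_add (φ.app _).hom _ _

theorem pushGen_smul (U : S.Opens) (r : Γ(S, U)) (m : Γ(E, U)) :
    pushGen g E φ U (r • m) = ((B.str.app (op (g ⁻¹ᵁ U))).hom.comp (g.app U).hom) r * pushGen g E φ U m := by
  show φ.app _ (pullSec g E U (r • m)) = _
  rw [pullSec_smul]
  exact map_smul (φ.val.app _).hom _ _

/-- the map on an affine open -/
def qAff (U : S.Opens) (hU : IsAffineOpen U) : A.presheaf.obj (op U) →+* B.presheaf.obj (op (g ⁻¹ᵁ U)) :=
  (symTo _ (pushGen g E φ U) (pushGen_smul g E φ U)).comp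
    (RingEquiv.ofBijective _ (bijective_symLift E hA hE U hU)).symm.toRingHom

theorem qAff_str (U : S.Opens) (hU : IsAffineOpen U) (r : Γ(S, U)) :
    qAff g E hE hA φ U hU (A.str.app (op U) r) = B.str.app (op (g ⁻¹ᵁ U)) (g.app U r) := by
  have : (RingEquiv.ofBijective _ (bijective_symLift E hA hE U hU)).symm (A.str.app (op U) r) =
      algebraMap _ _ r := (RingEquiv.symm_apply_eq _).2 (symLift_algebraMap E A j U r).symm
  exact (congrArg (symTo _ _ (pushGen_smul g E φ U)) this).trans (symTo_algebraMap _ _ (pushGen_smul g E φ U) r)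

theorem qAff_gen (U : S.Opens) (hU : IsAffineOpen U) (m : Γ(E, U)) :
    qAff g E hE hA φ U hU (j.app U m) = pushGen g E φ U m := by
  have : (RingEquiv.ofBijective _ (bijective_symLift E hA hE U hU)).symm (j.app U m) =
      SymmetricAlgebra.ι _ _ m := (RingEquiv.symm_apply_eq _).2 (symLift_ι E A j U m).symm
  exact (congrArg (symTo _ _ (pushGen_smul g E φ U)) this).trans (symTo_ι _ _ (pushGen_smul g E φ U) m)

/-- the map on affine opens, natural -/
def qNat : (site S).op ⋙ A.presheaf ⟶ (site S).op ⋙ (g.base _* B.presheaf) where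
  app U := CommRingCat.ofHom (qAff g E hE hA φ U.unop.toOpens (isAff U.unop))
  naturality U V i := by
    refine CommRingCat.hom_ext (hom_ext_sym E hE hA (isAff U.unop) (fun r => ?_) fun m => ?_)
    · show qAff g E hE hA φ V.unop.toOpens (isAff V.unop) (A.presheaf.map _ (A.str.app _ r)) =
        B.presheaf.map _ (qAff g E hE hA φ U.unop.toOpens (isAff U.unop) (A.str.app _ r))
      rw [qAff_str]
      refine (congrArg (qAff g E hE hA φ V.unop.toOpens (isAff V.unop))
        (ConcreteCategory.congr_hom (A.str.naturality ((site S).map i.unop).op) r).symm).trans ?_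
      refine (qAff_str g E hE hA φ _ (isAff V.unop) _).trans ?_
      refine Eq.trans ?_ (ConcreteCategory.congr_hom (B.str.naturality
        (homOfLE (g.preimage_mono (toOpens_le i.unop))).op) (g.app U.unop.toOpens r))
      exact congrArg (B.str.app _) (ConcreteCategory.congr_hom (g.naturality ((site S).map i.unop).op) r)
    · show qAff g E hE hA φ V.unop.toOpens (isAff V.unop) (A.presheaf.map _ (j.app _ m)) =
        B.presheaf.map _ (qAff g E hE hA φ U.unop.toOpens (isAff U.unop) (j.app _ m))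
      rw [qAff_gen]
      refine (congrArg (qAff g E hE hA φ V.unop.toOpens (isAff V.unop))
        (ConcreteCategory.congr_hom (j.mapPresheaf.naturality ((site S).map i.unop).op) m).symm).trans ?_
      refine (qAff_gen g E hE hA φ _ (isAff V.unop) _).trans ?_
      refine Eq.trans ?_ (ConcreteCategory.congr_hom (φ.mapPresheaf.naturality
        (homOfLE (g.preimage_mono (toOpens_le i.unop))).op) (pullSec g E U.unop.toOpens m))
      exact congrArg (φ.app _) (pullSec_mres g E (toOpens_le i.unop) m).symm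

/-- the direct image sheaf -/
def pushSheaf (B : RelSpec.QCAlg S') : TopCat.Sheaf CommRingCat.{u} S.carrier :=
  ⟨g.base _* B.presheaf, TopCat.Sheaf.pushforward_sheaf_of_sheaf _ B.isSheaf⟩

/-- the extension to all opens -/
def qAll : A.presheaf ⟶ g.base _* B.presheaf :=
  Functor.IsCoverDense.restrictHomEquivHom (G := site S) (K := Opens.grothendieckTopology S)
    (ℱ := A.presheaf) (ℱ' := pushSheaf g B) (qNat g E hE hA φ)

theorem qAll_app (U : S.Opens) (hU : IsAffineOpen U) (x : A.presheaf.obj (op U)) :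
    (qAll g E hE hA φ).app (op U) x = qAff g E hE hA φ U hU x :=
  ConcreteCategory.congr_hom (NatTrans.congr_app ((Functor.IsCoverDense.restrictHomEquivHom (G := site S)
    (K := Opens.grothendieckTopology S) (ℱ := A.presheaf) (ℱ' := pushSheaf g B)).symm_apply_apply
      (qNat g E hE hA φ)) (op ⟨U, hU⟩)) x

/-- the `g`-homomorphism attached to a map of modules out of the inverse image -/
def symQHom : RelSpec.QHom g A B where
  app U := (qAll g E hE hA φ).app (op U)
  naturality i := ((qAll g E hE hA φ).naturality (homOfLE i).op).symm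
  str_app U := by
    have key : A.str ≫ qAll g E hE hA φ = g.c ≫ (TopCat.Presheaf.pushforward CommRingCat.{u} g.base).map B.str := by
      apply (Functor.IsCoverDense.restrictHomEquivHom (G := site S) (K := Opens.grothendieckTopology S)
        (ℱ := S.presheaf) (ℱ' := pushSheaf g B)).symm.injective
      ext V : 2
      refine CommRingCat.hom_ext (RingHom.ext fun r => ?_)
      show (qAll g E hE hA φ).app (op V.unop.toOpens) (A.str.app (op V.unop.toOpens) r) = _
      rw [qAll_app g E hE hA φ _ (isAff V.unop), qAff_str]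
      rfl
    exact NatTrans.congr_app key (op U)

end push

theorem exists_qGrHom {𝒮 : RelProj.QCGrAlg S} {𝒮' : RelProj.QCGrAlg S'} {j : E ⟶ 𝒮.toModule}
    (hj : RelProj.IsGrSymAlg E 𝒮 j) (hE : Coh.IsQCoh E) (φ : (Scheme.Modules.pullback g).obj E ⟶ 𝒮'.toModule)
    (hφ : ∀ (V : S'.Opens) (hV : IsAffineOpen V) (x : Γ((Scheme.Modules.pullback g).obj E, V)),
      φ.app V x ∈ 𝒮'.deg V hV 1) :
    ∃ u : RelProj.QGrHom g 𝒮 𝒮', ∀ (U : S.Opens), IsAffineOpen U → ∀ (m : Γ(E, U)),
      (u.app U).hom (j.app U m) = φ.app (g ⁻¹ᵁ U) (pullSec g E U m) := by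
  refine ⟨{ toQHom := symQHom g E hE hj.1 φ, map_mem := fun U hU V hV hle d x hx => ?_ },
    fun U hU m => (qAll_app g E hE hj.1 φ U hU _).trans (qAff_gen g E hE hj.1 φ U hU m)⟩
  let f : 𝒮.presheaf.obj (op U) →+* 𝒮'.presheaf.obj (op V) :=
    (𝒮'.presheaf.map (homOfLE hle).op).hom.comp ((symQHom g E hE hj.1 φ).app U).hom
  show f x ∈ 𝒮'.deg V hV d
  have hf0 : ∀ r, f (𝒮.str.app (op U) r) ∈ 𝒮'.deg V hV 0 := by
    intro r
    have := ConcreteCategory.congr_hom ((symQHom g E hE hj.1 φ).str_appLE U V hle) r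
    show ((symQHom g E hE hj.1 φ).appLE U V hle).hom ((𝒮.str.app (op U)).hom r) ∈ _
    rw [show ((symQHom g E hE hj.1 φ).appLE U V hle).hom ((𝒮.str.app (op U)).hom r) = _ from this]
    exact 𝒮'.str_mem V hV _
  have hf1 : ∀ m, f (j.app U m) ∈ 𝒮'.deg V hV 1 := by
    intro m
    show 𝒮'.presheaf.map (homOfLE hle).op ((qAll g E hE hj.1 φ).app (op U) (j.app U m)) ∈ _
    rw [qAll_app g E hE hj.1 φ U hU, qAff_gen]
    exact (ConcreteCategory.congr_hom (φ.mapPresheaf.naturality (homOfLE hle).op) (pullSec g E U m)) ▸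
      hφ V hV (mres _ hle (pullSec g E U m))
  have h := mem_closure_of_gen (𝒜 := 𝒮.deg U hU) (fun i z => z ∈ 𝒮.deg U hU i ∧ f z ∈ 𝒮'.deg V hV i)
    (fun i z hz => hz.1) ⟨SetLike.one_mem_graded _, by rw [map_one]; exact SetLike.one_mem_graded _⟩
    (fun i k a b ha hb => ⟨SetLike.mul_mem_graded ha.1 hb.1, by
      rw [map_mul]; exact SetLike.mul_mem_graded ha.2 hb.2⟩)
    _ (by
      rintro z (⟨r, rfl⟩ | ⟨m, rfl⟩)
      · exact ⟨0, 𝒮.str_mem U hU r, hf0 r⟩
      · exact ⟨1, hj.2 U hU m, hf1 m⟩)
    (closure_sym_eq_top E hE hj.1 hU) hx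
  clear hx
  induction h using AddSubgroup.closure_induction with
  | mem z hz => exact hz.2
  | zero => rw [map_zero]; exact zero_mem _
  | add a b _ _ ha hb => rw [map_add]; exact add_mem ha hb
  | neg a _ ha => rw [map_neg]; exact neg_mem ha

end Groth.Agent.SymAlgRel
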