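import Mathlib
import Groth.Prelude.Def_GrTwist

/-!
# Twisting sheaves along a localization at an element of degree zero
-/

set_option autoImplicit false

noncomputable section

universe u

open CategoryTheory AlgebraicGeometry TopologicalSpace Opposite
open scoped HomogeneousIdeal

namespace Groth.Agent.SymAlgRel.TwistLoc

variable {A σ : Type u} [CommRing A] [SetLike σ A] [AddSubgroupClass σ A] {𝒜 : ℕ → σ} [GradedRing 𝒜]
variable {B τ : Type u} [CommRing B] [SetLike τ B] [AddSubgroupClass τ B] {ℬ : ℕ → τ} [GradedRing ℬ]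
variable (ψ : 𝒜 →+*ᵍ ℬ) (g : A) (hg : g ∈ 𝒜 0) (hu : IsUnit (ψ g))
  (hsurj : ∀ b : B, ∃ (k : ℕ) (a : A), b * ψ g ^ k = ψ a)
  (hinj : ∀ a : A, ψ a = 0 → ∃ k : ℕ, g ^ k * a = 0)

include hg hsurj in
theorem exists_homog {i : ℕ} {b : B} (hb : b ∈ ℬ i) : ∃ (k : ℕ) (a : A), a ∈ 𝒜 i ∧ b * ψ g ^ k = ψ a := by
  classical
  obtain ⟨k, a, h⟩ := hsurj b
  refine ⟨k, DirectSum.decompose 𝒜 a i, SetLike.coe_mem _, ?_⟩
  have hbi : ψ a ∈ ℬ i := by
    have hg' : ψ g ∈ ℬ 0 := ψ.map_mem hg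
    rw [← h]
    simpa only [add_zero, smul_zero] using
      SetLike.mul_mem_graded hb (SetLike.pow_mem_graded k hg')
  rw [GradedRingHom.map_directSumDecompose, DirectSum.decompose_of_mem_same _ hbi, h]

variable (hψ : ℬ₊ ≤ (𝒜₊).map ψ)

include hu in
theorem not_mem_comap (y : ProjectiveSpectrum ℬ) :
    g ∉ (ProjectiveSpectrum.comap ψ hψ y).asHomogeneousIdeal :=
  fun h => y.isPrime.ne_top (Ideal.eq_top_of_isUnit_mem _ h hu)

include hu hsurj hinj in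
theorem locMap_injective (y : ProjectiveSpectrum ℬ) : Function.Injective (GrTwist.locMap ψ hψ y) := by
  rw [injective_iff_map_eq_zero]
  intro q
  induction q using Localization.induction_on with
  | H as =>
    obtain ⟨a, s⟩ := as
    intro h
    rw [GrTwist.locMap_mk, Localization.mk_eq_mk', IsLocalization.mk'_eq_zero_iff] at h
    obtain ⟨⟨t, ht⟩, hta⟩ := h
    obtain ⟨k, c, hc⟩ := hsurj t
    have hca : ψ (c * a) = 0 := by
      rw [map_mul, ← hc, mul_assoc, mul_comm (ψ g ^ k), ← mul_assoc, hta, zero_mul]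
    obtain ⟨m, hm⟩ := hinj _ hca
    rw [Localization.mk_eq_mk', IsLocalization.mk'_eq_zero_iff]
    refine ⟨⟨g ^ m * c, fun hmem => ?_⟩, by rw [mul_assoc, hm]⟩
    rcases (ProjectiveSpectrum.comap ψ hψ y).isPrime.mem_or_mem hmem with h1 | h1
    · exact not_mem_comap ψ g hu hψ y ((ProjectiveSpectrum.comap ψ hψ y).isPrime.mem_of_pow_mem _ h1)
    · have h2 : t * ψ g ^ k ∈ y.asHomogeneousIdeal.toIdeal := hc ▸ h1
      rcases y.isPrime.mem_or_mem h2 with h3 | h3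
      · exact ht h3
      · exact y.isPrime.ne_top (Ideal.eq_top_of_isUnit_mem _ h3 (hu.pow k))

include hu hsurj hinj in
theorem comap_app_injective [IsOpenImmersion (Proj.map ψ hψ)] (n : ℤ) (W : (Proj 𝒜).Opens) (hW : W ≤ (Proj.map ψ hψ).opensRange) :
    Function.Injective ((GrTwist.comap ψ hψ n).app W) := by
  intro s t h
  refine Subtype.ext (funext fun x => Subtype.ext ?_)
  obtain ⟨y, hy⟩ := hW x.2
  obtain ⟨x, hx⟩ := x
  obtain rfl : ProjectiveSpectrum.comap ψ hψ y = x := hy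
  refine locMap_injective ψ g hu hsurj hinj hψ y ?_
  refine (GrTwist.comap_app_val ψ hψ n W s ⟨y, hx⟩).symm.trans (Eq.trans ?_ (GrTwist.comap_app_val ψ hψ n W t ⟨y, hx⟩))
  rw [show (GrTwist.comap ψ hψ n).app W s = (GrTwist.comap ψ hψ n).app W t from h]

include hg hu hsurj hinj in
theorem comap_app_bijective [IsOpenImmersion (Proj.map ψ hψ)] (n : ℤ) (W : (Proj 𝒜).Opens)
    (hW : W ≤ (Proj.map ψ hψ).opensRange) : Function.Bijective ((GrTwist.comap ψ hψ n).app W) := by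
  classical
  refine ⟨comap_app_injective ψ g hu hsurj hinj hψ n W hW, fun t => ?_⟩
  let f : Proj ℬ ⟶ Proj 𝒜 := Proj.map ψ hψ
  let tw : TopCat.Sheaf AddCommGrpCat.{u} (Proj 𝒜) :=
    ⟨(GrTwist.twist 𝒜 n).presheaf, (GrTwist.twist 𝒜 n).isSheaf⟩
  -- local preimages
  have loc : ∀ y : (f ⁻¹ᵁ W : (Proj ℬ).Opens), ∃ (N : (Proj 𝒜).Opens) (h : N ≤ W)
      (σ : GrTwist.sectN (𝒜 := 𝒜) n (op N)), f.base y.1 ∈ N ∧
        ∀ (z : ProjectiveSpectrum ℬ) (hz : ProjectiveSpectrum.comap ψ hψ z ∈ N),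
          GrTwist.locMap ψ hψ z (σ.1 ⟨_, hz⟩).1 = GrTwist.val (V := f ⁻¹ᵁ W) t ⟨z, h hz⟩ := by
    intro y
    obtain ⟨M, hyM, iM, i, j, ⟨b, hb⟩, ⟨c, hc⟩, hcn, hij, hfr⟩ :=
      (t : GrTwist.sectN (𝒜 := ℬ) n (op (f ⁻¹ᵁ W))).2 y
    let N : (Proj 𝒜).Opens := f ''ᵁ M
    have hNpre : ∀ z, ProjectiveSpectrum.comap ψ hψ z ∈ N → z ∈ M := fun z hz => by
      obtain ⟨z', hz', hzz⟩ := hz
      exact (f.isOpenEmbedding.injective hzz) ▸ hz'
    have hNW : N ≤ W := by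
      rintro _ ⟨z, hz, rfl⟩
      exact iM.le hz
    obtain ⟨l, d, hd, hdc⟩ := exists_homog ψ g hg hsurj hc
    rcases hij with hij | hb0
    · obtain ⟨k, a, ha, hab⟩ := exists_homog ψ g hg hsurj hb
      have hgl : ∀ m, g ^ m ∈ 𝒜 0 := fun m => by simpa using SetLike.pow_mem_graded m hg
      have hden : ∀ x : N, d * g ^ k ∉ x.1.asHomogeneousIdeal := by
        rintro ⟨_, z, hz, rfl⟩ hmem
        have h1 : ψ (d * g ^ k) ∈ z.asHomogeneousIdeal.toIdeal := hmem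
        rw [map_mul, map_pow, ← hdc, mul_assoc, ← pow_add] at h1
        rcases z.isPrime.mem_or_mem h1 with h2 | h2
        · exact hcn ⟨z, hz⟩ h2
        · exact z.isPrime.ne_top (Ideal.eq_top_of_isUnit_mem _ h2 (hu.pow _))
      have hnum : a * g ^ l ∈ 𝒜 i := by simpa using SetLike.mul_mem_graded ha (hgl l)
      have hden' : d * g ^ k ∈ 𝒜 j := by simpa using SetLike.mul_mem_graded hd (hgl k)
      let σ : GrTwist.sectN (𝒜 := 𝒜) n (op N) :=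
        ⟨fun x => ⟨Localization.mk (a * g ^ l) ⟨d * g ^ k, hden x⟩,
          Submodule.subset_span ⟨i, j, ⟨_, hnum⟩, ⟨_, hden'⟩, hden x, hij, rfl⟩⟩,
          fun x => ⟨N, x.2, 𝟙 _, i, j, ⟨_, hnum⟩, ⟨_, hden'⟩, hden, Or.inl hij, fun _ => rfl⟩⟩
      refine ⟨N, hNW, σ, ⟨y.1, hyM, rfl⟩, fun z hz => ?_⟩
      refine (GrTwist.locMap_mk ψ hψ z _ _).trans (Eq.trans ?_ (hfr ⟨z, hNpre z hz⟩).symm)
      rw [Localization.mk_eq_mk_iff, Localization.r_iff_exists]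
      refine ⟨1, ?_⟩
      simp only [OneMemClass.coe_one, one_mul, map_mul, map_pow, ← hab, ← hdc]
      ring
    · refine ⟨N, hNW, 0, ⟨y.1, hyM, rfl⟩, fun z hz => ?_⟩
      refine (map_zero _).trans (Eq.trans ?_ (hfr ⟨z, hNpre z hz⟩).symm)
      simp only [show b = 0 from hb0, Localization.mk_zero]
  choose N hNW σ hmem hσ using loc
  have hcover : W ≤ iSup N := fun x hx => by
    obtain ⟨y, rfl⟩ := hW hx
    exact TopologicalSpace.Opens.mem_iSup.2 ⟨⟨y, hx⟩, hmem ⟨y, hx⟩⟩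
  have hcompat : ∀ p q, tw.1.map (homOfLE (inf_le_left : N p ⊓ N q ≤ N p)).op (σ p) =
      tw.1.map (homOfLE (inf_le_right : N p ⊓ N q ≤ N q)).op (σ q) := by
    intro p q
    refine Subtype.ext (funext fun x => Subtype.ext ?_)
    obtain ⟨x, hx⟩ := x
    obtain ⟨y, hy⟩ := hW (hNW p hx.1)
    obtain rfl : ProjectiveSpectrum.comap ψ hψ y = x := hy
    exact locMap_injective ψ g hu hsurj hinj hψ y ((hσ p y hx.1).trans (hσ q y hx.2).symm)
  obtain ⟨s, hs, -⟩ := TopCat.Sheaf.existsUnique_gluing' tw N W (fun p => homOfLE (hNW p)) hcover σ (fun p q => hcompat p q)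
  refine ⟨s, Subtype.ext (funext fun z => Subtype.ext ?_)⟩
  obtain ⟨p, hp⟩ := TopologicalSpace.Opens.mem_iSup.1 (hcover z.2)
  refine (GrTwist.comap_app_val ψ hψ n W s z).trans (Eq.trans ?_ (hσ p z.1 hp))
  refine congrArg (GrTwist.locMap ψ hψ z.1) ?_
  exact congrArg (fun r : GrTwist.sectN (𝒜 := 𝒜) n (op (N p)) => ((r.1 ⟨_, hp⟩).1)) (hs p)

section comp

variable {C υ : Type u} [CommRing C] [SetLike υ C] [AddSubgroupClass υ C] {𝒞 : ℕ → υ} [GradedRing 𝒞]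
  (φ : ℬ →+*ᵍ 𝒞) (hφ : 𝒞₊ ≤ (ℬ₊).map φ) (χ : 𝒜 →+*ᵍ 𝒞) (hχ : 𝒞₊ ≤ (𝒜₊).map χ)
  (hcomp : ∀ a, φ (ψ a) = χ a)

include hcomp in
theorem locMap_locMap (n : ℤ) {V : Opens (ProjectiveSpectrum.top 𝒜)} (s : GrTwist.sectN (𝒜 := 𝒜) n (op V))
    (y : ProjectiveSpectrum 𝒞)
    (hy : ProjectiveSpectrum.comap ψ hψ (ProjectiveSpectrum.comap φ hφ y) ∈ V)
    (hy' : ProjectiveSpectrum.comap χ hχ y ∈ V) :
    GrTwist.locMap φ hφ y (GrTwist.locMap ψ hψ (ProjectiveSpectrum.comap φ hφ y) (s.1 ⟨_, hy⟩).1) =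
      GrTwist.locMap χ hχ y (s.1 ⟨_, hy'⟩).1 := by
  obtain ⟨M, hM, iM, i, j, x, c, hc, -, hfr⟩ := s.2 ⟨_, hy'⟩
  have hpt : ProjectiveSpectrum.comap ψ hψ (ProjectiveSpectrum.comap φ hφ y) =
      ProjectiveSpectrum.comap χ hχ y := by
    refine ProjectiveSpectrum.ext (HomogeneousIdeal.ext (Ideal.ext fun z => ?_))
    show φ (ψ z) ∈ y.asHomogeneousIdeal ↔ χ z ∈ y.asHomogeneousIdeal
    rw [hcomp]
  have hM' : ProjectiveSpectrum.comap ψ hψ (ProjectiveSpectrum.comap φ hφ y) ∈ M := hpt ▸ hM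
  refine (congrArg (fun q => GrTwist.locMap φ hφ y (GrTwist.locMap ψ hψ _ q)) (hfr ⟨_, hM'⟩)).trans
    (Eq.trans ?_ (congrArg (GrTwist.locMap χ hχ y) (hfr ⟨_, hM⟩)).symm)
  rw [GrTwist.locMap_mk, GrTwist.locMap_mk, GrTwist.locMap_mk]
  simp only [hcomp]

end comp

end Groth.Agent.SymAlgRel.TwistLoc

end
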