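import Mathlib
import Groth.Prelude.Def_RelProj2
import Groth.Agent.EGA2Misc.ProjTN
import Groth.Agent.SymAlgRel.BasicGlue
import Groth.Agent.SymAlgRel.TwistLoc

/-!
# Existence of the twisting sheaves on a relative Proj
-/

set_option autoImplicit false
set_option backward.isDefEq.respectTransparency false
set_option backward.isDefEq.respectTransparency.types false

noncomputable section

universe u

open CategoryTheory CategoryTheory.Limits AlgebraicGeometry TopologicalSpace Opposite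
open scoped HomogeneousIdeal

namespace Groth.Agent.SymAlgRel

variable {S P : Scheme.{u}} {𝒮 : RelProj.QCGrAlg S} {p : P ⟶ S}
  {chart : ∀ (U : S.Opens) (hU : IsAffineOpen U), (((p ⁻¹ᵁ U : P.Opens) : Scheme.{u}) ≅ Proj (𝒮.deg U hU))}

/-- `D` is a basic open of the affine open `U` -/
def IsBasic (U D : S.affineOpens) : Prop := ∃ r : Γ(S, U.1), D.1 = S.basicOpen r

namespace IsBasic

theorem le {U D : S.affineOpens} (h : IsBasic U D) : D.1 ≤ U.1 := by
  obtain ⟨r, hr⟩ := h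
  exact hr ▸ S.basicOpen_le r

theorem trans {U D E : S.affineOpens} (h : IsBasic U D) (h' : IsBasic D E) : IsBasic U E := by
  obtain ⟨r, hr⟩ := h
  obtain ⟨D, hD⟩ := D
  dsimp only at hr
  subst hr
  obtain ⟨r', hr'⟩ := h'
  obtain ⟨r'', hr''⟩ := U.2.basicOpen_basicOpen_is_basicOpen r r'
  exact ⟨r'', hr'.trans hr''.symm⟩

theorem inter (U V : S.affineOpens) (s : S) (hU : s ∈ U.1) (hV : s ∈ V.1) :
    ∃ D, IsBasic U D ∧ IsBasic V D ∧ s ∈ D.1 := by
  obtain ⟨f, g, he, hs⟩ := exists_basicOpen_le_affine_inter U.2 V.2 s ⟨hU, hV⟩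
  exact ⟨⟨S.basicOpen f, U.2.basicOpen f⟩, ⟨f, rfl⟩, ⟨g, he⟩, hs⟩

theorem irrelevant_le {U D : S.affineOpens} (h : IsBasic U D) :
    (𝒮.deg D.1 D.2)₊ ≤ ((𝒮.deg U.1 U.2)₊).map (𝒮.res U.2 D.2 h.le) := by
  obtain ⟨D, hD⟩ := D
  obtain ⟨r, hr⟩ := id h
  dsimp only at hr
  subst hr
  exact 𝒮.irrelevant_le_map U.1 U.2 r

theorem map_emb (hP : RelProj.IsRelProj 𝒮 p chart) {U D : S.affineOpens} (h : IsBasic U D) :
    Proj.map (𝒮.res U.2 D.2 h.le) h.irrelevant_le ≫ RelProj.emb p chart U.1 U.2 =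
      RelProj.emb p chart D.1 D.2 := by
  obtain ⟨D, hD⟩ := D
  obtain ⟨r, hr⟩ := id h
  dsimp only at hr
  subst hr
  exact RelProj.map_res_emb hP U.1 U.2 r

theorem isOpenImmersion_map (hP : RelProj.IsRelProj 𝒮 p chart) {U D : S.affineOpens} (h : IsBasic U D) :
    IsOpenImmersion (Proj.map (𝒮.res U.2 D.2 h.le) (h.irrelevant_le (𝒮 := 𝒮))) := by
  haveI : IsOpenImmersion (Proj.map (𝒮.res U.2 D.2 h.le) (h.irrelevant_le (𝒮 := 𝒮)) ≫
      RelProj.emb p chart U.1 U.2) := by rw [h.map_emb hP]; infer_instance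
  exact IsOpenImmersion.of_comp _ (RelProj.emb p chart U.1 U.2)

theorem le_range (hP : RelProj.IsRelProj 𝒮 p chart) {U D : S.affineOpens} (h : IsBasic U D) (W : P.Opens)
    (hW : W ≤ p ⁻¹ᵁ D.1) :
    haveI := h.isOpenImmersion_map hP
    RelProj.emb p chart U.1 U.2 ⁻¹ᵁ W ≤
      (Proj.map (𝒮.res U.2 D.2 h.le) (h.irrelevant_le (𝒮 := 𝒮))).opensRange := by
  intro x hx
  have h1 : (RelProj.emb p chart U.1 U.2).base x ∈ (RelProj.emb p chart D.1 D.2).opensRange := by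
    rw [EGA2Misc.opensRange_emb]
    exact hW hx
  obtain ⟨w, hw⟩ := h1
  refine ⟨w, (RelProj.emb p chart U.1 U.2).isOpenEmbedding.injective ?_⟩
  rw [← h.map_emb hP] at hw
  exact hw

end IsBasic

/-- localization data of a basic restriction -/
theorem res_basic_loc {U D : S.affineOpens} (h : IsBasic U D) :
    ∃ g ∈ 𝒮.deg U.1 U.2 0, IsUnit (𝒮.res U.2 D.2 h.le g) ∧
      (∀ b, ∃ (k : ℕ) (a : 𝒮.presheaf.obj (op U.1)), b * 𝒮.res U.2 D.2 h.le g ^ k = 𝒮.res U.2 D.2 h.le a) ∧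
      ∀ a, 𝒮.res U.2 D.2 h.le a = 0 → ∃ k : ℕ, g ^ k * a = 0 := by
  obtain ⟨D, hD⟩ := D
  obtain ⟨r, hr⟩ := id h
  dsimp only at hr
  subst hr
  let _inst := (𝒮.presheaf.map (homOfLE (S.basicOpen_le r)).op).hom.toAlgebra
  haveI : IsLocalization.Away ((𝒮.str.app (op U.1)).hom r) (𝒮.presheaf.obj (op (S.basicOpen r))) :=
    𝒮.isQC U.1 U.2 r
  refine ⟨(𝒮.str.app (op U.1)).hom r, 𝒮.str_mem U.1 U.2 r, IsLocalization.Away.algebraMap_isUnit _,
    fun b => ?_, fun a ha => ?_⟩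
  · obtain ⟨n, a, hna⟩ := IsLocalization.Away.surj ((𝒮.str.app (op U.1)).hom r) b
    exact ⟨n, a, hna⟩
  · obtain ⟨⟨_, k, rfl⟩, hk⟩ := (IsLocalization.map_eq_zero_iff
      (Submonoid.powers ((𝒮.str.app (op U.1)).hom r)) (𝒮.presheaf.obj (op (S.basicOpen r))) a).1 ha
    exact ⟨k, hk⟩

variable (p chart) in
/-- the twisting sheaf over an affine open, as a module on `P` -/
def twistG (n : ℤ) (U : S.affineOpens) : P.Modules :=
  (Scheme.Modules.pushforward (RelProj.emb p chart U.1 U.2)).obj (GrTwist.twist (𝒮.deg U.1 U.2) n)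

/-- the transition map -/
def twistφ (hP : RelProj.IsRelProj 𝒮 p chart) (n : ℤ) {U D : S.affineOpens} (h : IsBasic U D) :
    twistG p chart n U ⟶ twistG p chart n D :=
  (Scheme.Modules.pushforward (RelProj.emb p chart U.1 U.2)).map
      (GrTwist.comap (𝒮.res U.2 D.2 h.le) h.irrelevant_le n) ≫
    (Scheme.Modules.pushforwardComp (Proj.map (𝒮.res U.2 D.2 h.le) h.irrelevant_le)
        (RelProj.emb p chart U.1 U.2)).hom.app (GrTwist.twist (𝒮.deg D.1 D.2) n) ≫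
      (Scheme.Modules.pushforwardCongr (h.map_emb hP)).hom.app (GrTwist.twist (𝒮.deg D.1 D.2) n)

theorem twistφ_val (hP : RelProj.IsRelProj 𝒮 p chart) (n : ℤ) {U D : S.affineOpens} (h : IsBasic U D)
    (W : P.Opens) (s : Γ(twistG p chart n U, W)) (y : ProjectiveSpectrum (𝒮.deg D.1 D.2))
    (hy : (RelProj.emb p chart D.1 D.2).base y ∈ W)
    (hy' : (RelProj.emb p chart U.1 U.2).base
      (ProjectiveSpectrum.comap (𝒮.res U.2 D.2 h.le) h.irrelevant_le y) ∈ W) :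
    GrTwist.val (V := RelProj.emb p chart D.1 D.2 ⁻¹ᵁ W) ((twistφ hP n h).app W s) ⟨y, hy⟩ =
      GrTwist.locMap (𝒮.res U.2 D.2 h.le) h.irrelevant_le y
        (GrTwist.val (V := RelProj.emb p chart U.1 U.2 ⁻¹ᵁ W) s ⟨_, hy'⟩) := rfl

theorem twistφ_bijective (hP : RelProj.IsRelProj 𝒮 p chart) (n : ℤ) {U D : S.affineOpens} (h : IsBasic U D)
    (W : P.Opens) (hW : W ≤ p ⁻¹ᵁ D.1) : Function.Bijective ((twistφ hP n h).app W) := by
  haveI := h.isOpenImmersion_map hP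
  obtain ⟨g, hg, hu, hs, hi⟩ := res_basic_loc (𝒮 := 𝒮) h
  have h1 := TwistLoc.comap_app_bijective (𝒮.res U.2 D.2 h.le) g hg hu hs hi h.irrelevant_le n
    (RelProj.emb p chart U.1 U.2 ⁻¹ᵁ W) (h.le_range hP W hW)
  have h2 : IsIso (((Scheme.Modules.pushforwardComp (Proj.map (𝒮.res U.2 D.2 h.le) h.irrelevant_le)
      (RelProj.emb p chart U.1 U.2)).hom.app (GrTwist.twist (𝒮.deg D.1 D.2) n) ≫
        (Scheme.Modules.pushforwardCongr (h.map_emb hP)).hom.app _).app W) := inferInstance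
  exact ((ConcreteCategory.isIso_iff_bijective _).1 h2).comp h1

theorem twistG_bij_rs (n : ℤ) (U : S.affineOpens) (W : P.Opens) :
    Function.Bijective (BasicGlue.rs (twistG p chart n U) (inf_le_left : W ⊓ p ⁻¹ᵁ U.1 ≤ W)) := by
  have he : RelProj.emb p chart U.1 U.2 ⁻¹ᵁ (W ⊓ p ⁻¹ᵁ U.1) = RelProj.emb p chart U.1 U.2 ⁻¹ᵁ W := by
    refine le_antisymm (fun x hx => hx.1) fun x hx => ⟨hx, ?_⟩
    rw [← EGA2Misc.opensRange_emb p chart U.1 U.2]
    exact ⟨x, rfl⟩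
  have h2 : IsIso ((GrTwist.twist (𝒮.deg U.1 U.2) n).presheaf.map (eqToHom he).op) := inferInstance
  exact (ConcreteCategory.isIso_iff_bijective _).1 h2

theorem twist_locMap_comp {U D E : S.affineOpens} (a : IsBasic U D) (b : IsBasic D E) (n : ℤ)
    {V : (Proj (𝒮.deg U.1 U.2)).Opens} (s : GrTwist.sectN (𝒜 := 𝒮.deg U.1 U.2) n (op V))
    (y : ProjectiveSpectrum (𝒮.deg E.1 E.2))
    (hy : ProjectiveSpectrum.comap (𝒮.res U.2 D.2 a.le) a.irrelevant_le
      (ProjectiveSpectrum.comap (𝒮.res D.2 E.2 b.le) b.irrelevant_le y) ∈ V)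
    (hy' : ProjectiveSpectrum.comap (𝒮.res U.2 E.2 (a.trans b).le) (a.trans b).irrelevant_le y ∈ V) :
    GrTwist.locMap (𝒮.res D.2 E.2 b.le) b.irrelevant_le y
      (GrTwist.locMap (𝒮.res U.2 D.2 a.le) a.irrelevant_le _ (s.1 ⟨_, hy⟩).1) =
    GrTwist.locMap (𝒮.res U.2 E.2 (a.trans b).le) (a.trans b).irrelevant_le y (s.1 ⟨_, hy'⟩).1 := by
  exact TwistLoc.locMap_locMap (𝒮.res U.2 D.2 a.le) a.irrelevant_le (𝒮.res D.2 E.2 b.le) b.irrelevant_le
    (𝒮.res U.2 E.2 (a.trans b).le) (a.trans b).irrelevant_le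
    (fun x => (ConcreteCategory.congr_hom (𝒮.presheaf.map_comp (homOfLE a.le).op (homOfLE b.le).op) x).symm)
    n s y hy hy'

/-- the gluing datum -/
def twistData (hP : RelProj.IsRelProj 𝒮 p chart) (n : ℤ) : BasicGlue.GlueData P where
  ι := S.affineOpens
  O U := p ⁻¹ᵁ U.1
  R := IsBasic
  le h := (TopologicalSpace.Opens.map p.base).monotone h.le
  trans := IsBasic.trans
  cover x := by
    obtain ⟨U, hU⟩ := TopologicalSpace.Opens.mem_iSup.1
      ((AlgebraicGeometry.iSup_affineOpens_eq_top S).ge (Set.mem_univ (p.base x)))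
    exact ⟨U, hU⟩
  inter U V x hx hx' := IsBasic.inter U V (p.base x) hx hx'
  G := twistG p chart n
  φ h := twistφ hP n h
  bij h W hW := twistφ_bijective hP n h W hW
  bij_rs := twistG_bij_rs n
  comp {U D E} a b W s := by
    refine Subtype.ext (funext fun y => Subtype.ext ?_)
    obtain ⟨y, hy⟩ := y
    have hy1 : (RelProj.emb p chart D.1 D.2).base
        (ProjectiveSpectrum.comap (𝒮.res D.2 E.2 b.le) b.irrelevant_le y) ∈ W := by
      rw [← b.map_emb hP] at hy; exact hy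
    have hy2 : (RelProj.emb p chart U.1 U.2).base (ProjectiveSpectrum.comap (𝒮.res U.2 D.2 a.le) a.irrelevant_le
        (ProjectiveSpectrum.comap (𝒮.res D.2 E.2 b.le) b.irrelevant_le y)) ∈ W := by
      rw [← a.map_emb hP] at hy1; exact hy1
    have hy3 : (RelProj.emb p chart U.1 U.2).base
        (ProjectiveSpectrum.comap (𝒮.res U.2 E.2 (a.trans b).le) (a.trans b).irrelevant_le y) ∈ W := by
      rw [← (a.trans b).map_emb hP] at hy; exact hy
    refine (twistφ_val hP n b W _ y hy hy1).trans ?_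
    refine Eq.trans ?_ (twistφ_val hP n (a.trans b) W s y hy hy3).symm
    refine (congrArg _ (twistφ_val hP n a W s _ hy1 hy2)).trans ?_
    exact twist_locMap_comp a b n s y hy2 hy3

/-- Existence of `O_P(n)`. -/
theorem exists_isRelTwist (hP : RelProj.IsRelProj 𝒮 p chart) (n : ℤ) :
    ∃ (L : P.Modules) (lam : ∀ (U : S.Opens) (hU : IsAffineOpen U),
      L ⟶ (Scheme.Modules.pushforward (RelProj.emb p chart U hU)).obj (GrTwist.twist (𝒮.deg U hU) n)),
      RelProj.IsRelTwist 𝒮 p chart n L lam := by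
  refine ⟨(twistData hP n).L, fun U hU => (twistData hP n).lam ⟨U, hU⟩,
    ⟨fun U hU W hW => (twistData hP n).bijective_lam ⟨U, hU⟩ W hW, fun U hU r W s y hy hy' => ?_⟩⟩
  let U' : S.affineOpens := ⟨U, hU⟩
  let D : S.affineOpens := ⟨S.basicOpen r, hU.basicOpen r⟩
  have a : IsBasic U' D := ⟨r, rfl⟩
  have h := (twistData hP n).lam_app_φ (i := U') (j := D) a W s
  exact (congrArg (fun z : Γ(twistG p chart n D, W) =>
    GrTwist.val (V := RelProj.emb p chart (S.basicOpen r) (hU.basicOpen r) ⁻¹ᵁ W) z ⟨y, hy⟩) h.symm).trans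
      (twistφ_val hP n a W _ y hy hy')

end Groth.Agent.SymAlgRel

end
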