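import Mathlib
import Groth.Prelude.Def_RelProj2
import Groth.Agent.EGA2Misc.ProjTN
import Groth.Agent.EGA2Misc.RelProjFT
import Groth.Agent.GrModLib.TwistN
import Groth.Agent.SymAlgRel.TwistExist

/-!
# Frames of the twisting sheaves of a relative Proj
-/

set_option autoImplicit false
set_option backward.isDefEq.respectTransparency false
set_option backward.isDefEq.respectTransparency.types false

noncomputable section

universe u

open CategoryTheory AlgebraicGeometry TopologicalSpace Opposite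
open Groth.Agent.QCohBase Groth.Agent.GenLocus
open scoped HomogeneousIdeal

namespace Groth.Agent.SymAlgRel

/-- frames are detected by a map bijective on sections inside the range of an open immersion -/
theorem isFrame_of_bijective {X Y : Scheme.{u}} (f : X ⟶ Y) [IsOpenImmersion f] {M : Y.Modules} {N : X.Modules}
    (φ : M ⟶ (Scheme.Modules.pushforward f).obj N) {W : Y.Opens} (hW : W ≤ f.opensRange)
    (h : ∀ V : Y.Opens, V ≤ W → Function.Bijective (φ.app V)) {a : Γ(M, W)}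
    {e : Γ(N, f ⁻¹ᵁ W)} (hae : φ.app W a = e) (he : IsFrame N e) : IsFrame M a := by
  intro V hV
  have hbij : Function.Bijective (f.app V) := by
    haveI := f.isIso_app V (hV.trans hW)
    exact (ConcreteCategory.isIso_iff_bijective _).1 inferInstance
  have hpre : f ⁻¹ᵁ V ≤ f ⁻¹ᵁ W := (TopologicalSpace.Opens.map f.base).monotone hV
  have key : ∀ r : Γ(Y, V), φ.app V (r • mres M hV a) = (show Γ(X, f ⁻¹ᵁ V) from f.app V r) • mres N hpre e := by
    intro r
    refine (Scheme.Modules.Hom.app_smul φ r _).trans ?_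
    have h1 : φ.app V (mres M hV a) = mres N hpre e :=
      (ConcreteCategory.congr_hom (φ.mapPresheaf.naturality (homOfLE hV).op) a).trans (congrArg _ hae)
    rw [h1]
    rfl
  refine ((h V hV).of_comp_iff' _).1 ?_
  have hfun : φ.app V ∘ (fun r : Γ(Y, V) => r • mres M hV a) =
      (fun r : Γ(X, f ⁻¹ᵁ V) => r • mres N hpre e) ∘ f.app V := funext key
  rw [hfun]
  exact (he _ hpre).comp hbij

theorem exists_isFrame_of_bijective {X Y : Scheme.{u}} (f : X ⟶ Y) [IsOpenImmersion f] {M : Y.Modules}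
    {N : X.Modules} (φ : M ⟶ (Scheme.Modules.pushforward f).obj N) (V₀ : X.Opens)
    (h : ∀ V : Y.Opens, V ≤ f ''ᵁ V₀ → Function.Bijective (φ.app V)) {e : Γ(N, V₀)} (he : IsFrame N e) :
    ∃ a : Γ(M, f ''ᵁ V₀), IsFrame M a := by
  have hle : f ⁻¹ᵁ f ''ᵁ V₀ ≤ V₀ := (f.preimage_image_eq V₀).le
  obtain ⟨a, ha⟩ := (h _ le_rfl).2 (mres N hle e)
  exact ⟨a, isFrame_of_bijective f φ (f.image_le_opensRange V₀) h ha (he.res hle)⟩

variable {S P : Scheme.{u}} {𝒮 : RelProj.QCGrAlg S} {p : P ⟶ S}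
  {chart : ∀ (U : S.Opens) (hU : IsAffineOpen U), (((p ⁻¹ᵁ U : P.Opens) : Scheme.{u}) ≅ Proj (𝒮.deg U hU))}
  {n : ℤ} {L : P.Modules}
  {lam : ∀ (U : S.Opens) (hU : IsAffineOpen U),
    L ⟶ (Scheme.Modules.pushforward (RelProj.emb p chart U hU)).obj (GrTwist.twist (𝒮.deg U hU) n)}

/-- frames of `O_P(n)` around points of `D₊(f)`, `deg f ∣ n` -/
theorem exists_frame_relTwist (hL : RelProj.IsRelTwist 𝒮 p chart n L lam) (U : S.Opens) (hU : IsAffineOpen U)
    {d : ℕ} (f : 𝒮.deg U hU d) (k : ℤ) (hd : n = k * d) :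
    ∃ a : Γ(L, RelProj.emb p chart U hU ''ᵁ Proj.basicOpen (𝒮.deg U hU) f.1), IsFrame L a := by
  obtain ⟨e, he⟩ := GrModLib.exists_isFrame_twist (𝒮.deg U hU) n f k hd
  refine exists_isFrame_of_bijective (RelProj.emb p chart U hU) (lam U hU) _ (fun V hV => hL.bijective U hU V ?_) he
  exact hV.trans (((RelProj.emb p chart U hU).image_le_opensRange _).trans
    (EGA2Misc.opensRange_emb p chart U hU).le)

theorem exists_affine_emb (p : P ⟶ S)
    (chart : ∀ (U : S.Opens) (hU : IsAffineOpen U), (((p ⁻¹ᵁ U : P.Opens) : Scheme.{u}) ≅ Proj (𝒮.deg U hU)))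
    (y : P) : ∃ (U : S.Opens) (hU : IsAffineOpen U) (z : Proj (𝒮.deg U hU)),
      (RelProj.emb p chart U hU).base z = y := by
  obtain ⟨⟨U, hU⟩, hy⟩ := TopologicalSpace.Opens.mem_iSup.1
    ((AlgebraicGeometry.iSup_affineOpens_eq_top S).ge (Set.mem_univ (p.base y)))
  exact ⟨U, hU, (SetLike.ext_iff.mp (EGA2Misc.opensRange_emb p chart U hU) y).2 hy⟩

theorem exists_degOne_notMem (hgen : 𝒮.IsGenDegOne) (U : S.Opens) (hU : IsAffineOpen U)
    (z : ProjectiveSpectrum (𝒮.deg U hU)) :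
    ∃ f : 𝒮.deg U hU 1, (f : 𝒮.presheaf.obj (op U)) ∉ z.asHomogeneousIdeal := by
  by_contra hne
  push Not at hne
  refine z.not_irrelevant_le ?_
  intro x hx
  have h := EGA2Misc.irrelevant_le_span (𝒮.deg U hU) (hgen U hU) (𝒮.deg U hU 1 : Set _)
    (fun y hy => Ideal.subset_span hy) hx
  refine (Ideal.span_le.2 ?_ : Ideal.span _ ≤ z.asHomogeneousIdeal.toIdeal) h
  exact fun y hy => hne ⟨y, hy⟩

/-- `O_P(n)` is invertible when the algebra is generated in degree one. -/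
theorem isInvertible_relTwist (hgen : 𝒮.IsGenDegOne) (hL : RelProj.IsRelTwist 𝒮 p chart n L lam) :
    PicF.IsInvertible L :=
  ProjUPLib.isInvertible_of_local_frames fun y => by
    obtain ⟨U, hU, z, rfl⟩ := exists_affine_emb p chart y
    obtain ⟨f, hf⟩ := exists_degOne_notMem hgen U hU z
    obtain ⟨a, ha⟩ := exists_frame_relTwist hL U hU f n (by simp)
    exact ⟨RelProj.emb p chart U hU ''ᵁ Proj.basicOpen (𝒮.deg U hU) f.1, ⟨z, hf, rfl⟩, a, ha⟩

theorem isFrame_restrict_opens {X : Scheme.{u}} {M : X.Modules} (U : X.Opens) (V : (U : Scheme.{u}).Opens)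
    {a : Γ(M, U.ι ''ᵁ V)} (ha : IsFrame M a) : IsFrame (M.restrict U.ι) ((M.restrictAppIso U.ι V).inv a) := by
  intro W hW
  have hb := ha (U.ι ''ᵁ W) (U.ι.image_mono hW)
  have hres : (M.restrictAppIso U.ι W).hom (mres (M.restrict U.ι) hW ((M.restrictAppIso U.ι V).inv a)) =
      mres M (U.ι.image_mono hW) a := rfl
  have key : ∀ r : Γ((U : Scheme.{u}), W),
      (M.restrictAppIso U.ι W).hom (r • mres (M.restrict U.ι) hW ((M.restrictAppIso U.ι V).inv a)) =
        (U.ι.appIso W).inv r • mres M (U.ι.image_mono hW) a := fun r => by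
    rw [Scheme.Modules.smul_restrictAppIso_hom_apply, hres]
  refine (Function.Bijective.of_comp_iff'
    ((ConcreteCategory.isIso_iff_bijective (M.restrictAppIso U.ι W).hom).mp inferInstance) _).1 ?_
  rw [show ⇑(M.restrictAppIso U.ι W).hom ∘ (fun r => r • mres (M.restrict U.ι) hW ((M.restrictAppIso U.ι V).inv a)) =
    (fun r => r • mres M (U.ι.image_mono hW) a) ∘ ⇑(U.ι.appIso W).inv from funext key]
  exact hb.comp ((ConcreteCategory.isIso_iff_bijective (U.ι.appIso W).inv).mp inferInstance)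

/-- periodic invertibility on a quasi-compact open -/
theorem exists_period (p : P ⟶ S)
    (chart : ∀ (U : S.Opens) (hU : IsAffineOpen U), (((p ⁻¹ᵁ U : P.Opens) : Scheme.{u}) ≅ Proj (𝒮.deg U hU)))
    (U : P.Opens) (hU : IsCompact (U : Set P)) :
    ∃ d : ℕ, 0 < d ∧ ∀ (n : ℤ), (d : ℤ) ∣ n →
      ∀ (L : P.Modules)
        (lam : ∀ (V : S.Opens) (hV : IsAffineOpen V),
          L ⟶ (Scheme.Modules.pushforward (RelProj.emb p chart V hV)).obj (GrTwist.twist (𝒮.deg V hV) n)),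
        RelProj.IsRelTwist 𝒮 p chart n L lam → PicF.IsInvertible (L.restrict U.ι) := by
  classical
  have h : ∀ y : P, ∃ (V : S.Opens) (hV : IsAffineOpen V) (e : ℕ) (_ : 0 < e) (f : 𝒮.deg V hV e),
      y ∈ RelProj.emb p chart V hV ''ᵁ Proj.basicOpen (𝒮.deg V hV) f.1 := by
    intro y
    obtain ⟨V, hV, z, rfl⟩ := exists_affine_emb p chart y
    obtain ⟨e, f, he, hf, hfz⟩ : ∃ (e : ℕ) (f : 𝒮.presheaf.obj (op V)), 0 < e ∧ f ∈ 𝒮.deg V hV e ∧
        f ∉ (show ProjectiveSpectrum (𝒮.deg V hV) from z).asHomogeneousIdeal := by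
      by_contra hne
      push Not at hne
      refine (show ProjectiveSpectrum (𝒮.deg V hV) from z).not_irrelevant_le ?_
      rw [HomogeneousIdeal.irrelevant_le]
      exact fun i hi b hb => hne i b hi hb
    exact ⟨V, hV, e, he, ⟨f, hf⟩, z, hfz, rfl⟩
  choose V hV e he f hy using h
  obtain ⟨T, hT⟩ := hU.elim_finite_subcover
    (fun y : P => (RelProj.emb p chart (V y) (hV y) ''ᵁ Proj.basicOpen (𝒮.deg (V y) (hV y)) (f y).1 : Set P))
    (fun y => (RelProj.emb p chart (V y) (hV y) ''ᵁ Proj.basicOpen (𝒮.deg (V y) (hV y)) (f y).1).2)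
    fun y _ => Set.mem_iUnion.2 ⟨y, hy y⟩
  refine ⟨∏ y ∈ T, e y, Finset.prod_pos fun y _ => he y, fun n hn L lam hL => ?_⟩
  refine ProjUPLib.isInvertible_of_local_frames fun x => ?_
  obtain ⟨y, hyT, hxy⟩ := Set.mem_iUnion₂.1 (hT x.2)
  obtain ⟨k, hk⟩ : (e y : ℤ) ∣ n :=
    (Int.natCast_dvd_natCast.2 (Finset.dvd_prod_of_mem e hyT)).trans hn
  obtain ⟨a, ha⟩ := exists_frame_relTwist hL (V y) (hV y) (f y) k (by rw [hk]; ring)
  have hle : U.ι ''ᵁ (U.ι ⁻¹ᵁ (RelProj.emb p chart (V y) (hV y) ''ᵁ Proj.basicOpen _ (f y).1)) ≤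
      RelProj.emb p chart (V y) (hV y) ''ᵁ Proj.basicOpen _ (f y).1 := U.ι.image_preimage_le _
  exact ⟨_, hxy, _, isFrame_restrict_opens U _ (ha.res hle)⟩

/-- `O_P(n)` is trivial on `X_f`, `deg f ∣ n` -/
theorem nonempty_restrict_iso_structure (hP : RelProj.IsRelProj 𝒮 p chart)
    (hL : RelProj.IsRelTwist 𝒮 p chart n L lam) {d : ℕ} (f : 𝒮.presheaf.obj (op ⊤))
    (hf : ∀ (U : S.Opens) (hU : IsAffineOpen U), (𝒮.presheaf.map (homOfLE le_top).op).hom f ∈ 𝒮.deg U hU d)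
    (Xf : P.Opens)
    (hXf : ∀ (U : S.Opens) (hU : IsAffineOpen U), ∀ z : Proj (𝒮.deg U hU),
      (RelProj.emb p chart U hU).base z ∈ Xf →
        z ∈ Proj.basicOpen (𝒮.deg U hU) ((𝒮.presheaf.map (homOfLE le_top).op).hom f))
    (k : ℤ) (hn : n = k * d) :
    ∃ a : Γ(L, Xf), IsFrame L a := by
  classical
  let fU : ∀ U : S.affineOpens, 𝒮.deg U.1 U.2 d := fun U => ⟨_, hf U.1 U.2⟩
  let V₀ : ∀ U : S.affineOpens, (Proj (𝒮.deg U.1 U.2)).Opens := fun U =>
    RelProj.emb p chart U.1 U.2 ⁻¹ᵁ (Xf ⊓ p ⁻¹ᵁ U.1)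
  have hV₀ : ∀ (U : S.affineOpens) (z : V₀ U), (fU U).1 ∉ (z.1 : ProjectiveSpectrum _).asHomogeneousIdeal :=
    fun U z => hXf U.1 U.2 z.1 z.2.1
  have hpow : ∀ (U : S.affineOpens) (q : ℕ), (fU U).1 ^ q ∈ 𝒮.deg U.1 U.2 (q * d) := fun U q =>
    SetLike.pow_mem_graded q (fU U).2
  have hnin : ∀ (U : S.affineOpens) (q : ℕ) (z : V₀ U),
      (fU U).1 ^ q ∉ (z.1 : ProjectiveSpectrum _).asHomogeneousIdeal := fun U q z h =>
    hV₀ U z (z.1.isPrime.mem_of_pow_mem q h)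
  have hdeg : ((k.toNat * d : ℕ) : ℤ) = ((-k).toNat * d : ℕ) + n := by
    rw [hn]
    push_cast
    rw [← add_mul]
    congr 1
    omega
  let eU : ∀ U : S.affineOpens, Γ(GrTwist.twist (𝒮.deg U.1 U.2) n, V₀ U) := fun U =>
    GrModLib.fracSec (𝒮.deg U.1 U.2) n (V₀ U) ⟨_, hpow U k.toNat⟩ ⟨_, hpow U (-k).toNat⟩ (hnin U _) hdeg
  have heU : ∀ U, IsFrame _ (eU U) := fun U => GrModLib.isFrame_fracSec _ _ _ _ _ _ (hnin U _) _
  choose aU haU using fun U : S.affineOpens =>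
    (hL.bijective U.1 U.2 (Xf ⊓ p ⁻¹ᵁ U.1) inf_le_right).2 (eU U)
  -- the local frames are compatible along basic opens
  have hcompat : ∀ {U D : S.affineOpens} (h : IsBasic U D),
      BasicGlue.rs L (inf_le_inf_left _ ((TopologicalSpace.Opens.map p.base).monotone h.le)) (aU U) = aU D := by
    intro U D h
    refine (hL.bijective D.1 D.2 _ inf_le_right).1 ?_
    rw [haU D]
    obtain ⟨D, hD⟩ := D
    obtain ⟨r, hr⟩ := id h
    dsimp only at hr
    subst hr
    refine Subtype.ext (funext fun y => Subtype.ext ?_)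
    obtain ⟨y, hy⟩ := y
    have hy' : (RelProj.emb p chart U.1 U.2).base (ProjectiveSpectrum.comap
        (𝒮.res U.2 (U.2.basicOpen r) (S.basicOpen_le r)) (𝒮.irrelevant_le_map U.1 U.2 r) y) ∈
        Xf ⊓ p ⁻¹ᵁ S.basicOpen r := by
      rw [← RelProj.map_res_emb hP U.1 U.2 r] at hy; exact hy
    refine (hL.compat U.1 U.2 r _ _ y hy hy').trans ?_
    have hval := congrArg (fun t : Γ(GrTwist.twist (𝒮.deg U.1 U.2) n, V₀ U) => GrTwist.val t
      ⟨_, ⟨hy'.1, S.basicOpen_le r hy'.2⟩⟩) (haU U)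
    have hnat := BasicGlue.app_rs (lam U.1 U.2)
      (inf_le_inf_left Xf ((TopologicalSpace.Opens.map p.base).monotone h.le)) (aU U)
    refine (congrArg (GrTwist.locMap _ _ y) ((congrArg (fun t : Γ(GrTwist.twist (𝒮.deg U.1 U.2) n,
      RelProj.emb p chart U.1 U.2 ⁻¹ᵁ (Xf ⊓ p ⁻¹ᵁ S.basicOpen r)) => GrTwist.val t ⟨_, hy'⟩) hnat).trans hval)).trans ?_
    refine (GrTwist.locMap_mk _ _ y _ _).trans ?_
    have hres : 𝒮.res U.2 (U.2.basicOpen r) (S.basicOpen_le r) (fU U).1 = (fU ⟨_, U.2.basicOpen r⟩).1 :=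
      (ConcreteCategory.congr_hom (𝒮.presheaf.map_comp (homOfLE le_top).op (homOfLE (S.basicOpen_le r)).op) f).symm
    simp only [map_pow, hres]
    rfl
  obtain ⟨a, ha⟩ := BasicGlue.exists_glue L (fun U : S.affineOpens => Xf ⊓ p ⁻¹ᵁ U.1) (W := Xf)
    (fun U => inf_le_left) (fun x hx => by
      obtain ⟨U, hU⟩ := TopologicalSpace.Opens.mem_iSup.1
        ((AlgebraicGeometry.iSup_affineOpens_eq_top S).ge (Set.mem_univ (p.base x)))
      exact ⟨U, hx, hU⟩) aU fun U U' => by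
    refine BasicGlue.eq_of_cover L
      (fun D : {D // IsBasic U D ∧ IsBasic U' D} => ((Xf ⊓ p ⁻¹ᵁ U.1) ⊓ (Xf ⊓ p ⁻¹ᵁ U'.1)) ⊓ p ⁻¹ᵁ D.1.1)
      (fun D => inf_le_left) (fun x hx => by
        obtain ⟨D, h1, h2, h3⟩ := IsBasic.inter U U' (p.base x) hx.1.2 hx.2.2
        exact ⟨⟨D, h1, h2⟩, hx, h3⟩) fun D => ?_
    have hle : ((Xf ⊓ p ⁻¹ᵁ U.1) ⊓ (Xf ⊓ p ⁻¹ᵁ U'.1)) ⊓ p ⁻¹ᵁ D.1.1 ≤ Xf ⊓ p ⁻¹ᵁ D.1.1 :=
      inf_le_inf_right _ (inf_le_left.trans inf_le_left)
    have h1 := congrArg (BasicGlue.rs L hle) (hcompat D.2.1)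
    have h2 := congrArg (BasicGlue.rs L hle) (hcompat D.2.2)
    rw [BasicGlue.rs_rs] at h1 h2
    rw [BasicGlue.rs_rs, BasicGlue.rs_rs]
    exact h1.trans h2.symm
  refine ⟨a, IsFrame.of_cover (fun U : S.affineOpens => Xf ⊓ p ⁻¹ᵁ U.1) (fun U => inf_le_left) ?_ fun U => ?_⟩
  · intro x hx
    obtain ⟨U, hU⟩ := TopologicalSpace.Opens.mem_iSup.1
      ((AlgebraicGeometry.iSup_affineOpens_eq_top S).ge (Set.mem_univ (p.base x)))
    exact TopologicalSpace.Opens.mem_iSup.2 ⟨U, hx, hU⟩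
  · have : IsFrame L (aU U) := isFrame_of_bijective (RelProj.emb p chart U.1 U.2) (lam U.1 U.2)
      (inf_le_right.trans (EGA2Misc.opensRange_emb p chart U.1 U.2).ge)
      (fun V hV => hL.bijective U.1 U.2 V (hV.trans inf_le_right)) (haU U) (heU U)
    rw [show mres L (inf_le_left : Xf ⊓ p ⁻¹ᵁ U.1 ≤ Xf) a = aU U from ha U]
    exact this

theorem nonempty_iso_structure_of_frame {X : Scheme.{u}} {M : X.Modules} (U : X.Opens) {a : Γ(M, U)} (ha : IsFrame M a) :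
    Nonempty (M.restrict U.ι ≅ Coh.structureModule (U : Scheme.{u})) := by
  let e := (M.restrictAppIso U.ι ⊤).inv (mres M U.ι_image_top.le a)
  have he : IsFrame (M.restrict U.ι) e := isFrame_restrict_opens U ⊤ (ha.res U.ι_image_top.le)
  let f := homOfSection (M.restrict U.ι) e
  have hf : IsIso f := by
    rw [Scheme.Modules.Hom.isIso_iff_isIso_app]
    intro W
    rw [ConcreteCategory.isIso_iff_bijective]
    have key : (fun c : Γ((U : Scheme.{u}), W) => f.app W c) =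
        fun c => c • mres (M.restrict U.ι) (le_top : W ≤ ⊤) e := funext fun c =>
      (app_eq_smul f W c).trans (congrArg (c • ·) (sect_homOfSection _ _ _))
    show Function.Bijective (fun c : Γ((U : Scheme.{u}), W) => f.app W c)
    rw [key]
    exact he W le_top
  exact ⟨(asIso f).symm⟩

end Groth.Agent.SymAlgRel

end
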