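import Mathlib
import Groth.Prelude.Def_RelProj2
import Groth.Agent.EGA2Misc.ProjTN
import Groth.Agent.GrModLib.TwistN
import Groth.Agent.SymAlgRel.TwistExist
import Groth.Agent.SymAlgRel.TwistFrame
import Groth.Agent.GenLocus.Extend

/-!
# Sections of the twisting sheaves of a relative Proj, multiplication
-/

set_option autoImplicit false
set_option backward.isDefEq.respectTransparency false
set_option backward.isDefEq.respectTransparency.types false

noncomputable section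

universe u

open CategoryTheory CategoryTheory.Limits AlgebraicGeometry TopologicalSpace Opposite
open Groth.Agent.QCohBase Groth.Agent.GenLocus
open scoped HomogeneousIdeal TensorProduct MonoidalCategory

namespace Groth.Agent.SymAlgRel

variable {S P : Scheme.{u}} {𝒮 : RelProj.QCGrAlg S} {p : P ⟶ S}
  {chart : ∀ (U : S.Opens) (hU : IsAffineOpen U), (((p ⁻¹ᵁ U : P.Opens) : Scheme.{u}) ≅ Proj (𝒮.deg U hU))}
  {n : ℤ} {L : P.Modules}
  {lam : ∀ (U : S.Opens) (hU : IsAffineOpen U),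
    L ⟶ (Scheme.Modules.pushforward (RelProj.emb p chart U hU)).obj (GrTwist.twist (𝒮.deg U hU) n)}

/-- the compatibility as an equation of morphisms -/
theorem lam_twistφ (hP : RelProj.IsRelProj 𝒮 p chart) (hL : RelProj.IsRelTwist 𝒮 p chart n L lam)
    {U D : S.affineOpens} (h : IsBasic U D) :
    (show L ⟶ twistG p chart n U from lam U.1 U.2) ≫ twistφ hP n h = lam D.1 D.2 := by
  refine Scheme.Modules.hom_ext _ _ fun W => ?_
  refine AddCommGrpCat.ext fun s => ?_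
  obtain ⟨D, hD⟩ := D
  obtain ⟨r, hr⟩ := id h
  dsimp only at hr
  subst hr
  refine Subtype.ext (funext fun y => Subtype.ext ?_)
  obtain ⟨y, hy⟩ := y
  have hy' : (RelProj.emb p chart U.1 U.2).base (ProjectiveSpectrum.comap
      (𝒮.res U.2 (U.2.basicOpen r) (S.basicOpen_le r)) (𝒮.irrelevant_le_map U.1 U.2 r) y) ∈ W := by
    rw [← RelProj.map_res_emb hP U.1 U.2 r] at hy; exact hy
  exact (twistφ_val hP n h W _ y hy hy').trans (hL.compat U.1 U.2 r W s y hy hy').symm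

/-- the comparison with the glued module -/
def toData (hP : RelProj.IsRelProj 𝒮 p chart) (hL : RelProj.IsRelTwist 𝒮 p chart n L lam) :
    L ⟶ (twistData hP n).L :=
  (twistData hP n).lift (fun U => lam U.1 U.2) fun a => lam_twistφ hP hL a

theorem toData_lam (hP : RelProj.IsRelProj 𝒮 p chart) (hL : RelProj.IsRelTwist 𝒮 p chart n L lam)
    (U : S.affineOpens) (W : P.Opens) (s : Γ(L, W)) :
    ((twistData hP n).lam U).app W ((toData hP hL).app W s) = (lam U.1 U.2).app W s :=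
  congrArg (fun f : L ⟶ twistG p chart n U => f.app W s)
    ((twistData hP n).lift_lam (fun U => lam U.1 U.2) (fun a => lam_twistφ hP hL a) U)

theorem isIso_toData (hP : RelProj.IsRelProj 𝒮 p chart) (hL : RelProj.IsRelTwist 𝒮 p chart n L lam) :
    IsIso (toData hP hL) := by
  refine BasicGlue.isIso_of_bijective _ (twistData hP n).O (twistData hP n).cover fun U W hW => ?_
  refine (((twistData hP n).bijective_lam U W hW).of_comp_iff' _).1 ?_
  have : ⇑(((twistData hP n).lam U).app W) ∘ ⇑((toData hP hL).app W) = ⇑((lam U.1 U.2).app W) :=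
    funext fun s => toData_lam hP hL U W s
  rw [this]
  exact hL.bijective U.1 U.2 W hW

theorem relTwist_section_ext (hP : RelProj.IsRelProj 𝒮 p chart) (hL : RelProj.IsRelTwist 𝒮 p chart n L lam)
    {W : P.Opens} (s t : Γ(L, W))
    (h : ∀ U : S.affineOpens, (lam U.1 U.2).app W s = (lam U.1 U.2).app W t) : s = t := by
  haveI := isIso_toData hP hL
  refine ((ConcreteCategory.isIso_iff_bijective ((toData hP hL).app W)).1 inferInstance).1 ?_
  exact (twistData hP n).section_ext _ _ fun U => by rw [toData_lam, toData_lam]; exact h U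

theorem relTwist_exists_section (hP : RelProj.IsRelProj 𝒮 p chart) (hL : RelProj.IsRelTwist 𝒮 p chart n L lam)
    {W : P.Opens} (e : ∀ U : S.affineOpens, Γ(twistG p chart n U, W))
    (he : ∀ {U D : S.affineOpens} (h : IsBasic U D), (twistφ hP n h).app W (e U) = e D) :
    ∃ s : Γ(L, W), ∀ U : S.affineOpens, (lam U.1 U.2).app W s = e U := by
  haveI := isIso_toData hP hL
  obtain ⟨t, ht⟩ := (twistData hP n).exists_section e fun a => he a
  obtain ⟨s, hs⟩ := ((ConcreteCategory.isIso_iff_bijective ((toData hP hL).app W)).1 inferInstance).2 t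
  exact ⟨s, fun U => by rw [← toData_lam hP hL U W s, hs]; exact ht U⟩

/-- uniqueness of `O_P(n)` -/
theorem relTwist_nonempty_iso (hP : RelProj.IsRelProj 𝒮 p chart) (hL : RelProj.IsRelTwist 𝒮 p chart n L lam)
    {L' : P.Modules} {lam' : ∀ (U : S.Opens) (hU : IsAffineOpen U),
      L' ⟶ (Scheme.Modules.pushforward (RelProj.emb p chart U hU)).obj (GrTwist.twist (𝒮.deg U hU) n)}
    (hL' : RelProj.IsRelTwist 𝒮 p chart n L' lam') : Nonempty (L ≅ L') :=
  haveI := isIso_toData hP hL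
  haveI := isIso_toData hP hL'
  ⟨asIso (toData hP hL) ≪≫ (asIso (toData hP hL')).symm⟩

/-- the locus where `α_d(f)` generates -/
theorem eq_genLocus (hgen : 𝒮.IsGenDegOne) {d : ℕ}
    {lamd : ∀ (U : S.Opens) (hU : IsAffineOpen U),
      L ⟶ (Scheme.Modules.pushforward (RelProj.emb p chart U hU)).obj (GrTwist.twist (𝒮.deg U hU) (d : ℤ))}
    (hL : RelProj.IsRelTwist 𝒮 p chart (d : ℤ) L lamd) (s : Coh.structureModule P ⟶ L)
    (g : ∀ (U : S.Opens), 𝒮.presheaf.obj (op U)) (hg : ∀ (U : S.Opens) (hU : IsAffineOpen U), g U ∈ 𝒮.deg U hU d)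
    (Xf : P.Opens)
    (hXf : ∀ (U : S.Opens) (hU : IsAffineOpen U) (z : Proj (𝒮.deg U hU)),
      (RelProj.emb p chart U hU).base z ∈ Xf ↔ z ∈ Proj.basicOpen (𝒮.deg U hU) (g U))
    (hs : ∀ (U : S.Opens) (hU : IsAffineOpen U) (y : Proj (𝒮.deg U hU)),
      GrTwist.val (V := RelProj.emb p chart U hU ⁻¹ᵁ ⊤)
        ((lamd U hU).app ⊤ (sect s ⊤)) ⟨y, Set.mem_univ _⟩ = Localization.mk (g U) 1) :
    Xf = CohB1.genLocus L s := by
  classical
  -- the value of the section on every open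
  have hval : ∀ (U : S.Opens) (hU : IsAffineOpen U) (W : P.Opens)
      (z : (RelProj.emb p chart U hU ⁻¹ᵁ W : (Proj (𝒮.deg U hU)).Opens)),
      GrTwist.val (V := RelProj.emb p chart U hU ⁻¹ᵁ W) ((lamd U hU).app W (sect s W)) z =
        Localization.mk (g U) 1 := by
    intro U hU W z
    rw [← mres_sect s (le_top : W ≤ ⊤)]
    refine Eq.trans ?_ (hs U hU z.1)
    exact congrArg (fun t : Γ(GrTwist.twist (𝒮.deg U hU) (d : ℤ), RelProj.emb p chart U hU ⁻¹ᵁ W) =>
      GrTwist.val t z) (BasicGlue.app_rs (lamd U hU) le_top (sect s ⊤))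
  refine le_antisymm (fun x hx => ?_) fun x hx => ?_
  · refine (mem_genLocus_iff s).2 ⟨Xf, hx, ?_⟩
    refine IsFrame.of_cover (fun U : S.affineOpens => Xf ⊓ p ⁻¹ᵁ U.1) (fun U => inf_le_left) ?_ fun U => ?_
    · intro x hx
      obtain ⟨U, hU⟩ := TopologicalSpace.Opens.mem_iSup.1
        ((AlgebraicGeometry.iSup_affineOpens_eq_top S).ge (Set.mem_univ (p.base x)))
      exact TopologicalSpace.Opens.mem_iSup.2 ⟨U, hx, hU⟩
    · rw [mres_sect]
      have nin : ∀ z : (RelProj.emb p chart U.1 U.2 ⁻¹ᵁ (Xf ⊓ p ⁻¹ᵁ U.1) : (Proj (𝒮.deg U.1 U.2)).Opens),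
          g U.1 ∉ (z.1 : ProjectiveSpectrum _).asHomogeneousIdeal := fun z => (hXf U.1 U.2 z.1).1 z.2.1
      have none : ∀ z : (RelProj.emb p chart U.1 U.2 ⁻¹ᵁ (Xf ⊓ p ⁻¹ᵁ U.1) : (Proj (𝒮.deg U.1 U.2)).Opens),
          (1 : 𝒮.presheaf.obj (op U.1)) ∉ (z.1 : ProjectiveSpectrum _).asHomogeneousIdeal :=
        fun z h => z.1.isPrime.ne_top ((Ideal.eq_top_iff_one _).2 h)
      refine isFrame_of_bijective (RelProj.emb p chart U.1 U.2) (lamd U.1 U.2)
        (inf_le_right.trans (EGA2Misc.opensRange_emb p chart U.1 U.2).ge)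
        (fun V hV => hL.bijective U.1 U.2 V (hV.trans inf_le_right)) ?_
        (GrModLib.isFrame_fracSec (𝒮.deg U.1 U.2) (d : ℤ) _ ⟨g U.1, hg U.1 U.2⟩
          ⟨1, SetLike.GradedOne.one_mem⟩ none nin (by simp))
      exact Subtype.ext (funext fun z => Subtype.ext (hval U.1 U.2 _ z))
  · obtain ⟨V, hxV, hV⟩ := (mem_genLocus_iff s).1 hx
    obtain ⟨U, hU, z, rfl⟩ := exists_affine_emb p chart x
    obtain ⟨e, he⟩ := exists_degOne_notMem hgen U hU z
    let W : P.Opens := V ⊓ RelProj.emb p chart U hU ''ᵁ Proj.basicOpen (𝒮.deg U hU) e.1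
    have hzW : (RelProj.emb p chart U hU).base z ∈ W := ⟨hxV, z, he, rfl⟩
    have hWU : W ≤ p ⁻¹ᵁ U := inf_le_right.trans (((RelProj.emb p chart U hU).image_le_opensRange _).trans
      (EGA2Misc.opensRange_emb p chart U hU).le)
    let V₀ := RelProj.emb p chart U hU ⁻¹ᵁ W
    have nin : ∀ y : V₀, (1 : 𝒮.presheaf.obj (op U)) ∉ (y.1 : ProjectiveSpectrum _).asHomogeneousIdeal :=
      fun y h => y.1.isPrime.ne_top ((Ideal.eq_top_iff_one _).2 h)
    let t : Γ(GrTwist.twist (𝒮.deg U hU) (d : ℤ), V₀) := GrModLib.fracSec (𝒮.deg U hU) (d : ℤ) V₀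
      ⟨e.1 ^ d, by simpa using SetLike.pow_mem_graded d e.2⟩ ⟨1, SetLike.GradedOne.one_mem⟩ nin (by simp)
    obtain ⟨b, hb⟩ := (hL.bijective U hU W hWU).2 t
    obtain ⟨r, hr⟩ := (hV W inf_le_left).2 b
    have h2 : (lamd U hU).app W (r • sect s W) = t := by
      rw [← mres_sect s (inf_le_left : W ≤ V)]
      exact (congrArg ((lamd U hU).app W) hr).trans hb
    rw [Scheme.Modules.Hom.app_smul] at h2
    have h3 := congrArg (fun t : Γ(GrTwist.twist (𝒮.deg U hU) (d : ℤ), V₀) => GrTwist.val t ⟨z, hzW⟩) h2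
    refine (hXf U hU z).2 fun hmem => ?_
    have h4 : (((RelProj.emb p chart U hU).app W r).1 ⟨z, hzW⟩).val * Localization.mk (g U) 1 =
        Localization.mk (e.1 ^ d) ⟨1, nin ⟨z, hzW⟩⟩ := by
      refine Eq.trans ?_ h3
      refine Eq.trans ?_ (GrModLib.tval_smul (𝒮.deg U hU) _ _ ⟨z, hzW⟩).symm
      exact congrArg _ (hval U hU W ⟨z, hzW⟩).symm
    have hu : IsUnit (Localization.mk (e.1 ^ d) ⟨1, nin ⟨z, hzW⟩⟩ :
        GrTwist.Loc (𝒮.deg U hU) z) := by
      have h1 : (Localization.mk (e.1 ^ d) ⟨1, nin ⟨z, hzW⟩⟩ : GrTwist.Loc (𝒮.deg U hU) z) =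
          algebraMap _ _ (e.1 ^ d) := Localization.mk_one_eq_algebraMap _
      rw [h1]
      exact GrModLib.isUnit_algebraMap_loc (𝒮.deg U hU) fun h =>
        he ((show ProjectiveSpectrum (𝒮.deg U hU) from z).isPrime.mem_of_pow_mem d h)
    rw [← h4] at hu
    have hu2 := isUnit_of_mul_isUnit_right hu
    rw [Localization.mk_eq_mk', IsLocalization.mk'_one] at hu2
    exact (IsLocalization.AtPrime.isUnit_to_map_iff _
      (show ProjectiveSpectrum (𝒮.deg U hU) from z).asHomogeneousIdeal.toIdeal (g U)).1 hu2 hmem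

section mul

variable (hP : RelProj.IsRelProj 𝒮 p chart) {m : ℤ} {M N : P.Modules}
  {lamM : ∀ (U : S.Opens) (hU : IsAffineOpen U),
    M ⟶ (Scheme.Modules.pushforward (RelProj.emb p chart U hU)).obj (GrTwist.twist (𝒮.deg U hU) m)}
  (hM : RelProj.IsRelTwist 𝒮 p chart m M lamM) (hL : RelProj.IsRelTwist 𝒮 p chart n L lam)
  {lamN : ∀ (U : S.Opens) (hU : IsAffineOpen U),
    N ⟶ (Scheme.Modules.pushforward (RelProj.emb p chart U hU)).obj (GrTwist.twist (𝒮.deg U hU) (m + n))}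
  (hN : RelProj.IsRelTwist 𝒮 p chart (m + n) N lamN)

/-- product read on a chart -/
def mulLoc (U : S.affineOpens) (W : P.Opens) (φ : Γ(M, W)) (ψ : Γ(L, W)) :
    Γ(GrTwist.twist (𝒮.deg U.1 U.2) (m + n), RelProj.emb p chart U.1 U.2 ⁻¹ᵁ W) :=
  GrModLib.mulSec (𝒮.deg U.1 U.2) m n _ ((lamM U.1 U.2).app W φ) ((lam U.1 U.2).app W ψ)

include hP hM hL hN in
theorem exists_mul (W : P.Opens) (φ : Γ(M, W)) (ψ : Γ(L, W)) :
    ∃ s : Γ(N, W), ∀ U : S.affineOpens,
      (lamN U.1 U.2).app W s = mulLoc (lam := lam) (lamM := lamM) U W φ ψ := by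
  refine relTwist_exists_section hP hN (fun U => mulLoc (lam := lam) (lamM := lamM) U W φ ψ) fun {U D} h => ?_
  refine Subtype.ext (funext fun y => Subtype.ext ?_)
  obtain ⟨y, hy⟩ := y
  have hy' : (RelProj.emb p chart U.1 U.2).base (ProjectiveSpectrum.comap
      (𝒮.res U.2 D.2 h.le) h.irrelevant_le y) ∈ W := by
    rw [← h.map_emb hP] at hy; exact hy
  refine (twistφ_val hP (m + n) h W _ y hy hy').trans ?_
  refine (map_mul _ _ _).trans (congrArg₂ (· * ·) ?_ ?_)
  · exact (twistφ_val hP m h W _ y hy hy').symm.trans (congrArg (fun t : Γ(twistG p chart m D, W) =>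
      GrTwist.val (V := RelProj.emb p chart D.1 D.2 ⁻¹ᵁ W) t ⟨y, hy⟩)
        (congrArg (fun f : M ⟶ twistG p chart m D => f.app W φ) (lam_twistφ hP hM h)))
  · exact (twistφ_val hP n h W _ y hy hy').symm.trans (congrArg (fun t : Γ(twistG p chart n D, W) =>
      GrTwist.val (V := RelProj.emb p chart D.1 D.2 ⁻¹ᵁ W) t ⟨y, hy⟩)
        (congrArg (fun f : L ⟶ twistG p chart n D => f.app W ψ) (lam_twistφ hP hL h)))

/-- product of sections -/
def relMul (W : P.Opens) (φ : Γ(M, W)) (ψ : Γ(L, W)) : Γ(N, W) := (exists_mul hP hM hL hN W φ ψ).choose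

theorem lam_relMul (W : P.Opens) (φ : Γ(M, W)) (ψ : Γ(L, W)) (U : S.affineOpens) :
    (lamN U.1 U.2).app W (relMul hP hM hL hN W φ ψ) = mulLoc (lam := lam) (lamM := lamM) U W φ ψ :=
  (exists_mul hP hM hL hN W φ ψ).choose_spec U

theorem lam_relMul_val (W : P.Opens) (φ : Γ(M, W)) (ψ : Γ(L, W)) (U : S.affineOpens)
    (x : (RelProj.emb p chart U.1 U.2 ⁻¹ᵁ W : (Proj (𝒮.deg U.1 U.2)).Opens)) :
    GrModLib.tval (𝒮.deg U.1 U.2) ((lamN U.1 U.2).app W (relMul hP hM hL hN W φ ψ)) x =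
      GrModLib.tval (𝒮.deg U.1 U.2) ((lamM U.1 U.2).app W φ) x *
        GrModLib.tval (𝒮.deg U.1 U.2) ((lam U.1 U.2).app W ψ) x :=
  (congrArg (fun t : Γ(GrTwist.twist (𝒮.deg U.1 U.2) (m + n), RelProj.emb p chart U.1 U.2 ⁻¹ᵁ W) =>
    GrModLib.tval (𝒮.deg U.1 U.2) t x) (lam_relMul hP hM hL hN W φ ψ U)).trans rfl

include hP hN in
theorem relMul_ext {W : P.Opens} (a b : Γ(N, W))
    (h : ∀ (U : S.affineOpens) (x : (RelProj.emb p chart U.1 U.2 ⁻¹ᵁ W : (Proj (𝒮.deg U.1 U.2)).Opens)),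
      GrModLib.tval (𝒮.deg U.1 U.2) ((lamN U.1 U.2).app W a) x =
        GrModLib.tval (𝒮.deg U.1 U.2) ((lamN U.1 U.2).app W b) x) : a = b :=
  relTwist_section_ext hP hN a b fun U => GrModLib.tval_ext _ (h U)

theorem relMul_add_left (W : P.Opens) (φ φ' : Γ(M, W)) (ψ : Γ(L, W)) :
    relMul hP hM hL hN W (φ + φ') ψ = relMul hP hM hL hN W φ ψ + relMul hP hM hL hN W φ' ψ :=
  relMul_ext hP hN _ _ fun U x => by
    rw [map_add, lam_relMul_val, map_add]
    refine Eq.trans ?_ (congrArg₂ (· + ·) (lam_relMul_val hP hM hL hN W φ ψ U x).symm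
      (lam_relMul_val hP hM hL hN W φ' ψ U x).symm)
    exact add_mul _ _ _

theorem relMul_add_right (W : P.Opens) (φ : Γ(M, W)) (ψ ψ' : Γ(L, W)) :
    relMul hP hM hL hN W φ (ψ + ψ') = relMul hP hM hL hN W φ ψ + relMul hP hM hL hN W φ ψ' :=
  relMul_ext hP hN _ _ fun U x => by
    rw [map_add, lam_relMul_val, map_add]
    refine Eq.trans ?_ (congrArg₂ (· + ·) (lam_relMul_val hP hM hL hN W φ ψ U x).symm
      (lam_relMul_val hP hM hL hN W φ ψ' U x).symm)
    exact mul_add _ _ _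

omit hP hM hL hN in
theorem lam_smul_val {k : ℤ} {Q : P.Modules}
    (μ : ∀ (U : S.Opens) (hU : IsAffineOpen U),
      Q ⟶ (Scheme.Modules.pushforward (RelProj.emb p chart U hU)).obj (GrTwist.twist (𝒮.deg U hU) k))
    (W : P.Opens) (r : Γ(P, W)) (a : Γ(Q, W)) (U : S.affineOpens)
    (x : (RelProj.emb p chart U.1 U.2 ⁻¹ᵁ W : (Proj (𝒮.deg U.1 U.2)).Opens)) :
    GrModLib.tval (𝒮.deg U.1 U.2) ((μ U.1 U.2).app W (r • a)) x =
      (((RelProj.emb p chart U.1 U.2).app W r).1 x).val *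
        GrModLib.tval (𝒮.deg U.1 U.2) ((μ U.1 U.2).app W a) x := by
  refine (congrArg (fun t : Γ(GrTwist.twist (𝒮.deg U.1 U.2) k, RelProj.emb p chart U.1 U.2 ⁻¹ᵁ W) =>
    GrModLib.tval (𝒮.deg U.1 U.2) t x) (Scheme.Modules.Hom.app_smul (μ U.1 U.2) r a)).trans ?_
  exact GrModLib.tval_smul (𝒮.deg U.1 U.2) _ _ x

theorem relMul_smul_left (W : P.Opens) (r : Γ(P, W)) (φ : Γ(M, W)) (ψ : Γ(L, W)) :
    relMul hP hM hL hN W (r • φ) ψ = r • relMul hP hM hL hN W φ ψ :=
  relMul_ext hP hN _ _ fun U x =>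
    (lam_relMul_val hP hM hL hN W (r • φ) ψ U x).trans <|
      (congrArg (· * GrModLib.tval (𝒮.deg U.1 U.2) ((lam U.1 U.2).app W ψ) x) (lam_smul_val lamM W r φ U x)).trans <|
        (mul_assoc _ _ _).trans <|
          (congrArg (_ * ·) (lam_relMul_val hP hM hL hN W φ ψ U x).symm).trans
            (lam_smul_val lamN W r (relMul hP hM hL hN W φ ψ) U x).symm

theorem relMul_smul_right (W : P.Opens) (r : Γ(P, W)) (φ : Γ(M, W)) (ψ : Γ(L, W)) :
    relMul hP hM hL hN W φ (r • ψ) = r • relMul hP hM hL hN W φ ψ :=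
  relMul_ext hP hN _ _ fun U x =>
    (lam_relMul_val hP hM hL hN W φ (r • ψ) U x).trans <|
      (congrArg (GrModLib.tval (𝒮.deg U.1 U.2) ((lamM U.1 U.2).app W φ) x * ·) (lam_smul_val lam W r ψ U x)).trans <|
        (mul_left_comm _ _ _).trans <|
          (congrArg (_ * ·) (lam_relMul_val hP hM hL hN W φ ψ U x).symm).trans
            (lam_smul_val lamN W r (relMul hP hM hL hN W φ ψ) U x).symm

theorem relMul_rs {W V : P.Opens} (h : V ≤ W) (φ : Γ(M, W)) (ψ : Γ(L, W)) :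
    relMul hP hM hL hN V (BasicGlue.rs M h φ) (BasicGlue.rs L h ψ) =
      BasicGlue.rs N h (relMul hP hM hL hN W φ ψ) := by
  refine relTwist_section_ext hP hN _ _ fun U => ?_
  rw [lam_relMul, BasicGlue.app_rs, lam_relMul, mulLoc, BasicGlue.app_rs, BasicGlue.app_rs]
  exact Subtype.ext (funext fun _ => rfl)

/-- on sectionwise tensor products -/
def relMulT (W : P.Opens) : Γ(M, W) ⊗[Γ(P, W)] Γ(L, W) →+ Γ(N, W) :=
  TensorProduct.liftAddHom
    (AddMonoidHom.mk' (fun φ => AddMonoidHom.mk' (relMul hP hM hL hN W φ) (relMul_add_right hP hM hL hN W φ))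
      (fun φ φ' => AddMonoidHom.ext fun ψ => relMul_add_left hP hM hL hN W φ φ' ψ))
    (fun r φ ψ => (relMul_smul_left hP hM hL hN W r φ ψ).trans (relMul_smul_right hP hM hL hN W r φ ψ).symm)

theorem relMulT_smul (W : P.Opens) (r : Γ(P, W)) (t : Γ(M, W) ⊗[Γ(P, W)] Γ(L, W)) :
    relMulT hP hM hL hN W (r • t) = r • relMulT hP hM hL hN W t := by
  induction t using TensorProduct.induction_on with
  | zero => simp
  | add x y hx hy => rw [smul_add, map_add, map_add, hx, hy, smul_add]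
  | tmul φ ψ => rw [TensorProduct.smul_tmul']; exact relMul_smul_left hP hM hL hN W r φ ψ

/-- on presheaves -/
def relMulPre : CohB1.tensorPre M L ⟶ (TensorMod.incl P).obj N :=
  PresheafOfModules.homMk
    { app := fun V => AddCommGrpCat.ofHom (relMulT hP hM hL hN V.unop)
      naturality := fun V W i => by
        ext x
        induction x using TensorProduct.induction_on with
        | zero => exact (map_zero _).trans (map_zero _).symm
        | add x y hx hy =>
          exact (map_add _ _ _).trans ((congrArg₂ (· + ·) hx hy).trans (map_add _ _ _).symm)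
        | tmul a b => exact relMul_rs hP hM hL hN i.unop.le a b }
    (fun V r x => relMulT_smul hP hM hL hN V.unop r x)

/-- the multiplication map -/
def relMulMap : CohB1.tensorMod M L ⟶ N :=
  ((TensorMod.shAdj P).homEquiv _ _).symm (relMulPre hP hM hL hN)

theorem relMulMap_tmul (W : P.Opens) (φ : Γ(M, W)) (ψ : Γ(L, W)) :
    (relMulMap hP hM hL hN).app W (SecTwist.tmul _ _ W φ ψ) = relMul hP hM hL hN W φ ψ := by
  have h2 := Adjunction.homEquiv_unit (TensorMod.shAdj P) _ _ (relMulMap hP hM hL hN)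
  rw [relMulMap, Equiv.apply_symm_apply] at h2
  exact (congr(($h2).app (op W) (φ ⊗ₜ[Γ(P, W)] ψ))).symm

include hP hM hL hN in
theorem isIso_restrict_relMulMap (Z : P.Opens)
    (hZ : ∀ y ∈ Z, ∃ (U : S.Opens) (hU : IsAffineOpen U) (d : ℕ) (f : 𝒮.deg U hU d) (k l : ℤ),
      m = k * d ∧ n = l * d ∧ y ∈ RelProj.emb p chart U hU ''ᵁ Proj.basicOpen (𝒮.deg U hU) f.1) :
    ∀ y ∈ Z, ∃ (V : P.Opens) (_ : y ∈ V) (a : Γ(CohB1.tensorMod M L, V)),
      IsFrame (CohB1.tensorMod M L) a ∧ IsFrame N ((relMulMap hP hM hL hN).app V a) := by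
  intro y hy
  obtain ⟨U, hU, d, f, k, l, hk, hl, hyf⟩ := hZ y hy
  let U' : S.affineOpens := ⟨U, hU⟩
  let V := RelProj.emb p chart U hU ''ᵁ Proj.basicOpen (𝒮.deg U hU) f.1
  have hV : V ≤ p ⁻¹ᵁ U := ((RelProj.emb p chart U hU).image_le_opensRange _).trans
    (EGA2Misc.opensRange_emb p chart U hU).le
  have hVr : V ≤ (RelProj.emb p chart U hU).opensRange := (RelProj.emb p chart U hU).image_le_opensRange _
  have hpre : RelProj.emb p chart U hU ⁻¹ᵁ V ≤ Proj.basicOpen (𝒮.deg U hU) f.1 :=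
    ((RelProj.emb p chart U hU).preimage_image_eq _).le
  obtain ⟨i, j, a, s, nin, nina, h1⟩ := GrModLib.exists_fracSec (𝒮.deg U hU) m _ f hpre k hk
  obtain ⟨i', j', b, t, ninb, ninab, h2⟩ := GrModLib.exists_fracSec (𝒮.deg U hU) n _ f hpre l hl
  obtain ⟨φ, hφ⟩ := (hM.bijective U hU V hV).2 (GrModLib.fracSec (𝒮.deg U hU) m _ a s nin h1)
  obtain ⟨ψ, hψ⟩ := (hL.bijective U hU V hV).2 (GrModLib.fracSec (𝒮.deg U hU) n _ b t ninb h2)
  have fφ : IsFrame M φ := isFrame_of_bijective _ (lamM U hU) hVr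
    (fun W hW => hM.bijective U hU W (hW.trans hV)) hφ (GrModLib.isFrame_fracSec _ _ _ _ _ _ nina _)
  have fψ : IsFrame L ψ := isFrame_of_bijective _ (lam U hU) hVr
    (fun W hW => hL.bijective U hU W (hW.trans hV)) hψ (GrModLib.isFrame_fracSec _ _ _ _ _ _ ninab _)
  refine ⟨V, hyf, _, fφ.tmul fψ, ?_⟩
  rw [relMulMap_tmul]
  refine isFrame_of_bijective _ (lamN U hU) hVr (fun W hW => hN.bijective U hU W (hW.trans hV)) ?_
    (GrModLib.isFrame_fracSec (𝒮.deg U hU) (m + n) _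
      ⟨a.1 * b.1, SetLike.mul_mem_graded a.2 b.2⟩ ⟨s.1 * t.1, SetLike.mul_mem_graded s.2 t.2⟩
      (fun z hz => (z.1.isPrime.mem_or_mem hz).elim (nin z) (ninb z))
      (fun z hz => (z.1.isPrime.mem_or_mem hz).elim (nina z) (ninab z)) (by push_cast; omega))
  refine GrModLib.tval_ext _ fun z => ?_
  refine (lam_relMul_val hP hM hL hN V φ ψ U' z).trans ?_
  refine (congrArg₂ (· * ·) (congrArg (fun q : Γ(GrTwist.twist (𝒮.deg U hU) m, _) =>
      GrModLib.tval (𝒮.deg U hU) q z) hφ) (congrArg (fun q : Γ(GrTwist.twist (𝒮.deg U hU) n, _) =>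
      GrModLib.tval (𝒮.deg U hU) q z) hψ)).trans ?_
  exact (Localization.mk_mul _ _ _ _)

theorem isIso_relMulMap (hgen : 𝒮.IsGenDegOne) : IsIso (relMulMap hP hM hL hN) :=
  isIso_of_frames _ fun y => by
    refine isIso_restrict_relMulMap hP hM hL hN ⊤ (fun x _ => ?_) y trivial
    obtain ⟨U, hU, z, rfl⟩ := exists_affine_emb p chart x
    obtain ⟨f, hf⟩ := exists_degOne_notMem hgen U hU z
    exact ⟨U, hU, 1, f, m, n, by simp, by simp, z, hf, rfl⟩

end mul

end Groth.Agent.SymAlgRel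

end
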