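import Mathlib
import Groth.Agent.SymAlgRel.SymGr
import Groth.Agent.SymAlgRel.TwistFrame
import Groth.Agent.SymAlgRel.TwistSections
import Groth.Agent.SymAlgRel.RLdense
import Groth.Agent.GrModLib.QCoh

/-!
# The canonical map `E ⟶ p_* O(1)` of a projective bundle
-/

set_option autoImplicit false
set_option synthInstance.maxHeartbeats 200000
set_option backward.isDefEq.respectTransparency false
set_option backward.isDefEq.respectTransparency.types false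

noncomputable section

universe u

open CategoryTheory CategoryTheory.Limits AlgebraicGeometry TopologicalSpace Opposite
open HomogeneousLocalization
open Groth.Agent.QCohBase Groth.Agent.GenLocus
open scoped HomogeneousIdeal

namespace Groth.Agent.SymAlgRel

variable {Y P : Scheme.{u}} {E : Y.Modules} {𝒯 : RelProj.QCGrAlg Y} {j : E ⟶ 𝒯.toModule}
  {p : P ⟶ Y} {chart : ∀ (U : Y.Opens) (hU : IsAffineOpen U), (((p ⁻¹ᵁ U : P.Opens) : Scheme.{u}) ≅ Proj (𝒯.deg U hU))}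
  (hP : RelProj.IsRelProj 𝒯 p chart)

include hP in
/-- the value of a function coming from the base -/
theorem val_baseFun (U : Y.Opens) (hU : IsAffineOpen U) (r : Γ(Y, U))
    (y : (RelProj.emb p chart U hU ⁻¹ᵁ (p ⁻¹ᵁ U) : (Proj (𝒯.deg U hU)).Opens)) :
    (((RelProj.emb p chart U hU).app (p ⁻¹ᵁ U) (p.app U r)).1 y).val =
      algebraMap (𝒯.presheaf.obj (op U)) (GrTwist.Loc (𝒯.deg U hU) y.1) ((𝒯.str.app (op U)).hom r) := by
  obtain ⟨y, hy⟩ := y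
  let e := RelProj.emb p chart U hU
  let i := (Proj.affineOpenCover (𝒯.deg U hU)).idx y
  obtain ⟨z, hz⟩ := (Proj.affineOpenCover (𝒯.deg U hU)).covers y
  have hyF : y ∈ Proj.basicOpen (𝒯.deg U hU) i.2.1 := by
    rw [← Proj.opensRange_awayι (𝒯.deg U hU) i.2.1 i.2.2 i.1.2]
    exact ⟨z, hz⟩
  let d := i.1.1
  let F := i.2.1
  have hF : F ∈ 𝒯.deg U hU d := i.2.2
  have hd : 0 < d := i.1.2
  let D := Proj.basicOpen (𝒯.deg U hU) F
  have hDle : D ≤ e ⁻¹ᵁ (p ⁻¹ᵁ U) := fun w _ => (EGA2Misc.opensRange_emb p chart U hU).le ⟨w, rfl⟩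
  have hstr : (𝒯.str.app (op U)).hom r ∈ 𝒯.deg U hU (0 • d) := by rw [zero_smul]; exact 𝒯.str_mem U hU r
  let g := (Proj (𝒯.deg U hU)).presheaf.map (homOfLE hDle).op (e.app _ (p.app U r))
  suffices h : g = (Proj.awayToSection (𝒯.deg U hU) F).hom (Away.mk (𝒯.deg U hU) hF 0 _ hstr) by
    refine (congrArg (fun t : Γ(Proj (𝒯.deg U hU), D) => (t.1 ⟨y, hyF⟩).val) h).trans ?_
    refine (GrModLib.val_awayToSection (𝒯.deg U hU) hF 0 _ hstr ⟨y, hyF⟩).trans ?_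
    rw [← Localization.mk_one_eq_algebraMap]
    congr 1
    exact Subtype.ext (pow_zero F)
  let ι := Proj.awayι (𝒯.deg U hU) F hF hd
  have hR : ⊤ ≤ ι ⁻¹ᵁ D := fun w _ => (Proj.opensRange_awayι (𝒯.deg U hU) F hF hd).le ⟨w, rfl⟩
  haveI : IsIso (ι.appLE D ⊤ hR) := by
    have : ι.appLE D ⊤ hR = (Proj (𝒯.deg U hU)).presheaf.map (eqToHom (show ι ''ᵁ ⊤ = D by
        rw [Scheme.Hom.image_top_eq_opensRange]; exact Proj.opensRange_awayι (𝒯.deg U hU) F hF hd)).op ≫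
          (ι.appIso ⊤).hom := by
      rw [Scheme.Hom.appIso_hom', Scheme.Hom.map_appLE]
    rw [this]
    infer_instance
  refine ((ConcreteCategory.isIso_iff_bijective (ι.appLE D ⊤ hR)).1 inferInstance).1 ?_
  refine ((ConcreteCategory.isIso_iff_bijective (Scheme.ΓSpecIso _).hom).1 inferInstance).1 ?_
  have h3 := congr(($(GrModLib.awayToSection_awayι_appLE (𝒯.deg U hU) hF hd hR)).hom (Away.mk _ hF 0 _ hstr))
  refine Eq.trans ?_ ((congrArg _ h3).trans (Iso.inv_hom_id_apply _ _)).symm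
  let β : Γ(Y, U) →+* Away (𝒯.deg U hU) F :=
    (fromZeroRingHom (𝒯.deg U hU) (Submonoid.powers F)).comp (𝒯.strZero U hU).hom
  have hcomp : (ι ≫ e) ≫ p = Spec.map (CommRingCat.ofHom β) ≫ hU.fromSpec := by
    rw [Category.assoc, EGA2Misc.emb_comp hP, Proj.awayι_toSpecZero_assoc, ← Category.assoc, ← Spec.map_comp]
    rfl
  have hle : ⊤ ≤ ((ι ≫ e) ≫ p) ⁻¹ᵁ U := fun w _ => hDle (hR trivial)
  have h' : ⊤ ≤ hU.fromSpec ⁻¹ᵁ U := hU.fromSpec_preimage_self.ge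
  have hr2 : ∀ (ψ : Spec (CommRingCat.of (Away (𝒯.deg U hU) F)) ⟶ Y) (_ : (ι ≫ e) ≫ p = ψ) (h : ⊤ ≤ ψ ⁻¹ᵁ U),
      ((ι ≫ e) ≫ p).appLE U ⊤ hle r = ψ.appLE U ⊤ h r := by rintro _ rfl h; rfl
  have e1 : ι.appLE D ⊤ hR g = ((ι ≫ e) ≫ p).appLE U ⊤ hle r := by
    rw [Scheme.Hom.comp_appLE, Scheme.Hom.comp_appLE]
    exact ConcreteCategory.congr_hom (ι.map_appLE hR (homOfLE hDle).op) _
  rw [e1, hr2 _ hcomp (fun w _ => h' trivial), specMap_appLE_apply _ _ _ _ h']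
  refine (congrArg β (a₂ := r) ?_).trans (HomogeneousLocalization.val_injective _ ?_)
  · rw [Scheme.Hom.appLE, hU.fromSpec_app_self]
    simp only [Category.assoc, ← Functor.map_comp]
    rw [show ((eqToHom hU.fromSpec_preimage_self).op ≫ (homOfLE h').op : op ⊤ ⟶ op ⊤) = 𝟙 _ from rfl,
      CategoryTheory.Functor.map_id, Category.comp_id]
    exact Iso.inv_hom_id_apply _ _
  · rw [Away.val_mk]
    show Localization.mk ((𝒯.str.app (op U)).hom r) (1 : Submonoid.powers F) = _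
    congr 1
    exact Subtype.ext (pow_zero F).symm

variable (hj : RelProj.IsGrSymAlg E 𝒯 j) {O1 : P.Modules}
  {lam : ∀ (U : Y.Opens) (hU : IsAffineOpen U),
    O1 ⟶ (Scheme.Modules.pushforward (RelProj.emb p chart U hU)).obj (GrTwist.twist (𝒯.deg U hU) 1)}
  (hO1 : RelProj.IsRelTwist 𝒯 p chart 1 O1 lam)

variable (lam j) in
/-- `s` is the section `e / 1` on every chart inside -/
def IsCanSec {U : Y.Opens} (e : Γ(E, U)) (s : Γ(O1, p ⁻¹ᵁ U)) : Prop :=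
  ∀ (D : Y.affineOpens) (hD : D.1 ≤ U) (y : (RelProj.emb p chart D.1 D.2 ⁻¹ᵁ (p ⁻¹ᵁ D.1) : (Proj (𝒯.deg D.1 D.2)).Opens)),
    GrTwist.val (V := RelProj.emb p chart D.1 D.2 ⁻¹ᵁ (p ⁻¹ᵁ D.1))
        ((lam D.1 D.2).app (p ⁻¹ᵁ D.1) (mres O1 (p.preimage_mono hD) s)) y =
      algebraMap (𝒯.presheaf.obj (op D.1)) (GrTwist.Loc (𝒯.deg D.1 D.2) y.1)
        (j.app D.1 (mres E hD e) : 𝒯.presheaf.obj (op D.1))

include hO1 in
theorem IsCanSec.unique {U : Y.Opens} {e : Γ(E, U)} {s t : Γ(O1, p ⁻¹ᵁ U)} (hs : IsCanSec j lam e s)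
    (ht : IsCanSec j lam e t) : s = t := by
  refine BasicGlue.eq_of_cover O1 (fun D : {D : Y.affineOpens // D.1 ≤ U} => p ⁻¹ᵁ D.1.1)
    (fun D => p.preimage_mono D.2) (fun x hx => ?_) fun D => ?_
  · obtain ⟨_, ⟨D, hD, rfl⟩, hxD, hDU⟩ :=
      Y.isBasis_affineOpens.exists_subset_of_mem_open (show p x ∈ U from hx) U.2
    exact ⟨⟨⟨D, hD⟩, hDU⟩, hxD⟩
  · refine (hO1.bijective D.1.1 D.1.2 _ le_rfl).1 (Subtype.ext (funext fun y => Subtype.ext ?_))
    exact (hs D.1 D.2 y).trans (ht D.1 D.2 y).symm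

include hj hO1 in
theorem exists_local (D : Y.affineOpens) (e : Γ(E, D.1)) :
    ∃ t : Γ(O1, p ⁻¹ᵁ D.1), ∀ y : (RelProj.emb p chart D.1 D.2 ⁻¹ᵁ (p ⁻¹ᵁ D.1) : (Proj (𝒯.deg D.1 D.2)).Opens),
      GrTwist.val (V := RelProj.emb p chart D.1 D.2 ⁻¹ᵁ (p ⁻¹ᵁ D.1)) ((lam D.1 D.2).app (p ⁻¹ᵁ D.1) t) y =
        algebraMap (𝒯.presheaf.obj (op D.1)) (GrTwist.Loc (𝒯.deg D.1 D.2) y.1)
          (j.app D.1 e : 𝒯.presheaf.obj (op D.1)) := by
  obtain ⟨t, ht⟩ := (hO1.bijective D.1 D.2 _ le_rfl).2 (GrModLib.fracSec (𝒯.deg D.1 D.2) 1 _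
    ⟨_, hj.2 D.1 D.2 e⟩ ⟨1, SetLike.GradedOne.one_mem⟩
    (fun y h => y.1.isPrime.ne_top ((Ideal.eq_top_iff_one _).2 h)) (by norm_num))
  refine ⟨t, fun y => ?_⟩
  rw [ht, ← Localization.mk_one_eq_algebraMap]
  rfl

include hP hj hO1 in
theorem exists_isCanSec {U : Y.Opens} (e : Γ(E, U)) : ∃ s, IsCanSec (p := p) j lam e s := by
  choose t ht using fun D : Y.affineOpens => exists_local (lam := lam) hj hO1 D
  have hres : ∀ {D D' : Y.affineOpens} (h : IsBasic D D') (e : Γ(E, D.1)),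
      mres O1 (p.preimage_mono h.le) (t D e) = t D' (mres E h.le e) := by
    intro D D' h e
    refine (hO1.bijective D'.1 D'.2 _ le_rfl).1 (Subtype.ext (funext fun y => Subtype.ext ?_))
    refine Eq.trans ?_ (ht D' _ y).symm
    have hy' : (RelProj.emb p chart D.1 D.2).base
        (ProjectiveSpectrum.comap (𝒯.res D.2 D'.2 h.le) h.irrelevant_le y.1) ∈ p ⁻¹ᵁ D'.1 :=
      (congrArg (fun g : Proj (𝒯.deg D'.1 D'.2) ⟶ P => g.base y.1 ∈ p ⁻¹ᵁ D'.1) (h.map_emb hP)).mpr y.2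
    refine (congrArg (fun f : O1 ⟶ twistG p chart 1 D' => GrTwist.val
      (V := RelProj.emb p chart D'.1 D'.2 ⁻¹ᵁ (p ⁻¹ᵁ D'.1))
        (f.app (p ⁻¹ᵁ D'.1) (mres O1 (p.preimage_mono h.le) (t D e))) ⟨y.1, y.2⟩)
      (lam_twistφ hP hO1 h).symm).trans ?_
    refine (twistφ_val hP 1 h _ _ y.1 y.2 hy').trans ?_
    refine (congrArg (GrTwist.locMap (𝒯.res D.2 D'.2 h.le) h.irrelevant_le y.1)
      ((congrArg (fun s : Γ(GrTwist.twist (𝒯.deg D.1 D.2) 1, RelProj.emb p chart D.1 D.2 ⁻¹ᵁ (p ⁻¹ᵁ D'.1)) =>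
        GrTwist.val s ⟨_, hy'⟩) (BasicGlue.app_rs (lam D.1 D.2) (p.preimage_mono h.le) (t D e))).trans
          (ht D e ⟨_, p.preimage_mono h.le hy'⟩))).trans ?_
    rw [← Localization.mk_one_eq_algebraMap, ← Localization.mk_one_eq_algebraMap]
    refine (GrTwist.locMap_mk _ h.irrelevant_le y.1 _ _).trans ?_
    congr 1
    · exact (ConcreteCategory.congr_hom (j.mapPresheaf.naturality (homOfLE h.le).op) e).symm
    · exact Subtype.ext (map_one _)
  obtain ⟨s, hs⟩ := BasicGlue.exists_glue O1 (fun D : {D : Y.affineOpens // D.1 ≤ U} => p ⁻¹ᵁ D.1.1)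
    (fun D => p.preimage_mono D.2) (fun x hx => by
      obtain ⟨_, ⟨D, hD, rfl⟩, hxD, hDU⟩ :=
        Y.isBasis_affineOpens.exists_subset_of_mem_open (show p x ∈ U from hx) U.2
      exact ⟨⟨⟨D, hD⟩, hDU⟩, hxD⟩) (fun D => t D.1 (mres E D.2 e)) fun D D' => by
    refine BasicGlue.eq_of_cover O1
      (fun C : {C // IsBasic D.1 C ∧ IsBasic D'.1 C} => p ⁻¹ᵁ C.1.1)
      (fun C => le_inf (p.preimage_mono C.2.1.le) (p.preimage_mono C.2.2.le)) (fun x hx => by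
        obtain ⟨C, h1, h2, h3⟩ := IsBasic.inter D.1 D'.1 (p x) hx.1 hx.2
        exact ⟨⟨C, h1, h2⟩, h3⟩) fun C => ?_
    show mres O1 _ (mres O1 _ _) = mres O1 _ (mres O1 _ _)
    rw [mres_mres, mres_mres, hres C.2.1, hres C.2.2, mres_mres, mres_mres]
  refine ⟨s, fun D hD y => ?_⟩
  rw [show mres O1 (p.preimage_mono hD) s = t D (mres E hD e) from hs ⟨D, hD⟩]
  exact ht D _ y

include hP hj hO1 in
/-- the canonical map `E ⟶ p_* O(1)` -/
theorem exists_canMap :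
    ∃ φ : E ⟶ (Scheme.Modules.pushforward p).obj O1,
      ∀ (U : Y.Opens) (hU : IsAffineOpen U) (e : Γ(E, U))
        (y : (RelProj.emb p chart U hU ⁻¹ᵁ (p ⁻¹ᵁ U) : (Proj (𝒯.deg U hU)).Opens)),
        GrTwist.val (V := RelProj.emb p chart U hU ⁻¹ᵁ (p ⁻¹ᵁ U)) ((lam U hU).app (p ⁻¹ᵁ U) (φ.app U e)) y =
          algebraMap (𝒯.presheaf.obj (op U)) (GrTwist.Loc (𝒯.deg U hU) y.1) (j.app U e : 𝒯.presheaf.obj (op U)) := by
  choose f hf using fun (U : Y.Opens) (e : Γ(E, U)) => exists_isCanSec (p := p) (lam := lam) hP hj hO1 e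
  let φ : E ⟶ (Scheme.Modules.pushforward p).obj O1 := modHomMk
    (fun U => AddMonoidHom.mk' (f U) fun a b => (hf U (a + b)).unique hO1 fun D hD y => by
      rw [map_add (mres O1 (p.preimage_mono hD)), map_add ((lam D.1 D.2).app (p ⁻¹ᵁ D.1)).hom,
        map_add (mres E hD), map_add (j.app D.1).hom]
      refine Eq.trans ?_ (map_add (algebraMap _ _) _ _).symm
      exact congrArg₂ (· + ·) (hf U a D hD y) (hf U b D hD y))
    (fun U V h e => by
      refine ((hf V (mres E h e)).unique hO1 fun D hD y => ?_).symm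
      show GrTwist.val (V := RelProj.emb p chart D.1 D.2 ⁻¹ᵁ (p ⁻¹ᵁ D.1))
        ((lam D.1 D.2).app _ (mres O1 (p.preimage_mono hD) (mres O1 (p.preimage_mono h) (f U e)))) y = _
      rw [mres_mres, mres_mres]
      exact hf U e D (hD.trans h) y)
    (fun U r e => by
      refine (hf U (r • e)).unique hO1 fun D hD y => ?_
      show GrTwist.val (V := RelProj.emb p chart D.1 D.2 ⁻¹ᵁ (p ⁻¹ᵁ D.1))
        ((lam D.1 D.2).app _ (mres O1 (p.preimage_mono hD) (p.app U r • f U e))) y = _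
      rw [mres_smul, mres_smul, Scheme.Modules.Hom.app_smul]
      refine (GrModLib.tval_smul (𝒯.deg D.1 D.2) _ _ y).trans ?_
      refine Eq.trans ?_ ((congrArg (algebraMap (𝒯.presheaf.obj (op D.1)) _)
        (show (j.app D.1 (ores hD r • mres E hD e) : 𝒯.presheaf.obj (op D.1)) =
          (𝒯.str.app (op D.1)).hom (ores hD r) * (show 𝒯.presheaf.obj (op D.1) from j.app D.1 (mres E hD e)) from
            map_smul (j.val.app (op D.1)).hom _ _)).trans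
        (map_mul (algebraMap (𝒯.presheaf.obj (op D.1)) (GrTwist.Loc (𝒯.deg D.1 D.2) y.1)) _ _)).symm
      refine congrArg₂ (· * ·) ?_ (hf U e D hD y)
      refine Eq.trans ?_ (val_baseFun hP D.1 D.2 (ores hD r) y)
      refine congrArg (fun t : Γ(P, p ⁻¹ᵁ D.1) => (((RelProj.emb p chart D.1 D.2).app _ t).1 y).val) ?_
      exact (ConcreteCategory.congr_hom (p.naturality (homOfLE hD).op) r).symm)
  refine ⟨φ, fun U hU e y => ?_⟩
  have h := hf U e ⟨U, hU⟩ le_rfl y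
  rwa [mres_refl, mres_refl] at h

end Groth.Agent.SymAlgRel

end
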