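import Mathlib
import Groth.Prelude.Def_RelProj2
import Groth.Agent.SymAlgRel.Exists
import Groth.Agent.SymAlgRel.SymGr

/-!
# The grading of a relative symmetric algebra
-/

set_option autoImplicit false

noncomputable section

universe u

open CategoryTheory AlgebraicGeometry TopologicalSpace Opposite Polynomial

namespace Groth.Agent.SymAlgRel.GrSymExist

variable {S : Scheme.{u}} (E : S.Modules) (hE : Coh.IsQCoh E) {A : RelSpec.QCAlg S} {j : E ⟶ A.toModule}
  (hA : RelSpec.IsSymAlg E A j)

/-- the map on generators `m ↦ m X` -/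
def genX (U : S.Opens) : Γ(E, U) →+ (A.presheaf.obj (op U))[X] where
  toFun m := C (show A.presheaf.obj (op U) from j.app U m) * X
  map_zero' := by rw [map_zero]; exact (congrArg (· * X) (map_zero C)).trans (zero_mul X)
  map_add' a b := by
    rw [map_add]
    exact (congrArg (· * X) (map_add C _ _)).trans (add_mul _ _ _)

theorem genX_smul (U : S.Opens) (r : Γ(S, U)) (m : Γ(E, U)) :
    genX E (j := j) U (r • m) = ((C : _ →+* (A.presheaf.obj (op U))[X]).comp (A.str.app (op U)).hom) r *
      genX E (j := j) U m := by
  show C (show A.presheaf.obj (op U) from j.app U (r • m)) * X = C (A.str.app (op U) r) * (C (show A.presheaf.obj (op U) from j.app U m) * X)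
  rw [← mul_assoc, ← map_mul]
  congr 2
  exact Scheme.Modules.Hom.app_smul j r m

/-- the coaction `x ↦ ∑ x_d X^d` -/
def coact (U : S.Opens) (hU : IsAffineOpen U) : A.presheaf.obj (op U) →+* (A.presheaf.obj (op U))[X] :=
  (symTo _ (genX E (j := j) U) (genX_smul E U)).comp
    (RingEquiv.ofBijective _ (bijective_symLift E hA hE U hU)).symm.toRingHom

theorem coact_str (U : S.Opens) (hU : IsAffineOpen U) (r : Γ(S, U)) :
    coact E hE hA U hU (A.str.app (op U) r) = C (A.str.app (op U) r) := by
  have : (RingEquiv.ofBijective _ (bijective_symLift E hA hE U hU)).symm (A.str.app (op U) r) =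
      algebraMap _ _ r := (RingEquiv.symm_apply_eq _).2 (symLift_algebraMap E A j U r).symm
  exact (congrArg (symTo _ _ (genX_smul E U)) this).trans (symTo_algebraMap _ _ (genX_smul E U) r)

theorem coact_gen (U : S.Opens) (hU : IsAffineOpen U) (m : Γ(E, U)) :
    coact E hE hA U hU (j.app U m) = C (show A.presheaf.obj (op U) from j.app U m) * X := by
  have : (RingEquiv.ofBijective _ (bijective_symLift E hA hE U hU)).symm (j.app U m) =
      SymmetricAlgebra.ι _ _ m := (RingEquiv.symm_apply_eq _).2 (symLift_ι E A j U m).symm
  exact (congrArg (symTo _ _ (genX_smul E U)) this).trans (symTo_ι _ _ (genX_smul E U) m)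

theorem eval_coact (U : S.Opens) (hU : IsAffineOpen U) (x : A.presheaf.obj (op U)) :
    (coact E hE hA U hU x).eval 1 = x := by
  have : (Polynomial.evalRingHom 1).comp (coact E hE hA U hU) = RingHom.id _ :=
    hom_ext_sym E hE hA hU (fun r => by simp [coact_str]) (fun m => by simp [coact_gen])
  exact congr($this x)

theorem coassoc (U : S.Opens) (hU : IsAffineOpen U) (x : A.presheaf.obj (op U)) :
    (coact E hE hA U hU x).map (coact E hE hA U hU) =
      (coact E hE hA U hU x).eval₂ (C.comp C) (C X * X) := by
  have : (Polynomial.mapRingHom (coact E hE hA U hU)).comp (coact E hE hA U hU) =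
      (Polynomial.eval₂RingHom (C.comp C) (C X * X)).comp (coact E hE hA U hU) :=
    hom_ext_sym E hE hA hU (fun r => by simp [coact_str]) (fun m => by simp [coact_gen, mul_assoc])
  exact congr($this x)

/-- the degree-`d` part -/
def deg (U : S.Opens) (hU : IsAffineOpen U) (d : ℕ) : AddSubgroup (A.presheaf.obj (op U)) :=
  AddMonoidHom.eqLocus (coact E hE hA U hU).toAddMonoidHom (Polynomial.monomial d).toAddMonoidHom

theorem mem_deg {U : S.Opens} (hU : IsAffineOpen U) {d : ℕ} {x : A.presheaf.obj (op U)} :
    x ∈ deg E hE hA U hU d ↔ coact E hE hA U hU x = Polynomial.monomial d x := Iff.rfl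

theorem coeff_mem (U : S.Opens) (hU : IsAffineOpen U) (d : ℕ) (x : A.presheaf.obj (op U)) :
    (coact E hE hA U hU x).coeff d ∈ deg E hE hA U hU d := by
  rw [mem_deg]
  have h := congrArg (fun p => Polynomial.coeff p d) (coassoc E hE hA U hU x)
  simp only [Polynomial.coeff_map] at h
  rw [h]
  generalize coact E hE hA U hU x = p
  induction p using Polynomial.induction_on' with
  | add p q hp hq => simp [Polynomial.coeff_add, hp, hq]
  | monomial k a =>
    rw [Polynomial.eval₂_monomial, Polynomial.coeff_monomial, RingHom.comp_apply, mul_pow, ← map_pow, ← mul_assoc,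
      ← map_mul, Polynomial.coeff_C_mul_X_pow, Polynomial.C_mul_X_pow_eq_monomial]
    by_cases h : k = d
    · subst h; simp
    · simp [h, Ne.symm h]

instance gradedMonoid (U : S.Opens) (hU : IsAffineOpen U) : SetLike.GradedMonoid (deg E hE hA U hU) where
  one_mem := by rw [mem_deg]; simp
  mul_mem := fun i k a b ha hb => by
    rw [mem_deg] at ha hb ⊢
    rw [map_mul, ha, hb, Polynomial.monomial_mul_monomial]

theorem isInternal (U : S.Opens) (hU : IsAffineOpen U) : DirectSum.IsInternal (deg E hE hA U hU) := by
  classical
  refine ⟨fun a b hab => ?_, fun x => ?_⟩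
  · refine DFinsupp.ext fun d => Subtype.ext ?_
    have key : ∀ c : DirectSum ℕ fun d => ↥(deg E hE hA U hU d),
        (coact E hE hA U hU (DirectSum.coeAddMonoidHom _ c)).coeff d = (c d : A.presheaf.obj (op U)) := by
      intro c
      induction c using DirectSum.induction_on with
      | zero => simp
      | of i y =>
        rw [DirectSum.coeAddMonoidHom_of, (mem_deg E hE hA hU).1 y.2, Polynomial.coeff_monomial]
        by_cases h : i = d
        · subst h; simp
        · rw [if_neg h, DirectSum.of_eq_of_ne _ _ _ (Ne.symm h)]; rfl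
      | add p q hp hq => simp only [map_add, Polynomial.coeff_add, hp, hq]; rfl
    rw [← key a, ← key b, hab]
  · refine ⟨∑ d ∈ (coact E hE hA U hU x).support,
      DirectSum.of (fun d => ↥(deg E hE hA U hU d)) d ⟨_, coeff_mem E hE hA U hU d x⟩, ?_⟩
    rw [map_sum]
    simp only [DirectSum.coeAddMonoidHom_of]
    conv_rhs => rw [← eval_coact E hE hA U hU x, Polynomial.eval_eq_sum, Polynomial.sum_def]
    simp

/-- the graded quasi-coherent algebra -/
def grAlg : RelProj.QCGrAlg S where
  toQCAlg := A
  deg := deg E hE hA
  graded U hU :=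
    { toGradedMonoid := gradedMonoid E hE hA U hU
      toDecomposition := (isInternal E hE hA U hU).chooseDecomposition }
  map_mem := by
    intro U V hU hV i d x hx
    rw [mem_deg] at hx ⊢
    have h : (coact E hE hA V hV).comp (A.presheaf.map (homOfLE i).op).hom =
        (Polynomial.mapRingHom (A.presheaf.map (homOfLE i).op).hom).comp (coact E hE hA U hU) := by
      refine hom_ext_sym E hE hA hU (fun r => ?_) (fun m => ?_)
      · have e : (A.presheaf.map (homOfLE i).op).hom (A.str.app (op U) r) =
            A.str.app (op V) (S.presheaf.map (homOfLE i).op r) :=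
          (ConcreteCategory.congr_hom (A.str.naturality (homOfLE i).op) r).symm
        rw [RingHom.comp_apply, RingHom.comp_apply, coact_str, e, coact_str, Polynomial.coe_mapRingHom,
          Polynomial.map_C, e]
      · have e : (A.presheaf.map (homOfLE i).op).hom (j.app U m) =
            (show A.presheaf.obj (op V) from j.app V (E.presheaf.map (homOfLE i).op m)) :=
          (ConcreteCategory.congr_hom (j.mapPresheaf.naturality (homOfLE i).op) m).symm
        rw [RingHom.comp_apply, RingHom.comp_apply, coact_gen, e, coact_gen, Polynomial.coe_mapRingHom,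
          Polynomial.map_mul, Polynomial.map_C, Polynomial.map_X, e]
    have h2 := congr($h x)
    rw [RingHom.comp_apply, RingHom.comp_apply, hx] at h2
    simpa using h2
  str_mem U hU r := by
    rw [mem_deg, coact_str]
    simp [Polynomial.monomial_zero_left]

theorem isGrSymAlg : RelProj.IsGrSymAlg E (grAlg E hE hA) j :=
  ⟨hA, fun U hU m => by
    show coact E hE hA U hU (j.app U m) = Polynomial.monomial 1 (show A.presheaf.obj (op U) from j.app U m)
    rw [coact_gen, Polynomial.C_mul_X_eq_monomial]⟩

end GrSymExist

/-- the graded symmetric algebra of a quasi-coherent module exists -/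
theorem exists_isGrSymAlg {S : Scheme.{u}} (E : S.Modules) (hE : Coh.IsQCoh E) :
    ∃ (𝒮 : RelProj.QCGrAlg S) (j : E ⟶ 𝒮.toModule), RelProj.IsGrSymAlg E 𝒮 j :=
  ⟨GrSymExist.grAlg E hE (isSymAlg_symQC E hE), symJ E hE, GrSymExist.isGrSymAlg E hE _⟩

end Groth.Agent.SymAlgRel

end
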