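import Groth.Agent.SymAlgRel.RLsigma
import Groth.Agent.EGA2Misc.RelProjBasic

/-!
# Ampleness and immersions into a relative `Proj`
-/

set_option autoImplicit false
set_option backward.isDefEq.respectTransparency false
set_option backward.isDefEq.respectTransparency.types false

noncomputable section

universe u

open CategoryTheory Limits AlgebraicGeometry Opposite TopologicalSpace RelSpec
open Groth.Agent.QCohBase Groth.Agent.GenLocus
open scoped HomogeneousIdeal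

namespace Groth.Agent.SymAlgRel

variable {Y X P PL : Scheme.{u}} {q : X ⟶ Y} {L : X.Modules} {𝒮 : RelProj.QCGrAlg Y} {𝒮L : RelProj.QCGrAlg X}
  {j : L ⟶ 𝒮L.toModule} (u : RelProj.QGrHom q 𝒮 𝒮L)
  {p : P ⟶ Y} {chart : ∀ (U : Y.Opens) (hU : IsAffineOpen U), (((p ⁻¹ᵁ U : P.Opens) : Scheme.{u}) ≅ Proj (𝒮.deg U hU))}
  {pL : PL ⟶ X} {chartL : ∀ (U : X.Opens) (hU : IsAffineOpen U), (((pL ⁻¹ᵁ U : PL.Opens) : Scheme.{u}) ≅ Proj (𝒮L.deg U hU))}
  (hj : RelProj.IsGrSymAlg L 𝒮L j) (hLq : Coh.IsQCoh L) (hL : PicF.IsInvertible L)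
  (hP : RelProj.IsRelProj 𝒮 p chart) (hPL : RelProj.IsRelProj 𝒮L pL chartL)
  {r : ((RelProj.domQ u pL chartL : PL.Opens) : Scheme.{u}) ⟶ P}
  (hr : RelProj.IsProjQMapOn u p chart pL chartL (RelProj.domQ u pL chartL) r)

include hj hLq hL hP hPL hr in
theorem isRelAmple_of_isEmbedding [QuasiCompact q] (htop : RelProj.domQ u pL chartL = ⊤)
    (hemb : Topology.IsEmbedding r.base) : RelAmple.IsRelAmple q L := by
  haveI := isIso_pL hj hLq hPL hL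
  refine ⟨inferInstance, fun U => ⟨TensorMod.isInvertible_restrict hL _,
    isCompact_iff_compactSpace.mp (QuasiCompact.isCompact_preimage (U.1 : Set Y) U.1.2 U.2.isCompact), fun x => ?_⟩⟩
  obtain ⟨V, hV, hxV, hVW, e, he⟩ := exists_isFrame hL (show x.1 ∈ (q ⁻¹ᵁ U.1 : X.Opens) from x.2)
  obtain ⟨y, hyx⟩ := pL.homeomorph.surjective x.1
  replace hyx : pL y = x.1 := hyx
  have hy : y ∈ RelProj.domQ u pL chartL := by rw [htop]; trivial
  obtain ⟨O, hO, hOeq⟩ := hemb.isInducing.isOpen_iff.1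
    (((RelProj.domQ u pL chartL).ι ≫ pL) ⁻¹ᵁ V).2
  obtain ⟨w, hw⟩ : r ⟨y, hy⟩ ∈ (RelProj.emb p chart U.1 U.2).opensRange := by
    rw [EGA2Misc.opensRange_emb]
    show p (r ⟨y, hy⟩) ∈ U.1
    rw [← Scheme.Hom.comp_apply, EGA2Misc.projQMapOn_comp u hP hPL r hr]
    show q (pL y) ∈ U.1
    rw [hyx]
    exact x.2
  have hrO : r ⟨y, hy⟩ ∈ O := (Set.ext_iff.1 hOeq ⟨y, hy⟩).2 (show pL y ∈ V from hyx ▸ hxV)
  obtain ⟨d, f, hd, hf, hwf, hfO⟩ := exists_mem_basicOpen_le (W := RelProj.emb p chart U.1 U.2 ⁻¹ᵁ ⟨O, hO⟩)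
    (show RelProj.emb p chart U.1 U.2 w ∈ O from hw.symm ▸ hrO)
  have hle : xs u U.1 d f ≤ V := by
    intro z hz
    obtain ⟨y', hy'z⟩ := pL.homeomorph.surjective z
    replace hy'z : pL y' = z := hy'z
    have hy' : y' ∈ RelProj.domQ u pL chartL := by rw [htop]; trivial
    obtain ⟨v, hv, hv'⟩ := (mem_preimage_iff u hj hLq hL hP hPL hr U.1 U.2 hd f hf ⟨y', hy'⟩).2
      (hy'z ▸ (mem_xs u).1 hz)
    have : r ⟨y', hy'⟩ ∈ O := hv' ▸ hfO hv
    exact hy'z ▸ ((Set.ext_iff.1 hOeq ⟨y', hy'⟩).1 this)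
  obtain ⟨c, -, hc⟩ := xs_inf_eq_basicOpen u hj hLq hL hPL U.1 U.2 hd f hf hV hVW he
  rw [inf_eq_left.2 hle] at hc
  have hA : IsAffineOpen (xs u U.1 d f) := hc ▸ hV.basicOpen c
  obtain ⟨k, rfl⟩ := Nat.exists_eq_add_one_of_ne_zero hd.ne'
  obtain ⟨s, hs⟩ := exists_section u hj hLq hL hPL U.1 U.2 hd f hf
  refine ⟨k, s, ?_, ((q ⁻¹ᵁ U.1).ι.isAffineOpen_iff_of_isOpenImmersion).1 (hs.symm ▸ hA)⟩
  have hx : x.1 ∈ xs u U.1 (k + 1) f :=
    (mem_xs u).2 (hyx ▸ (mem_preimage_iff u hj hLq hL hP hPL hr U.1 U.2 hd f hf ⟨y, hy⟩).1 ⟨w, hwf, hw⟩)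
  obtain ⟨x', hx', hxx⟩ := hs.ge hx
  exact (q ⁻¹ᵁ U.1).ι.isOpenEmbedding.injective hxx ▸ hx'

include hj hLq hL hPL in
theorem exists_affine_xs_of_isAmple (U : Y.Opens) (hU : IsAffineOpen U)
    (hbij : Function.Bijective (u.app U).hom) (ha : CohB1.IsAmple (L.restrict (q ⁻¹ᵁ U).ι)) (x : X)
    (hx : q x ∈ U) :
    ∃ (d : ℕ) (_ : 0 < d) (f : 𝒮.presheaf.obj (op U)) (_ : f ∈ 𝒮.deg U hU d),
      x ∈ xs u U d f ∧ IsAffineOpen (xs u U d f) ∧ Frac u U hU (xs u U d f) (xs_le u U d f) d f ∧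
        Tors u U hU (xs u U d f) (xs_le u U d f) d f := by
  have hc : IsCompact ((q ⁻¹ᵁ U : X.Opens) : Set X) := isCompact_iff_compactSpace.mpr ha.2.1
  haveI := isSeparated_of_isAmple ha
  obtain ⟨k, s, hxs, hA⟩ := ha.2.2 ⟨x, hx⟩
  obtain ⟨f, hf, he⟩ := exists_deg_of_section u hj hLq hL hPL U hU hbij k.succ_pos s
  exact ⟨k + 1, k.succ_pos, f, hf, he ▸ ⟨⟨x, hx⟩, hxs, rfl⟩,
    he ▸ ((q ⁻¹ᵁ U).ι.isAffineOpen_iff_of_isOpenImmersion).2 hA,
    frac_of_bijective u hj hLq hL hPL U hU hbij hc k.succ_pos f hf,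
    tors_of_injective u hj hLq hL hPL U hU hc hbij.1 k.succ_pos f hf⟩

include hj hLq hL hP hPL hr in
theorem isOpenImmersion_of_forall
    (h : ∀ x : X, ∃ (U : Y.Opens) (hU : IsAffineOpen U) (d : ℕ) (_ : 0 < d) (f : 𝒮.presheaf.obj (op U))
      (_ : f ∈ 𝒮.deg U hU d), x ∈ xs u U d f ∧ IsAffineOpen (xs u U d f) ∧
        Frac u U hU (xs u U d f) (xs_le u U d f) d f ∧ Tors u U hU (xs u U d f) (xs_le u U d f) d f) :
    RelProj.domQ u pL chartL = ⊤ ∧ IsOpenImmersion r := by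
  choose U hU d hd f hf hx hT hF hK using h
  obtain ⟨h1, h2, h3⟩ := prop_of_family u hj hLq hL hP hPL hr @IsOpenImmersion U hU d hd f hf
    (fun x => ⟨x, hx x⟩) fun x => by
      haveI := (isIso_restrict_iff u hj hLq hL hP hPL hr (U x) (hU x) (hd x) (f x) (hf x) (hT x)).2 ⟨hF x, hK x⟩
      infer_instance
  obtain ⟨i, hi, e⟩ := exists_comp_restrict r _ h2
  haveI := hi
  haveI := h3
  exact ⟨h1, by rw [e]; infer_instance⟩

include hj hLq hL hP hPL hr in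
theorem isDominant_of_tors
    (h : ∀ y : Y, ∃ (U : Y.Opens) (hU : IsAffineOpen U), y ∈ U ∧
      ∀ (d : ℕ), 0 < d → ∀ f ∈ 𝒮.deg U hU d, Tors u U hU (xs u U d f) (xs_le u U d f) d f) :
    IsDominant r := by
  haveI := isIso_pL hj hLq hPL hL
  refine ⟨dense_iff_inter_open.2 fun O hO hne => ?_⟩
  obtain ⟨y₀, hy₀⟩ := hne
  obtain ⟨U, hU, hyU, hK⟩ := h (p y₀)
  obtain ⟨w, hw⟩ : y₀ ∈ (RelProj.emb p chart U hU).opensRange := by
    rw [EGA2Misc.opensRange_emb]; exact hyU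
  obtain ⟨d, f, hd, hf, hwf, hfO⟩ := exists_mem_basicOpen_le (W := RelProj.emb p chart U hU ⁻¹ᵁ ⟨O, hO⟩)
    (show RelProj.emb p chart U hU w ∈ O from hw.symm ▸ hy₀)
  by_cases hne : ∃ x, x ∈ xs u U d f
  · obtain ⟨x, hx⟩ := hne
    obtain ⟨y, hyx⟩ := pL.homeomorph.surjective x
    replace hyx : pL y = x := hyx
    have hgen : GenAt 𝒮L u U d f (pL y) := hyx ▸ (mem_xs u).1 hx
    have hy := mem_domQ_of_genAt u hj hLq hL hPL U hU hd f hf y hgen
    obtain ⟨v, hv, hv'⟩ := (mem_preimage_iff u hj hLq hL hP hPL hr U hU hd f hf ⟨y, hy⟩).2 hgen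
    exact ⟨r ⟨y, hy⟩, hv' ▸ hfO hv, ⟨y, hy⟩, rfl⟩
  · exfalso
    push Not at hne
    obtain ⟨k, -, hk⟩ := hK d hd f hf 1 one_pos f (by rwa [one_mul]) (eq_of_ares 𝒮L.toQCAlg
      (fun e : PEmpty.{1} => e.elim) (fun e => e.elim) (fun x hx => (hne x hx).elim) _ _ fun e => e.elim)
    have hnil : IsNilpotent f := ⟨k + 1, by rw [pow_succ]; exact hk⟩
    rw [basicOpen_eq_bot_of_isNilpotent hnil] at hwf
    exact hwf

include hj hLq hL hP hPL hr in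
theorem quasiCompact_of_compact (h : ∀ y : Y, ∃ (U : Y.Opens) (_ : IsAffineOpen U), y ∈ U ∧
    IsCompact ((q ⁻¹ᵁ U : X.Opens) : Set X)) (htop : RelProj.domQ u pL chartL = ⊤) : QuasiCompact r := by
  haveI := isIso_pL hj hLq hPL hL
  haveI : IsIso (RelProj.domQ u pL chartL).ι := by
    rw [htop]; exact inferInstanceAs (IsIso PL.topIso.hom)
  choose U hU hyU hc using h
  let J := Σ y : Y, {z : ℕ × 𝒮.presheaf.obj (op (U y)) // 0 < z.1 ∧ z.2 ∈ 𝒮.deg (U y) (hU y) z.1}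
  let W : J → P.Opens := fun z => RelProj.emb p chart (U z.1) (hU z.1) ''ᵁ
    Proj.basicOpen (𝒮.deg (U z.1) (hU z.1)) z.2.1.2
  have hcov : ⨆ z, W z = ⊤ := by
    refine eq_top_iff.2 fun y _ => ?_
    obtain ⟨w, hw⟩ : y ∈ (RelProj.emb p chart (U (p y)) (hU (p y))).opensRange := by
      rw [EGA2Misc.opensRange_emb]; exact hyU (p y)
    obtain ⟨d, f, hd, hf, hwf, -⟩ := exists_mem_basicOpen_le (show w ∈ (⊤ : Scheme.Opens (Proj _)) from trivial)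
    exact Opens.mem_iSup.2 ⟨⟨p y, ⟨(d, f), hd, hf⟩⟩, w, hwf, hw⟩
  refine IsZariskiLocalAtTarget.of_iSup_eq_top (P := @QuasiCompact) W hcov fun z => ?_
  obtain ⟨y, ⟨⟨d, f⟩, hd, hf⟩⟩ := z
  let W₀ := RelProj.emb p chart (U y) (hU y) ''ᵁ Proj.basicOpen (𝒮.deg (U y) (hU y)) f
  have hW : IsAffineOpen W₀ := by
    have := isAffineOpen_opensRange (Proj.awayι (𝒮.deg (U y) (hU y)) f hf hd ≫ RelProj.emb p chart (U y) (hU y))
    rwa [Scheme.Hom.opensRange_comp, Proj.opensRange_awayι] at this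
  haveI : IsAffine W₀ := hW
  let e := (RelProj.domQ u pL chartL).ι ≫ pL
  have heq : ((r ⁻¹ᵁ W₀ : Scheme.Opens _) : Set _) = e.homeomorph ⁻¹' (xs u (U y) d f : Set X) := by
    refine Set.ext fun z => ?_
    exact (mem_preimage_iff u hj hLq hL hP hPL hr (U y) (hU y) hd f hf z).trans (mem_xs u).symm
  refine (quasiCompact_iff_compactSpace (r ∣_ W₀)).2 (isCompact_iff_compactSpace.mp ?_)
  rw [heq]
  exact e.homeomorph.isCompact_preimage.2 (isCompact_xs u hj hLq hL hPL (U y) (hU y) (hc y) hd f hf)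

include hj hLq hL hP hPL hr in
theorem sigma_openImmersion (hbij : ∀ (U : Y.Opens), IsAffineOpen U → Function.Bijective (u.app U).hom)
    (h : RelAmple.IsRelAmple q L) :
    RelProj.domQ u pL chartL = ⊤ ∧ IsOpenImmersion r ∧ IsDominant r := by
  have hcov : ∀ y : Y, ∃ (U : Y.Opens) (_ : IsAffineOpen U), y ∈ U := fun y => by
    obtain ⟨_, ⟨U, hU, rfl⟩, hyU, -⟩ :=
      Y.isBasis_affineOpens.exists_subset_of_mem_open (Set.mem_univ y) isOpen_univ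
    exact ⟨U, hU, hyU⟩
  obtain ⟨h1, h2⟩ := isOpenImmersion_of_forall u hj hLq hL hP hPL hr fun x => by
    obtain ⟨U, hU, hxU⟩ := hcov (q x)
    exact ⟨U, hU, exists_affine_xs_of_isAmple u hj hLq hL hPL U hU (hbij U hU) (h.2 ⟨U, hU⟩) x hxU⟩
  refine ⟨h1, h2, isDominant_of_tors u hj hLq hL hP hPL hr fun y => ?_⟩
  obtain ⟨U, hU, hyU⟩ := hcov y
  exact ⟨U, hU, hyU, fun d hd f hf => tors_of_injective u hj hLq hL hPL U hU
    (isCompact_iff_compactSpace.mpr (h.2 ⟨U, hU⟩).2.1) (hbij U hU).1 hd f hf⟩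

include hj hLq hL hP hPL hr in
theorem sigma_isIso [UniversallyClosed q]
    (hbij : ∀ (U : Y.Opens), IsAffineOpen U → Function.Bijective (u.app U).hom)
    (h : RelAmple.IsRelAmple q L) : RelProj.domQ u pL chartL = ⊤ ∧ IsIso r := by
  obtain ⟨htop, ho, hdom⟩ := sigma_openImmersion u hj hLq hL hP hPL hr hbij h
  refine ⟨htop, ?_⟩
  haveI := isIso_pL hj hLq hPL hL
  haveI : IsIso (RelProj.domQ u pL chartL).ι := by
    rw [htop]; exact inferInstanceAs (IsIso PL.topIso.hom)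
  haveI : IsSeparated p := EGA2Misc.isSeparated_of_isRelProj hP
  haveI : UniversallyClosed (r ≫ p) := by
    rw [EGA2Misc.projQMapOn_comp u hP hPL r hr]
    infer_instance
  haveI : UniversallyClosed r := UniversallyClosed.of_comp_of_isSeparated r p
  refine (isIso_iff_isOpenImmersion_and_surjective r).2 ⟨ho, ⟨fun z => ?_⟩⟩
  have hcl : IsClosed (Set.range r) := r.isClosedMap.isClosed_range
  exact Set.mem_range.1 ((hcl.closure_eq.symm.trans hdom.denseRange.closure_range).ge (Set.mem_univ z))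

end Groth.Agent.SymAlgRel
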