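import Mathlib
import Groth.Agent.SymAlgRel.CanMap
import Groth.Agent.SymAlgRel.RLmain
import Groth.Agent.SymAlgRel.GrSymExist

/-!
# Immersions into projective bundles and the attached homomorphism of algebras
-/

set_option autoImplicit false
set_option synthInstance.maxHeartbeats 200000
set_option backward.isDefEq.respectTransparency false
set_option backward.isDefEq.respectTransparency.types false

noncomputable section

universe u

open CategoryTheory CategoryTheory.Limits AlgebraicGeometry TopologicalSpace Opposite RelSpec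
open HomogeneousLocalization
open Groth.Agent.QCohBase Groth.Agent.GenLocus
open scoped HomogeneousIdeal

namespace Groth.Agent.SymAlgRel

theorem isFrame_app_iso {X : Scheme.{u}} {M N : X.Modules} (g : M ≅ N) {U : X.Opens} {e : Γ(M, U)}
    (he : IsFrame M e) : IsFrame N (g.hom.app U e) := fun V hV => by
  have hb : Function.Bijective (g.hom.app V) := (ConcreteCategory.isIso_iff_bijective _).1 inferInstance
  have key : (fun r : Γ(X, V) => r • mres N hV (g.hom.app U e)) =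
      (g.hom.app V) ∘ fun r => r • mres M hV e := funext fun r => by
    rw [app_mres]
    exact (Scheme.Modules.Hom.app_smul g.hom r _).symm
  rw [key]
  exact hb.comp (he V hV)

variable {Y P X : Scheme.{u}} {E : Y.Modules} (hE : Coh.IsQCoh E) {𝒯 : RelProj.QCGrAlg Y} {j : E ⟶ 𝒯.toModule}
  (hj : RelProj.IsGrSymAlg E 𝒯 j)
  {p : P ⟶ Y} {chart : ∀ (U : Y.Opens) (hU : IsAffineOpen U), (((p ⁻¹ᵁ U : P.Opens) : Scheme.{u}) ≅ Proj (𝒯.deg U hU))}
  (hP : RelProj.IsRelProj 𝒯 p chart) {O1 : P.Modules}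
  {lam : ∀ (U : Y.Opens) (hU : IsAffineOpen U),
    O1 ⟶ (Scheme.Modules.pushforward (RelProj.emb p chart U hU)).obj (GrTwist.twist (𝒯.deg U hU) 1)}
  (hO1 : RelProj.IsRelTwist 𝒯 p chart 1 O1 lam)
  (φ : E ⟶ (Scheme.Modules.pushforward p).obj O1)
  (hφ : ∀ (U : Y.Opens) (hU : IsAffineOpen U) (e : Γ(E, U))
    (y : (RelProj.emb p chart U hU ⁻¹ᵁ (p ⁻¹ᵁ U) : (Proj (𝒯.deg U hU)).Opens)),
    GrTwist.val (V := RelProj.emb p chart U hU ⁻¹ᵁ (p ⁻¹ᵁ U)) ((lam U hU).app (p ⁻¹ᵁ U) (φ.app U e)) y =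
      algebraMap (𝒯.presheaf.obj (op U)) (GrTwist.Loc (𝒯.deg U hU) y.1) (tgen j e))
  {L : X.Modules} {𝒮L : RelProj.QCGrAlg X} {jL : L ⟶ 𝒮L.toModule}
  (hjL : RelProj.IsGrSymAlg L 𝒮L jL) (hLq : Coh.IsQCoh L) (hL : PicF.IsInvertible L)
  (i : X ⟶ P) (g : (Scheme.Modules.pullback i).obj O1 ≅ L)

/-- the image in `L` of a section of `E` -/
def genSec {U : Y.Opens} (e : Γ(E, U)) : Γ(L, i ⁻¹ᵁ (p ⁻¹ᵁ U)) :=
  g.hom.app _ (pullSec i O1 (p ⁻¹ᵁ U) (φ.app U e))

variable (j chart) in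
/-- the open `D₊(e₀)` -/
def T₀ (U : Y.Opens) (hU : IsAffineOpen U) (e₀ : Γ(E, U)) : P.Opens :=
  RelProj.emb p chart U hU ''ᵁ Proj.basicOpen (𝒯.deg U hU) (tgen j e₀)

theorem T₀_le (U : Y.Opens) (hU : IsAffineOpen U) (e₀ : Γ(E, U)) : T₀ j chart U hU e₀ ≤ p ⁻¹ᵁ U :=
  ((RelProj.emb p chart U hU).image_le_opensRange _).trans (EGA2Misc.opensRange_emb p chart U hU).le

include hj in
theorem mem_smul_one {U : Y.Opens} {hU : IsAffineOpen U} {d : ℕ} {f : 𝒯.presheaf.obj (op U)}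
    (hf : f ∈ 𝒯.deg U hU d) : f ∈ 𝒯.deg U hU (d • 1) := by
  rwa [smul_eq_mul, mul_one]

variable (chart) in
/-- the function `f / e₀ ^ d` -/
def rho (U : Y.Opens) (hU : IsAffineOpen U) (e₀ : Γ(E, U)) (d : ℕ) (f : 𝒯.presheaf.obj (op U))
    (hf : f ∈ 𝒯.deg U hU d) : Γ(P, T₀ j chart U hU e₀) :=
  ((RelProj.emb p chart U hU).appIso _).inv
    ((Proj.awayToSection (𝒯.deg U hU) (tgen j e₀)).hom
      (Away.mk (𝒯.deg U hU) (tgen_mem hj hU e₀) d f (mem_smul_one hj hf)))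

theorem val_rho (U : Y.Opens) (hU : IsAffineOpen U) (e₀ : Γ(E, U)) (d : ℕ) (f : 𝒯.presheaf.obj (op U))
    (hf : f ∈ 𝒯.deg U hU d)
    (z : (RelProj.emb p chart U hU ⁻¹ᵁ T₀ j chart U hU e₀ : (Proj (𝒯.deg U hU)).Opens)) :
    (((RelProj.emb p chart U hU).app _ (rho hj chart U hU e₀ d f hf)).1 z).val =
      (((Proj.awayToSection (𝒯.deg U hU) (tgen j e₀)).hom
        (Away.mk (𝒯.deg U hU) (tgen_mem hj hU e₀) d f (mem_smul_one hj hf))).1
          ⟨z.1, ((RelProj.emb p chart U hU).preimage_image_eq _).le z.2⟩).val := by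
  have h1 := ConcreteCategory.congr_hom
    ((RelProj.emb p chart U hU).appIso_inv_app (Proj.basicOpen (𝒯.deg U hU) (tgen j e₀)))
    ((Proj.awayToSection (𝒯.deg U hU) (tgen j e₀)).hom
      (Away.mk (𝒯.deg U hU) (tgen_mem hj hU e₀) d f (mem_smul_one hj hf)))
  exact congrArg (fun t : Γ(Proj (𝒯.deg U hU), RelProj.emb p chart U hU ⁻¹ᵁ T₀ j chart U hU e₀) => (t.1 z).val) h1

theorem rho_ext (U : Y.Opens) (hU : IsAffineOpen U) (e₀ : Γ(E, U)) (a b : Γ(P, T₀ j chart U hU e₀))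
    (h : ∀ z, (((RelProj.emb p chart U hU).app _ a).1 z).val = (((RelProj.emb p chart U hU).app _ b).1 z).val) :
    a = b := by
  haveI := (RelProj.emb p chart U hU).isIso_app (T₀ j chart U hU e₀)
    ((RelProj.emb p chart U hU).image_le_opensRange _)
  refine ((ConcreteCategory.isIso_iff_bijective ((RelProj.emb p chart U hU).app _)).1 inferInstance).1 ?_
  exact Subtype.ext (funext fun z => HomogeneousLocalization.val_injective _ (h z))

theorem rho_add (U : Y.Opens) (hU : IsAffineOpen U) (e₀ : Γ(E, U)) (d : ℕ) (a b : 𝒯.presheaf.obj (op U))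
    (ha : a ∈ 𝒯.deg U hU d) (hb : b ∈ 𝒯.deg U hU d) :
    rho hj chart U hU e₀ d (a + b) (add_mem ha hb) = rho hj chart U hU e₀ d a ha + rho hj chart U hU e₀ d b hb := by
  simp only [rho]
  refine Eq.trans (congrArg _ (Eq.trans (congrArg _ ?_) (map_add _ (Away.mk (𝒯.deg U hU) (tgen_mem hj hU e₀) d a
    (mem_smul_one hj ha)) (Away.mk (𝒯.deg U hU) (tgen_mem hj hU e₀) d b (mem_smul_one hj hb))))) (map_add _ _ _)
  refine HomogeneousLocalization.val_injective _ ?_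
  rw [HomogeneousLocalization.val_add, Away.val_mk, Away.val_mk, Away.val_mk, Localization.add_mk_self]

theorem rho_mul (U : Y.Opens) (hU : IsAffineOpen U) (e₀ : Γ(E, U)) (d k : ℕ) (a b : 𝒯.presheaf.obj (op U))
    (ha : a ∈ 𝒯.deg U hU d) (hb : b ∈ 𝒯.deg U hU k) :
    rho hj chart U hU e₀ (d + k) (a * b) (SetLike.mul_mem_graded ha hb) =
      rho hj chart U hU e₀ d a ha * rho hj chart U hU e₀ k b hb := by
  simp only [rho]
  refine Eq.trans (congrArg _ (Eq.trans (congrArg _ ?_) (map_mul _ (Away.mk (𝒯.deg U hU) (tgen_mem hj hU e₀) d a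
    (mem_smul_one hj ha)) (Away.mk (𝒯.deg U hU) (tgen_mem hj hU e₀) k b (mem_smul_one hj hb))))) (map_mul _ _ _)
  refine HomogeneousLocalization.val_injective _ ?_
  rw [HomogeneousLocalization.val_mul, Away.val_mk, Away.val_mk, Away.val_mk, Localization.mk_mul]
  congr 1
  exact Subtype.ext (pow_add _ d k)

include hP in
theorem rho_str (U : Y.Opens) (hU : IsAffineOpen U) (e₀ : Γ(E, U)) (r : Γ(Y, U)) :
    rho hj chart U hU e₀ 0 ((𝒯.str.app (op U)).hom r) (𝒯.str_mem U hU r) =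
      ores (T₀_le U hU e₀) (p.app U r) := by
  refine rho_ext U hU e₀ _ _ fun z => ?_
  refine (val_rho hj U hU e₀ _ _ _ z).trans ?_
  refine (GrModLib.val_awayToSection (𝒯.deg U hU) (tgen_mem hj hU e₀) 0 _ _
    ⟨z.1, ((RelProj.emb p chart U hU).preimage_image_eq _).le z.2⟩).trans ?_
  refine Eq.trans ?_ ((congrArg (fun t : Γ(Proj (𝒯.deg U hU), RelProj.emb p chart U hU ⁻¹ᵁ T₀ j chart U hU e₀) =>
    (t.1 z).val) (ConcreteCategory.congr_hom ((RelProj.emb p chart U hU).naturality (homOfLE (T₀_le U hU e₀)).op)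
      (p.app U r))).trans (val_baseFun hP U hU r ⟨z.1, T₀_le U hU e₀ z.2⟩)).symm
  rw [← Localization.mk_one_eq_algebraMap]
  congr 1
  exact Subtype.ext (pow_zero _)

include hj hO1 hφ in
theorem isFrame_phi (U : Y.Opens) (hU : IsAffineOpen U) (e₀ : Γ(E, U)) :
    IsFrame O1 (mres O1 (T₀_le (chart := chart) (j := j) U hU e₀) (φ.app U e₀)) := by
  have hnin : ∀ z : (RelProj.emb p chart U hU ⁻¹ᵁ T₀ j chart U hU e₀ : (Proj (𝒯.deg U hU)).Opens),
      (tgen j e₀) ∉ z.1.asHomogeneousIdeal := fun z =>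
    ((RelProj.emb p chart U hU).preimage_image_eq _).le z.2
  refine isFrame_of_bijective _ (lam U hU) ((RelProj.emb p chart U hU).image_le_opensRange _)
    (fun W hW => hO1.bijective U hU W (hW.trans (T₀_le U hU e₀))) ?_
    (GrModLib.isFrame_fracSec (𝒯.deg U hU) 1 _ (⟨tgen j e₀, tgen_mem hj hU e₀⟩ : 𝒯.deg U hU 1) ⟨1, SetLike.GradedOne.one_mem⟩
      (fun y h => y.1.isPrime.ne_top ((Ideal.eq_top_iff_one _).2 h)) hnin (by norm_num))
  refine GrModLib.tval_ext _ fun z => ?_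
  refine ((congrArg (fun t : Γ(GrTwist.twist (𝒯.deg U hU) 1, RelProj.emb p chart U hU ⁻¹ᵁ T₀ j chart U hU e₀) =>
    GrTwist.val t ⟨z.1, z.2⟩) (BasicGlue.app_rs (lam U hU) (T₀_le U hU e₀) (φ.app U e₀))).trans
      (hφ U hU e₀ ⟨z.1, T₀_le U hU e₀ z.2⟩)).trans ?_
  rw [← Localization.mk_one_eq_algebraMap]
  rfl

include hj hO1 hφ in
theorem rho_smul (U : Y.Opens) (hU : IsAffineOpen U) (e₀ e : Γ(E, U)) :
    rho hj chart U hU e₀ 1 (tgen j e) (tgen_mem hj hU e) • mres O1 (T₀_le (chart := chart) (j := j) U hU e₀) (φ.app U e₀) =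
      mres O1 (T₀_le U hU e₀) (φ.app U e) := by
  refine (hO1.bijective U hU _ (T₀_le U hU e₀)).1 ?_
  refine GrModLib.tval_ext _ fun z => ?_
  have hv : ∀ e' : Γ(E, U), GrModLib.tval (𝒯.deg U hU) ((lam U hU).app (T₀ j chart U hU e₀)
      (mres O1 (T₀_le U hU e₀) (φ.app U e'))) z =
        Localization.mk (tgen j e') 1 := fun e' => by
    refine ((congrArg (fun t : Γ(GrTwist.twist (𝒯.deg U hU) 1, RelProj.emb p chart U hU ⁻¹ᵁ T₀ j chart U hU e₀) =>
      GrTwist.val t ⟨z.1, z.2⟩) (BasicGlue.app_rs (lam U hU) (T₀_le U hU e₀) (φ.app U e'))).trans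
        (hφ U hU e' ⟨z.1, T₀_le U hU e₀ z.2⟩)).trans ?_
    rw [← Localization.mk_one_eq_algebraMap]
  refine ((congrArg (fun t : Γ(GrTwist.twist (𝒯.deg U hU) 1, RelProj.emb p chart U hU ⁻¹ᵁ T₀ j chart U hU e₀) =>
    GrModLib.tval _ t z) (Scheme.Modules.Hom.app_smul (lam U hU) _ _)).trans
      (GrModLib.tval_smul (𝒯.deg U hU) _ _ z)).trans ?_
  refine (congrArg₂ (· * ·) ((val_rho hj U hU e₀ _ _ _ z).trans (GrModLib.val_awayToSection (𝒯.deg U hU)
    (tgen_mem hj hU e₀) 1 _ _ ⟨z.1, ((RelProj.emb p chart U hU).preimage_image_eq _).le z.2⟩)) (hv e₀)).trans ?_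
  rw [hv e, Localization.mk_mul, Localization.mk_eq_mk_iff, Localization.r_iff_exists]
  exact ⟨1, by simp [mul_comm]⟩

variable (u : RelProj.QGrHom (i ≫ p) 𝒯 𝒮L)
  (hu : ∀ (U : Y.Opens), IsAffineOpen U → ∀ (e : Γ(E, U)),
    (u.app U).hom (tgen j e) = jL.app _ (genSec φ i g e))

/-- the frame attached to `e₀` -/
def l₀ (U : Y.Opens) (hU : IsAffineOpen U) (e₀ : Γ(E, U)) : Γ(L, i ⁻¹ᵁ T₀ j chart U hU e₀) :=
  mres L (i.preimage_mono (T₀_le U hU e₀)) (genSec φ i g e₀)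

include hj hO1 hφ in
theorem isFrame_l₀ (U : Y.Opens) (hU : IsAffineOpen U) (e₀ : Γ(E, U)) :
    IsFrame L (l₀ (chart := chart) (j := j) φ i g U hU e₀) := by
  rw [l₀, genSec, app_mres, pullSec_mres i O1 (T₀_le U hU e₀)]
  exact isFrame_app_iso g ((isFrame_phi hj hO1 φ hφ U hU e₀).pullSec i)

include hE hj hP hO1 hφ hjL hu in
/-- the image of a homogeneous element on `D₊(e₀)` -/
theorem appLE_eq_coeff (U : Y.Opens) (hU : IsAffineOpen U) (e₀ : Γ(E, U)) {d : ℕ}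
    (f : 𝒯.presheaf.obj (op U)) (hf : f ∈ 𝒯.deg U hU d) :
    (u.appLE U (i ⁻¹ᵁ T₀ j chart U hU e₀) (i.preimage_mono (T₀_le U hU e₀))).hom f =
      (𝒮L.str.app (op _)).hom (i.app _ (rho hj chart U hU e₀ d f hf)) *
        tgen jL (l₀ φ i g U hU e₀) ^ d := by
  let χ := (u.appLE U (i ⁻¹ᵁ T₀ j chart U hU e₀) (i.preimage_mono (T₀_le U hU e₀))).hom
  let σ := (𝒮L.str.app (op (i ⁻¹ᵁ T₀ j chart U hU e₀))).hom
  let t := tgen jL (l₀ (chart := chart) (j := j) φ i g U hU e₀)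
  show χ f = σ _ * t ^ d
  have h := mem_closure_of_gen (𝒜 := 𝒯.deg U hU)
    (fun k z => ∃ hz : z ∈ 𝒯.deg U hU k, χ z = σ (i.app _ (rho hj chart U hU e₀ k z hz)) * t ^ k)
    (fun k z hz => hz.1) ?_ ?_ _ ?_ (closure_sym_eq_top E hE hj.1 hU) hf
  rotate_left
  · refine ⟨SetLike.one_mem_graded _, ?_⟩
    have h2 : rho hj chart U hU e₀ 0 1 (SetLike.one_mem_graded _) = 1 := by
      refine Eq.trans ?_ ((rho_str hj hP U hU e₀ 1).trans ?_)
      · congr 1; exact (map_one _).symm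
      · rw [map_one, map_one]
    rw [h2, map_one, map_one, map_one, pow_zero, mul_one]
  · rintro k m a b ⟨ha, hae⟩ ⟨hb, hbe⟩
    refine ⟨SetLike.mul_mem_graded ha hb, ?_⟩
    rw [rho_mul hj U hU e₀ k m a b ha hb, map_mul, map_mul, map_mul, hae, hbe, pow_add]
    ring
  · rintro z (⟨r, rfl⟩ | ⟨e, rfl⟩)
    · refine ⟨0, 𝒯.str_mem U hU r, ?_⟩
      rw [pow_zero, mul_one, rho_str hj hP]
      refine (ConcreteCategory.congr_hom (u.toQHom.str_appLE U _ (i.preimage_mono (T₀_le U hU e₀))) r).trans ?_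
      refine congrArg σ ?_
      show ((i ≫ p).appLE U _ _).hom r = _
      rw [Scheme.Hom.comp_appLE, CommRingCat.comp_apply]
      refine Eq.trans ?_ (ConcreteCategory.congr_hom (i.naturality (homOfLE (T₀_le U hU e₀)).op) (p.app U r)).symm
      rfl
    · refine ⟨1, tgen_mem hj hU e, ?_⟩
      rw [pow_one]
      refine ((ares_appLE u U _ (i.preimage_mono (T₀_le U hU e₀)) _).symm.trans (congrArg _
        ((appLE_self_apply u U _).trans (hu U hU e)))).trans ?_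
      refine (res_tgen hjL (i.preimage_mono (T₀_le U hU e₀)) (e := genSec φ i g e)).trans ?_
      refine Eq.trans (congrArg (tgen jL) ?_) (map_smul (jL.val.app (op _)).hom _ _)
      rw [genSec, app_mres, pullSec_mres i O1 (T₀_le U hU e₀), ← rho_smul hj hO1 φ hφ U hU e₀ e, pullSec_smul,
        Scheme.Modules.Hom.app_smul, l₀, genSec, app_mres, pullSec_mres i O1 (T₀_le U hU e₀)]
      rfl
  suffices h' : ∃ hz : f ∈ 𝒯.deg U hU d, χ f = σ (i.app _ (rho hj chart U hU e₀ d f hz)) * t ^ d from h'.2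
  clear hf
  induction h using AddSubgroup.closure_induction with
  | mem z hz => exact hz
  | zero =>
    refine ⟨zero_mem _, ?_⟩
    have h0 := rho_add hj (chart := chart) U hU e₀ d 0 0 (zero_mem _) (zero_mem _)
    simp only [add_zero] at h0
    rw [map_zero, left_eq_add.1 h0, map_zero, map_zero, zero_mul]
  | add a b _ _ ha hb =>
    refine ⟨add_mem ha.1 hb.1, ?_⟩
    rw [map_add, rho_add hj U hU e₀ d a b ha.1 hb.1, map_add, map_add, add_mul, ha.2, hb.2]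
  | neg a _ ha =>
    refine ⟨neg_mem ha.1, ?_⟩
    have h0 := rho_add hj (chart := chart) U hU e₀ d (-a) a (neg_mem ha.1) ha.1
    simp only [neg_add_cancel] at h0
    have hz := rho_add hj (chart := chart) U hU e₀ d 0 0 (zero_mem _) (zero_mem _)
    simp only [add_zero] at hz
    rw [left_eq_add.1 hz] at h0
    rw [map_neg, eq_neg_of_add_eq_zero_left h0.symm, map_neg, map_neg, neg_mul, ha.2]

include hE hj in
theorem exists_gen_notMem (U : Y.Opens) (hU : IsAffineOpen U) (z : ProjectiveSpectrum (𝒯.deg U hU)) :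
    ∃ e : Γ(E, U), tgen j e ∉ z.asHomogeneousIdeal := by
  by_contra hne
  push Not at hne
  refine z.not_irrelevant_le ?_
  show (HomogeneousIdeal.irrelevant (𝒯.deg U hU)).toIdeal ≤ z.asHomogeneousIdeal.toIdeal
  refine (HomogeneousIdeal.toIdeal_irrelevant_le _).2 fun k hk b hb => ?_
  have h := mem_closure_of_gen (𝒜 := 𝒯.deg U hU)
    (fun m x => x ∈ 𝒯.deg U hU m ∧ (0 < m → x ∈ z.asHomogeneousIdeal.toIdeal)) (fun m x hx => hx.1)
    ⟨SetLike.one_mem_graded _, fun h => absurd h (lt_irrefl 0)⟩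
    (fun a c x y hx hy => ⟨SetLike.mul_mem_graded hx.1 hy.1, fun h => by
      rcases Nat.eq_zero_or_pos a with ha | ha
      · exact Ideal.mul_mem_left _ _ (hy.2 (by omega))
      · exact Ideal.mul_mem_right _ _ (hx.2 ha)⟩)
    _ (by
      rintro x (⟨r, rfl⟩ | ⟨e, rfl⟩)
      · exact ⟨0, 𝒯.str_mem U hU r, fun h => absurd h (lt_irrefl 0)⟩
      · exact ⟨1, tgen_mem hj hU e, fun _ => hne e⟩)
    (closure_sym_eq_top E hE hj.1 hU) hb
  clear hb
  induction h using AddSubgroup.closure_induction with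
  | mem x hx => exact hx.2 hk
  | zero => exact zero_mem _
  | add a c _ _ ha hc => exact add_mem ha hc
  | neg a _ ha => exact (z.asHomogeneousIdeal.toIdeal).neg_mem ha

theorem basicOpen_rho (U : Y.Opens) (hU : IsAffineOpen U) (e₀ : Γ(E, U)) {d : ℕ} (hd : 0 < d)
    (f : 𝒯.presheaf.obj (op U)) (hf : f ∈ 𝒯.deg U hU d) :
    P.basicOpen (rho hj chart U hU e₀ d f hf) =
      RelProj.emb p chart U hU ''ᵁ (Proj.basicOpen (𝒯.deg U hU) (tgen j e₀) ⊓ Proj.basicOpen (𝒯.deg U hU) f) := by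
  rw [rho, ← Scheme.image_basicOpen, GrModLib.basicOpen_awayToSection (𝒯.deg U hU) one_pos _ hd]

variable {PL : Scheme.{u}} {pL : PL ⟶ X}
  {chartL : ∀ (V : X.Opens) (hV : IsAffineOpen V), (((pL ⁻¹ᵁ V : PL.Opens) : Scheme.{u}) ≅ Proj (𝒮L.deg V hV))}
  (hPL : RelProj.IsRelProj 𝒮L pL chartL)

include hE hj hP hO1 hφ hjL hLq hL hu hPL in
/-- the non-vanishing locus of the image of `f` is the inverse image of `D₊(f)` -/
theorem xs_eq_preimage (U : Y.Opens) (hU : IsAffineOpen U) {d : ℕ} (hd : 0 < d)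
    (f : 𝒯.presheaf.obj (op U)) (hf : f ∈ 𝒯.deg U hU d) :
    xs u U d f = i ⁻¹ᵁ (RelProj.emb p chart U hU ''ᵁ Proj.basicOpen (𝒯.deg U hU) f) := by
  have key : ∀ x : X, (i ≫ p) x ∈ U → (GenAt 𝒮L u U d f x ↔
      i x ∈ RelProj.emb p chart U hU ''ᵁ Proj.basicOpen (𝒯.deg U hU) f) := by
    intro x hx
    obtain ⟨w, hw⟩ : i x ∈ (RelProj.emb p chart U hU).opensRange := by
      rw [EGA2Misc.opensRange_emb]
      exact hx
    obtain ⟨e₀, he₀⟩ := exists_gen_notMem hE hj U hU w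
    have hxT : x ∈ i ⁻¹ᵁ T₀ j chart U hU e₀ := ⟨w, he₀, hw⟩
    obtain ⟨_, ⟨V, hV, rfl⟩, hxV, hVT⟩ :=
      X.isBasis_affineOpens.exists_subset_of_mem_open hxT (i ⁻¹ᵁ T₀ j chart U hU e₀).2
    replace hVT : V ≤ i ⁻¹ᵁ T₀ j chart U hU e₀ := hVT
    have hle : V ≤ (i ≫ p) ⁻¹ᵁ U := le_trans hVT (i.preimage_mono (T₀_le U hU e₀))
    let c₀ := i.app _ (rho hj chart U hU e₀ d f hf)
    have hc : (u.appLE U V hle).hom f = (𝒮L.str.app (op V)).hom (ores hVT c₀) *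
        tgen jL (mres L hVT (l₀ φ i g U hU e₀)) ^ d := by
      rw [show (u.appLE U V hle).hom f = ares 𝒮L.toQCAlg hVT ((u.appLE U (i ⁻¹ᵁ T₀ j chart U hU e₀)
          (i.preimage_mono (T₀_le U hU e₀))).hom f) from
          (ConcreteCategory.congr_hom (RelSpec.QHom.appLE_map u.toQHom (i.preimage_mono (T₀_le U hU e₀)) hVT) f).symm,
        appLE_eq_coeff hE hj hP hO1 φ hφ hjL i g u hu U hU e₀ f hf, map_mul, map_pow, ares_str]
      exact congrArg (fun t => _ * t ^ d) (res_tgen hjL hVT)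
    rw [genAt_iff_basicOpen u hjL hLq hL hPL U hU hd f hf hV hle
      ((isFrame_l₀ hj hO1 φ hφ i g U hU e₀).res hVT) hc hxV]
    have h1 : x ∈ X.basicOpen (ores hVT c₀) ↔ x ∈ X.basicOpen c₀ := by
      show x ∈ X.basicOpen (X.presheaf.map (homOfLE hVT).op c₀) ↔ _
      rw [Scheme.basicOpen_res]
      exact ⟨fun h => h.2, fun h => ⟨hxV, h⟩⟩
    rw [h1, ← Scheme.preimage_basicOpen, basicOpen_rho hj U hU e₀ hd f hf]
    show (i x ∈ RelProj.emb p chart U hU ''ᵁ _) ↔ _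
    constructor
    · rintro ⟨v, hv, hvx⟩; exact ⟨v, hv.2, hvx⟩
    · rintro ⟨v, hv, hvx⟩
      obtain rfl : v = w := (RelProj.emb p chart U hU).isOpenEmbedding.injective (hvx.trans hw.symm)
      exact ⟨v, ⟨he₀, hv⟩, hvx⟩
  refine SetLike.ext fun x => ⟨fun h => ?_, fun h => ?_⟩
  · exact (key x (xs_le u U d f h)).1 ((mem_xs u).1 h)
  · exact (mem_xs u).2 ((key x ((EGA2Misc.opensRange_emb p chart U hU).le
      ((RelProj.emb p chart U hU).image_le_opensRange _ h))).2 h)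

include hE hj hP hO1 hφ hjL hLq hL hu hPL in
/-- around every point there is a good homogeneous element when `i` is an immersion -/
theorem exists_good_element [IsImmersion i] (x : X) (U : Y.Opens) (hU : IsAffineOpen U) (hx : (i ≫ p) x ∈ U) :
    ∃ (d : ℕ) (_ : 0 < d) (f : 𝒯.presheaf.obj (op U)) (_ : f ∈ 𝒯.deg U hU d),
      x ∈ xs u U d f ∧ IsAffineOpen (xs u U d f) ∧ Frac u U hU (xs u U d f) (xs_le u U d f) d f := by
  obtain ⟨w, hw⟩ : i x ∈ (RelProj.emb p chart U hU).opensRange := by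
    rw [EGA2Misc.opensRange_emb]
    exact hx
  obtain ⟨d, f, hd, hf, hwf, hfO⟩ := exists_mem_basicOpen_le (W := RelProj.emb p chart U hU ⁻¹ᵁ i.coborderRange)
    (show RelProj.emb p chart U hU w ∈ i.coborderRange from hw.symm ▸ subset_coborder ⟨x, rfl⟩)
  let e := RelProj.emb p chart U hU
  let W₀ := e ''ᵁ Proj.basicOpen (𝒯.deg U hU) f
  have hcl : IsClosedImmersion (i ∣_ W₀) := isClosedImmersion_restrict_of_le i W₀ (by
    rintro _ ⟨v, hv, rfl⟩; exact hfO hv)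
  have hWaff : IsAffineOpen W₀ := by
    have := isAffineOpen_opensRange (Proj.awayι (𝒯.deg U hU) f hf hd ≫ RelProj.emb p chart U hU)
    rwa [Scheme.Hom.opensRange_comp, Proj.opensRange_awayι] at this
  have hxs := xs_eq_preimage hE hj hP hO1 φ hφ hjL hLq hL i g u hu hPL U hU hd f hf
  haveI : IsAffine W₀ := hWaff
  have hA : IsAffineOpen (i ⁻¹ᵁ W₀) := isAffine_of_isAffineHom (i ∣_ W₀)
  refine ⟨d, hd, f, hf, hxs ▸ ⟨w, hwf, hw⟩, hxs ▸ hA, ?_⟩
  intro t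
  have hsurj : Function.Surjective (i.app W₀) := by
    haveI := hcl
    have h1 := (i ∣_ W₀).app_surjective ⊤ (isAffineOpen_top _)
    rw [morphismRestrict_app] at h1
    have himg : W₀.ι ''ᵁ ⊤ = W₀ := W₀.ι_image_top
    intro s
    obtain ⟨a, ha⟩ := h1 ((X.presheaf.map (homOfLE (show (i ⁻¹ᵁ W₀).ι ''ᵁ ((i ∣_ W₀) ⁻¹ᵁ ⊤) ≤ i ⁻¹ᵁ W₀ by
      intro z hz; obtain ⟨v, -, rfl⟩ := hz; exact v.2)).op).hom s)
    refine ⟨(P.presheaf.map (eqToHom himg.symm).op).hom a, ?_⟩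
    have hb : Function.Bijective (X.presheaf.map (homOfLE (show (i ⁻¹ᵁ W₀).ι ''ᵁ ((i ∣_ W₀) ⁻¹ᵁ ⊤) ≤ i ⁻¹ᵁ W₀ by
      intro z hz; obtain ⟨v, -, rfl⟩ := hz; exact v.2)).op).hom := by
      have heq : (i ⁻¹ᵁ W₀).ι ''ᵁ ((i ∣_ W₀) ⁻¹ᵁ ⊤) = i ⁻¹ᵁ W₀ := (i ⁻¹ᵁ W₀).ι_image_top
      rw [show (homOfLE _ : (i ⁻¹ᵁ W₀).ι ''ᵁ ((i ∣_ W₀) ⁻¹ᵁ ⊤) ⟶ i ⁻¹ᵁ W₀) = eqToHom heq from rfl]
      exact (ConcreteCategory.isIso_iff_bijective _).1 inferInstance
    refine hb.1 (Eq.trans ?_ ha)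
    simp only [← CommRingCat.comp_apply, Scheme.Hom.naturality, Category.assoc, ← Functor.map_comp]
    rfl
  obtain ⟨t', ht'⟩ := hsurj ((X.presheaf.map (homOfLE hxs.ge).op).hom t)
  obtain ⟨k, a, ha, hk, hka⟩ := GrModLib.exists_eq_awayToSection (𝒯.deg U hU) hd hf ((e.appIso _).hom t')
  have ha' : a ∈ 𝒯.deg U hU (k * d) := by simpa [smul_eq_mul] using ha
  refine ⟨k, hk, a, ha', ?_⟩
  choose e₀ he₀ using fun z : (xs u U d f : X.Opens) => exists_gen_notMem hE hj U hU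
    (show ∃ v, v ∈ Proj.basicOpen (𝒯.deg U hU) f ∧ e v = i z.1 from hxs.le z.2).choose
  refine eq_of_ares 𝒮L.toQCAlg (fun z : (xs u U d f : X.Opens) => xs u U d f ⊓ i ⁻¹ᵁ T₀ j chart U hU (e₀ z))
    (fun z => inf_le_left) (fun y hy => Opens.mem_iSup.2 ⟨⟨y, hy⟩, hy, ?_⟩) _ _ fun z => ?_
  · exact ⟨_, he₀ ⟨y, hy⟩, (hxs.le hy).choose_spec.2⟩
  let W₁ : P.Opens := e ''ᵁ (Proj.basicOpen (𝒯.deg U hU) f ⊓ Proj.basicOpen (𝒯.deg U hU) (tgen j (e₀ z)))
  have h0 : W₁ ≤ W₀ := e.image_mono inf_le_left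
  have h1 : W₁ ≤ T₀ j chart U hU (e₀ z) := e.image_mono inf_le_right
  have hle : xs u U d f ⊓ i ⁻¹ᵁ T₀ j chart U hU (e₀ z) ≤ i ⁻¹ᵁ W₁ := by
    rintro y ⟨hy, v, hv, hvy⟩
    obtain ⟨v', hv', hv'y⟩ := hxs.le hy
    obtain rfl : v' = v := e.isOpenEmbedding.injective (hv'y.trans hvy.symm)
    exact ⟨v', ⟨hv', hv⟩, hvy⟩
  have hP1 : ores h0 t' * ores h1 (rho hj chart U hU (e₀ z) d f hf) ^ k =
      ores h1 (rho hj chart U hU (e₀ z) (k * d) a ha') := by
    haveI := e.isIso_app W₁ (e.image_le_opensRange _)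
    refine ((ConcreteCategory.isIso_iff_bijective (e.app W₁)).1 inferInstance).1 ?_
    rw [map_mul, map_pow]
    refine Subtype.ext (funext fun v => HomogeneousLocalization.val_injective _ ?_)
    have hv := (e.preimage_image_eq _).le v.2
    have hnat : ∀ {W : P.Opens} (h : W₁ ≤ W) (s : Γ(P, W)), ((e.app W₁ (ores h s)).1 v).val =
        ((e.app W s).1 ⟨v.1, h v.2⟩).val := fun h s =>
      congrArg (fun t : Γ(Proj (𝒯.deg U hU), e ⁻¹ᵁ W₁) => (t.1 v).val)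
        (ConcreteCategory.congr_hom (e.naturality (homOfLE h).op) s)
    have ht1 : ((e.app W₀ t').1 ⟨v.1, h0 v.2⟩).val =
        Localization.mk a (⟨f ^ k, fun h => hv.1 (v.1.isPrime.mem_of_pow_mem k h)⟩ :
          v.1.asHomogeneousIdeal.toIdeal.primeCompl) := by
      have h2 : t' = (e.appIso _).inv ((Proj.awayToSection (𝒯.deg U hU) f).hom (Away.mk _ hf k a ha)) := by
        rw [← hka]; exact (Iso.hom_inv_id_apply _ _).symm
      rw [h2]
      refine (congrArg (fun t : Γ(Proj (𝒯.deg U hU), e ⁻¹ᵁ W₀) => (t.1 ⟨v.1, h0 v.2⟩).val)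
        (ConcreteCategory.congr_hom (e.appIso_inv_app _) _)).trans ?_
      exact GrModLib.val_awayToSection (𝒯.deg U hU) hf k a ha ⟨v.1, hv.1⟩
    show ((e.app W₁ (ores h0 t') * e.app W₁ (ores h1 (rho hj chart U hU (e₀ z) d f hf)) ^ k).1 v).val = _
    refine (HomogeneousLocalization.val_mul _ _).trans ?_
    refine (congrArg₂ (· * ·) ((hnat h0 t').trans ht1) ((HomogeneousLocalization.val_pow _ k).trans
      (congrArg (· ^ k) ((hnat h1 _).trans ((val_rho hj U hU _ _ _ _ ⟨v.1, h1 v.2⟩).trans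
        (GrModLib.val_awayToSection (𝒯.deg U hU) _ _ _ _ ⟨v.1, hv.2⟩)))))).trans ?_
    refine Eq.trans ?_ ((hnat h1 _).trans ((val_rho hj U hU _ _ _ _ ⟨v.1, h1 v.2⟩).trans
        (GrModLib.val_awayToSection (𝒯.deg U hU) _ _ _ _ ⟨v.1, hv.2⟩))).symm
    rw [Localization.mk_pow, Localization.mk_mul, Localization.mk_eq_mk_iff, Localization.r_iff_exists]
    refine ⟨1, ?_⟩
    simp only [OneMemClass.coe_one, one_mul, SubmonoidClass.coe_pow, Submonoid.coe_mul]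
    ring
  have hc : ∀ (m : ℕ) (b : 𝒯.presheaf.obj (op U)) (hb : b ∈ 𝒯.deg U hU m),
      ares 𝒮L.toQCAlg (inf_le_left : xs u U d f ⊓ i ⁻¹ᵁ T₀ j chart U hU (e₀ z) ≤ xs u U d f)
        ((u.appLE U (xs u U d f) (xs_le u U d f)).hom b) =
      (𝒮L.str.app (op _)).hom (ores hle (i.app W₁ (ores h1 (rho hj chart U hU (e₀ z) m b hb)))) *
        tgen jL (mres L inf_le_right (l₀ φ i g U hU (e₀ z))) ^ m := by
    intro m b hb
    rw [show ares 𝒮L.toQCAlg (inf_le_left : xs u U d f ⊓ i ⁻¹ᵁ T₀ j chart U hU (e₀ z) ≤ xs u U d f)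
        ((u.appLE U (xs u U d f) (xs_le u U d f)).hom b) = ares 𝒮L.toQCAlg
          (inf_le_right : xs u U d f ⊓ i ⁻¹ᵁ T₀ j chart U hU (e₀ z) ≤ _)
          ((u.appLE U (i ⁻¹ᵁ T₀ j chart U hU (e₀ z)) (i.preimage_mono (T₀_le U hU (e₀ z)))).hom b) from
        (ConcreteCategory.congr_hom (RelSpec.QHom.appLE_map u.toQHom (xs_le u U d f) inf_le_left) b).trans
          (ConcreteCategory.congr_hom (RelSpec.QHom.appLE_map u.toQHom (i.preimage_mono (T₀_le U hU (e₀ z))) inf_le_right) b).symm,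
      appLE_eq_coeff hE hj hP hO1 φ hφ hjL i g u hu U hU (e₀ z) b hb, map_mul, map_pow, ares_str]
    refine congrArg₂ (fun c t => (𝒮L.str.app (op _)).hom c * t ^ m) ?_ (res_tgen hjL inf_le_right)
    refine Eq.trans ?_ (congrArg (ores hle) (ConcreteCategory.congr_hom (i.naturality (homOfLE h1).op)
      (rho hj chart U hU (e₀ z) m b hb))).symm
    exact (ores_ores _ hle _).symm
  rw [map_mul, map_pow, hc d f hf, hc (k * d) a ha', ares_str, mul_pow, ← map_pow, ← pow_mul, mul_comm d k,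
    ← mul_assoc, ← map_mul]
  congr 2
  have ht : ores (inf_le_left : xs u U d f ⊓ i ⁻¹ᵁ T₀ j chart U hU (e₀ z) ≤ xs u U d f) t =
      ores hle (i.app W₁ (ores h0 t')) := by
    refine Eq.trans ?_ (congrArg (ores hle) (ConcreteCategory.congr_hom (i.naturality (homOfLE h0).op) t')).symm
    show _ = ores hle (ores (i.preimage_mono h0) (i.app W₀ t'))
    rw [ht']
    show _ = ores hle (ores _ (ores hxs.ge t))
    rw [ores_ores, ores_ores]
  rw [ht, ← map_pow, ← map_mul, ← map_pow, ← map_mul, hP1]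

include hE hj hjL in
/-- the graded homomorphism attached to `i` -/
theorem exists_bundle_hom :
    ∃ u : RelProj.QGrHom (i ≫ p) 𝒯 𝒮L, ∀ (U : Y.Opens), IsAffineOpen U → ∀ (e : Γ(E, U)),
      (u.app U).hom (tgen j e) = jL.app _ (genSec φ i g e) := by
  let σ : E ⟶ (Scheme.Modules.pushforward (i ≫ p)).obj L :=
    φ ≫ (Scheme.Modules.pushforward p).map ((Scheme.Modules.pullbackPushforwardAdjunction i).homEquiv _ _ g.hom) ≫
      (Scheme.Modules.pushforwardComp i p).hom.app L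
  let ψ := ((Scheme.Modules.pullbackPushforwardAdjunction (i ≫ p)).homEquiv E L).symm σ
  obtain ⟨u, hu⟩ := exists_qGrHom (g := i ≫ p) E hj hE (ψ ≫ jL) fun V hV x => hjL.2 V hV (ψ.app V x)
  refine ⟨u, fun U hU e => (hu U hU e).trans (congrArg (jL.app _) ?_)⟩
  have h2 := Adjunction.homEquiv_unit (Scheme.Modules.pullbackPushforwardAdjunction (i ≫ p)) E L ψ
  rw [Equiv.apply_symm_apply] at h2
  have h1 : ψ.app ((i ≫ p) ⁻¹ᵁ U) (pullSec (i ≫ p) E U e) = σ.app U e :=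
    (congr($(congrArg (fun f ↦ Scheme.Modules.Hom.app f U) h2) e)).symm
  refine h1.trans ?_
  have h3 := Adjunction.homEquiv_unit (Scheme.Modules.pullbackPushforwardAdjunction i) O1 L g.hom
  show ((Scheme.Modules.pullbackPushforwardAdjunction i).homEquiv O1 L g.hom).app (p ⁻¹ᵁ U) (φ.app U e) = _
  rw [h3]
  rfl

/-- A very ample module gives an everywhere defined immersion into a bundle, by its graded homomorphism. -/
theorem exists_of_isRelVeryAmple {X Y PL : Scheme.{u}} {q : X ⟶ Y} {L : X.Modules} (h : RelProj.IsRelVeryAmple q L)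
    {𝒮L : RelProj.QCGrAlg X} {jL : L ⟶ 𝒮L.toModule} (hjL : RelProj.IsGrSymAlg L 𝒮L jL) (hLq : Coh.IsQCoh L)
    (hL : PicF.IsInvertible L) {pL : PL ⟶ X}
    {chartL : ∀ (V : X.Opens) (hV : IsAffineOpen V), (((pL ⁻¹ᵁ V : PL.Opens) : Scheme.{u}) ≅ Proj (𝒮L.deg V hV))}
    (hPL : RelProj.IsRelProj 𝒮L pL chartL) :
    ∃ (E : Y.Modules) (_ : Coh.IsQCoh E) (𝒯 : RelProj.QCGrAlg Y) (j : E ⟶ 𝒯.toModule)
      (_ : RelProj.IsGrSymAlg E 𝒯 j) (P : Scheme.{u}) (p : P ⟶ Y)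
      (chart : ∀ (U : Y.Opens) (hU : IsAffineOpen U), (((p ⁻¹ᵁ U : P.Opens) : Scheme.{u}) ≅ Proj (𝒯.deg U hU)))
      (_ : RelProj.IsRelProj 𝒯 p chart) (u : RelProj.QGrHom q 𝒯 𝒮L) (σ : E ⟶ (Scheme.Modules.pushforward q).obj L)
      (r : ((RelProj.domQ u pL chartL : PL.Opens) : Scheme.{u}) ⟶ P),
      (∀ (U : Y.Opens), IsAffineOpen U → ∀ e : Γ(E, U), (u.app U).hom (tgen j e) = jL.app _ (σ.app U e)) ∧
      RelProj.IsProjQMapOn u p chart pL chartL (RelProj.domQ u pL chartL) r ∧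
      RelProj.domQ u pL chartL = ⊤ ∧ IsImmersion r ∧
      ∀ (x : X) (U : Y.Opens) (hU : IsAffineOpen U), q x ∈ U →
        ∃ (d : ℕ) (_ : 0 < d) (f : 𝒯.presheaf.obj (op U)) (_ : f ∈ 𝒯.deg U hU d),
          x ∈ xs u U d f ∧ IsAffineOpen (xs u U d f) ∧ Frac u U hU (xs u U d f) (xs_le u U d f) d f := by
  obtain ⟨E, hE, 𝒯, j, hj, P, p, chart, hP, O1, lam, hO1, i, hi, hcomp, ⟨g⟩⟩ := h
  subst hcomp
  haveI := hi
  obtain ⟨φ, hφ⟩ := exists_canMap (lam := lam) hP hj hO1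
  obtain ⟨u, hu⟩ := exists_bundle_hom hE hj φ hjL i g.symm
  obtain ⟨r, hr, -⟩ := EGA2Misc.existsUnique_projQMapOn u hP hPL
  have hgood := exists_good_element hE hj hP hO1 φ hφ hjL hLq hL i g.symm u hu hPL
  obtain ⟨htop, himm⟩ := isImmersion_of_forall u hjL hLq hL hP hPL hr fun x => by
    obtain ⟨_, ⟨U, hU, rfl⟩, hxU, -⟩ :=
      Y.isBasis_affineOpens.exists_subset_of_mem_open (Set.mem_univ ((i ≫ p) x)) isOpen_univ
    obtain ⟨d, hd, f, hf, h⟩ := hgood x U hU hxU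
    exact ⟨U, hU, d, hd, f, hf, h⟩
  refine ⟨E, hE, 𝒯, j, hj, P, p, chart, hP, u, φ ≫ (Scheme.Modules.pushforward p).map
    ((Scheme.Modules.pullbackPushforwardAdjunction i).homEquiv _ _ g.symm.hom) ≫
      (Scheme.Modules.pushforwardComp i p).hom.app L, r, fun U hU e => ?_, hr, htop, himm, hgood⟩
  rw [hu U hU e]
  have h3 := Adjunction.homEquiv_unit (Scheme.Modules.pullbackPushforwardAdjunction i) O1 L g.symm.hom
  refine congrArg (jL.app _) ?_
  show _ = ((Scheme.Modules.pullbackPushforwardAdjunction i).homEquiv O1 L g.symm.hom).app (p ⁻¹ᵁ U) (φ.app U e)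
  rw [h3]
  rfl

end Groth.Agent.SymAlgRel

end
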