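import Mathlib
import Groth.Prelude.Def_RelProj
import Groth.Agent.EGA2Misc.RelProjMap
import Groth.Agent.SymAlgRel.ProjBCRing

/-!
# Existence of the relative homogeneous spectrum
-/

noncomputable section

universe u

open CategoryTheory CategoryTheory.Limits AlgebraicGeometry TopologicalSpace Opposite HomogeneousLocalization
open scoped HomogeneousIdeal

namespace Groth.Agent.SymAlgRel

section ring

variable {R R' A B : Type u} [CommRing R] [CommRing R'] [CommRing A] [CommRing B]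
  {𝒜 : ℕ → AddSubgroup A} [GradedRing 𝒜] {ℬ : ℕ → AddSubgroup B} [GradedRing ℬ]
  (a : R →+* A) (ha : ∀ r, a r ∈ 𝒜 0) (b : R' →+* B) (hb : ∀ r, b r ∈ ℬ 0) (σ : R →+* R')
  (ψ : 𝒜 →+*ᵍ ℬ) (hψ : ℬ₊ ≤ (𝒜₊).map ψ) (hsq : ∀ r, b (σ r) = ψ (a r))

/-- `Proj` over the base ring -/
def toBaseSpec (a : R →+* A) (ha : ∀ r, a r ∈ 𝒜 0) : Proj 𝒜 ⟶ Spec (CommRingCat.of R) :=
  Proj.toSpecZero 𝒜 ≫ Spec.map (CommRingCat.ofHom (a.codRestrict (SetLike.GradeZero.subring 𝒜) ha) :
    CommRingCat.of R ⟶ CommRingCat.of (𝒜 0))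

theorem awayι_toBaseSpec {d : ℕ} (hd : 0 < d) {s : A} (hs : s ∈ 𝒜 d) :
    Proj.awayι 𝒜 s hs hd ≫ toBaseSpec a ha = Spec.map (CommRingCat.ofHom (baseHom a ha s)) := by
  rw [toBaseSpec, Proj.awayι_toSpecZero_assoc, ← Spec.map_comp]
  rfl

include hsq in
theorem projMap_toBaseSpec :
    Proj.map ψ hψ ≫ toBaseSpec a ha = toBaseSpec b hb ≫ Spec.map (CommRingCat.ofHom σ) := by
  rw [toBaseSpec, toBaseSpec, ← Category.assoc, EGA2Misc.map_toSpecZero, Category.assoc, Category.assoc,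
    ← Spec.map_comp, ← Spec.map_comp]
  congr 2
  refine CommRingCat.hom_ext (RingHom.ext fun r => Subtype.ext ?_)
  exact (hsq r).symm

include hsq in
/-- `Proj` commutes with a base change along an open immersion of affine schemes. -/
theorem isPullback_projMap [IsOpenImmersion (Spec.map (CommRingCat.ofHom σ))]
    (hpo : CategoryTheory.IsPushout (CommRingCat.ofHom σ) (CommRingCat.ofHom a) (CommRingCat.ofHom b)
      (CommRingCat.ofHom (RingHomClass.toRingHom ψ))) :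
    IsPullback (Proj.map ψ hψ) (toBaseSpec b hb) (toBaseSpec a ha) (Spec.map (CommRingCat.ofHom σ)) := by
  have hsqr : ∀ (d : ℕ) (s : A) (hs : s ∈ 𝒜 d), IsPullback (Spec.map (CommRingCat.ofHom (Away.map ψ s)))
      (Spec.map (CommRingCat.ofHom (baseHom b hb (ψ s)))) (Spec.map (CommRingCat.ofHom (baseHom a ha s)))
      (Spec.map (CommRingCat.ofHom σ)) := fun d s hs =>
    (isPullback_SpecMap_of_isPushout _ _ _ _ (isPushout_away a ha b hb σ ψ hsq hpo hs)).flip
  haveI : IsOpenImmersion (Proj.map ψ hψ) := by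
    refine EGA2Misc.projMap_of_forall ψ hψ @IsOpenImmersion fun d hd s hs => ?_
    exact MorphismProperty.of_isPullback (P := @IsOpenImmersion) (hsqr d s hs).flip inferInstance
  refine (IsOpenImmersion.isPullback (toBaseSpec b hb) (Proj.map ψ hψ) (Spec.map (CommRingCat.ofHom σ))
    (toBaseSpec a ha) (projMap_toBaseSpec a ha b hb σ ψ hψ hsq) ?_).flip
  refine le_antisymm (fun w hw => ?_) ?_
  · obtain ⟨v, hv⟩ := hw
    obtain ⟨⟨⟨d, hd⟩, s, hs⟩, w', rfl⟩ := (Proj.affineOpenCover 𝒜).openCover.exists_eq w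
    have h1 : Spec.map (CommRingCat.ofHom (baseHom a ha s)) w' = Spec.map (CommRingCat.ofHom σ) v := by
      rw [← awayι_toBaseSpec a ha hd hs, Scheme.Hom.comp_apply]
      exact hv.symm
    obtain ⟨z, hz, -⟩ := Scheme.exists_preimage_of_isPullback (hsqr d s hs) w' v h1
    refine ⟨Proj.awayι ℬ (ψ s) (ψ.map_mem hs) hd z, ?_⟩
    rw [← Scheme.Hom.comp_apply]
    refine (congrArg (fun φ => φ z) (Proj.awayι_comp_map ψ hψ hd s hs)).trans ?_
    show (Spec.map (CommRingCat.ofHom (Away.map ψ s)) ≫ Proj.awayι 𝒜 s hs hd) z = _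
    rw [Scheme.Hom.comp_apply, hz]
    rfl
  · rintro _ ⟨z, rfl⟩
    refine ⟨toBaseSpec b hb z, ?_⟩
    rw [← Scheme.Hom.comp_apply, ← projMap_toBaseSpec a ha b hb σ ψ hψ hsq, Scheme.Hom.comp_apply]

theorem projMap_congr {f g : 𝒜 →+*ᵍ ℬ} (h : f = g) (hf : ℬ₊ ≤ (𝒜₊).map f) (hg : ℬ₊ ≤ (𝒜₊).map g) :
    Proj.map f hf = Proj.map g hg := by
  subst h
  rfl

end ring

variable {S : Scheme.{u}} (𝒮 : RelProj.QCGrAlg S)

open Scheme.AffineZariskiSite in
theorem irrelevant_le_site {U V : S.AffineZariskiSite} (i : V ≤ U) :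
    (𝒮.deg V.1 V.2)₊ ≤ ((𝒮.deg U.1 U.2)₊).map (𝒮.res U.2 V.2 (toOpens_mono i)) := by
  obtain ⟨r, hr⟩ := id i
  obtain rfl : U.basicOpen r = V := Subtype.ext hr
  exact 𝒮.irrelevant_le_map U.1 U.2 r

theorem res_self (U : S.Opens) (hU : IsAffineOpen U) :
    𝒮.res hU hU le_rfl = GradedRingHom.id (𝒮.deg U hU) :=
  GradedRingHom.ext fun x => ConcreteCategory.congr_hom (𝒮.presheaf.map_id (op U)) x

theorem res_comp {U V W : S.Opens} (hU : IsAffineOpen U) (hV : IsAffineOpen V) (hW : IsAffineOpen W)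
    (i : V ≤ U) (k : W ≤ V) :
    𝒮.res hU hW (k.trans i) = (𝒮.res hV hW k).comp (𝒮.res hU hV i) :=
  GradedRingHom.ext fun x => ConcreteCategory.congr_hom (𝒮.presheaf.map_comp (homOfLE i).op (homOfLE k).op) x

/-- the functor of the homogeneous spectra over the affine opens -/
def projFunctor : S.AffineZariskiSite ⥤ Scheme.{u} where
  obj U := Proj (𝒮.deg U.1 U.2)
  map {V U} i := Proj.map (𝒮.res U.2 V.2 (Scheme.AffineZariskiSite.toOpens_mono i.le)) (irrelevant_le_site 𝒮 i.le)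
  map_id U := (projMap_congr (res_self 𝒮 U.1 U.2) _ (by simp)).trans Proj.map_id
  map_comp {W V U} i k :=
    (projMap_congr (res_comp 𝒮 U.2 V.2 W.2 _ _) _ (HomogeneousIdeal.irrelevant_le_map_comp (irrelevant_le_site 𝒮 k.le)
      (irrelevant_le_site 𝒮 i.le))).trans (Proj.map_comp _ _ _ _)

/-- the map to the affine open -/
def projToOpen (U : S.AffineZariskiSite) : Proj (𝒮.deg U.1 U.2) ⟶ (U.1 : Scheme.{u}) :=
  toBaseSpec (𝒮.str.app (op U.1)).hom (𝒮.str_mem U.1 U.2) ≫ U.2.isoSpec.inv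

theorem projToOpen_ι (U : S.AffineZariskiSite) :
    projToOpen 𝒮 U ≫ U.1.ι =
      Proj.toSpecZero (𝒮.deg U.1 U.2) ≫ Spec.map (𝒮.strZero U.1 U.2) ≫ U.2.fromSpec := by
  rw [projToOpen, Category.assoc, IsAffineOpen.isoSpec_inv_ι, toBaseSpec, Category.assoc]
  rfl

theorem isPullback_projFunctor {V U : S.AffineZariskiSite} (i : V ⟶ U) :
    IsPullback ((projFunctor 𝒮).map i) (projToOpen 𝒮 V) (projToOpen 𝒮 U)
      (S.homOfLE (Scheme.AffineZariskiSite.toOpens_mono i.le)) := by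
  obtain ⟨r, hr⟩ := id i.le
  obtain rfl : U.basicOpen r = V := Subtype.ext hr
  let σ := S.presheaf.map (homOfLE (S.basicOpen_le r)).op
  haveI := U.2.isLocalization_basicOpen r
  haveI : IsOpenImmersion (Spec.map (CommRingCat.ofHom σ.hom)) := by
    have hfac : Spec.map σ ≫ U.2.fromSpec = (U.2.basicOpen r).fromSpec := U.2.map_fromSpec (U.2.basicOpen r) _
    haveI : IsOpenImmersion (Spec.map σ ≫ U.2.fromSpec) := hfac ▸ inferInstance
    exact IsOpenImmersion.of_comp (Spec.map σ) U.2.fromSpec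
  have hpo := 𝒮.toQCAlg.coequifibered (homOfLE (U.basicOpen_le r)).op
  have h := isPullback_projMap (𝒮.str.app (op U.1)).hom (𝒮.str_mem U.1 U.2)
    (𝒮.str.app (op (S.basicOpen r))).hom (𝒮.str_mem _ (U.2.basicOpen r)) σ.hom
    (𝒮.res U.2 (U.2.basicOpen r) (S.basicOpen_le r)) (𝒮.irrelevant_le_map U.1 U.2 r)
    (fun x => ConcreteCategory.congr_hom (𝒮.str.naturality (homOfLE (S.basicOpen_le r)).op) x) hpo
  refine h.of_iso (Iso.refl _) (Iso.refl _) (U.2.basicOpen r).isoSpec.symm U.2.isoSpec.symm ?_ ?_ ?_ ?_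
  · simp only [Iso.refl_hom, Category.id_comp, Category.comp_id]
    rfl
  · simp only [Iso.refl_hom, Category.id_comp]
    rfl
  · simp only [Iso.refl_hom, Category.id_comp]
    rfl
  · rw [← cancel_mono U.1.ι]
    simp only [Iso.symm_hom, Category.assoc, IsAffineOpen.isoSpec_inv_ι]
    refine (U.2.map_fromSpec (U.2.basicOpen r) (homOfLE (S.basicOpen_le r)).op).trans ?_
    exact ((congrArg ((U.2.basicOpen r).isoSpec.inv ≫ ·) (Scheme.homOfLE_ι _ _)).trans
      (U.2.basicOpen r).isoSpec_inv_ι).symm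

/-- the gluing datum -/
def projGlueData : (Scheme.AffineZariskiSite.directedCover S).RelativeGluingData where
  functor := projFunctor 𝒮
  natTrans :=
    { app := fun U => projToOpen 𝒮 U
      naturality := fun _ _ i => (isPullback_projFunctor 𝒮 i).w }
  equifibered _ _ i := isPullback_projFunctor 𝒮 i

theorem exists_isRelProj :
    ∃ (P : Scheme.{u}) (p : P ⟶ S)
      (chart : ∀ (U : S.Opens) (hU : IsAffineOpen U), (((p ⁻¹ᵁ U : P.Opens) : Scheme.{u}) ≅ Proj (𝒮.deg U hU))),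
      RelProj.IsRelProj 𝒮 p chart := by
  let d := projGlueData 𝒮
  haveI : (d.functor ⋙ Scheme.forget).IsLocallyDirected :=
    Scheme.Cover.RelativeGluingData.instIsLocallyDirectedI₀CompFunctorForgetOfIsThin ..
  let ι : ∀ (U : S.AffineZariskiSite), Proj (𝒮.deg U.1 U.2) ⟶ d.glued := fun U => colimit.ι d.functor U
  haveI : ∀ U, IsOpenImmersion (ι U) := fun U => d.cover.map_prop U
  have hι : ∀ U, ι U ≫ d.toBase = projToOpen 𝒮 U ≫ U.1.ι := fun U => d.ι_toBase U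
  have hrange : ∀ (U : S.Opens) (hU : IsAffineOpen U), d.toBase ⁻¹ᵁ U = (ι ⟨U, hU⟩).opensRange := by
    intro U hU
    have := d.toBase_preimage_eq_opensRange_ι ⟨U, hU⟩
    simpa using! this
  let chart : ∀ (U : S.Opens) (hU : IsAffineOpen U),
      (((d.toBase ⁻¹ᵁ U : d.glued.Opens) : Scheme.{u}) ≅ Proj (𝒮.deg U hU)) := fun U hU =>
    Scheme.isoOfEq _ (hrange U hU) ≪≫ (ι ⟨U, hU⟩).isoOpensRange.symm
  have hchart : ∀ (U : S.Opens) (hU : IsAffineOpen U),
      (chart U hU).hom ≫ ι ⟨U, hU⟩ = (d.toBase ⁻¹ᵁ U).ι := by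
    intro U hU
    simp only [chart, Iso.trans_hom, Iso.symm_hom, Category.assoc]
    exact (congrArg ((d.glued.isoOfEq (hrange U hU)).hom ≫ ·) (ι ⟨U, hU⟩).isoOpensRange_inv_comp).trans
      (Scheme.isoOfEq_hom_ι _ _)
  refine ⟨d.glued, d.toBase, chart, ⟨fun U hU => ?_, fun U hU r => ?_⟩⟩
  · rw [← hchart U hU, Category.assoc, hι, projToOpen_ι]
  · refine (cancel_mono (ι ⟨U, hU⟩)).1 ?_
    rw [Category.assoc, Category.assoc, hchart, Scheme.homOfLE_ι, ← hchart _ (hU.basicOpen r)]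
    congr 1
    exact (colimit.w d.functor (homOfLE (Scheme.AffineZariskiSite.basicOpen_le ⟨U, hU⟩ r))).symm

end Groth.Agent.SymAlgRel
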