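import Mathlib
import Groth.Prelude.Def_RelProj2
import Groth.Agent.QCohBase.Criteria
import Groth.Agent.QCohExt.Algebra
import Groth.Agent.SymAlgRel.TwistExist
import Groth.Agent.SymAlgRel.TwistLoc

/-!
# The pieces of a quasi-coherent graded algebra as modules
-/

set_option autoImplicit false
set_option backward.isDefEq.respectTransparency false
set_option backward.isDefEq.respectTransparency.types false

noncomputable section

universe u

open CategoryTheory AlgebraicGeometry TopologicalSpace Opposite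

namespace Groth.Agent.SymAlgRel

variable {S : Scheme.{u}} (𝒮 : RelProj.QCGrAlg S) (d : ℕ)

/-- the sections homogeneous of degree `d` on affine opens -/
def degSub (U : S.Opens) : AddSubgroup (𝒮.presheaf.obj (op U)) where
  carrier := {s | ∀ (V : S.Opens) (hV : IsAffineOpen V) (i : V ≤ U),
    (𝒮.presheaf.map (homOfLE i).op).hom s ∈ 𝒮.deg V hV d}
  zero_mem' V hV i := by rw [map_zero]; exact zero_mem _
  add_mem' ha hb V hV i := by rw [map_add]; exact add_mem (ha V hV i) (hb V hV i)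
  neg_mem' ha V hV i := by rw [map_neg]; exact neg_mem (ha V hV i)

theorem map_map {U V W : S.Opens} (i : V ≤ U) (k : W ≤ V) (s : 𝒮.presheaf.obj (op U)) :
    (𝒮.presheaf.map (homOfLE k).op).hom ((𝒮.presheaf.map (homOfLE i).op).hom s) =
      (𝒮.presheaf.map (homOfLE (k.trans i)).op).hom s :=
  (ConcreteCategory.congr_hom (𝒮.presheaf.map_comp (homOfLE i).op (homOfLE k).op) s).symm

theorem map_degSub {U V : S.Opens} (i : V ≤ U) {s : 𝒮.presheaf.obj (op U)} (hs : s ∈ degSub 𝒮 d U) :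
    (𝒮.presheaf.map (homOfLE i).op).hom s ∈ degSub 𝒮 d V := fun W hW k => by
  rw [map_map]; exact hs W hW _

theorem smul_degSub {U : S.Opens} (r : Γ(S, U)) {s : 𝒮.presheaf.obj (op U)} (hs : s ∈ degSub 𝒮 d U) :
    (𝒮.str.app (op U)).hom r * s ∈ degSub 𝒮 d U := fun V hV i => by
  rw [map_mul, show (𝒮.presheaf.map (homOfLE i).op).hom ((𝒮.str.app (op U)).hom r) =
    (𝒮.str.app (op V)).hom ((S.presheaf.map (homOfLE i).op).hom r) from
      (ConcreteCategory.congr_hom (𝒮.str.naturality (homOfLE i).op) r).symm]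
  simpa only [zero_add] using SetLike.mul_mem_graded (A := 𝒮.deg V hV) (𝒮.str_mem V hV _) (hs V hV i)

theorem mem_degSub_iff {U : S.Opens} (hU : IsAffineOpen U) (s : 𝒮.presheaf.obj (op U)) :
    s ∈ degSub 𝒮 d U ↔ s ∈ 𝒮.deg U hU d :=
  ⟨fun h => by
    have := h U hU le_rfl
    rwa [show (homOfLE (le_refl U)).op = 𝟙 _ from rfl, CategoryTheory.Functor.map_id] at this,
    fun h V hV i => 𝒮.map_mem hU hV i h⟩

/-- membership is local -/
theorem degSub_of_cover {U : S.Opens} (s : 𝒮.presheaf.obj (op U))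
    (h : ∀ x ∈ U, ∃ (W : S.Opens) (i : W ≤ U), x ∈ W ∧ (𝒮.presheaf.map (homOfLE i).op).hom s ∈ degSub 𝒮 d W) :
    s ∈ degSub 𝒮 d U := by
  classical
  intro V hV i
  let t := (𝒮.presheaf.map (homOfLE i).op).hom s
  show t ∈ 𝒮.deg V hV d
  rw [← DirectSum.sum_support_decompose (𝒮.deg V hV) t]
  refine sum_mem fun k _ => ?_
  by_cases hk : k = d
  · exact hk ▸ SetLike.coe_mem _
  suffices hz : (DirectSum.decompose (𝒮.deg V hV) t k : 𝒮.presheaf.obj (op V)) = 0 by rw [hz]; exact zero_mem _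
  have hloc : ∀ x ∈ V, ∃ r : Γ(S, V), x ∈ S.basicOpen r ∧
      (𝒮.presheaf.map (homOfLE (S.basicOpen_le r)).op).hom t ∈ 𝒮.deg (S.basicOpen r) (hV.basicOpen r) d := by
    intro x hx
    obtain ⟨W, j, hxW, hW⟩ := h x (i hx)
    obtain ⟨r, hr, hxr⟩ := hV.exists_basicOpen_le (V := W) ⟨x, hxW⟩ hx
    refine ⟨r, hxr, ?_⟩
    have := hW (S.basicOpen r) (hV.basicOpen r) hr
    rw [map_map] at this
    show (𝒮.presheaf.map _).hom ((𝒮.presheaf.map _).hom s) ∈ _
    rw [map_map]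
    exact this
  choose r hxr hr using hloc
  refine TopCat.Sheaf.eq_of_locally_eq' ⟨𝒮.presheaf, 𝒮.isSheaf⟩ (fun x : V => S.basicOpen (r x.1 x.2)) V
    (fun x => homOfLE (S.basicOpen_le _)) (fun x hx => TopologicalSpace.Opens.mem_iSup.2 ⟨⟨x, hx⟩, hxr x hx⟩)
    _ _ fun x => ?_
  let ψ := 𝒮.res hV (hV.basicOpen (r x.1 x.2)) (S.basicOpen_le _)
  show ψ (DirectSum.decompose (𝒮.deg V hV) t k : 𝒮.presheaf.obj (op V)) = ψ 0
  rw [GradedRingHom.map_directSumDecompose, map_zero]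
  exact DirectSum.decompose_of_mem_ne _ (hr x.1 x.2) (Ne.symm hk)

/-- the piece as a presheaf of abelian groups -/
def degPre : TopCat.Presheaf AddCommGrpCat.{u} S.carrier where
  obj U := AddCommGrpCat.of (degSub 𝒮 d U.unop)
  map {U V} i := AddCommGrpCat.ofHom
    { toFun := fun s => ⟨(𝒮.presheaf.map (homOfLE i.unop.le).op).hom s.1, map_degSub 𝒮 d i.unop.le s.2⟩
      map_zero' := Subtype.ext (map_zero _)
      map_add' := fun a b => Subtype.ext (map_add _ _ _) }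
  map_id U := by
    refine AddCommGrpCat.ext fun s => Subtype.ext ?_
    exact ConcreteCategory.congr_hom (𝒮.presheaf.map_id U) s.1
  map_comp {U V W} i k := by
    refine AddCommGrpCat.ext fun s => Subtype.ext ?_
    exact (map_map 𝒮 i.unop.le k.unop.le s.1).symm

theorem isSheaf_degPre : TopCat.Presheaf.IsSheaf (degPre 𝒮 d) := by
  rw [TopCat.Presheaf.isSheaf_iff_isSheafUniqueGluing]
  intro κ U sf hsf
  have hc : TopCat.Presheaf.IsCompatible 𝒮.presheaf U (fun i => (sf i).1) := fun i k =>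
    congrArg Subtype.val (hsf i k)
  obtain ⟨s, hs, huniq⟩ := TopCat.Sheaf.existsUnique_gluing ⟨𝒮.presheaf, 𝒮.isSheaf⟩ U _ hc
  refine ⟨⟨s, degSub_of_cover 𝒮 d s fun x hx => ?_⟩, fun i => Subtype.ext (hs i),
    fun t ht => Subtype.ext (huniq t.1 fun i => congrArg Subtype.val (ht i))⟩
  obtain ⟨i, hi⟩ := TopologicalSpace.Opens.mem_iSup.1 hx
  refine ⟨U i, le_iSup U i, hi, ?_⟩
  rw [show (𝒮.presheaf.map (homOfLE (le_iSup U i)).op).hom s = (sf i).1 from hs i]
  exact (sf i).2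

instance moduleDegSub (U : S.Opens) : Module Γ(S, U) (degSub 𝒮 d U) where
  smul r s := ⟨(𝒮.str.app (op U)).hom r * s.1, smul_degSub 𝒮 d r s.2⟩
  one_smul s := Subtype.ext ((congrArg (· * s.1) (map_one _)).trans (one_mul _))
  mul_smul r r' s := Subtype.ext ((congrArg (· * s.1) (map_mul _ r r')).trans (mul_assoc _ _ _))
  smul_zero r := Subtype.ext (mul_zero _)
  smul_add r a b := Subtype.ext (mul_add _ _ _)
  add_smul r r' s := Subtype.ext ((congrArg (· * s.1) (map_add _ r r')).trans (add_mul _ _ _))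
  zero_smul s := Subtype.ext ((congrArg (· * s.1) (map_zero _)).trans (zero_mul _))

/-- the piece as a module -/
def degPiece : S.Modules where
  val :=
    letI (X : (TopologicalSpace.Opens S)ᵒᵖ) :
        Module ↑(S.ringCatSheaf.obj.obj X) ↑((degPre 𝒮 d).obj X) :=
      moduleDegSub 𝒮 d X.unop
    PresheafOfModules.ofPresheaf (degPre 𝒮 d) fun U V i r s => Subtype.ext (by
      refine (map_mul _ _ _).trans (congrArg (· * _) ?_)
      exact (ConcreteCategory.congr_hom (𝒮.str.naturality (homOfLE i.unop.le).op) r).symm)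
  isSheaf := isSheaf_degPre 𝒮 d

/-- the inclusion -/
def degIncl : degPiece 𝒮 d ⟶ 𝒮.toModule :=
  ⟨PresheafOfModules.homMk
    { app := fun U => AddCommGrpCat.ofHom
        { toFun := fun s => s.1
          map_zero' := rfl
          map_add' := fun _ _ => rfl }
      naturality := fun _ _ _ => rfl }
    fun U r s => rfl⟩

theorem degIncl_app_injective (U : S.Opens) : Function.Injective ((degIncl 𝒮 d).app U) := fun _ _ h =>
  Subtype.ext h

theorem degIncl_app_mem (U : S.Opens) (hU : IsAffineOpen U) (m : Γ(degPiece 𝒮 d, U)) :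
    (show 𝒮.presheaf.obj (op U) from (degIncl 𝒮 d).app U m) ∈ 𝒮.deg U hU d :=
  (mem_degSub_iff 𝒮 d hU _).1 m.2

theorem degIncl_app_surj (U : S.Opens) (hU : IsAffineOpen U) (y : 𝒮.presheaf.obj (op U))
    (hy : y ∈ 𝒮.deg U hU d) : ∃ m : Γ(degPiece 𝒮 d, U), (degIncl 𝒮 d).app U m = y :=
  ⟨⟨y, (mem_degSub_iff 𝒮 d hU y).2 hy⟩, rfl⟩

theorem isQCoh_degPiece : Coh.IsQCoh (degPiece 𝒮 d) :=
  QCohBase.isQuasicoherent_of_forall_localizesOn fun U hU f => by
    let U' : S.affineOpens := ⟨U, hU⟩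
    let D : S.affineOpens := ⟨S.basicOpen f, hU.basicOpen f⟩
    let g := (𝒮.str.app (op U)).hom f
    let ψ := 𝒮.res hU (hU.basicOpen f) (S.basicOpen_le f)
    let _inst := (𝒮.presheaf.map (homOfLE (S.basicOpen_le f)).op).hom.toAlgebra
    haveI : IsLocalization.Away g (𝒮.presheaf.obj (op (S.basicOpen f))) := 𝒮.isQC U hU f
    have hsurj : ∀ b, ∃ (k : ℕ) (a : 𝒮.presheaf.obj (op U)), b * ψ g ^ k = ψ a := fun b => by
      obtain ⟨k, a, ha⟩ := IsLocalization.Away.surj g b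
      exact ⟨k, a, ha⟩
    have hstr : (𝒮.str.app (op (S.basicOpen f))).hom ((S.presheaf.map (homOfLE (S.basicOpen_le f)).op).hom f) =
        ψ g := ConcreteCategory.congr_hom (𝒮.str.naturality (homOfLE (S.basicOpen_le f)).op) f
    refine ⟨fun x => ?_, fun y hy => ?_⟩
    · obtain ⟨k, a, ha, hxa⟩ := TwistLoc.exists_homog ψ g (𝒮.str_mem U hU f) hsurj
        ((mem_degSub_iff 𝒮 d (hU.basicOpen f) x.1).1 x.2)
      refine ⟨k, ⟨a, (mem_degSub_iff 𝒮 d hU a).2 ha⟩, Subtype.ext ?_⟩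
      show ψ a = (𝒮.str.app (op (S.basicOpen f))).hom
        ((S.presheaf.map (homOfLE (S.basicOpen_le f)).op).hom f ^ k) * x.1
      rw [map_pow, hstr, ← hxa, mul_comm]
    · obtain ⟨⟨_, k, rfl⟩, hk⟩ := (IsLocalization.map_eq_zero_iff (Submonoid.powers g)
        (𝒮.presheaf.obj (op (S.basicOpen f))) y.1).1 (congrArg Subtype.val hy)
      refine ⟨k, Subtype.ext ?_⟩
      show (𝒮.str.app (op U)).hom (f ^ k) * y.1 = 0
      rw [map_pow]
      exact hk

theorem isFT_iff_of_deg (U : S.Opens) (hU : IsAffineOpen U) :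
    (∃ T : Finset (Γ(degPiece 𝒮 d, U)), Submodule.span Γ(S, U) (T : Set (Γ(degPiece 𝒮 d, U))) = ⊤) ↔
      ∃ T : Finset (𝒮.presheaf.obj (op U)), (∀ t ∈ T, t ∈ 𝒮.deg U hU d) ∧ ∀ y ∈ 𝒮.deg U hU d,
        ∃ c : 𝒮.presheaf.obj (op U) → Γ(S, U), y = ∑ t ∈ T, (𝒮.str.app (op U)).hom (c t) * t := by
  classical
  constructor
  · rintro ⟨T, hT⟩
    refine ⟨T.image Subtype.val, fun t ht => ?_, fun y hy => ?_⟩
    · obtain ⟨m, -, rfl⟩ := Finset.mem_image.1 ht
      exact (mem_degSub_iff 𝒮 d hU _).1 m.2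
    · have hm : (⟨y, (mem_degSub_iff 𝒮 d hU y).2 hy⟩ : Γ(degPiece 𝒮 d, U)) ∈
          Submodule.span Γ(S, U) (T : Set (Γ(degPiece 𝒮 d, U))) := by rw [hT]; trivial
      obtain ⟨c, -, hc⟩ := Submodule.mem_span_finset.1 hm
      refine ⟨fun t => if h : t ∈ degSub 𝒮 d U then c ⟨t, h⟩ else 0, ?_⟩
      rw [Finset.sum_image (fun a _ b _ hab => Subtype.ext hab)]
      have h1 := congrArg (fun m : degSub 𝒮 d U => (m : 𝒮.presheaf.obj (op U))) hc
      refine h1.symm.trans ((AddSubgroup.val_finsetSum _ _ _).trans (Finset.sum_congr rfl fun m _ => ?_))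
      refine Eq.trans ?_ (congrArg (fun r => (𝒮.str.app (op U)).hom r * m.1) (dif_pos m.2)).symm
      rfl
  · rintro ⟨T, hT, hgen⟩
    refine ⟨T.attach.image fun t => (⟨t.1, (mem_degSub_iff 𝒮 d hU _).2 (hT t.1 t.2)⟩ : Γ(degPiece 𝒮 d, U)), ?_⟩
    rw [eq_top_iff]
    rintro m -
    obtain ⟨c, hc⟩ := hgen m.1 ((mem_degSub_iff 𝒮 d hU _).1 m.2)
    have hm : m = ∑ t ∈ T.attach, c t.1 •
        (⟨t.1, (mem_degSub_iff 𝒮 d hU _).2 (hT t.1 t.2)⟩ : Γ(degPiece 𝒮 d, U)) := by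
      refine Subtype.ext (hc.trans (Eq.trans ?_ (AddSubgroup.val_finsetSum _ _ _).symm))
      exact (Finset.sum_attach T (fun t => (𝒮.str.app (op U)).hom (c t) * t)).symm
    rw [hm]
    exact Submodule.sum_mem _ fun t ht => Submodule.smul_mem _ _
      (Submodule.subset_span (Finset.mem_image_of_mem _ ht))

end Groth.Agent.SymAlgRel

end
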