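import Groth.Agent.SymAlgRel.TensorPow
import Groth.Agent.SymAlgRel.RLimm

/-!
# `r_{L,ψ}` and ampleness
-/

set_option autoImplicit false
set_option backward.isDefEq.respectTransparency false
set_option backward.isDefEq.respectTransparency.types false

noncomputable section

universe u

open CategoryTheory Limits AlgebraicGeometry Opposite TopologicalSpace RelSpec
open Groth.Agent.QCohBase Groth.Agent.GenLocus
open scoped HomogeneousIdeal

namespace Groth.Agent.SymAlgRel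

variable {X : Scheme.{u}} {L : X.Modules} {𝒮L : RelProj.QCGrAlg X} {j : L ⟶ 𝒮L.toModule}

theorem image_ι_le (W : X.Opens) (V' : (W : Scheme.{u}).Opens) : W.ι ''ᵁ V' ≤ W := by
  rintro _ ⟨x, -, rfl⟩
  exact x.2

/-- restriction of sections of an algebra -/
abbrev ares (A : QCAlg X) {V W : X.Opens} (h : V ≤ W) : A.presheaf.obj (op W) →+* A.presheaf.obj (op V) :=
  (A.presheaf.map (homOfLE h).op).hom

theorem ares_ares (A : QCAlg X) {U V W : X.Opens} (h : V ≤ W) (h' : U ≤ V) (x : A.presheaf.obj (op W)) :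
    ares A h' (ares A h x) = ares A (h'.trans h) x :=
  (ConcreteCategory.congr_hom (A.presheaf.map_comp (homOfLE h).op (homOfLE h').op) x).symm

theorem ares_self (A : QCAlg X) {W : X.Opens} (h : W ≤ W) (x : A.presheaf.obj (op W)) : ares A h x = x :=
  ConcreteCategory.congr_hom (A.presheaf.map_id (op W)) x

theorem ares_str (A : QCAlg X) {V W : X.Opens} (h : V ≤ W) (c : Γ(X, W)) :
    ares A h ((A.str.app (op W)).hom c) = (A.str.app (op V)).hom (ores h c) :=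
  (ConcreteCategory.congr_hom (A.str.naturality (homOfLE h).op) c).symm

theorem eq_of_ares (A : QCAlg X) {ι : Type*} {W : X.Opens} (V : ι → X.Opens) (hV : ∀ i, V i ≤ W)
    (hcov : W ≤ iSup V) (a b : A.presheaf.obj (op W)) (h : ∀ i, ares A (hV i) a = ares A (hV i) b) : a = b :=
  TopCat.Sheaf.eq_of_locally_eq' (⟨A.presheaf, A.isSheaf⟩ : TopCat.Sheaf CommRingCat X.carrier) V W
    (fun i => homOfLE (hV i)) hcov a b h

/-- a section of degree `n` on every affine open -/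
def IsDeg (𝒮L : RelProj.QCGrAlg X) (W : X.Opens) (n : ℕ) (a : 𝒮L.presheaf.obj (op W)) : Prop :=
  ∀ (V : X.Opens) (hV : IsAffineOpen V) (h : V ≤ W), ares 𝒮L.toQCAlg h a ∈ 𝒮L.deg V hV n

theorem mem_deg_of_local {V : X.Opens} (hV : IsAffineOpen V) {n : ℕ} {a : 𝒮L.presheaf.obj (op V)}
    (h : ∀ x ∈ V, ∃ (V₁ : X.Opens) (hV₁ : IsAffineOpen V₁) (h₁ : V₁ ≤ V), x ∈ V₁ ∧
      ares 𝒮L.toQCAlg h₁ a ∈ 𝒮L.deg V₁ hV₁ n) : a ∈ 𝒮L.deg V hV n := by
  classical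
  choose V₁ hV₁ h₁ hx hmem using h
  have hzero : ∀ i, i ≠ n → (DirectSum.decompose (𝒮L.deg V hV) a i : 𝒮L.presheaf.obj (op V)) = 0 := by
    intro i hi
    refine eq_of_ares 𝒮L.toQCAlg (fun x : V => V₁ x.1 x.2) (fun x => h₁ x.1 x.2)
      (fun x hxV => Opens.mem_iSup.2 ⟨⟨x, hxV⟩, hx x hxV⟩) _ _ fun x => ?_
    rw [map_zero]
    show 𝒮L.res hV (hV₁ x.1 x.2) (h₁ x.1 x.2) (DirectSum.decompose (𝒮L.deg V hV) a i) = 0
    rw [GradedRingHom.map_directSumDecompose]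
    exact DirectSum.decompose_of_mem_ne _ (hmem x.1 x.2) (Ne.symm hi)
  rw [← DirectSum.sum_support_decompose (𝒮L.deg V hV) a]
  refine sum_mem fun i _ => ?_
  by_cases hi : i = n
  · subst hi; exact SetLike.coe_mem _
  · rw [hzero i hi]; exact zero_mem _

theorem isDeg_of_local {W : X.Opens} {n : ℕ} {a : 𝒮L.presheaf.obj (op W)}
    (h : ∀ x ∈ W, ∃ (V : X.Opens) (hV : IsAffineOpen V) (h₁ : V ≤ W), x ∈ V ∧
      ares 𝒮L.toQCAlg h₁ a ∈ 𝒮L.deg V hV n) : IsDeg 𝒮L W n a := by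
  intro V hV hVW
  refine mem_deg_of_local hV fun x hx => ?_
  obtain ⟨V₁, hV₁, h₁, hx₁, hm⟩ := h x (hVW hx)
  obtain ⟨_, ⟨V₂, hV₂, rfl⟩, hx₂, h₂⟩ :=
    X.isBasis_affineOpens.exists_subset_of_mem_open (show x ∈ (V ⊓ V₁ : X.Opens) from ⟨hx, hx₁⟩) (V ⊓ V₁).2
  refine ⟨V₂, hV₂, (show V₂ ≤ V ⊓ V₁ from h₂).trans inf_le_left, hx₂, ?_⟩
  rw [ares_ares]
  have := 𝒮L.map_mem hV₁ hV₂ ((show V₂ ≤ V ⊓ V₁ from h₂).trans inf_le_right) hm
  rwa [show (𝒮L.presheaf.map (homOfLE ((show V₂ ≤ V ⊓ V₁ from h₂).trans inf_le_right)).op).hom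
    (ares 𝒮L.toQCAlg h₁ a) = _ from ares_ares 𝒮L.toQCAlg h₁ _ a] at this

theorem isFrame_restrict (W : X.Opens) {V' : (W : Scheme.{u}).Opens} (e : Γ(L, W.ι ''ᵁ V'))
    (he : IsFrame L e) : IsFrame (L.restrict W.ι) (U := V') e := by
  intro V'' h
  have := he (W.ι ''ᵁ V'') (W.ι.image_mono h)
  exact this.comp ((ConcreteCategory.isIso_iff_bijective (W.ι.appIso V'').inv).1 inferInstance)

variable (hj : RelProj.IsGrSymAlg L 𝒮L j) (hLq : Coh.IsQCoh L) (hL : PicF.IsInvertible L) (W : X.Opens)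

include hL in
theorem exists_frame_le (V'' : (W : Scheme.{u}).Opens) (x : W) (hx : x ∈ V'') :
    ∃ (V' : (W : Scheme.{u}).Opens) (_ : IsAffineOpen (W.ι ''ᵁ V')) (_ : V' ≤ V'') (e : Γ(L, W.ι ''ᵁ V')),
      x ∈ V' ∧ IsFrame L e := by
  obtain ⟨V, hV, hxV, hVW, e, he⟩ := exists_isFrame hL (show x.1 ∈ W.ι ''ᵁ V'' from ⟨x, hx, rfl⟩)
  have heq : W.ι ''ᵁ W.ι ⁻¹ᵁ V = V := by
    rw [Scheme.Hom.image_preimage_eq_opensRange_inf, Scheme.Opens.opensRange_ι]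
    exact inf_eq_right.2 (hVW.trans (image_ι_le W V''))
  refine ⟨W.ι ⁻¹ᵁ V, heq.symm ▸ hV, fun y hy => ?_, mres L heq.le e, hxV, he.res heq.le⟩
  obtain ⟨z, hz, hzy⟩ := hVW hy
  exact (W.ι.isOpenEmbedding.injective hzy) ▸ hz

/-- the algebra on the restricted module -/
abbrev jr (j : L ⟶ 𝒮L.toModule) : L.restrict W.ι ⟶ rA 𝒮L.toQCAlg W :=
  (Scheme.Modules.restrictFunctor W.ι).map j

/-- global sections of `rA` -/
def gv (a : Γ(rA 𝒮L.toQCAlg W, ⊤)) : 𝒮L.presheaf.obj (op W) :=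
  ares 𝒮L.toQCAlg W.ι_image_top.ge (rv 𝒮L.toQCAlg W ⊤ a)

theorem ares_gv (V' : (W : Scheme.{u}).Opens) (a : Γ(rA 𝒮L.toQCAlg W, ⊤)) :
    ares 𝒮L.toQCAlg (image_ι_le W V') (gv W a) = rv 𝒮L.toQCAlg W V' (mres _ le_top a) := by
  rw [gv, ares_ares, rv_mres]

include hj hLq in
theorem powMap_local_injective {V' : (W : Scheme.{u}).Opens} (hV : IsAffineOpen (W.ι ''ᵁ V'))
    {e : Γ(L, W.ι ''ᵁ V')} (he : IsFrame L e) (n : ℕ) {s s' : Γ(CohB1.tensorPow (L.restrict W.ι) n, V')}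
    (h : rv 𝒮L.toQCAlg W V' ((powMap _ W (jr W j) n).app V' s) =
      rv 𝒮L.toQCAlg W V' ((powMap _ W (jr W j) n).app V' s')) : s = s' := by
  have hfr := (isFrame_restrict W e he).framePow n
  obtain ⟨r, rfl⟩ := hfr.bijective.2 s
  obtain ⟨r', rfl⟩ := hfr.bijective.2 s'
  rw [powMap_smul_framePow, powMap_smul_framePow] at h
  have hr : (W.ι.appIso V').inv r = (W.ι.appIso V').inv r' := str_mul_pow_inj hj hLq hV he h
  exact congrArg (fun r => r • GenLocus.framePow _ n)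
    (((ConcreteCategory.isIso_iff_bijective (W.ι.appIso V').inv).1 inferInstance).1 hr)

include hj hLq hL in
theorem powMap_injective (n : ℕ) (V'' : (W : Scheme.{u}).Opens)
    {s s' : Γ(CohB1.tensorPow (L.restrict W.ι) n, V'')}
    (h : (powMap _ W (jr W j) n).app V'' s = (powMap _ W (jr W j) n).app V'' s') : s = s' := by
  choose V' hV hle e hx he using fun x : V'' => exists_frame_le hL W V'' x.1 x.2
  refine eq_of_iSup_le (CohB1.tensorPow (L.restrict W.ι) n) V' hle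
    (fun y hy => Opens.mem_iSup.2 ⟨⟨y, hy⟩, hx ⟨y, hy⟩⟩) _ _ fun x => ?_
  refine powMap_local_injective hj hLq W (hV x) (he x) n (congrArg (rv _ W (V' x)) ?_)
  rw [← app_mres, ← app_mres, h]

include hj in
theorem powMap_frame_eq {V' : (W : Scheme.{u}).Opens} (r : Γ(W, V')) (e : Γ(L, W.ι ''ᵁ V')) (n : ℕ) :
    rv 𝒮L.toQCAlg W V' ((powMap _ W (jr W j) n).app V' (r • GenLocus.framePow (L := L.restrict W.ι) e n)) =
      (𝒮L.str.app (op (W.ι ''ᵁ V'))).hom ((W.ι.appIso V').inv r) * tgen j e ^ n :=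
  powMap_smul_framePow 𝒮L.toQCAlg W (jr W j) r e n

include hj hL in
theorem isDeg_powMap (n : ℕ) (τ : Γ(CohB1.tensorPow (L.restrict W.ι) n, ⊤)) :
    IsDeg 𝒮L W n (gv W ((powMap _ W (jr W j) n).app ⊤ τ)) := by
  refine isDeg_of_local fun x hx => ?_
  obtain ⟨V', hV, -, e, hxV, he⟩ := exists_frame_le hL W ⊤ ⟨x, hx⟩ trivial
  refine ⟨W.ι ''ᵁ V', hV, image_ι_le W V', ⟨⟨x, hx⟩, hxV, rfl⟩, ?_⟩
  obtain ⟨r, hr⟩ := ((isFrame_restrict W e he).framePow n).bijective.2 (mres _ le_top τ)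
  rw [ares_gv, app_mres, ← hr, powMap_frame_eq hj]
  exact str_tgen_pow_mem hj hV _ n

include hj hLq hL in
theorem exists_powMap_eq (n : ℕ) (a : 𝒮L.presheaf.obj (op W)) (ha : IsDeg 𝒮L W n a) :
    ∃ τ : Γ(CohB1.tensorPow (L.restrict W.ι) n, ⊤), gv W ((powMap _ W (jr W j) n).app ⊤ τ) = a := by
  choose V' hV hle e hx he using fun x : W => exists_frame_le hL W ⊤ x trivial
  choose c hc using fun x => exists_eq_of_mem_deg hj hLq (hV x) (he x)
    (ha _ (hV x) (image_ι_le W (V' x)))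
  let σ : ∀ x, Γ(CohB1.tensorPow (L.restrict W.ι) n, V' x) := fun x =>
    (W.ι.appIso (V' x)).hom (c x) • GenLocus.framePow (L := L.restrict W.ι) (e x) n
  have hσ : ∀ x, rv _ W (V' x) ((powMap _ W (jr W j) n).app _ (σ x)) =
      ares 𝒮L.toQCAlg (image_ι_le W (V' x)) a := by
    intro x
    rw [powMap_frame_eq hj, hc x]
    congr 2
    exact ConcreteCategory.congr_hom (W.ι.appIso (V' x)).hom_inv_id (c x)
  obtain ⟨τ, hτ, -⟩ := TopCat.Sheaf.existsUnique_gluing'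
    ⟨(CohB1.tensorPow (L.restrict W.ι) n).presheaf, (CohB1.tensorPow (L.restrict W.ι) n).isSheaf⟩
    V' ⊤ (fun _ => homOfLE le_top) (fun x _ => Opens.mem_iSup.2 ⟨x, hx x⟩) σ fun x y => by
      refine powMap_injective hj hLq hL W n _ (rv_injective _ W _ ?_)
      refine Eq.trans (congrArg (rv _ W _) (app_mres _ inf_le_left (σ x)).symm)
        (Eq.trans ?_ (congrArg (rv _ W _) (app_mres _ inf_le_right (σ y))))
      rw [rv_mres, rv_mres, hσ, hσ]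
      exact (ares_ares _ _ _ a).trans (ares_ares _ _ _ a).symm
  refine ⟨τ, eq_of_ares 𝒮L.toQCAlg (fun x => W.ι ''ᵁ V' x) (fun x => image_ι_le W (V' x))
    (fun x hxW => Opens.mem_iSup.2 ⟨⟨x, hxW⟩, ⟨⟨x, hxW⟩, hx ⟨x, hxW⟩, rfl⟩⟩) _ _ fun x => ?_⟩
  rw [ares_gv, app_mres, show mres _ le_top τ = σ x from hτ x, hσ]

end Groth.Agent.SymAlgRel
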