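import Mathlib
import Groth.Agent.SymAlgRel.TwistSections
import Groth.Agent.GenLocus.PullTensor

/-!
# The comparison of twisting sheaves along a morphism of relative Proj's
-/

set_option autoImplicit false
set_option synthInstance.maxHeartbeats 200000
set_option backward.isDefEq.respectTransparency false
set_option backward.isDefEq.respectTransparency.types false

noncomputable section

universe u

open CategoryTheory CategoryTheory.Limits AlgebraicGeometry TopologicalSpace Opposite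
open Groth.Agent.QCohBase Groth.Agent.GenLocus
open scoped HomogeneousIdeal

namespace Groth.Agent.SymAlgRel

variable {Y PA PB : Scheme.{u}} {𝒜 ℬ : RelProj.QCGrAlg Y}
  {φ : 𝒜.toQCAlg ⟶ ℬ.toQCAlg} {hφ : RelProj.IsGradedHom φ}
  {hirr : ∀ (U : Y.Opens) (hU : IsAffineOpen U),
    (ℬ.deg U hU)₊ ≤ ((𝒜.deg U hU)₊).map (RelProj.gradedHomAt φ hφ U hU)}
  {pA : PA ⟶ Y} {pB : PB ⟶ Y}
  {chartA : ∀ (U : Y.Opens) (hU : IsAffineOpen U), (((pA ⁻¹ᵁ U : PA.Opens) : Scheme.{u}) ≅ Proj (𝒜.deg U hU))}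
  {chartB : ∀ (U : Y.Opens) (hU : IsAffineOpen U), (((pB ⁻¹ᵁ U : PB.Opens) : Scheme.{u}) ≅ Proj (ℬ.deg U hU))}
  {h : PB ⟶ PA}

theorem emb_projMap (hh : RelProj.IsRelProjMap φ hφ hirr chartA chartB h) (U : Y.affineOpens)
    (y : ProjectiveSpectrum (ℬ.deg U.1 U.2)) :
    h.base ((RelProj.emb pB chartB U.1 U.2).base y) = (RelProj.emb pA chartA U.1 U.2).base
      (ProjectiveSpectrum.comap (RelProj.gradedHomAt φ hφ U.1 U.2) (hirr U.1 U.2) y) := by
  have e : RelProj.emb pB chartB U.1 U.2 ≫ h =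
      Proj.map (RelProj.gradedHomAt φ hφ U.1 U.2) (hirr U.1 U.2) ≫ RelProj.emb pA chartA U.1 U.2 := by
    rw [RelProj.emb, Category.assoc, hh U.1 U.2, Iso.inv_hom_id_assoc]
    rfl
  exact congrArg (fun f : Proj (ℬ.deg U.1 U.2) ⟶ PA => f.base y) e

variable (hA : RelProj.IsRelProj 𝒜 pA chartA) (hB : RelProj.IsRelProj ℬ pB chartB)
  (hh : RelProj.IsRelProjMap φ hφ hirr chartA chartB h) {n : ℤ}
  {LA : PA.Modules}
  {lamA : ∀ (U : Y.Opens) (hU : IsAffineOpen U),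
    LA ⟶ (Scheme.Modules.pushforward (RelProj.emb pA chartA U hU)).obj (GrTwist.twist (𝒜.deg U hU) n)}
  (hLA : RelProj.IsRelTwist 𝒜 pA chartA n LA lamA)
  {LB : PB.Modules}
  {lamB : ∀ (U : Y.Opens) (hU : IsAffineOpen U),
    LB ⟶ (Scheme.Modules.pushforward (RelProj.emb pB chartB U hU)).obj (GrTwist.twist (ℬ.deg U hU) n)}
  (hLB : RelProj.IsRelTwist ℬ pB chartB n LB lamB)

variable (lamA) in
/-- the image on a chart -/
def comapLoc (U : Y.affineOpens) (W : PA.Opens) (s : Γ(LA, W)) : Γ(twistG pB chartB n U, h ⁻¹ᵁ W) :=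
  GrTwist.comapApp (RelProj.gradedHomAt φ hφ U.1 U.2) (hirr U.1 U.2) n
    (RelProj.emb pA chartA U.1 U.2 ⁻¹ᵁ W) (RelProj.emb pB chartB U.1 U.2 ⁻¹ᵁ (h ⁻¹ᵁ W))
    (fun y hy => by
      show (RelProj.emb pA chartA U.1 U.2).base (ProjectiveSpectrum.comap _ (hirr U.1 U.2) y) ∈ W
      rw [← emb_projMap hh U y]
      exact hy)
    ((lamA U.1 U.2).app W s)

include hA hB hh hLA hLB in
theorem exists_comap_section (W : PA.Opens) (s : Γ(LA, W)) :
    ∃ t : Γ(LB, h ⁻¹ᵁ W), ∀ U : Y.affineOpens, (lamB U.1 U.2).app (h ⁻¹ᵁ W) t = comapLoc hh lamA U W s := by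
  refine relTwist_exists_section hB hLB (fun U => comapLoc hh lamA U W s) fun {U D} a => ?_
  refine Subtype.ext (funext fun y => Subtype.ext ?_)
  obtain ⟨y, hy⟩ := y
  have hyB : (RelProj.emb pB chartB U.1 U.2).base (ProjectiveSpectrum.comap
      (ℬ.res U.2 D.2 a.le) a.irrelevant_le y) ∈ h ⁻¹ᵁ W := by
    rw [← a.map_emb hB] at hy; exact hy
  have hyD : (RelProj.emb pA chartA D.1 D.2).base (ProjectiveSpectrum.comap
      (RelProj.gradedHomAt φ hφ D.1 D.2) (hirr D.1 D.2) y) ∈ W := by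
    rw [← emb_projMap hh D y]; exact hy
  have hyU : (RelProj.emb pA chartA U.1 U.2).base (ProjectiveSpectrum.comap
      (RelProj.gradedHomAt φ hφ U.1 U.2) (hirr U.1 U.2) (ProjectiveSpectrum.comap
      (ℬ.res U.2 D.2 a.le) a.irrelevant_le y)) ∈ W := by
    rw [← emb_projMap hh U _]; exact hyB
  have hyUD : (RelProj.emb pA chartA U.1 U.2).base (ProjectiveSpectrum.comap
      (𝒜.res U.2 D.2 a.le) a.irrelevant_le (ProjectiveSpectrum.comap
      (RelProj.gradedHomAt φ hφ D.1 D.2) (hirr D.1 D.2) y)) ∈ W := by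
    rw [← a.map_emb hA] at hyD; exact hyD
  let χ : 𝒜.deg U.1 U.2 →+*ᵍ ℬ.deg D.1 D.2 := (ℬ.res U.2 D.2 a.le).comp (RelProj.gradedHomAt φ hφ U.1 U.2)
  have hχ : (ℬ.deg D.1 D.2)₊ ≤ ((𝒜.deg U.1 U.2)₊).map χ :=
    HomogeneousIdeal.irrelevant_le_map_comp (hirr U.1 U.2) a.irrelevant_le
  have hnat : ∀ x, RelProj.gradedHomAt φ hφ D.1 D.2 (𝒜.res U.2 D.2 a.le x) = χ x := fun x =>
    ConcreteCategory.congr_hom (φ.hom.naturality (homOfLE a.le).op) x
  let S₀ : GrTwist.sectN (𝒜 := 𝒜.deg U.1 U.2) n (op (RelProj.emb pA chartA U.1 U.2 ⁻¹ᵁ W)) :=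
    (lamA U.1 U.2).app W s
  refine (twistφ_val hB n a _ _ y hy hyB).trans ?_
  have e1 := TwistLoc.locMap_locMap (RelProj.gradedHomAt φ hφ U.1 U.2) (hirr U.1 U.2)
    (ℬ.res U.2 D.2 a.le) a.irrelevant_le χ hχ (fun _ => rfl) n S₀ y hyU hyU
  refine e1.trans ?_
  have e2 := TwistLoc.locMap_locMap (𝒜.res U.2 D.2 a.le) a.irrelevant_le
    (RelProj.gradedHomAt φ hφ D.1 D.2) (hirr D.1 D.2) χ hχ hnat n S₀ y hyUD hyU
  refine e2.symm.trans (congrArg (GrTwist.locMap _ (hirr D.1 D.2) y) ?_)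
  exact (twistφ_val hA n a W _ _ hyD hyUD).symm.trans (congrArg (fun t : Γ(twistG pA chartA n D, W) =>
    GrTwist.val (V := RelProj.emb pA chartA D.1 D.2 ⁻¹ᵁ W) t ⟨_, hyD⟩)
      (congrArg (fun f : LA ⟶ twistG pA chartA n D => f.app W s) (lam_twistφ hA hLA a)))

/-- the image of a section -/
def comapSec (W : PA.Opens) (s : Γ(LA, W)) : Γ(LB, h ⁻¹ᵁ W) := (exists_comap_section hA hB hh hLA hLB W s).choose

theorem lam_comapSec (W : PA.Opens) (s : Γ(LA, W)) (U : Y.affineOpens) :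
    (lamB U.1 U.2).app (h ⁻¹ᵁ W) (comapSec hA hB hh hLA hLB W s) = comapLoc hh lamA U W s :=
  (exists_comap_section hA hB hh hLA hLB W s).choose_spec U

theorem comapSec_add (W : PA.Opens) (s s' : Γ(LA, W)) :
    comapSec hA hB hh hLA hLB W (s + s') =
      comapSec hA hB hh hLA hLB W s + comapSec hA hB hh hLA hLB W s' :=
  relTwist_section_ext hB hLB _ _ fun U => by
    refine (lam_comapSec hA hB hh hLA hLB W (s + s') U).trans ?_
    refine Eq.trans ?_ (map_add ((lamB U.1 U.2).app (h ⁻¹ᵁ W)).hom _ _).symm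
    refine Eq.trans ?_ (congrArg₂ (· + ·) (lam_comapSec hA hB hh hLA hLB W s U)
      (lam_comapSec hA hB hh hLA hLB W s' U)).symm
    exact (congrArg _ (map_add ((lamA U.1 U.2).app W).hom s s')).trans (map_add _ _ _)

theorem comapSec_rs {W V : PA.Opens} (hVW : V ≤ W) (s : Γ(LA, W)) :
    comapSec hA hB hh hLA hLB V (BasicGlue.rs LA hVW s) =
      BasicGlue.rs LB ((TopologicalSpace.Opens.map h.base).monotone hVW) (comapSec hA hB hh hLA hLB W s) := by
  refine relTwist_section_ext hB hLB _ _ fun U => ?_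
  refine (lam_comapSec hA hB hh hLA hLB V _ U).trans ?_
  refine Eq.trans ?_ (BasicGlue.app_rs (lamB U.1 U.2) _ _).symm
  refine Eq.trans ?_ (congrArg _ (lam_comapSec hA hB hh hLA hLB W s U)).symm
  refine Subtype.ext (funext fun z => Subtype.ext ?_)
  exact congrArg (GrTwist.locMap (RelProj.gradedHomAt φ hφ U.1 U.2) (hirr U.1 U.2) z.1)
    (congrArg (fun t : Γ(GrTwist.twist (𝒜.deg U.1 U.2) n, RelProj.emb pA chartA U.1 U.2 ⁻¹ᵁ V) =>
      GrTwist.val t ⟨_, show (RelProj.emb pA chartA U.1 U.2).base (ProjectiveSpectrum.comap _ (hirr U.1 U.2) z.1) ∈ V by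
        rw [← emb_projMap hh U]; exact z.2⟩) (BasicGlue.app_rs (lamA U.1 U.2) hVW s))

theorem comapSec_smul (W : PA.Opens) (r : Γ(PA, W)) (s : Γ(LA, W)) :
    comapSec hA hB hh hLA hLB W (r • s) =
      (show Γ(PB, h ⁻¹ᵁ W) from h.app W r) • comapSec hA hB hh hLA hLB W s := by
  refine relTwist_section_ext hB hLB _ _ fun U => ?_
  refine (lam_comapSec hA hB hh hLA hLB W (r • s) U).trans ?_
  refine Eq.trans ?_ (Scheme.Modules.Hom.app_smul (lamB U.1 U.2) _ _).symm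
  refine Eq.trans ?_ (congrArg ((show Γ(PB, h ⁻¹ᵁ W) from h.app W r) • ·)
    (lam_comapSec hA hB hh hLA hLB W s U)).symm
  refine (congrArg _ (Scheme.Modules.Hom.app_smul (lamA U.1 U.2) r s)).trans ?_
  refine (GrTwist.comapApp_smul _ _ n _ _ _ ((RelProj.emb pA chartA U.1 U.2).app W r) _).trans ?_
  refine congrArg (· • GrTwist.comapApp _ _ n _ _ _ _) ?_
  have e : RelProj.emb pB chartB U.1 U.2 ≫ h =
      Proj.map (RelProj.gradedHomAt φ hφ U.1 U.2) (hirr U.1 U.2) ≫ RelProj.emb pA chartA U.1 U.2 := by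
    rw [RelProj.emb, Category.assoc, hh U.1 U.2, Iso.inv_hom_id_assoc]
    rfl
  refine Subtype.ext (funext fun z => ?_)
  exact (congrArg (fun t : Γ(Proj (ℬ.deg U.1 U.2), (RelProj.emb pB chartB U.1 U.2 ≫ h) ⁻¹ᵁ W) => t.1 z)
    (ConcreteCategory.congr_hom (Scheme.Hom.congr_app e W) r)).symm

/-- the comparison map -/
def twistComap : LA ⟶ (Scheme.Modules.pushforward h).obj LB :=
  ⟨PresheafOfModules.homMk
    { app := fun W => AddCommGrpCat.ofHom (AddMonoidHom.mk' (comapSec hA hB hh hLA hLB W.unop)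
        (comapSec_add hA hB hh hLA hLB W.unop))
      naturality := fun V W i => AddCommGrpCat.ext fun s => comapSec_rs hA hB hh hLA hLB i.unop.le s }
    fun W r s => comapSec_smul hA hB hh hLA hLB W.unop r s⟩

theorem twistComap_app (W : PA.Opens) (s : Γ(LA, W)) :
    (twistComap hA hB hh hLA hLB).app W s = comapSec hA hB hh hLA hLB W s := rfl

include hA hB hh hLA hLB in
theorem existsUnique_twistComap :
    ∃! θ : LA ⟶ (Scheme.Modules.pushforward h).obj LB,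
      ∀ (U : Y.Opens) (hU : IsAffineOpen U) (W : PA.Opens) (s : Γ(LA, W))
        (y : ProjectiveSpectrum (ℬ.deg U hU))
        (hy : (RelProj.emb pB chartB U hU).base y ∈ h ⁻¹ᵁ W)
        (hy' : (RelProj.emb pA chartA U hU).base
          (ProjectiveSpectrum.comap (RelProj.gradedHomAt φ hφ U hU) (hirr U hU) y) ∈ W),
        GrTwist.val (V := RelProj.emb pB chartB U hU ⁻¹ᵁ (h ⁻¹ᵁ W)) ((lamB U hU).app (h ⁻¹ᵁ W) (θ.app W s)) ⟨y, hy⟩ =
          GrTwist.locMap (RelProj.gradedHomAt φ hφ U hU) (hirr U hU) y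
            (GrTwist.val (V := RelProj.emb pA chartA U hU ⁻¹ᵁ W) ((lamA U hU).app W s) ⟨_, hy'⟩) := by
  refine ⟨twistComap hA hB hh hLA hLB, fun U hU W s y hy hy' => ?_, fun θ hθ => ?_⟩
  · exact congrArg (fun t : Γ(twistG pB chartB n ⟨U, hU⟩, h ⁻¹ᵁ W) =>
      GrTwist.val (V := RelProj.emb pB chartB U hU ⁻¹ᵁ (h ⁻¹ᵁ W)) t ⟨y, hy⟩)
      (lam_comapSec hA hB hh hLA hLB W s ⟨U, hU⟩)
  · refine Scheme.Modules.hom_ext _ _ fun W => AddCommGrpCat.ext fun s => ?_
    refine relTwist_section_ext hB hLB _ _ fun U => ?_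
    refine Eq.trans ?_ (lam_comapSec hA hB hh hLA hLB W s U).symm
    refine Subtype.ext (funext fun z => Subtype.ext ?_)
    exact hθ U.1 U.2 W s z.1 z.2 (by rw [← emb_projMap hh U]; exact z.2)

end Groth.Agent.SymAlgRel

end
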