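import Mathlib
import Groth.Agent.SymAlgRel.TwistComap
import Groth.Agent.GenLocus.PullTensor

/-!
# Inverse images of invertible twisting sheaves
-/

set_option autoImplicit false
set_option synthInstance.maxHeartbeats 200000
set_option backward.isDefEq.respectTransparency false
set_option backward.isDefEq.respectTransparency.types false

noncomputable section

universe u

open CategoryTheory CategoryTheory.Limits AlgebraicGeometry TopologicalSpace Opposite
open Groth.Agent.QCohBase Groth.Agent.GenLocus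
open scoped HomogeneousIdeal

namespace Groth.Agent.SymAlgRel

/-- the adjunct of a map to a direct image is an isomorphism if frames go to frames -/
theorem isIso_adjunct_of_frames {X Y : Scheme.{u}} (g : X ⟶ Y) {L : Y.Modules} {N : X.Modules}
    (θ : L ⟶ (Scheme.Modules.pushforward g).obj N)
    (h : ∀ x : X, ∃ (V : Y.Opens) (U : X.Opens) (hU : U ≤ g ⁻¹ᵁ V) (_ : x ∈ U) (e : Γ(L, V)),
      IsFrame L e ∧ IsFrame N (mres N hU (θ.app V e))) :
    IsIso (((Scheme.Modules.pullbackPushforwardAdjunction g).homEquiv _ _).symm θ) := by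
  refine isIso_of_frames _ fun x => ?_
  obtain ⟨V, U, hU, hx, e, he, he'⟩ := h x
  refine ⟨U, hx, mres _ hU (pullSec g L V e), (he.pullSec g).res hU, ?_⟩
  let θ' := ((Scheme.Modules.pullbackPushforwardAdjunction g).homEquiv _ _).symm θ
  have h1 : θ'.app (g ⁻¹ᵁ V) (pullSec g L V e) = θ.app V e := by
    have h2 := Adjunction.homEquiv_unit (Scheme.Modules.pullbackPushforwardAdjunction g) L N θ'
    rw [Equiv.apply_symm_apply] at h2
    exact (congr($(congrArg (fun ψ ↦ Scheme.Modules.Hom.app ψ V) h2) e)).symm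
  show IsFrame N (θ'.app U (mres _ hU (pullSec g L V e)))
  rw [← app_mres, h1]
  exact he'

variable {Y PA PB : Scheme.{u}} {𝒜 ℬ : RelProj.QCGrAlg Y}
  {φ : 𝒜.toQCAlg ⟶ ℬ.toQCAlg} {hφ : RelProj.IsGradedHom φ}
  {hirr : ∀ (U : Y.Opens) (hU : IsAffineOpen U),
    (ℬ.deg U hU)₊ ≤ ((𝒜.deg U hU)₊).map (RelProj.gradedHomAt φ hφ U hU)}
  {pA : PA ⟶ Y} {pB : PB ⟶ Y}
  {chartA : ∀ (U : Y.Opens) (hU : IsAffineOpen U), (((pA ⁻¹ᵁ U : PA.Opens) : Scheme.{u}) ≅ Proj (𝒜.deg U hU))}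
  {chartB : ∀ (U : Y.Opens) (hU : IsAffineOpen U), (((pB ⁻¹ᵁ U : PB.Opens) : Scheme.{u}) ≅ Proj (ℬ.deg U hU))}
  {h : PB ⟶ PA} {n : ℤ}
  {LA : PA.Modules}
  {lamA : ∀ (U : Y.Opens) (hU : IsAffineOpen U),
    LA ⟶ (Scheme.Modules.pushforward (RelProj.emb pA chartA U hU)).obj (GrTwist.twist (𝒜.deg U hU) n)}
  {LB : PB.Modules}
  {lamB : ∀ (U : Y.Opens) (hU : IsAffineOpen U),
    LB ⟶ (Scheme.Modules.pushforward (RelProj.emb pB chartB U hU)).obj (GrTwist.twist (ℬ.deg U hU) n)}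

theorem nonempty_pullback_twist_iso (hA : RelProj.IsRelProj 𝒜 pA chartA) (hB : RelProj.IsRelProj ℬ pB chartB)
    (hh : RelProj.IsRelProjMap φ hφ hirr chartA chartB h) (hgen : 𝒜.IsGenDegOne)
    (hLA : RelProj.IsRelTwist 𝒜 pA chartA n LA lamA) (hLB : RelProj.IsRelTwist ℬ pB chartB n LB lamB) :
    Nonempty ((Scheme.Modules.pullback h).obj LA ≅ LB) := by
  haveI := isIso_adjunct_of_frames h (twistComap hA hB hh hLA hLB) fun x => by
    obtain ⟨U, hU, z, rfl⟩ := exists_affine_emb pB chartB x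
    let U' : Y.affineOpens := ⟨U, hU⟩
    obtain ⟨f, hf⟩ := exists_degOne_notMem hgen U hU
      (ProjectiveSpectrum.comap (RelProj.gradedHomAt φ hφ U hU) (hirr U hU) z)
    let V : PA.Opens := RelProj.emb pA chartA U hU ''ᵁ Proj.basicOpen (𝒜.deg U hU) f.1
    have hV : V ≤ pA ⁻¹ᵁ U := ((RelProj.emb pA chartA U hU).image_le_opensRange _).trans
      (EGA2Misc.opensRange_emb pA chartA U hU).le
    have hpre : RelProj.emb pA chartA U hU ⁻¹ᵁ V ≤ Proj.basicOpen (𝒜.deg U hU) f.1 :=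
      ((RelProj.emb pA chartA U hU).preimage_image_eq _).le
    obtain ⟨i, j, a, s, nin, nina, h1⟩ := GrModLib.exists_fracSec (𝒜.deg U hU) n _ f hpre n (by simp)
    obtain ⟨e, he⟩ := (hLA.bijective U hU V hV).2 (GrModLib.fracSec (𝒜.deg U hU) n _ a s nin h1)
    have fe : IsFrame LA e := isFrame_of_bijective _ (lamA U hU)
      ((RelProj.emb pA chartA U hU).image_le_opensRange _)
      (fun W hW => hLA.bijective U hU W (hW.trans hV)) he (GrModLib.isFrame_fracSec _ _ _ _ _ _ nina _)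
    let W : PB.Opens := h ⁻¹ᵁ V ⊓ pB ⁻¹ᵁ U
    have hWr : W ≤ (RelProj.emb pB chartB U hU).opensRange :=
      inf_le_right.trans (EGA2Misc.opensRange_emb pB chartB U hU).ge
    have hzW : (RelProj.emb pB chartB U hU).base z ∈ W :=
      ⟨show h.base _ ∈ V by rw [emb_projMap hh U']; exact ⟨_, hf, rfl⟩,
        (EGA2Misc.opensRange_emb pB chartB U hU).le ⟨z, rfl⟩⟩
    refine ⟨V, W, inf_le_left, hzW, e, fe, ?_⟩
    have hin : ∀ y : (RelProj.emb pB chartB U hU ⁻¹ᵁ W : (Proj (ℬ.deg U hU)).Opens),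
        (RelProj.emb pA chartA U hU).base
          (ProjectiveSpectrum.comap (RelProj.gradedHomAt φ hφ U hU) (hirr U hU) y.1) ∈ V := fun y => by
      rw [← emb_projMap hh U']; exact y.2.1
    let ψ := RelProj.gradedHomAt φ hφ U hU
    refine isFrame_of_bijective (RelProj.emb pB chartB U hU) (lamB U hU) hWr
      (fun O hO => hLB.bijective U hU O (hO.trans inf_le_right)) ?_
      (GrModLib.isFrame_fracSec (ℬ.deg U hU) n _ ⟨ψ a.1, ψ.map_mem a.2⟩ ⟨ψ s.1, ψ.map_mem s.2⟩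
        (fun y => nin ⟨_, hin y⟩) (fun y => nina ⟨_, hin y⟩) h1)
    refine GrModLib.tval_ext _ fun y => ?_
    refine (congrArg (fun t : Γ(twistG pB chartB n U', W) => GrModLib.tval (ℬ.deg U hU) t y)
      (BasicGlue.app_rs (lamB U hU) (inf_le_left : W ≤ h ⁻¹ᵁ V) ((twistComap hA hB hh hLA hLB).app V e))).trans ?_
    refine (congrArg (fun t : Γ(twistG pB chartB n U', h ⁻¹ᵁ V) =>
      GrTwist.val (V := RelProj.emb pB chartB U hU ⁻¹ᵁ (h ⁻¹ᵁ V)) t ⟨y.1, y.2.1⟩)
      (lam_comapSec hA hB hh hLA hLB V e U')).trans ?_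
    refine (congrArg (GrTwist.locMap ψ (hirr U hU) y.1) (congrArg (fun t : Γ(GrTwist.twist (𝒜.deg U hU) n,
      RelProj.emb pA chartA U hU ⁻¹ᵁ V) => GrTwist.val t ⟨_, hin y⟩) he)).trans ?_
    exact GrTwist.locMap_mk ψ (hirr U hU) y.1 _ _
  exact ⟨asIso (((Scheme.Modules.pullbackPushforwardAdjunction h).homEquiv _ _).symm (twistComap hA hB hh hLA hLB))⟩

end Groth.Agent.SymAlgRel

end
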