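import Mathlib
import Groth.Agent.S8262
import Groth.Agent.EGA2Misc.RelProjMap
import Groth.Agent.EGA2Misc.RelProjFT
import Groth.Agent.SymAlgRel.DegPiece
import Groth.Agent.SymAlgRel.GrSymExist
import Groth.Agent.SymAlgRel.ProjExist
import Groth.Agent.SymAlgRel.TwistPull

/-!
# An algebra generated in degree one and the projective bundle of its degree-one piece
-/

set_option autoImplicit false

noncomputable section

universe u

open CategoryTheory CategoryTheory.Limits AlgebraicGeometry TopologicalSpace Opposite DirectSum HomogeneousLocalization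
open scoped HomogeneousIdeal

namespace Groth.Agent.SymAlgRel

variable {S : Scheme.{u}}

theorem grSymAlg_isGenDegOne {E : S.Modules} (hE : Coh.IsQCoh E) {𝒯 : RelProj.QCGrAlg S} {j : E ⟶ 𝒯.toModule}
    (hj : RelProj.IsGrSymAlg E 𝒯 j) : 𝒯.IsGenDegOne := fun U hU => by
  rw [eq_top_iff, ← closure_sym_eq_top E hE hj.1 hU]
  refine Subring.closure_mono ?_
  rintro z (⟨r, rfl⟩ | ⟨m, rfl⟩)
  · exact Or.inl (𝒯.str_mem U hU r)
  · exact Or.inr (hj.2 U hU m)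

/-- an algebra map out of a graded symmetric algebra sending the generators to degree one is graded -/
theorem isGradedHom_of_gen {E : S.Modules} (hE : Coh.IsQCoh E) {𝒯 𝒮 : RelProj.QCGrAlg S} {j : E ⟶ 𝒯.toModule}
    (hj : RelProj.IsGrSymAlg E 𝒯 j) (φ : 𝒯.toQCAlg ⟶ 𝒮.toQCAlg)
    (h1 : ∀ (U : S.Opens) (hU : IsAffineOpen U) (m : Γ(E, U)),
      (φ.hom.app (op U)).hom (j.app U m) ∈ 𝒮.deg U hU 1) : RelProj.IsGradedHom φ := by
  intro U hU d x hx
  let f := (φ.hom.app (op U)).hom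
  show f x ∈ 𝒮.deg U hU d
  have hf0 : ∀ r, f (𝒯.str.app (op U) r) ∈ 𝒮.deg U hU 0 := fun r => by
    rw [show f (𝒯.str.app (op U) r) = 𝒮.str.app (op U) r from
      ConcreteCategory.congr_hom (NatTrans.congr_app φ.comm (op U)) r]
    exact 𝒮.str_mem U hU r
  have h := mem_closure_of_gen (𝒜 := 𝒯.deg U hU) (fun i z => z ∈ 𝒯.deg U hU i ∧ f z ∈ 𝒮.deg U hU i)
    (fun i z hz => hz.1) ⟨SetLike.one_mem_graded _, by rw [map_one]; exact SetLike.one_mem_graded _⟩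
    (fun i k a b ha hb => ⟨SetLike.mul_mem_graded ha.1 hb.1, by
      rw [map_mul]; exact SetLike.mul_mem_graded ha.2 hb.2⟩)
    _ (by
      rintro z (⟨r, rfl⟩ | ⟨m, rfl⟩)
      · exact ⟨0, 𝒯.str_mem U hU r, hf0 r⟩
      · exact ⟨1, hj.2 U hU m, h1 U hU m⟩)
    (closure_sym_eq_top E hE hj.1 hU) hx
  clear hx
  induction h using AddSubgroup.closure_induction with
  | mem z hz => exact hz.2
  | zero => rw [map_zero]; exact zero_mem _
  | add a b _ _ ha hb => rw [map_add]; exact add_mem ha hb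
  | neg a _ ha => rw [map_neg]; exact neg_mem ha

section closed

variable {A σ : Type u} [CommRing A] [SetLike σ A] [AddSubgroupClass σ A] {𝒜 : ℕ → σ} [GradedRing 𝒜]
variable {B τ : Type u} [CommRing B] [SetLike τ B] [AddSubgroupClass τ B] {ℬ : ℕ → τ} [GradedRing ℬ]

theorem awayMap_surjective_pos (φ : 𝒜 →+*ᵍ ℬ) (hsurj : ∀ n, 0 < n → ∀ b ∈ ℬ n, ∃ a ∈ 𝒜 n, φ a = b)
    {d : ℕ} (hd : 0 < d) (s : A) (hs : s ∈ 𝒜 d) : Function.Surjective (Away.map φ s) := by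
  intro x
  obtain ⟨n, b, hb, rfl⟩ := Away.mk_surjective ℬ (φ.2 hs : φ s ∈ ℬ d) x
  have hmem : b * φ s ∈ ℬ ((n + 1) • d) := by
    rw [add_smul, one_smul]; exact SetLike.mul_mem_graded hb (φ.2 hs)
  obtain ⟨a, ha, hae⟩ := hsurj _ (Nat.mul_pos n.succ_pos hd) _ hmem
  refine ⟨Away.mk 𝒜 hs (n + 1) a ha, ?_⟩
  apply HomogeneousLocalization.val_injective
  rw [Away.map_mk, Away.val_mk, Away.val_mk, Localization.mk_eq_mk_iff, Localization.r_iff_exists]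
  refine ⟨1, ?_⟩
  simp only [hae, OneMemClass.coe_one, one_mul, pow_succ]
  change φ s ^ n * (b * φ s) = φ s ^ n * φ s * b
  ring

end closed

/-- `Proj 𝒮` is a closed subscheme of the projective bundle of `𝒮₁`. -/
theorem exists_toBundle {P : Scheme.{u}} {𝒮 : RelProj.QCGrAlg S} (hgen : 𝒮.IsGenDegOne) {p : P ⟶ S}
    {chart : ∀ (U : S.Opens) (hU : IsAffineOpen U), (((p ⁻¹ᵁ U : P.Opens) : Scheme.{u}) ≅ Proj (𝒮.deg U hU))}
    (hP : RelProj.IsRelProj 𝒮 p chart) :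
    ∃ (𝒯 : RelProj.QCGrAlg S) (j : degPiece 𝒮 1 ⟶ 𝒯.toModule) (_ : RelProj.IsGrSymAlg (degPiece 𝒮 1) 𝒯 j)
      (Q : Scheme.{u}) (q : Q ⟶ S)
      (chartQ : ∀ (U : S.Opens) (hU : IsAffineOpen U), (((q ⁻¹ᵁ U : Q.Opens) : Scheme.{u}) ≅ Proj (𝒯.deg U hU)))
      (_ : RelProj.IsRelProj 𝒯 q chartQ) (h : P ⟶ Q),
      IsClosedImmersion h ∧ h ≫ q = p ∧
        ∀ (n : ℤ) (LQ : Q.Modules) (lamQ : ∀ (U : S.Opens) (hU : IsAffineOpen U),
          LQ ⟶ (Scheme.Modules.pushforward (RelProj.emb q chartQ U hU)).obj (GrTwist.twist (𝒯.deg U hU) n))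
          (L : P.Modules) (lam : ∀ (U : S.Opens) (hU : IsAffineOpen U),
          L ⟶ (Scheme.Modules.pushforward (RelProj.emb p chart U hU)).obj (GrTwist.twist (𝒮.deg U hU) n)),
          RelProj.IsRelTwist 𝒯 q chartQ n LQ lamQ → RelProj.IsRelTwist 𝒮 p chart n L lam →
            Nonempty ((Scheme.Modules.pullback h).obj LQ ≅ L) := by
  obtain ⟨𝒯, j, hj⟩ := exists_isGrSymAlg (degPiece 𝒮 1) (isQCoh_degPiece 𝒮 1)
  obtain ⟨Q, q, chartQ, hQ⟩ := exists_isRelProj 𝒯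
  obtain ⟨φ, hφj, -⟩ := hj.1 𝒮.toQCAlg (degIncl 𝒮 1)
  have hjφ : ∀ (U : S.Opens) (m : Γ(degPiece 𝒮 1, U)),
      (φ.hom.app (op U)).hom (j.app U m) = (degIncl 𝒮 1).app U m := fun U m =>
    congrArg (fun f : degPiece 𝒮 1 ⟶ 𝒮.toModule => f.app U m) hφj
  have hφ : RelProj.IsGradedHom φ := isGradedHom_of_gen (isQCoh_degPiece 𝒮 1) hj φ fun U hU m => by
    rw [hjφ]; exact degIncl_app_mem 𝒮 1 U hU m
  have h1 : ∀ (U : S.Opens) (hU : IsAffineOpen U), ∀ y ∈ 𝒮.deg U hU 1, ∃ x ∈ 𝒯.deg U hU 1,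
      RelProj.gradedHomAt φ hφ U hU x = y := fun U hU y hy => by
    obtain ⟨m, hm⟩ := degIncl_app_surj 𝒮 1 U hU y hy
    exact ⟨j.app U m, hj.2 U hU m, (hjφ U m).trans hm⟩
  have hirr : ∀ (U : S.Opens) (hU : IsAffineOpen U),
      (𝒮.deg U hU)₊ ≤ ((𝒯.deg U hU)₊).map (RelProj.gradedHomAt φ hφ U hU) := by
    intro U hU
    have key := EGA2Misc.irrelevant_le_span (𝒮.deg U hU) (hgen U hU) (𝒮.deg U hU 1 : Set _)
      (fun y hy => Ideal.subset_span hy)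
    intro x hx
    refine (Ideal.span_le.2 ?_ : Ideal.span _ ≤ Ideal.map (RelProj.gradedHomAt φ hφ U hU) ((𝒯.deg U hU)₊).toIdeal)
      (key hx)
    intro y hy
    obtain ⟨x, hx, rfl⟩ := h1 U hU y hy
    exact Ideal.mem_map_of_mem _ (HomogeneousIdeal.mem_irrelevant_of_mem _ one_pos hx)
  obtain ⟨⟨h, hh, -⟩, hcomp⟩ := S8262.result φ hφ hirr q p chartQ chart hQ hP
  refine ⟨𝒯, j, hj, Q, q, chartQ, hQ, h, ?_, hcomp h hh, fun n LQ lamQ L lam hLQ hL =>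
    nonempty_pullback_twist_iso hQ hP hh (grSymAlg_isGenDegOne (isQCoh_degPiece 𝒮 1) hj) hLQ hL⟩
  refine EGA2Misc.relProjMap_of_forall hQ hP hh @IsClosedImmersion fun U hU => ?_
  exact EGA2Misc.projMap_of_forall _ _ @IsClosedImmersion fun d hd s hs =>
    IsClosedImmersion.spec_of_surjective _ (awayMap_surjective_pos _
      (fun m hm y hy => surj_pos_of_gen _ (hgen U hU) (h1 U hU) hm hy) hd s hs)

end Groth.Agent.SymAlgRel

end
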