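import Mathlib
import Groth.Agent.GenLocus.PullTensor

/-!
# Invertible modules with local frames having the same relations
-/

set_option autoImplicit false
set_option backward.isDefEq.respectTransparency false
set_option backward.isDefEq.respectTransparency.types false

noncomputable section

universe u

open CategoryTheory Limits AlgebraicGeometry Opposite TopologicalSpace
open Groth.Agent.QCohBase Groth.Agent.GenLocus

namespace Groth.Agent.SymAlgRel

variable {X : Scheme.{u}} {M N : X.Modules}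

theorem exists_iso_of_local_rel {ι : Type*} (U : ι → X.Opens) (hcov : ∀ x : X, ∃ i, x ∈ U i)
    (a : ∀ i, Γ(M, U i)) (b : ∀ i, Γ(N, U i)) (ha : ∀ i, IsFrame M (a i)) (hb : ∀ i, IsFrame N (b i))
    (hrel : ∀ i j, ∀ x ∈ U i ⊓ U j, ∃ (W : X.Opens) (hi : W ≤ U i) (hj : W ≤ U j) (v : Γ(X, W)),
      x ∈ W ∧ v • mres M hi (a i) = mres M hj (a j) ∧ v • mres N hi (b i) = mres N hj (b j)) :
    ∃ τ : M ≅ N, ∀ i, τ.hom.app (U i) (a i) = b i := by
  let P : ∀ V : X.Opens, Γ(M, V) → Γ(N, V) → Prop := fun V m n ↦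
    ∀ (i : ι) (W : X.Opens) (hi : W ≤ U i) (hV : W ≤ V) (c : Γ(X, W)),
      c • mres M hi (a i) = mres M hV m → c • mres N hi (b i) = mres N hV n
  have hchange : ∀ (i j : ι) (W : X.Opens) (hi : W ≤ U i) (hj : W ≤ U j) (ci cj : Γ(X, W)),
      ci • mres M hi (a i) = cj • mres M hj (a j) → ci • mres N hi (b i) = cj • mres N hj (b j) := by
    intro i j W hi hj ci cj h
    choose O hOi hOj v hxO h1 h2 using fun x : W => hrel i j x.1 ⟨hi x.2, hj x.2⟩
    refine eq_of_iSup_le N (fun x : W => O x ⊓ W) (fun x => inf_le_right) (fun x hx =>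
      Opens.mem_iSup.mpr ⟨⟨x, hx⟩, hxO ⟨x, hx⟩, hx⟩) _ _ fun x => ?_
    have e1 := congrArg (mres M (inf_le_left : O x ⊓ W ≤ O x)) (h1 x)
    have e2 := congrArg (mres N (inf_le_left : O x ⊓ W ≤ O x)) (h2 x)
    have e0 := congrArg (mres M (inf_le_right : O x ⊓ W ≤ W)) h
    simp only [mres_smul, mres_mres] at e0 e1 e2 ⊢
    rw [← e1, smul_smul] at e0
    rw [← e2, smul_smul, (ha i _ (inf_le_right.trans hi)).1 e0]
  have hcovV : ∀ V : X.Opens, V ≤ ⨆ i, U i ⊓ V := fun V x hx ↦ by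
    obtain ⟨i, hi⟩ := hcov x
    exact Opens.mem_iSup.mpr ⟨i, hi, hx⟩
  have huniq : ∀ (V : X.Opens) (m : Γ(M, V)) (n n' : Γ(N, V)), P V m n → P V m n' → n = n' := by
    intro V m n n' h h'
    refine eq_of_iSup_le N _ (fun i ↦ inf_le_right) (hcovV V) _ _ fun i ↦ ?_
    obtain ⟨c, hc⟩ := (ha i (U i ⊓ V) inf_le_left).2 (mres M inf_le_right m)
    rw [← h i _ inf_le_left inf_le_right c hc, ← h' i _ inf_le_left inf_le_right c hc]
  have hex : ∀ (V : X.Opens) (m : Γ(M, V)), ∃ n, P V m n := by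
    intro V m
    choose c hc using fun i ↦ (ha i (U i ⊓ V) inf_le_left).2 (mres M inf_le_right m)
    obtain ⟨n, hn, -⟩ := TopCat.Sheaf.existsUnique_gluing' ⟨N.presheaf, N.isSheaf⟩
      (fun i ↦ U i ⊓ V) V (fun i ↦ homOfLE inf_le_right) (hcovV V)
      (fun i ↦ c i • mres N (inf_le_left : U i ⊓ V ≤ U i) (b i)) (fun i j ↦ by
        show mres N inf_le_left _ = mres N inf_le_right _
        simp only [mres_smul, mres_mres]
        refine hchange i j _ _ _ _ _ ?_
        have e1 := congrArg (mres M (inf_le_left : (U i ⊓ V) ⊓ (U j ⊓ V) ≤ U i ⊓ V)) (hc i)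
        have e2 := congrArg (mres M (inf_le_right : (U i ⊓ V) ⊓ (U j ⊓ V) ≤ U j ⊓ V)) (hc j)
        simp only [mres_smul, mres_mres] at e1 e2
        exact e1.trans e2.symm)
    refine ⟨n, fun j W hj hV d hd ↦ ?_⟩
    refine eq_of_iSup_le N (fun i ↦ U i ⊓ W) (fun i ↦ inf_le_right) (hcovV W) _ _ fun i ↦ ?_
    have hn' : mres N (inf_le_right : U i ⊓ V ≤ V) n = c i • mres N (inf_le_left : U i ⊓ V ≤ U i) (b i) := hn i
    have e3 := congrArg (mres N (inf_le_inf_left (U i) hV)) hn'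
    simp only [mres_smul, mres_mres] at e3 ⊢
    rw [e3]
    refine hchange j i _ _ _ _ _ ?_
    have e1 := congrArg (mres M (inf_le_right : U i ⊓ W ≤ W)) hd
    have e2 := congrArg (mres M (inf_le_inf_left (U i) hV)) (hc i)
    simp only [mres_smul, mres_mres] at e1 e2
    exact e1.trans e2.symm
  choose f hf using hex
  let φ : M ⟶ N := modHomMk
    (fun V ↦ AddMonoidHom.mk' (f V) fun m m' ↦ huniq V _ _ _ (hf V _) fun i W hi hV c hc ↦ by
      obtain ⟨c₁, hc₁⟩ := (ha i W hi).2 (mres M hV m)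
      obtain ⟨c₂, hc₂⟩ := (ha i W hi).2 (mres M hV m')
      have : c = c₁ + c₂ := (ha i W hi).1 <| by
        simp only [add_smul, hc₁, hc₂, hc]
        exact map_add _ _ _
      rw [this, add_smul, hf V m i W hi hV c₁ hc₁, hf V m' i W hi hV c₂ hc₂]
      exact (map_add _ _ _).symm)
    (fun V W h m ↦ huniq W _ _ _ (fun i T hi hT c hc ↦ by
      rw [mres_mres] at hc ⊢
      exact hf V m i T hi _ c hc) (hf W _))
    (fun V r m ↦ huniq V _ _ _ (hf V _) fun i W hi hV c hc ↦ by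
      obtain ⟨c₁, hc₁⟩ := (ha i W hi).2 (mres M hV m)
      have : c = ores hV r * c₁ := (ha i W hi).1 <| by
        simp only [mul_smul, hc₁, hc, mres_smul]
      simp only [AddMonoidHom.mk'_apply, mres_smul]
      rw [this, mul_smul, hf V m i W hi hV c₁ hc₁])
  have happ : ∀ i, φ.app (U i) (a i) = b i := fun i ↦ by
    show f (U i) (a i) = b i
    refine huniq (U i) _ _ _ (hf (U i) _) fun j W hj hT c hc ↦ ?_
    rw [← one_smul Γ(X, W) (mres M hT (a i))] at hc
    rw [← one_smul Γ(X, W) (mres N hT (b i))]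
    exact hchange j i W hj hT _ _ hc
  haveI : IsIso φ := isIso_of_frames φ fun x ↦ by
    obtain ⟨i, hi⟩ := hcov x
    exact ⟨U i, hi, _, ha i, (happ i).symm ▸ hb i⟩
  exact ⟨asIso φ, happ⟩

end Groth.Agent.SymAlgRel

end
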