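import Mathlib
import Groth.Agent.SymAlgRel.RLdense
import Groth.Agent.SymAlgRel.LocalRel
import Groth.Agent.SymAlgRel.TwistFrame
import Groth.Agent.SymAlgRel.TwistSections
import Groth.Agent.GrModLib.QCoh

/-!
# Inverse images of the twisting sheaves along `r_{L,ψ}`
-/

set_option autoImplicit false
set_option synthInstance.maxHeartbeats 200000
set_option backward.isDefEq.respectTransparency false
set_option backward.isDefEq.respectTransparency.types false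

noncomputable section

universe u

open CategoryTheory CategoryTheory.Limits AlgebraicGeometry TopologicalSpace Opposite
open HomogeneousLocalization
open Groth.Agent.QCohBase Groth.Agent.GenLocus
open scoped HomogeneousIdeal

namespace Groth.Agent.SymAlgRel

variable {Y X P PL : Scheme.{u}} {q : X ⟶ Y} {L : X.Modules} {𝒮 : RelProj.QCGrAlg Y} {𝒮L : RelProj.QCGrAlg X}
  {j : L ⟶ 𝒮L.toModule} (u : RelProj.QGrHom q 𝒮 𝒮L)
  {p : P ⟶ Y} {chart : ∀ (U : Y.Opens) (hU : IsAffineOpen U), (((p ⁻¹ᵁ U : P.Opens) : Scheme.{u}) ≅ Proj (𝒮.deg U hU))}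
  {pL : PL ⟶ X} {chartL : ∀ (U : X.Opens) (hU : IsAffineOpen U), (((pL ⁻¹ᵁ U : PL.Opens) : Scheme.{u}) ≅ Proj (𝒮L.deg U hU))}
  {n : ℤ} {On : P.Modules}
  {lam : ∀ (U : Y.Opens) (hU : IsAffineOpen U),
    On ⟶ (Scheme.Modules.pushforward (RelProj.emb p chart U hU)).obj (GrTwist.twist (𝒮.deg U hU) n)}

variable (L j n) in
/-- a fraction `f / s` of degree `n` whose terms generate near a frame of `L` -/
structure QFrac where
  U : Y.affineOpens
  V : X.affineOpens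
  hle : V.1 ≤ q ⁻¹ᵁ U.1
  i : ℕ
  k : ℕ
  hk : 0 < k
  hdeg : (i : ℤ) = k + n
  f : 𝒮.deg U.1 U.2 i
  s : 𝒮.deg U.1 U.2 k
  ε : Γ(L, V.1)
  hε : IsFrame L ε
  cf : Γ(X, V.1)ˣ
  cs : Γ(X, V.1)ˣ
  hf : (u.appLE U.1 V.1 hle).hom f.1 = (𝒮L.str.app (op V.1)).hom cf * tgen j ε ^ i
  hs : (u.appLE U.1 V.1 hle).hom s.1 = (𝒮L.str.app (op V.1)).hom cs * tgen j ε ^ k

namespace QFrac

variable {u} (I : QFrac L (j := j) u n)

variable (p chart) in
/-- the open `D₊(f s)` -/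
def T : P.Opens := RelProj.emb p chart I.U.1 I.U.2 ''ᵁ Proj.basicOpen (𝒮.deg I.U.1 I.U.2) (I.f.1 * I.s.1)

theorem T_le : I.T p chart ≤ p ⁻¹ᵁ I.U.1 :=
  ((RelProj.emb p chart I.U.1 I.U.2).image_le_opensRange _).trans (EGA2Misc.opensRange_emb p chart I.U.1 I.U.2).le

theorem nin (z : (RelProj.emb p chart I.U.1 I.U.2 ⁻¹ᵁ I.T p chart : (Proj (𝒮.deg I.U.1 I.U.2)).Opens)) :
    I.s.1 ∉ z.1.asHomogeneousIdeal ∧ I.f.1 ∉ z.1.asHomogeneousIdeal := by
  have h := ((RelProj.emb p chart I.U.1 I.U.2).preimage_image_eq _).le z.2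
  rw [Proj.basicOpen_mul] at h
  exact ⟨h.2, h.1⟩

/-- the fraction as a section on the chart -/
def loc : Γ(GrTwist.twist (𝒮.deg I.U.1 I.U.2) n, RelProj.emb p chart I.U.1 I.U.2 ⁻¹ᵁ I.T p chart) :=
  GrModLib.fracSec (𝒮.deg I.U.1 I.U.2) n _ I.f I.s (fun z => (I.nin z).1) I.hdeg

variable (hOn : RelProj.IsRelTwist 𝒮 p chart n On lam)

/-- the fraction as a section of `O_P(n)` -/
def sec : Γ(On, I.T p chart) := ((hOn.bijective I.U.1 I.U.2 _ I.T_le).2 I.loc).choose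

theorem lam_sec : (lam I.U.1 I.U.2).app (I.T p chart) (I.sec hOn) = I.loc :=
  ((hOn.bijective I.U.1 I.U.2 _ I.T_le).2 I.loc).choose_spec

theorem isFrame_sec : IsFrame On (I.sec hOn) :=
  isFrame_of_bijective _ (lam I.U.1 I.U.2) ((RelProj.emb p chart I.U.1 I.U.2).image_le_opensRange _)
    (fun W hW => hOn.bijective I.U.1 I.U.2 W (hW.trans I.T_le)) (I.lam_sec hOn)
    (GrModLib.isFrame_fracSec _ _ _ _ _ _ (fun z => (I.nin z).2) _)

end QFrac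

variable (hj : RelProj.IsGrSymAlg L 𝒮L j) (hLq : Coh.IsQCoh L) (hL : PicF.IsInvertible L)
  (hP : RelProj.IsRelProj 𝒮 p chart) (hPL : RelProj.IsRelProj 𝒮L pL chartL)
  {r : ((RelProj.domQ u pL chartL : PL.Opens) : Scheme.{u}) ⟶ P}
  (hr : RelProj.IsProjQMapOn u p chart pL chartL (RelProj.domQ u pL chartL) r)

include hj in
theorem tgen_pow_mul {U : X.Opens} (ε : Γ(L, U)) (c c' : Γ(X, U)) (a b : ℕ) :
    ((𝒮L.str.app (op U)).hom c * tgen j ε ^ a) * ((𝒮L.str.app (op U)).hom c' * tgen j ε ^ b) =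
      (𝒮L.str.app (op U)).hom (c * c') * tgen j ε ^ (a + b) := by
  rw [map_mul, pow_add]; ring

include hj hLq hL hP hPL hr in
theorem QFrac.preimage_le (I : QFrac L (j := j) u n) :
    ((RelProj.domQ u pL chartL).ι ≫ pL) ⁻¹ᵁ I.V.1 ≤ r ⁻¹ᵁ I.T p chart := by
  intro y hy
  refine (mem_preimage_iff u hj hLq hL hP hPL hr I.U.1 I.U.2 (Nat.add_pos_right _ I.hk) _
    (SetLike.mul_mem_graded I.f.2 I.s.2) y).2 ⟨I.V.1, I.V.2, I.hle, hy, ?_⟩
  rw [map_mul, I.hf, I.hs, tgen_pow_mul hj, gens_iff hj hLq I.V.2 I.hε]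
  exact (I.cf * I.cs).isUnit

/-- restriction of a fraction -/
def QFrac.res {u : RelProj.QGrHom q 𝒮 𝒮L} (I : QFrac L (j := j) u n) {D : Y.affineOpens} (hD : IsBasic I.U D)
    {V : X.affineOpens} (hV : V.1 ≤ I.V.1) (hle : V.1 ≤ q ⁻¹ᵁ D.1) (hj : RelProj.IsGrSymAlg L 𝒮L j) :
    QFrac L (j := j) u n where
  U := D
  V := V
  hle := hle
  i := I.i
  k := I.k
  hk := I.hk
  hdeg := I.hdeg
  f := ⟨𝒮.res I.U.2 D.2 hD.le I.f.1, (𝒮.res I.U.2 D.2 hD.le).map_mem I.f.2⟩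
  s := ⟨𝒮.res I.U.2 D.2 hD.le I.s.1, (𝒮.res I.U.2 D.2 hD.le).map_mem I.s.2⟩
  ε := mres L hV I.ε
  hε := I.hε.res hV
  cf := Units.map (X.presheaf.map (homOfLE hV).op).hom.toMonoidHom I.cf
  cs := Units.map (X.presheaf.map (homOfLE hV).op).hom.toMonoidHom I.cs
  hf := by
    show (𝒮.presheaf.map _ ≫ u.appLE D.1 V.1 hle).hom I.f.1 = _
    rw [RelSpec.QHom.map_appLE, ← ares_appLE u I.U.1 _ (hV.trans I.hle) I.f.1,
      ← ares_ares 𝒮L.toQCAlg I.hle hV, ares_appLE, I.hf, map_mul, map_pow, ares_str, ← res_tgen hj]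
    rfl
  hs := by
    show (𝒮.presheaf.map _ ≫ u.appLE D.1 V.1 hle).hom I.s.1 = _
    rw [RelSpec.QHom.map_appLE, ← ares_appLE u I.U.1 _ (hV.trans I.hle) I.s.1,
      ← ares_ares 𝒮L.toQCAlg I.hle hV, ares_appLE, I.hs, map_mul, map_pow, ares_str, ← res_tgen hj]
    rfl

include hP in
theorem QFrac.res_sec (hOn : RelProj.IsRelTwist 𝒮 p chart n On lam) (I : QFrac L (j := j) u n)
    {D : Y.affineOpens} (hD : IsBasic I.U D) {V : X.affineOpens} (hV : V.1 ≤ I.V.1) (hle : V.1 ≤ q ⁻¹ᵁ D.1) :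
    ∃ hT : (I.res hD hV hle hj).T p chart ≤ I.T p chart,
      mres On hT (I.sec hOn) = (I.res hD hV hle hj).sec hOn := by
  let K := I.res hD hV hle hj
  have hcom : ∀ y : Proj (𝒮.deg D.1 D.2), y ∈ Proj.basicOpen (𝒮.deg D.1 D.2) (K.f.1 * K.s.1) →
      ProjectiveSpectrum.comap (𝒮.res I.U.2 D.2 hD.le) hD.irrelevant_le y ∈
        Proj.basicOpen (𝒮.deg I.U.1 I.U.2) (I.f.1 * I.s.1) := fun y hy h => by
    have h' : 𝒮.res I.U.2 D.2 hD.le (I.f.1 * I.s.1) ∈ (show ProjectiveSpectrum _ from y).asHomogeneousIdeal := h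
    rw [map_mul] at h'
    exact hy h'
  have hT : K.T p chart ≤ I.T p chart := by
    rintro _ ⟨y, hy, rfl⟩
    refine ⟨_, hcom y hy, ?_⟩
    exact congrArg (fun g : Proj (𝒮.deg D.1 D.2) ⟶ P => g.base y) (hD.map_emb hP)
  refine ⟨hT, (hOn.bijective D.1 D.2 _ K.T_le).1 ?_⟩
  refine Eq.trans ?_ (K.lam_sec hOn).symm
  refine GrModLib.tval_ext _ fun y => ?_
  have hyK : y.1 ∈ Proj.basicOpen (𝒮.deg D.1 D.2) (K.f.1 * K.s.1) :=
    ((RelProj.emb p chart D.1 D.2).preimage_image_eq _).le y.2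
  have hy' : (RelProj.emb p chart I.U.1 I.U.2).base
      (ProjectiveSpectrum.comap (𝒮.res I.U.2 D.2 hD.le) hD.irrelevant_le y.1) ∈ K.T p chart := by
    exact (congrArg (fun g : Proj (𝒮.deg D.1 D.2) ⟶ P => g.base y.1 ∈ K.T p chart) (hD.map_emb hP)).mpr y.2
  refine (congrArg (fun f : On ⟶ twistG p chart n D => GrTwist.val
    (V := RelProj.emb p chart D.1 D.2 ⁻¹ᵁ K.T p chart) (f.app (K.T p chart) (mres On hT (I.sec hOn))) ⟨y.1, y.2⟩)
    (lam_twistφ hP hOn hD).symm).trans ?_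
  refine (twistφ_val hP n hD _ _ y.1 y.2 hy').trans ?_
  refine (congrArg (GrTwist.locMap (𝒮.res I.U.2 D.2 hD.le) hD.irrelevant_le y.1)
    ((congrArg (fun t : Γ(GrTwist.twist (𝒮.deg I.U.1 I.U.2) n, RelProj.emb p chart I.U.1 I.U.2 ⁻¹ᵁ K.T p chart) =>
      GrTwist.val t ⟨_, hy'⟩) (BasicGlue.app_rs (lam I.U.1 I.U.2) hT (I.sec hOn))).trans
        (congrArg (fun t : Γ(GrTwist.twist (𝒮.deg I.U.1 I.U.2) n, RelProj.emb p chart I.U.1 I.U.2 ⁻¹ᵁ I.T p chart) =>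
          GrTwist.val t ⟨_, hT hy'⟩) (I.lam_sec hOn)))).trans ?_
  exact GrTwist.locMap_mk _ hD.irrelevant_le y.1 _ _

theorem ratio_eq {G : Type*} [CommGroup G] (a b a' b' s t : G) :
    (a' * b * (a' * b) * s) * (a * b * (a' * b') * t)⁻¹ * (a * b⁻¹) = a' * b'⁻¹ * (s * t⁻¹) := by
  apply Additive.ofMul.injective
  simp only [ofMul_mul, ofMul_inv]
  abel

set_option maxHeartbeats 1000000 in
include hj hLq hL hP hPL hr in
/-- the key computation: the ratio of two fractions pulls back to the ratio of their coefficients -/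
theorem exists_ratio (hOn : RelProj.IsRelTwist 𝒮 p chart n On lam) (U : Y.affineOpens) (V : X.affineOpens)
    (hle : V.1 ≤ q ⁻¹ᵁ U.1) {i k i' k' : ℕ} (hk : 0 < k) (hdeg : (i : ℤ) = k + n) (hk' : 0 < k')
    (hdeg' : (i' : ℤ) = k' + n)
    (f : 𝒮.deg U.1 U.2 i) (s : 𝒮.deg U.1 U.2 k) (f' : 𝒮.deg U.1 U.2 i') (s' : 𝒮.deg U.1 U.2 k')
    (ε : Γ(L, V.1)) (hε : IsFrame L ε) (ε' : Γ(L, V.1)) (hε' : IsFrame L ε') (w : Γ(X, V.1)ˣ)
    (hw : ε' = (w : Γ(X, V.1)) • ε) (cf cs cf' cs' : Γ(X, V.1)ˣ)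
    (hf hs hf' hs')
    (x : (RelProj.domQ u pL chartL : PL.Opens)) (hx : pL x.1 ∈ V.1) :
    let I : QFrac L (j := j) u n := ⟨U, V, hle, i, k, hk, hdeg, f, s, ε, hε, cf, cs, hf, hs⟩
    let J : QFrac L (j := j) u n := ⟨U, V, hle, i', k', hk', hdeg', f', s', ε', hε', cf', cs', hf', hs'⟩
    ∃ (W : ((RelProj.domQ u pL chartL : PL.Opens) : Scheme.{u}).Opens) (hI : W ≤ r ⁻¹ᵁ I.T p chart)
      (hJ : W ≤ r ⁻¹ᵁ J.T p chart) (hV : W ≤ ((RelProj.domQ u pL chartL).ι ≫ pL) ⁻¹ᵁ V.1) (v : Γ(((RelProj.domQ u pL chartL : PL.Opens) : Scheme.{u}), W))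
      (c : Γ(X, V.1)),
      x ∈ W ∧ v • mres ((Scheme.Modules.pullback r).obj On) hI (pullSec r On _ (I.sec hOn)) =
          mres ((Scheme.Modules.pullback r).obj On) hJ (pullSec r On _ (J.sec hOn)) ∧
        v = ores hV (((RelProj.domQ u pL chartL).ι ≫ pL).app V.1 c) ∧
        c * ((cf : Γ(X, V.1)) * (cs⁻¹ : Γ(X, V.1)ˣ)) =
          (cf' : Γ(X, V.1)) * (cs'⁻¹ : Γ(X, V.1)ˣ) * (w : Γ(X, V.1)) ^ n.toNat *
            ((w⁻¹ : Γ(X, V.1)ˣ) : Γ(X, V.1)) ^ (-n).toNat := by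
  intro I J
  obtain ⟨U, hU⟩ := U
  obtain ⟨V, hV⟩ := V
  let D := RelProj.domQ u pL chartL
  let τ := D.ι ≫ pL
  have hε1 : tgen j ε' = (𝒮L.str.app (op V)).hom w * tgen j ε := by
    rw [hw, tgen]
    exact map_smul (j.val.app (op V)).hom _ _
  let F : 𝒮.presheaf.obj (op U) := f.1 * s.1 * (f'.1 * s'.1)
  let N0 : 𝒮.presheaf.obj (op U) := f'.1 * s.1 * (f'.1 * s.1)
  let m := i + k + (i' + k')
  have hm : 0 < m := by omega
  have hF : F ∈ 𝒮.deg U hU m :=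
    SetLike.mul_mem_graded (SetLike.mul_mem_graded f.2 s.2) (SetLike.mul_mem_graded f'.2 s'.2)
  have hN0 : N0 ∈ 𝒮.deg U hU (1 • m) := by
    rw [one_smul, show m = i' + k + (i' + k) by omega]
    exact SetLike.mul_mem_graded (SetLike.mul_mem_graded f'.2 s.2) (SetLike.mul_mem_graded f'.2 s.2)
  let e := RelProj.emb p chart U hU
  let TF : P.Opens := e ''ᵁ Proj.basicOpen (𝒮.deg U hU) F
  have hTI : TF ≤ I.T p chart := e.image_mono (Proj.basicOpen_mono _ _ _ (Dvd.intro _ rfl))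
  have hTJ : TF ≤ J.T p chart := e.image_mono (Proj.basicOpen_mono _ _ _ (Dvd.intro_left _ rfl))
  have hTp : TF ≤ p ⁻¹ᵁ U := hTI.trans I.T_le
  let g : Γ(P, TF) := (e.appIso _).inv ((Proj.awayToSection (𝒮.deg U hU) F).hom (Away.mk _ hF 1 N0 hN0))
  have hg : g • mres On hTI (I.sec hOn) = mres On hTJ (J.sec hOn) := by
    refine (hOn.bijective U hU TF hTp).1 ?_
    refine GrModLib.tval_ext _ fun z => ?_
    have hz : z.1 ∈ Proj.basicOpen (𝒮.deg U hU) F := (e.preimage_image_eq _).le z.2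
    have hg1 : ((e.app TF g).1 z).val = Localization.mk N0 ⟨F ^ 1, show F ^ 1 ∈ z.1.asHomogeneousIdeal.toIdeal.primeCompl from fun h => hz (z.1.isPrime.mem_of_pow_mem 1 h)⟩ := by
      have h1 := ConcreteCategory.congr_hom (e.appIso_inv_app (Proj.basicOpen (𝒮.deg U hU) F))
        ((Proj.awayToSection (𝒮.deg U hU) F).hom (Away.mk _ hF 1 N0 hN0))
      refine (congrArg (fun t : Γ(Proj (𝒮.deg U hU), e ⁻¹ᵁ TF) => (t.1 z).val) h1).trans ?_
      exact GrModLib.val_awayToSection (𝒮.deg U hU) hF 1 N0 hN0 ⟨z.1, hz⟩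
    refine (congrArg (fun t : Γ(GrTwist.twist (𝒮.deg U hU) n, e ⁻¹ᵁ TF) => GrModLib.tval _ t z)
      (Scheme.Modules.Hom.app_smul (lam U hU) g (mres On hTI (I.sec hOn)))).trans ?_
    refine (GrModLib.tval_smul (𝒮.deg U hU) _ _ z).trans ?_
    refine Eq.trans ?_ ((congrArg (fun t : Γ(GrTwist.twist (𝒮.deg U hU) n, e ⁻¹ᵁ TF) => GrModLib.tval _ t z)
      (BasicGlue.app_rs (lam U hU) hTJ (J.sec hOn))).trans
        (congrArg (fun t : Γ(GrTwist.twist (𝒮.deg U hU) n, e ⁻¹ᵁ J.T p chart) => GrModLib.tval _ t ⟨z.1, hTJ z.2⟩)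
          (J.lam_sec hOn))).symm
    have hI1 := (congrArg (fun t : Γ(GrTwist.twist (𝒮.deg U hU) n, e ⁻¹ᵁ TF) => GrModLib.tval _ t z)
      (BasicGlue.app_rs (lam U hU) hTI (I.sec hOn))).trans
        (congrArg (fun t : Γ(GrTwist.twist (𝒮.deg U hU) n, e ⁻¹ᵁ I.T p chart) => GrModLib.tval _ t ⟨z.1, hTI z.2⟩)
          (I.lam_sec hOn))
    refine (congrArg₂ (· * ·) hg1 hI1).trans ?_
    show Localization.mk N0 _ * Localization.mk f.1 _ = Localization.mk f'.1 _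
    rw [Localization.mk_mul, Localization.mk_eq_mk_iff, Localization.r_iff_exists]
    exact ⟨1, by simp [F, N0]; ring⟩
  let ψ := u.gradedAt U hU V hV hle
  let dc := EGA2Misc.domChart u pL chartL U hU V hV hle hm F hF
  let β : Γ(X, V) →+* Away (𝒮L.deg V hV) (ψ F) :=
    (fromZeroRingHom (𝒮L.deg V hV) (Submonoid.powers (ψ F))).comp (𝒮L.strZero V hV).hom
  have hdcτ : dc ≫ τ = Spec.map (CommRingCat.ofHom β) ≫ hV.fromSpec := by
    rw [← Category.assoc, EGA2Misc.domChart_ι, RelProj.awayEmb, Category.assoc, EGA2Misc.emb_comp hPL,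
      Proj.awayι_toSpecZero_assoc, ← Category.assoc, ← Spec.map_comp]
    rfl
  let W := dc ''ᵁ ⊤
  have hWV : W ≤ τ ⁻¹ᵁ V := by
    rintro _ ⟨v, -, rfl⟩
    show τ.base (dc.base v) ∈ V
    rw [← Scheme.Hom.comp_apply, hdcτ, Scheme.Hom.comp_apply, ← SetLike.mem_coe, ← hV.range_fromSpec]
    exact ⟨_, rfl⟩
  have hdcr : dc ≫ r = Spec.map (CommRingCat.ofHom (Away.map ψ F)) ≫ (Proj.awayι (𝒮.deg U hU) F hF hm ≫ e) :=
    hr U hU V hV hle m hm F hF _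
  have hWT : W ≤ r ⁻¹ᵁ TF := by
    rintro _ ⟨v, -, rfl⟩
    show r.base (dc.base v) ∈ TF
    rw [← Scheme.Hom.comp_apply, hdcr, Scheme.Hom.comp_apply]
    exact ⟨_, (Proj.opensRange_awayι (𝒮.deg U hU) F hF hm).le ⟨_, rfl⟩, rfl⟩
  have hψF : ψ F = (𝒮L.str.app (op V)).hom (cf * cs * (cf' * cs') * w ^ (i' + k')) * tgen j ε ^ m := by
    show (u.appLE U V hle).hom (f.1 * s.1 * (f'.1 * s'.1)) = _
    simp only [map_mul, hf, hs, hf', hs', hε1, mul_pow, map_pow, m, pow_add]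
    ring
  have hψN : ψ N0 = (𝒮L.str.app (op V)).hom (cf' * cs * (cf' * cs) * w ^ (i' + i')) * tgen j ε ^ (i' + k + (i' + k)) := by
    show (u.appLE U V hle).hom (f'.1 * s.1 * (f'.1 * s.1)) = _
    simp only [map_mul, hs, hf', hε1, mul_pow, map_pow, pow_add]
    ring
  have hxW : x ∈ W := by
    have hy : x.1 ∈ RelProj.emb pL chartL V hV ''ᵁ Proj.basicOpen (𝒮L.deg V hV) (ψ F) := by
      rw [hψF]
      refine (mem_emb_frame_iff hj hLq hV hε hPL _ m hm x.1 hx).2 ?_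
      rw [X.basicOpen_of_isUnit (((cf.isUnit.mul cs.isUnit).mul (cf'.isUnit.mul cs'.isUnit)).mul (w.isUnit.pow _))]
      exact hx
    obtain ⟨z, hz, hzx⟩ := hy
    obtain ⟨v, hv⟩ := (Proj.opensRange_awayι (𝒮L.deg V hV) (ψ F) (ψ.map_mem hF) hm).ge hz
    refine ⟨v, trivial, D.ι.isOpenEmbedding.injective ?_⟩
    show (dc ≫ D.ι).base v = x.1
    rw [EGA2Misc.domChart_ι]
    show (RelProj.emb pL chartL V hV).base ((Proj.awayι _ (ψ F) (ψ.map_mem hF) hm).base v) = x.1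
    rw [hv]
    exact hzx
  let cu : Γ(X, V)ˣ := (cf' * cs * (cf' * cs) * w ^ (i' + i')) * (cf * cs * (cf' * cs') * w ^ (i' + k'))⁻¹
  let c : Γ(X, V) := cu
  let v : Γ(((RelProj.domQ u pL chartL : PL.Opens) : Scheme.{u}), W) := ores hWT (r.app TF g)
  refine ⟨W, hWT.trans (r.preimage_mono hTI), hWT.trans (r.preimage_mono hTJ), hWV, v, c, hxW, ?_, ?_, ?_⟩
  · have h1 := congrArg (mres ((Scheme.Modules.pullback r).obj On) hWT) (congrArg (pullSec r On TF) hg)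
    rw [pullSec_smul, mres_smul, ← pullSec_mres, ← pullSec_mres, mres_mres, mres_mres] at h1
    exact h1
  · have hle1 : ⊤ ≤ (dc ≫ r) ⁻¹ᵁ TF := fun z _ => hWT ⟨z, trivial, rfl⟩
    have hle2 : ⊤ ≤ (dc ≫ τ) ⁻¹ᵁ V := fun z _ => hWV ⟨z, trivial, rfl⟩
    have hkey : Away.map ψ F (Away.mk _ hF 1 N0 hN0) = β c := by
      refine HomogeneousLocalization.val_injective _ ?_
      rw [Away.map_mk, Away.val_mk]
      show _ = Localization.mk ((𝒮L.str.app (op V)).hom c) 1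
      rw [Localization.mk_eq_mk_iff, Localization.r_iff_exists]
      refine ⟨1, ?_⟩
      simp only [OneMemClass.coe_one, one_mul, pow_one]
      rw [hψN, hψF, show i' + k + (i' + k) = m by omega,
        mul_right_comm ((𝒮L.str.app (op V)).hom _) _ ((𝒮L.str.app (op V)).hom c), ← map_mul]
      congr 2
      have hcu : (cf * cs * (cf' * cs') * w ^ (i' + k')) * cu = cf' * cs * (cf' * cs) * w ^ (i' + i') := by
        simp only [cu]; rw [mul_comm, inv_mul_cancel_right]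
      simpa [c] using congrArg Units.val hcu.symm
    have hr1 : ∀ (φ : Spec (CommRingCat.of (Away (𝒮L.deg V hV) (ψ F))) ⟶ P) (_ : dc ≫ r = φ) (h : ⊤ ≤ φ ⁻¹ᵁ TF),
        (dc ≫ r).appLE TF ⊤ hle1 g = φ.appLE TF ⊤ h g := by rintro _ rfl h; rfl
    have hr2 : ∀ (φ : Spec (CommRingCat.of (Away (𝒮L.deg V hV) (ψ F))) ⟶ X) (_ : dc ≫ τ = φ) (h : ⊤ ≤ φ ⁻¹ᵁ V),
        (dc ≫ τ).appLE V ⊤ hle2 c = φ.appLE V ⊤ h c := by rintro _ rfl h; rfl
    have hR : ⊤ ≤ (Proj.awayι (𝒮.deg U hU) F hF hm) ⁻¹ᵁ Proj.basicOpen (𝒮.deg U hU) F := fun z _ =>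
      (Proj.opensRange_awayι (𝒮.deg U hU) F hF hm).le ⟨z, rfl⟩
    have hT' : ⊤ ≤ (Proj.awayι (𝒮.deg U hU) F hF hm ≫ e) ⁻¹ᵁ TF := fun z _ => ⟨_, hR trivial, rfl⟩
    have e1 : (Scheme.ΓSpecIso _).hom ((dc ≫ r).appLE TF ⊤ hle1 g) = Away.map ψ F (Away.mk _ hF 1 N0 hN0) := by
      rw [hr1 _ hdcr (fun z _ => hT' trivial), specMap_appLE_apply _ _ _ _ hT']
      refine congrArg (Away.map ψ F) ?_
      have h2 : (Proj.awayι (𝒮.deg U hU) F hF hm ≫ e).appLE TF ⊤ hT' g =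
          (Proj.awayι (𝒮.deg U hU) F hF hm).appLE _ ⊤ hR ((Proj.awayToSection (𝒮.deg U hU) F).hom (Away.mk _ hF 1 N0 hN0)) := by
        rw [← Scheme.Hom.appLE_comp_appLE _ e TF (Proj.basicOpen (𝒮.deg U hU) F) ⊤ (e.preimage_image_eq _).ge hR,
          CommRingCat.comp_apply]
        refine congrArg _ ?_
        rw [← Scheme.Hom.appIso_hom' e (Proj.basicOpen (𝒮.deg U hU) F)]
        exact Iso.inv_hom_id_apply _ _
      rw [h2]
      have h3 := congr(($(GrModLib.awayToSection_awayι_appLE (𝒮.deg U hU) hF hm hR)).hom (Away.mk _ hF 1 N0 hN0))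
      exact (congrArg _ h3).trans (Iso.inv_hom_id_apply _ _)
    have e2 : (Scheme.ΓSpecIso _).hom ((dc ≫ τ).appLE V ⊤ hle2 c) = β c := by
      have h' : ⊤ ≤ hV.fromSpec ⁻¹ᵁ V := hV.fromSpec_preimage_self.ge
      rw [hr2 _ hdcτ (fun z _ => h' trivial), specMap_appLE_apply _ _ _ _ h']
      refine congrArg β ?_
      rw [Scheme.Hom.appLE, hV.fromSpec_app_self]
      simp only [Category.assoc, ← Functor.map_comp]
      rw [show ((eqToHom hV.fromSpec_preimage_self).op ≫ (homOfLE h').op : op ⊤ ⟶ op ⊤) = 𝟙 _ from rfl,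
        CategoryTheory.Functor.map_id, Category.comp_id]
      exact Iso.inv_hom_id_apply _ _
    have hW : ⊤ ≤ dc ⁻¹ᵁ W := (dc.preimage_image_eq ⊤).ge
    refine ((ConcreteCategory.isIso_iff_bijective (dc.appIso ⊤).hom).1 inferInstance).1 ?_
    rw [Scheme.Hom.appIso_hom']
    refine ((ConcreteCategory.isIso_iff_bijective (Scheme.ΓSpecIso _).hom).1 inferInstance).1 ?_
    refine Eq.trans (congrArg _ ?_) ((e1.trans (hkey.trans e2.symm)).trans (congrArg _ ?_))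
    · rw [Scheme.Hom.comp_appLE]
      exact ConcreteCategory.congr_hom (dc.map_appLE hW (homOfLE hWT).op) _
    · rw [Scheme.Hom.comp_appLE]
      exact (ConcreteCategory.congr_hom (dc.map_appLE hW (homOfLE hWV).op) _).symm
  · have key : cu * (cf * cs⁻¹) = cf' * cs'⁻¹ * w ^ n.toNat * w⁻¹ ^ (-n).toNat := by
      refine (ratio_eq cf cs cf' cs' _ _).trans ?_
      rw [mul_assoc _ (w ^ n.toNat)]
      congr 1
      rw [inv_pow, mul_inv_eq_iff_eq_mul, mul_right_comm, eq_mul_inv_iff_mul_eq, ← pow_add, ← pow_add]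
      congr 1
      omega
    simpa only [c, ← Units.val_mul, ← Units.val_pow_eq_pow_val] using congrArg Units.val key

include hj hLq hL hP hPL hr in
/-- `r^* O_P(n)` is the pull-back of a module with frames transforming like `L^{⊗n}`. -/
theorem nonempty_pullback_qmap_iso (hOn : RelProj.IsRelTwist 𝒮 p chart n On lam) (N : X.Modules)
    (E : ∀ (V : X.affineOpens) (ε : Γ(L, V.1)), IsFrame L ε → Γ(N, V.1))
    (hE : ∀ (V : X.affineOpens) (ε : Γ(L, V.1)) (hε : IsFrame L ε), IsFrame N (E V ε hε))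
    (hEres : ∀ (V V' : X.affineOpens) (h : V'.1 ≤ V.1) (ε : Γ(L, V.1)) (hε : IsFrame L ε),
      mres N h (E V ε hε) = E V' (mres L h ε) (hε.res h))
    (hEsmul : ∀ (V : X.affineOpens) (ε ε' : Γ(L, V.1)) (hε : IsFrame L ε) (hε' : IsFrame L ε') (w : Γ(X, V.1)ˣ),
      ε' = (w : Γ(X, V.1)) • ε → E V ε' hε' = ((w : Γ(X, V.1)) ^ n.toNat *
        ((w⁻¹ : Γ(X, V.1)ˣ) : Γ(X, V.1)) ^ (-n).toNat) • E V ε hε)
    (hcov : ∀ y : (RelProj.domQ u pL chartL : PL.Opens), ∃ I : QFrac L (j := j) u n, pL y.1 ∈ I.V.1) :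
    Nonempty ((Scheme.Modules.pullback r).obj On ≅
      (Scheme.Modules.pullback ((RelProj.domQ u pL chartL).ι ≫ pL)).obj N) := by
  let τ := (RelProj.domQ u pL chartL).ι ≫ pL
  let a : ∀ I : QFrac L (j := j) u n, Γ((Scheme.Modules.pullback r).obj On, τ ⁻¹ᵁ I.V.1) := fun I =>
    mres _ (I.preimage_le u hj hLq hL hP hPL hr) (pullSec r On _ (I.sec hOn))
  let b : ∀ I : QFrac L (j := j) u n, Γ((Scheme.Modules.pullback τ).obj N, τ ⁻¹ᵁ I.V.1) := fun I =>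
    pullSec τ N I.V.1 (((I.cf : Γ(X, I.V.1)) * ((I.cs⁻¹ : Γ(X, I.V.1)ˣ) : Γ(X, I.V.1))) • E I.V I.ε I.hε)
  refine (exists_iso_of_local_rel (fun I : QFrac L (j := j) u n => τ ⁻¹ᵁ I.V.1) hcov a b
    (fun I => ((I.isFrame_sec hOn).pullSec r).res _)
    (fun I => ((hE I.V I.ε I.hε).smul_unit (I.cf.isUnit.mul (I.cs⁻¹).isUnit)).pullSec τ)
    fun I J x hx => ?_).nonempty
  obtain ⟨D, hDI, hDJ, hxD⟩ := IsBasic.inter I.U J.U (q.base (τ.base x)) (I.hle hx.1) (J.hle hx.2)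
  obtain ⟨_, ⟨V₁, hV₁, rfl⟩, hxV, hVle⟩ := X.isBasis_affineOpens.exists_subset_of_mem_open
    (show τ.base x ∈ (I.V.1 ⊓ J.V.1 ⊓ q ⁻¹ᵁ D.1 : X.Opens) from ⟨⟨hx.1, hx.2⟩, hxD⟩) (I.V.1 ⊓ J.V.1 ⊓ q ⁻¹ᵁ D.1).2
  let V : X.affineOpens := ⟨V₁, hV₁⟩
  have hVI : V.1 ≤ I.V.1 := fun y hy => (hVle hy).1.1
  have hVJ : V.1 ≤ J.V.1 := fun y hy => (hVle hy).1.2
  have hVD : V.1 ≤ q ⁻¹ᵁ D.1 := fun y hy => (hVle hy).2
  let K := I.res hDI hVI hVD hj
  let M := J.res hDJ hVJ hVD hj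
  let εK : Γ(L, V.1) := mres L hVI I.ε
  let εM : Γ(L, V.1) := mres L hVJ J.ε
  have hεK : IsFrame L εK := I.hε.res hVI
  have hεM : IsFrame L εM := J.hε.res hVJ
  obtain ⟨w₀, hw₀⟩ := hεK.bijective.2 εM
  obtain ⟨w₁, hw₁⟩ := hεM.bijective.2 εK
  have hw₁₀ : w₁ * w₀ = 1 := hεK.bijective.1 (by
    show (w₁ * w₀) • εK = (1 : Γ(X, V.1)) • εK
    rw [mul_smul, show w₀ • εK = εM from hw₀, show w₁ • εM = εK from hw₁, one_smul])
  let w : Γ(X, V.1)ˣ := ⟨w₀, w₁, (mul_comm _ _).trans hw₁₀, hw₁₀⟩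
  obtain ⟨W, hI, hJ, hV, v, c, hxW, hrel, hv, hc⟩ := exists_ratio u hj hLq hL hP hPL hr hOn D V hVD K.hk K.hdeg
    M.hk M.hdeg K.f K.s M.f M.s εK hεK εM hεM w hw₀.symm K.cf K.cs M.cf M.cs K.hf K.hs M.hf M.hs x hxV
  obtain ⟨hTI, eI⟩ := I.res_sec u hj hP hOn hDI hVI hVD
  obtain ⟨hTJ, eJ⟩ := J.res_sec u hj hP hOn hDJ hVJ hVD
  refine ⟨W, hV.trans (τ.preimage_mono hVI), hV.trans (τ.preimage_mono hVJ), v, hxW, ?_, ?_⟩
  · have h1 : mres _ hI (pullSec r On _ (K.sec hOn)) =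
        mres _ (hV.trans (τ.preimage_mono hVI)) (a I) := by
      have h0 := congrArg (mres _ hI) ((pullSec_mres r On hTI (I.sec hOn)).trans (congrArg (pullSec r On _) eI))
      simp only [a]
      rw [mres_mres]
      exact h0.symm.trans (mres_mres _ _ _ _)
    have h2 : mres _ hJ (pullSec r On _ (M.sec hOn)) =
        mres _ (hV.trans (τ.preimage_mono hVJ)) (a J) := by
      have h0 := congrArg (mres _ hJ) ((pullSec_mres r On hTJ (J.sec hOn)).trans (congrArg (pullSec r On _) eJ))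
      simp only [a]
      rw [mres_mres]
      exact h0.symm.trans (mres_mres _ _ _ _)
    rw [← h1, ← h2]
    exact hrel
  · have key : ∀ (G : QFrac L (j := j) u n) (hG : V.1 ≤ G.V.1),
        mres _ (hV.trans (τ.preimage_mono hG)) (b G) =
          mres _ hV (pullSec τ N V.1 ((ores hG (G.cf : Γ(X, G.V.1)) *
            ores hG ((G.cs⁻¹ : Γ(X, G.V.1)ˣ) : Γ(X, G.V.1))) • E V (mres L hG G.ε) (G.hε.res hG))) := by
      intro G hG
      simp only [b]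
      rw [← hEres G.V V hG G.ε G.hε, ← map_mul, ← mres_smul, ← pullSec_mres, mres_mres]
    rw [key I hVI, key J hVJ, hv, ← mres_smul, ← pullSec_smul, smul_smul]
    refine congrArg (fun s => mres _ hV (pullSec τ N V.1 s)) ?_
    show (c * ((show Γ(X, V.1)ˣ from K.cf).1 * (show Γ(X, V.1)ˣ from K.cs)⁻¹.1)) • E V εK hεK =
      ((show Γ(X, V.1)ˣ from M.cf).1 * (show Γ(X, V.1)ˣ from M.cs)⁻¹.1) • E V εM hεM
    rw [hc, hEsmul V εK εM hεK hεM w hw₀.symm, smul_smul, ← mul_assoc]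

include hj hLq hL hPL in
/-- where `f s` generates, `f / s` has unit coefficients in a frame -/
theorem exists_qfrac (U : Y.affineOpens) {i k : ℕ} (hk : 0 < k) (hdeg : (i : ℤ) = k + n) (f : 𝒮.deg U.1 U.2 i)
    (s : 𝒮.deg U.1 U.2 k) (y : PL) (h : GenAt 𝒮L u U.1 (i + k) (f.1 * s.1) (pL y)) :
    ∃ I : QFrac L (j := j) u n, pL y ∈ I.V.1 := by
  obtain ⟨V, hV, hle, hyV, hg⟩ := h
  obtain ⟨V', hV', hxV', hV'V, e, he⟩ := exists_isFrame hL hyV
  obtain ⟨b, hb, hxb⟩ := hV.exists_basicOpen_le ⟨pL y, hxV'⟩ hyV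
  have hW : IsAffineOpen (X.basicOpen b) := hV.basicOpen b
  have hWV : X.basicOpen b ≤ V := X.basicOpen_le b
  let ψ := u.gradedAt U.1 U.2 V hV hle
  have hfs : f.1 * s.1 ∈ 𝒮.deg U.1 U.2 (i + k) := SetLike.mul_mem_graded f.2 s.2
  have hy : y ∈ RelProj.emb pL chartL V hV ''ᵁ Proj.basicOpen (𝒮L.deg V hV) (ψ (f.1 * s.1)) :=
    (mem_emb_iff_gens hj hLq hPL hL V hV (Nat.add_pos_right _ hk) _ (ψ.map_mem hfs) y hyV).2
      ⟨V, hV, le_rfl, hyV, (congrArg (Gens 𝒮L V hV _) (res_gradedAt u U.1 U.2 V hV hle V hV le_rfl _)).mpr hg⟩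
  have hy' := (EGA2Misc.mem_emb_res_iff hPL V hV _ hW b rfl hWV y hxb _).2 hy
  let ε : Γ(L, X.basicOpen b) := mres L hb e
  have hε : IsFrame L ε := he.res hb
  rw [res_gradedAt u U.1 U.2 V hV hle _ hW hWV] at hy'
  let φ := u.gradedAt U.1 U.2 _ hW (hWV.trans hle)
  obtain ⟨cf, hcf⟩ : ∃ c, φ f.1 = (𝒮L.str.app (op (X.basicOpen b))).hom c * tgen j ε ^ i :=
    exists_eq_of_mem_deg hj hLq hW hε (φ.map_mem f.2)
  obtain ⟨cs, hcs⟩ : ∃ c, φ s.1 = (𝒮L.str.app (op (X.basicOpen b))).hom c * tgen j ε ^ k :=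
    exists_eq_of_mem_deg hj hLq hW hε (φ.map_mem s.2)
  have hmul : (u.appLE U.1 _ (hWV.trans hle)).hom (f.1 * s.1) =
      (𝒮L.str.app (op (X.basicOpen b))).hom (cf * cs) * tgen j ε ^ (i + k) := by
    show φ (f.1 * s.1) = _
    rw [map_mul φ, hcf, hcs, tgen_pow_mul hj]
  rw [hmul, mem_emb_frame_iff hj hLq hW hε hPL (cf * cs) (i + k) (Nat.add_pos_right _ hk) y hxb] at hy'
  have hDb : X.basicOpen (cf * cs) ≤ X.basicOpen b := X.basicOpen_le _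
  have hu : IsUnit (ores hDb (cf * cs)) := X.toRingedSpace.isUnit_res_basicOpen _
  rw [map_mul] at hu
  refine ⟨⟨U, ⟨_, hW.basicOpen (cf * cs)⟩, hDb.trans (hWV.trans hle), i, k, hk, hdeg, f, s, mres L hDb ε, hε.res hDb,
    (isUnit_of_mul_isUnit_left hu).unit, (isUnit_of_mul_isUnit_right hu).unit, ?_, ?_⟩, hy'⟩
  · rw [IsUnit.unit_spec, ← ares_appLE u U.1 _ (hDb.trans (hWV.trans hle)) f.1,
      ← ares_ares 𝒮L.toQCAlg (hWV.trans hle) hDb, ares_appLE,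
      show (u.appLE U.1 _ (hWV.trans hle)).hom f.1 = _ from hcf, map_mul, map_pow, ares_str]
    exact congrArg (fun t => _ * t ^ _) (res_tgen hj hDb)
  · rw [IsUnit.unit_spec, ← ares_appLE u U.1 _ (hDb.trans (hWV.trans hle)) s.1,
      ← ares_ares 𝒮L.toQCAlg (hWV.trans hle) hDb, ares_appLE,
      show (u.appLE U.1 _ (hWV.trans hle)).hom s.1 = _ from hcs, map_mul, map_pow, ares_str]
    exact congrArg (fun t => _ * t ^ _) (res_tgen hj hDb)

include hj hLq hL hP hPL hr in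
/-- `r^* O_P(1)` is `L` when the algebra is generated in degree one. -/
theorem nonempty_pullback_qmap_one {O1 : P.Modules}
    {lam1 : ∀ (U : Y.Opens) (hU : IsAffineOpen U),
      O1 ⟶ (Scheme.Modules.pushforward (RelProj.emb p chart U hU)).obj (GrTwist.twist (𝒮.deg U hU) 1)}
    (hO1 : RelProj.IsRelTwist 𝒮 p chart 1 O1 lam1) (hgen : 𝒮.IsGenDegOne) :
    Nonempty ((Scheme.Modules.pullback r).obj O1 ≅
      (Scheme.Modules.pullback ((RelProj.domQ u pL chartL).ι ≫ pL)).obj L) := by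
  refine nonempty_pullback_qmap_iso u hj hLq hL hP hPL hr hO1 L (fun V ε _ => ε) (fun V ε hε => hε)
    (fun _ _ _ _ _ => rfl) (fun V ε ε' _ _ w h => h.trans (by simp)) fun y => ?_
  obtain ⟨U, hU, z, hz⟩ := exists_affine_emb p chart (r y)
  obtain ⟨f, hf⟩ := exists_degOne_notMem hgen U hU z
  have hf3 : f.1 * f.1 * f.1 ∉ (show ProjectiveSpectrum _ from z).asHomogeneousIdeal := fun h =>
    (z.isPrime.mem_or_mem h).elim (fun h' => (z.isPrime.mem_or_mem h').elim hf hf) hf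
  have hmem : f.1 * f.1 ∈ 𝒮.deg U hU 2 := SetLike.mul_mem_graded f.2 f.2
  refine exists_qfrac u hj hLq hL hPL ⟨U, hU⟩ (i := 2) (k := 1) one_pos (by norm_num) ⟨_, hmem⟩ f y.1 ?_
  refine (mem_preimage_iff u hj hLq hL hP hPL hr U hU (by norm_num : 0 < 2 + 1) _
    (SetLike.mul_mem_graded hmem f.2) y).1 ⟨z, hf3, hz⟩

end Groth.Agent.SymAlgRel

end
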