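import Mathlib
import Groth.Agent.S12485
import Groth.Agent.SymAlgRel.QMapTwist
import Groth.Agent.SymAlgRel.BundleImm
import Groth.Agent.TensorMod.Invertible

/-!
# Criteria for very ampleness by graded homomorphisms
-/

set_option autoImplicit false
set_option backward.isDefEq.respectTransparency false

noncomputable section

universe u

open CategoryTheory CategoryTheory.Limits AlgebraicGeometry TopologicalSpace Opposite
open scoped HomogeneousIdeal

namespace Groth.Agent.SymAlgRel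

variable {Y X : Scheme.{u}} {q : X ⟶ Y} {L : X.Modules} (hL : PicF.IsInvertible L)
  {𝒮L : RelProj.QCGrAlg X} {jL : L ⟶ 𝒮L.toModule} (hjL : RelProj.IsGrSymAlg L 𝒮L jL)
  {E : Y.Modules} (hE : Coh.IsQCoh E) {𝒯 : RelProj.QCGrAlg Y} {j : E ⟶ 𝒯.toModule}
  (hj : RelProj.IsGrSymAlg E 𝒯 j) (u : RelProj.QGrHom q 𝒯 𝒮L)

include hL hjL hE hj in
/-- an everywhere defined immersion attached to a homomorphism from a symmetric algebra makes `L` very ample -/
theorem isRelVeryAmple_of_qmap {P PL : Scheme.{u}} {p : P ⟶ Y}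
    {chart : ∀ (U : Y.Opens) (hU : IsAffineOpen U), (((p ⁻¹ᵁ U : P.Opens) : Scheme.{u}) ≅ Proj (𝒯.deg U hU))}
    (hP : RelProj.IsRelProj 𝒯 p chart) {pL : PL ⟶ X}
    {chartL : ∀ (V : X.Opens) (hV : IsAffineOpen V), (((pL ⁻¹ᵁ V : PL.Opens) : Scheme.{u}) ≅ Proj (𝒮L.deg V hV))}
    (hPL : RelProj.IsRelProj 𝒮L pL chartL) {r : ((RelProj.domQ u pL chartL : PL.Opens) : Scheme.{u}) ⟶ P}
    (hr : RelProj.IsProjQMapOn u p chart pL chartL (RelProj.domQ u pL chartL) r)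
    (htop : RelProj.domQ u pL chartL = ⊤) (himm : IsImmersion r) : RelProj.IsRelVeryAmple q L := by
  have hLq := TensorMod.isQCoh_of_isInvertible hL
  haveI := isIso_pL hjL hLq hPL hL
  haveI : IsIso (RelProj.domQ u pL chartL).ι := by rw [htop]; exact inferInstanceAs (IsIso PL.topIso.hom)
  let τ := (RelProj.domQ u pL chartL).ι ≫ pL
  obtain ⟨O1, lam, hO1⟩ := exists_isRelTwist hP 1
  obtain ⟨e⟩ := nonempty_pullback_qmap_one u hjL hLq hL hP hPL hr hO1 (grSymAlg_isGenDegOne hE hj)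
  have hcomp : r ≫ p = (RelProj.domQ u pL chartL).ι ≫ pL ≫ q := EGA2Misc.projQMapOn_comp u hP hPL r hr
  refine ⟨E, hE, 𝒯, j, hj, P, p, chart, hP, O1, lam, hO1, inv τ ≫ r, inferInstance,
    by rw [Category.assoc, hcomp, IsIso.inv_comp_eq, Category.assoc], ⟨?_⟩⟩
  exact ((Scheme.Modules.pullbackId X).app L).symm ≪≫ (Scheme.Modules.pullbackCongr (IsIso.inv_hom_id τ).symm).app L ≪≫
    ((Scheme.Modules.pullbackComp (inv τ) τ).app L).symm ≪≫ (Scheme.Modules.pullback (inv τ)).mapIso e.symm ≪≫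
    (Scheme.Modules.pullbackComp (inv τ) r).app O1

include hL hjL hE hj in
/-- good homogeneous elements around every point make `L` very ample -/
theorem isRelVeryAmple_of_forall
    (h : ∀ x : X, ∃ (U : Y.Opens) (hU : IsAffineOpen U) (d : ℕ) (_ : 0 < d) (f : 𝒯.presheaf.obj (op U))
      (_ : f ∈ 𝒯.deg U hU d), x ∈ xs u U d f ∧ IsAffineOpen (xs u U d f) ∧
        Frac u U hU (xs u U d f) (xs_le u U d f) d f) :
    RelProj.IsRelVeryAmple q L := by
  have hLq := TensorMod.isQCoh_of_isInvertible hL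
  obtain ⟨P, p, chart, hP⟩ := exists_isRelProj 𝒯
  obtain ⟨PL, pL, chartL, hPL⟩ := exists_isRelProj 𝒮L
  obtain ⟨r, hr, -⟩ := EGA2Misc.existsUnique_projQMapOn u hP hPL
  obtain ⟨htop, himm⟩ := isImmersion_of_forall u hjL hLq hL hP hPL hr h
  exact isRelVeryAmple_of_qmap hL hjL hE hj u hP hPL hr htop himm

include hL in
/-- the data of a very ample module, with graded symmetric algebras and projective bundles constructed -/
theorem exists_data_of_isRelVeryAmple (h : RelProj.IsRelVeryAmple q L) :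
    ∃ (𝒮L : RelProj.QCGrAlg X) (jL : L ⟶ 𝒮L.toModule) (_ : RelProj.IsGrSymAlg L 𝒮L jL)
      (PL : Scheme.{u}) (pL : PL ⟶ X)
      (chartL : ∀ (V : X.Opens) (hV : IsAffineOpen V), (((pL ⁻¹ᵁ V : PL.Opens) : Scheme.{u}) ≅ Proj (𝒮L.deg V hV)))
      (_ : RelProj.IsRelProj 𝒮L pL chartL) (E : Y.Modules) (_ : Coh.IsQCoh E) (𝒯 : RelProj.QCGrAlg Y)
      (j : E ⟶ 𝒯.toModule) (_ : RelProj.IsGrSymAlg E 𝒯 j) (u : RelProj.QGrHom q 𝒯 𝒮L)
      (σ : E ⟶ (Scheme.Modules.pushforward q).obj L),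
      (∀ (U : Y.Opens), IsAffineOpen U → ∀ e : Γ(E, U), (u.app U).hom (tgen j e) = jL.app _ (σ.app U e)) ∧
      ∀ (x : X) (U : Y.Opens) (hU : IsAffineOpen U), q x ∈ U →
        ∃ (d : ℕ) (_ : 0 < d) (f : 𝒯.presheaf.obj (op U)) (_ : f ∈ 𝒯.deg U hU d),
          x ∈ xs u U d f ∧ IsAffineOpen (xs u U d f) ∧ Frac u U hU (xs u U d f) (xs_le u U d f) d f := by
  have hLq := TensorMod.isQCoh_of_isInvertible hL
  obtain ⟨𝒮L, jL, hjL⟩ := exists_isGrSymAlg L hLq
  obtain ⟨PL, pL, chartL, hPL⟩ := exists_isRelProj 𝒮L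
  obtain ⟨E, hE, 𝒯, j, hj, P, p, chart, hP, u, σ, r, hu, hr, htop, himm, hgood⟩ :=
    exists_of_isRelVeryAmple h hjL hLq hL hPL
  exact ⟨𝒮L, jL, hjL, PL, pL, chartL, hPL, E, hE, 𝒯, j, hj, u, σ, hu, hgood⟩

end Groth.Agent.SymAlgRel
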