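import Mathlib
import Groth.Agent.SymAlgRel.VACrit
import Groth.Agent.SymAlgRel.ProjBC
import Groth.Agent.SymAlgRel.SymBC
import Groth.Agent.GenLocus.PullTensor
import Groth.Agent.QCohPull.Affine

/-!
# Morphisms into projective bundles: comparison with the attached maps, change of base
-/

set_option autoImplicit false
set_option synthInstance.maxHeartbeats 200000
set_option backward.isDefEq.respectTransparency false
set_option backward.isDefEq.respectTransparency.types false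

noncomputable section

universe u

open CategoryTheory CategoryTheory.Limits AlgebraicGeometry TopologicalSpace Opposite RelSpec
open HomogeneousLocalization
open Groth.Agent.QCohBase Groth.Agent.GenLocus
open scoped HomogeneousIdeal

namespace Groth.Agent.SymAlgRel

/-- two morphisms equal around every point are equal -/
theorem hom_ext_of_opens {X Z : Scheme.{u}} (a b : X ⟶ Z)
    (h : ∀ x : X, ∃ (W : Scheme.{u}) (c : W ⟶ X) (_ : IsOpenImmersion c), x ∈ c.opensRange ∧ c ≫ a = c ≫ b) :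
    a = b := by
  choose W c hc hx he using h
  refine Scheme.Cover.hom_ext (Scheme.openCoverOfIsOpenCover X (fun x : X => (c x).opensRange)
    (IsOpenCover.mk (eq_top_iff.2 fun x _ => Opens.mem_iSup.2 ⟨x, hx x⟩))) a b fun x => ?_
  show (c x).opensRange.ι ≫ a = (c x).opensRange.ι ≫ b
  rw [← cancel_epi (c x).isoOpensRange.hom, Scheme.Hom.isoOpensRange_hom_ι_assoc,
    Scheme.Hom.isoOpensRange_hom_ι_assoc, he x]

/-- morphisms from an affine scheme into an affine open are determined on functions -/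
theorem eq_of_appLE_top {A : CommRingCat.{u}} {Z : Scheme.{u}} (a b : Spec A ⟶ Z) {T : Z.Opens}
    (hT : IsAffineOpen T) (ha : ⊤ ≤ a ⁻¹ᵁ T) (hb : ⊤ ≤ b ⁻¹ᵁ T)
    (h : ∀ g : Γ(Z, T), a.appLE T ⊤ ha g = b.appLE T ⊤ hb g) : a = b := by
  haveI : IsIso (isAffineOpen_top (Spec A)).fromSpec := by
    rw [IsAffineOpen.fromSpec_top]
    infer_instance
  rw [← cancel_epi (isAffineOpen_top (Spec A)).fromSpec,
    ← IsAffineOpen.SpecMap_appLE_fromSpec a hT (isAffineOpen_top _) ha,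
    ← IsAffineOpen.SpecMap_appLE_fromSpec b hT (isAffineOpen_top _) hb]
  congr 2
  exact CommRingCat.hom_ext (RingHom.ext h)

/-- the graded homomorphism attached to a map to a direct image -/
theorem exists_qGrHom_sigma {X Y : Scheme.{u}} {q : X ⟶ Y} {E : Y.Modules} (hE : Coh.IsQCoh E)
    {𝒯 : RelProj.QCGrAlg Y} {j : E ⟶ 𝒯.toModule} (hj : RelProj.IsGrSymAlg E 𝒯 j)
    {L : X.Modules} {𝒮L : RelProj.QCGrAlg X} {jL : L ⟶ 𝒮L.toModule} (hjL : RelProj.IsGrSymAlg L 𝒮L jL)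
    (σ : E ⟶ (Scheme.Modules.pushforward q).obj L) :
    ∃ u : RelProj.QGrHom q 𝒯 𝒮L, ∀ (U : Y.Opens), IsAffineOpen U → ∀ (e : Γ(E, U)),
      (u.app U).hom (tgen j e) = jL.app _ (σ.app U e) := by
  let ψ := ((Scheme.Modules.pullbackPushforwardAdjunction q).homEquiv E L).symm σ
  obtain ⟨u, hu⟩ := exists_qGrHom (g := q) E hj hE (ψ ≫ jL) fun V hV x => hjL.2 V hV (ψ.app V x)
  refine ⟨u, fun U hU e => (hu U hU e).trans (congrArg (jL.app _) ?_)⟩
  have h2 := Adjunction.homEquiv_unit (Scheme.Modules.pullbackPushforwardAdjunction q) E L ψ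
  rw [Equiv.apply_symm_apply] at h2
  exact (congr($(congrArg (fun f ↦ Scheme.Modules.Hom.app f U) h2) e)).symm

section Bundle

variable {Y P X : Scheme.{u}} {E : Y.Modules} (hE : Coh.IsQCoh E) {𝒯 : RelProj.QCGrAlg Y} {j : E ⟶ 𝒯.toModule}
  (hj : RelProj.IsGrSymAlg E 𝒯 j)
  {p : P ⟶ Y} {chart : ∀ (U : Y.Opens) (hU : IsAffineOpen U), (((p ⁻¹ᵁ U : P.Opens) : Scheme.{u}) ≅ Proj (𝒯.deg U hU))}
  (hP : RelProj.IsRelProj 𝒯 p chart) {O1 : P.Modules}
  {lam : ∀ (U : Y.Opens) (hU : IsAffineOpen U),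
    O1 ⟶ (Scheme.Modules.pushforward (RelProj.emb p chart U hU)).obj (GrTwist.twist (𝒯.deg U hU) 1)}
  (hO1 : RelProj.IsRelTwist 𝒯 p chart 1 O1 lam)
  (φ : E ⟶ (Scheme.Modules.pushforward p).obj O1)
  (hφ : ∀ (U : Y.Opens) (hU : IsAffineOpen U) (e : Γ(E, U))
    (y : (RelProj.emb p chart U hU ⁻¹ᵁ (p ⁻¹ᵁ U) : (Proj (𝒯.deg U hU)).Opens)),
    GrTwist.val (V := RelProj.emb p chart U hU ⁻¹ᵁ (p ⁻¹ᵁ U)) ((lam U hU).app (p ⁻¹ᵁ U) (φ.app U e)) y =
      algebraMap (𝒯.presheaf.obj (op U)) (GrTwist.Loc (𝒯.deg U hU) y.1) (tgen j e))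
  {L : X.Modules} {𝒮L : RelProj.QCGrAlg X} {jL : L ⟶ 𝒮L.toModule}
  (hjL : RelProj.IsGrSymAlg L 𝒮L jL) (hLq : Coh.IsQCoh L) (hL : PicF.IsInvertible L)
  (i : X ⟶ P) (g : (Scheme.Modules.pullback i).obj O1 ≅ L)
  (u : RelProj.QGrHom (i ≫ p) 𝒯 𝒮L)
  (hu : ∀ (U : Y.Opens), IsAffineOpen U → ∀ (e : Γ(E, U)),
    (u.app U).hom (tgen j e) = jL.app _ (genSec φ i g e))
  {PL : Scheme.{u}} {pL : PL ⟶ X}
  {chartL : ∀ (V : X.Opens) (hV : IsAffineOpen V), (((pL ⁻¹ᵁ V : PL.Opens) : Scheme.{u}) ≅ Proj (𝒮L.deg V hV))}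
  (hPL : RelProj.IsRelProj 𝒮L pL chartL)

include hE hj hP hO1 hφ hjL hLq hL hu hPL in
/-- the map attached to `i` is defined everywhere -/
theorem bundle_domQ_eq_top : RelProj.domQ u pL chartL = ⊤ := domQ_eq_top_of_forall u hjL hLq hL hPL fun x => by
  obtain ⟨_, ⟨U, hU, rfl⟩, hxU, -⟩ :=
    Y.isBasis_affineOpens.exists_subset_of_mem_open (Set.mem_univ (p (i x))) isOpen_univ
  obtain ⟨w, hw⟩ : i x ∈ (RelProj.emb p chart U hU).opensRange := by
    rw [EGA2Misc.opensRange_emb]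
    exact hxU
  obtain ⟨e, he⟩ := exists_gen_notMem hE hj U hU w
  refine ⟨U, hU, 1, one_pos, _, tgen_mem hj hU e, ?_⟩
  rw [xs_eq_preimage hE hj hP hO1 φ hφ hjL hLq hL i g u hu hPL U hU one_pos _ (tgen_mem hj hU e)]
  exact ⟨w, he, hw⟩

set_option maxHeartbeats 1000000 in
include hE hj hP hO1 hφ hjL hLq hL hu hPL in
/-- the map attached to `i` is `i` -/
theorem qmap_eq_comp (r : ((RelProj.domQ u pL chartL : PL.Opens) : Scheme.{u}) ⟶ P)
    (hr : RelProj.IsProjQMapOn u p chart pL chartL (RelProj.domQ u pL chartL) r) :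
    r = ((RelProj.domQ u pL chartL).ι ≫ pL) ≫ i := by
  let D := RelProj.domQ u pL chartL
  let τ := D.ι ≫ pL
  refine hom_ext_of_opens _ _ fun z => ?_
  obtain ⟨_, ⟨U, hU, rfl⟩, hxU, -⟩ :=
    Y.isBasis_affineOpens.exists_subset_of_mem_open (Set.mem_univ (p (i (τ z)))) isOpen_univ
  obtain ⟨w, hw⟩ : i (τ z) ∈ (RelProj.emb p chart U hU).opensRange := by
    rw [EGA2Misc.opensRange_emb]
    exact hxU
  replace hU : IsAffineOpen U := hU
  obtain ⟨e₀, he₀⟩ := exists_gen_notMem hE hj U hU w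
  let e := RelProj.emb p chart U hU
  let f := tgen j e₀
  have hf : f ∈ 𝒯.deg U hU 1 := tgen_mem hj hU e₀
  let T := T₀ j chart U hU e₀
  have hTaff : IsAffineOpen T := by
    have := isAffineOpen_opensRange (Proj.awayι (𝒯.deg U hU) f hf one_pos ≫ e)
    rwa [Scheme.Hom.opensRange_comp, Proj.opensRange_awayι] at this
  obtain ⟨_, ⟨V, hV, rfl⟩, hxV, hVT⟩ :=
    X.isBasis_affineOpens.exists_subset_of_mem_open (show τ z ∈ i ⁻¹ᵁ T from ⟨w, he₀, hw⟩) (i ⁻¹ᵁ T).2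
  replace hVT : V ≤ i ⁻¹ᵁ T := hVT
  replace hV : IsAffineOpen V := hV
  have hle : V ≤ (i ≫ p) ⁻¹ᵁ U := le_trans hVT (i.preimage_mono (T₀_le U hU e₀))
  let ψ := u.gradedAt U hU V hV hle
  let t := tgen jL (mres L hVT (l₀ (chart := chart) (j := j) φ i g U hU e₀))
  have hcoef : ∀ (k : ℕ) (a : 𝒯.presheaf.obj (op U)) (ha : a ∈ 𝒯.deg U hU k),
      ψ a = (𝒮L.str.app (op V)).hom (i.appLE T V hVT (rho hj chart U hU e₀ k a ha)) * t ^ k := fun k a ha => by
    show (u.appLE U V hle).hom a = _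
    rw [show (u.appLE U V hle).hom a = ares 𝒮L.toQCAlg hVT ((u.appLE U (i ⁻¹ᵁ T)
        (i.preimage_mono (T₀_le U hU e₀))).hom a) from
        (ConcreteCategory.congr_hom (RelSpec.QHom.appLE_map u.toQHom (i.preimage_mono (T₀_le U hU e₀)) hVT) a).symm,
      appLE_eq_coeff hE hj hP hO1 φ hφ hjL i g u hu U hU e₀ a ha, map_mul, map_pow, ares_str]
    exact congrArg (fun s => _ * s ^ k) (res_tgen hjL hVT)
  have hψf : ψ f = t := by
    show (u.appLE U V hle).hom (tgen j e₀) = _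
    refine ((ares_appLE u U V hle _).symm.trans (congrArg _ ((appLE_self_apply u U _).trans (hu U hU e₀)))).trans ?_
    refine (res_tgen hjL hle (e := genSec φ i g e₀)).trans ?_
    exact congrArg (tgen jL) (mres_mres L (i.preimage_mono (T₀_le U hU e₀)) hVT (genSec φ i g e₀)).symm
  let dc := EGA2Misc.domChart u pL chartL U hU V hV hle one_pos f hf
  haveI : IsOpenImmersion dc := inferInstance
  have hzdc : z ∈ dc.opensRange := by
    rw [EGA2Misc.mem_domChart]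
    have h1 : ψ f = (𝒮L.str.app (op V)).hom 1 * t ^ 1 := by rw [map_one, one_mul, pow_one, hψf]
    show z.1 ∈ RelProj.emb pL chartL V hV ''ᵁ Proj.basicOpen (𝒮L.deg V hV) (ψ f)
    rw [h1]
    refine (mem_emb_frame_iff hjL hLq hV ((isFrame_l₀ hj hO1 φ hφ i g U hU e₀).res hVT) hPL _ 1 one_pos z.1 hxV).2 ?_
    rw [X.basicOpen_of_isUnit isUnit_one]
    exact hxV
  refine ⟨_, dc, inferInstance, hzdc, ?_⟩
  let β : Γ(X, V) →+* Away (𝒮L.deg V hV) (ψ f) :=
    (fromZeroRingHom (𝒮L.deg V hV) (Submonoid.powers (ψ f))).comp (𝒮L.strZero V hV).hom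
  have hdcτ : dc ≫ τ = Spec.map (CommRingCat.ofHom β) ≫ hV.fromSpec := by
    rw [← Category.assoc, EGA2Misc.domChart_ι, RelProj.awayEmb, Category.assoc, EGA2Misc.emb_comp hPL,
      Proj.awayι_toSpecZero_assoc, ← Category.assoc, ← Spec.map_comp]
    rfl
  have hdcr : dc ≫ r = Spec.map (CommRingCat.ofHom (Away.map ψ f)) ≫ (Proj.awayι (𝒯.deg U hU) f hf one_pos ≫ e) :=
    hr U hU V hV hle 1 one_pos f hf _
  have hR : ⊤ ≤ (Proj.awayι (𝒯.deg U hU) f hf one_pos) ⁻¹ᵁ Proj.basicOpen (𝒯.deg U hU) f := fun z _ =>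
    (Proj.opensRange_awayι (𝒯.deg U hU) f hf one_pos).le ⟨z, rfl⟩
  have hT' : ⊤ ≤ (Proj.awayι (𝒯.deg U hU) f hf one_pos ≫ e) ⁻¹ᵁ T := fun z _ => ⟨_, hR trivial, rfl⟩
  have h' : ⊤ ≤ hV.fromSpec ⁻¹ᵁ V := hV.fromSpec_preimage_self.ge
  have ha : ⊤ ≤ (dc ≫ r) ⁻¹ᵁ T := by
    rw [hdcr]
    exact fun z _ => hT' trivial
  have hb0 : ⊤ ≤ (dc ≫ τ) ⁻¹ᵁ V := by
    rw [hdcτ]
    exact fun z _ => h' trivial
  have hb : ⊤ ≤ (dc ≫ τ ≫ i) ⁻¹ᵁ T := fun z _ => hVT (hb0 (show z ∈ ⊤ from trivial))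
  refine eq_of_appLE_top _ _ hTaff ha hb fun G => ?_
  obtain ⟨k, a, ha', hka⟩ : ∃ (k : ℕ) (a : 𝒯.presheaf.obj (op U)) (ha : a ∈ 𝒯.deg U hU k),
      G = rho hj chart U hU e₀ k a ha := by
    obtain ⟨k, a, ha', hk, hka⟩ := GrModLib.exists_eq_awayToSection (𝒯.deg U hU) one_pos hf ((e.appIso _).hom G)
    refine ⟨k, a, by simpa using ha', ?_⟩
    rw [rho, show G = (e.appIso _).inv ((e.appIso _).hom G) from (Iso.hom_inv_id_apply _ _).symm]
    exact congrArg _ hka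
  subst hka
  have hr1 : ∀ (m : Spec (CommRingCat.of (Away (𝒮L.deg V hV) (ψ f))) ⟶ P) (_ : dc ≫ r = m) (h : ⊤ ≤ m ⁻¹ᵁ T) (g : Γ(P, T)),
      (dc ≫ r).appLE T ⊤ ha g = m.appLE T ⊤ h g := by rintro _ rfl h g; rfl
  have hr2 : ∀ (m : Spec (CommRingCat.of (Away (𝒮L.deg V hV) (ψ f))) ⟶ X) (_ : dc ≫ τ = m) (h : ⊤ ≤ m ⁻¹ᵁ V) (g : Γ(X, V)),
      (dc ≫ τ).appLE V ⊤ hb0 g = m.appLE V ⊤ h g := by rintro _ rfl h g; rfl
  refine ((ConcreteCategory.isIso_iff_bijective (Scheme.ΓSpecIso _).hom).1 inferInstance).1 ?_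
  have e1 : (Scheme.ΓSpecIso _).hom ((dc ≫ r).appLE T ⊤ ha (rho hj chart U hU e₀ k a ha')) =
      Away.map ψ f (Away.mk _ hf k a (mem_smul_one hj ha')) := by
    rw [hr1 _ hdcr (fun z _ => hT' trivial), specMap_appLE_apply _ _ _ _ hT']
    refine congrArg (Away.map ψ f) ?_
    have h2 : (Proj.awayι (𝒯.deg U hU) f hf one_pos ≫ e).appLE T ⊤ hT' (rho hj chart U hU e₀ k a ha') =
        (Proj.awayι (𝒯.deg U hU) f hf one_pos).appLE _ ⊤ hR
          ((Proj.awayToSection (𝒯.deg U hU) f).hom (Away.mk _ hf k a (mem_smul_one hj ha'))) := by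
      rw [← Scheme.Hom.appLE_comp_appLE _ e T (Proj.basicOpen (𝒯.deg U hU) f) ⊤ (e.preimage_image_eq _).ge hR,
        CommRingCat.comp_apply]
      refine congrArg _ ?_
      show (e.appLE (e ''ᵁ Proj.basicOpen (𝒯.deg U hU) f) (Proj.basicOpen (𝒯.deg U hU) f)
        (e.preimage_image_eq _).ge) _ = _
      rw [← Scheme.Hom.appIso_hom' e (Proj.basicOpen (𝒯.deg U hU) f)]
      exact Iso.inv_hom_id_apply _ _
    rw [h2]
    have h3 := congr(($(GrModLib.awayToSection_awayι_appLE (𝒯.deg U hU) hf one_pos hR)).hom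
      (Away.mk _ hf k a (mem_smul_one hj ha')))
    exact (congrArg _ h3).trans (Iso.inv_hom_id_apply _ _)
  have e2 : (Scheme.ΓSpecIso _).hom ((dc ≫ τ ≫ i).appLE T ⊤ hb (rho hj chart U hU e₀ k a ha')) =
      β (i.appLE T V hVT (rho hj chart U hU e₀ k a ha')) := by
    have h4 : (dc ≫ τ ≫ i).appLE T ⊤ hb (rho hj chart U hU e₀ k a ha') =
        (dc ≫ τ).appLE V ⊤ hb0 (i.appLE T V hVT (rho hj chart U hU e₀ k a ha')) := by
      rw [← CommRingCat.comp_apply, Scheme.Hom.appLE_comp_appLE]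
      rfl
    rw [h4, hr2 _ hdcτ (fun z _ => h' trivial), specMap_appLE_apply _ _ _ _ h']
    refine congrArg β ?_
    rw [Scheme.Hom.appLE, Scheme.Hom.appLE, hV.fromSpec_app_self]
    simp only [Category.assoc, ← Functor.map_comp]
    rw [show ((eqToHom hV.fromSpec_preimage_self).op ≫ (homOfLE h').op : op ⊤ ⟶ op ⊤) = 𝟙 _ from rfl,
      CategoryTheory.Functor.map_id, Category.comp_id]
    exact Iso.inv_hom_id_apply _ _
  refine e1.trans (Eq.trans ?_ e2.symm)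
  refine HomogeneousLocalization.val_injective _ ?_
  rw [Away.map_mk, Away.val_mk]
  show _ = Localization.mk ((𝒮L.str.app (op V)).hom (i.appLE T V hVT (rho hj chart U hU e₀ k a ha'))) 1
  rw [Localization.mk_eq_mk_iff, Localization.r_iff_exists]
  refine ⟨1, ?_⟩
  simp only [OneMemClass.coe_one, one_mul]
  rw [hcoef k a ha', hψf]
  ring

end Bundle

section Comp

variable {Y Y' X P P' PL : Scheme.{u}} {g : Y' ⟶ Y} {f : X ⟶ Y'}
  {𝒯 : RelProj.QCGrAlg Y} {𝒯' : RelProj.QCGrAlg Y'} {𝒮L : RelProj.QCGrAlg X}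
  (u : RelProj.QGrHom (f ≫ g) 𝒯 𝒮L) (v : RelProj.QGrHom g 𝒯 𝒯') (u' : RelProj.QGrHom f 𝒯' 𝒮L)
  (hc : ∀ (U : Y.Opens), IsAffineOpen U → ∀ (U' : Y'.Opens), IsAffineOpen U' → ∀ (hle : U' ≤ g ⁻¹ᵁ U)
    (a : 𝒯.presheaf.obj (op U)),
    (u'.app U').hom ((v.appLE U U' hle).hom a) = (u.appLE U (f ⁻¹ᵁ U') (f.preimage_mono hle)).hom a)
  {p : P ⟶ Y} {chart : ∀ (U : Y.Opens) (hU : IsAffineOpen U), (((p ⁻¹ᵁ U : P.Opens) : Scheme.{u}) ≅ Proj (𝒯.deg U hU))}
  (hP : RelProj.IsRelProj 𝒯 p chart)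
  {p' : P' ⟶ Y'} {chart' : ∀ (U : Y'.Opens) (hU : IsAffineOpen U), (((p' ⁻¹ᵁ U : P'.Opens) : Scheme.{u}) ≅ Proj (𝒯'.deg U hU))}
  (hP' : RelProj.IsRelProj 𝒯' p' chart')
  {pL : PL ⟶ X} {chartL : ∀ (V : X.Opens) (hV : IsAffineOpen V), (((pL ⁻¹ᵁ V : PL.Opens) : Scheme.{u}) ≅ Proj (𝒮L.deg V hV))}
  (hPL : RelProj.IsRelProj 𝒮L pL chartL)
  {h : P' ⟶ P} (hh : RelProj.IsProjQMap v p chart p' chart' h)
  {r : ((RelProj.domQ u pL chartL : PL.Opens) : Scheme.{u}) ⟶ P}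
  (hr : RelProj.IsProjQMapOn u p chart pL chartL (RelProj.domQ u pL chartL) r)
  {r' : ((RelProj.domQ u' pL chartL : PL.Opens) : Scheme.{u}) ⟶ P'}
  (hr' : RelProj.IsProjQMapOn u' p' chart' pL chartL (RelProj.domQ u' pL chartL) r')

include hc in
theorem gradedAt_baseChange (U : Y.Opens) (hU : IsAffineOpen U) (U' : Y'.Opens) (hU' : IsAffineOpen U')
    (V : X.Opens) (hV : IsAffineOpen V) (hle : U' ≤ g ⁻¹ᵁ U) (hle' : V ≤ f ⁻¹ᵁ U') (hle'' : V ≤ (f ≫ g) ⁻¹ᵁ U)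
    (a : 𝒯.presheaf.obj (op U)) :
    u'.gradedAt U' hU' V hV hle' (v.gradedAt U hU U' hU' hle a) = u.gradedAt U hU V hV hle'' a := by
  show ares 𝒮L.toQCAlg hle' ((u'.app U').hom ((v.appLE U U' hle).hom a)) = (u.appLE U V hle'').hom a
  rw [hc U hU U' hU' hle a]
  exact ConcreteCategory.congr_hom (RelSpec.QHom.appLE_map u.toQHom (f.preimage_mono hle) hle') a

include hc hPL in
/-- small charts of `G(u)` factor through affine opens of the intermediate base -/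
theorem exists_small_chart (z : (RelProj.domQ u pL chartL : PL.Opens)) :
    ∃ (U : Y.Opens) (hU : IsAffineOpen U) (U' : Y'.Opens) (hU' : IsAffineOpen U') (V : X.Opens) (hV : IsAffineOpen V)
      (hle : U' ≤ g ⁻¹ᵁ U) (hle' : V ≤ f ⁻¹ᵁ U') (hle'' : V ≤ (f ≫ g) ⁻¹ᵁ U) (d : ℕ) (hd : 0 < d)
      (a : 𝒯.presheaf.obj (op U)) (ha : a ∈ 𝒯.deg U hU d),
      z ∈ (EGA2Misc.domChart u pL chartL U hU V hV hle'' hd a ha).opensRange := by
  obtain ⟨U, hU, V₀, hV₀, hle₀, d, hd, a, ha, hz⟩ := EGA2Misc.domChart_cover u z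
  have hz' := (EGA2Misc.mem_domChart u z U hU V₀ hV₀ hle₀ hd a ha).1 hz
  have hzV : pL z.1 ∈ V₀ := EGA2Misc.mem_of_mem_emb hz'
  obtain ⟨_, ⟨U', hU', rfl⟩, hxU', hU'U⟩ := Y'.isBasis_affineOpens.exists_subset_of_mem_open
    (show f (pL z.1) ∈ g ⁻¹ᵁ U from hle₀ hzV) (g ⁻¹ᵁ U).2
  obtain ⟨s, hs, hxs⟩ := hV₀.exists_basicOpen_le (V := f ⁻¹ᵁ U') ⟨pL z.1, hxU'⟩ hzV
  have hVV : X.basicOpen s ≤ V₀ := X.basicOpen_le s
  refine ⟨U, hU, U', hU', X.basicOpen s, hV₀.basicOpen s, hU'U, hs, hVV.trans hle₀, d, hd, a, ha, ?_⟩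
  rw [EGA2Misc.mem_domChart]
  have h1 := (EGA2Misc.mem_emb_res_iff hPL V₀ hV₀ _ (hV₀.basicOpen s) s rfl hVV z.1 hxs _).2 hz'
  convert h1 using 3
  show (u.appLE U _ _).hom a = (u.appLE U V₀ hle₀ ≫ 𝒮L.presheaf.map (homOfLE hVV).op).hom a
  rw [RelSpec.QHom.appLE_map]

include hc hP hP' hPL hh hr hr' in
/-- transitivity: the map of `u` is the map of `u'` followed by `Proj(v)` -/
theorem exists_comp_baseChange :
    ∃ hle : RelProj.domQ u pL chartL ≤ RelProj.domQ u' pL chartL, r = PL.homOfLE hle ≫ r' ≫ h := by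
  have key : ∀ z : (RelProj.domQ u pL chartL : PL.Opens), z.1 ∈ RelProj.domQ u' pL chartL := fun z => by
    obtain ⟨U, hU, U', hU', V, hV, hle, hle', hle'', d, hd, a, ha, hz⟩ := exists_small_chart u v u' hc hPL z
    refine EGA2Misc.mem_domQ_of_mem_emb u' U' hU' V hV hle' hd _ ((v.gradedAt U hU U' hU' hle).map_mem ha) z.1 ?_
    have e0 := gradedAt_baseChange u v u' hc U hU U' hU' V hV hle hle' hle'' a
    exact (congrArg (fun b => z.1 ∈ RelProj.emb pL chartL V hV ''ᵁ Proj.basicOpen (𝒮L.deg V hV) b) e0).mpr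
      ((EGA2Misc.mem_domChart u z U hU V hV hle'' hd a ha).1 hz)
  have hle0 : RelProj.domQ u pL chartL ≤ RelProj.domQ u' pL chartL := fun x hx => key ⟨x, hx⟩
  refine ⟨hle0, hom_ext_of_opens _ _ fun z => ?_⟩
  obtain ⟨U, hU, U', hU', V, hV, hle, hle', hle'', d, hd, a, ha, hz⟩ := exists_small_chart u v u' hc hPL z
  refine ⟨_, EGA2Misc.domChart u pL chartL U hU V hV hle'' hd a ha, inferInstance, hz, ?_⟩
  let χ := u.gradedAt U hU V hV hle''
  let χ' := u'.gradedAt U' hU' V hV hle'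
  let ν := v.gradedAt U hU U' hU' hle
  have hb : ν a ∈ 𝒯'.deg U' hU' d := ν.map_mem ha
  obtain ⟨ω, hω, hωmk⟩ := EGA2Misc.exists_away_cast hd (χ.map_mem ha) (χ'.map_mem hb)
    (gradedAt_baseChange u v u' hc U hU U' hU' V hV hle hle' hle'' a)
  have hcu : EGA2Misc.domChart u pL chartL U hU V hV hle'' hd a ha ≫ PL.homOfLE hle0 =
      Spec.map (CommRingCat.ofHom ω) ≫ EGA2Misc.domChart u' pL chartL U' hU' V hV hle' hd (ν a) hb := by
    rw [← cancel_mono (RelProj.domQ u' pL chartL).ι, Category.assoc, Category.assoc, Scheme.homOfLE_ι,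
      EGA2Misc.domChart_ι, EGA2Misc.domChart_ι]
    exact (congrArg (· ≫ RelProj.emb pL chartL V hV) hω).trans (Category.assoc _ _ _)
  have hmid : EGA2Misc.domChart u' pL chartL U' hU' V hV hle' hd (ν a) hb ≫ r' =
      Spec.map (CommRingCat.ofHom (Away.map χ' (ν a))) ≫
        Proj.awayι (𝒯'.deg U' hU') (ν a) hb hd ≫ RelProj.emb p' chart' U' hU' :=
    hr' U' hU' V hV hle' d hd (ν a) hb _
  have hlast : RelProj.awayEmb v p' chart' U hU U' hU' hle hd a ha ≫ h =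
      Spec.map (CommRingCat.ofHom (Away.map ν a)) ≫
        Proj.awayι (𝒯.deg U hU) a ha hd ≫ RelProj.emb p chart U hU := hh.2 U hU U' hU' hle d hd a ha
  have hfirst : EGA2Misc.domChart u pL chartL U hU V hV hle'' hd a ha ≫ r =
      Spec.map (CommRingCat.ofHom (Away.map χ a)) ≫
        Proj.awayι (𝒯.deg U hU) a ha hd ≫ RelProj.emb p chart U hU :=
    hr U hU V hV hle'' d hd a ha _
  rw [hfirst, reassoc_of% hcu, reassoc_of% hmid]
  refine Eq.trans ?_ (congrArg (fun m => Spec.map (CommRingCat.ofHom ω) ≫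
    Spec.map (CommRingCat.ofHom (Away.map χ' (ν a))) ≫ m) hlast).symm
  have hring : (ω.comp (Away.map χ' (ν a))).comp (Away.map ν a) = Away.map χ a := by
    refine RingHom.ext fun q => ?_
    obtain ⟨n, b, hb', rfl⟩ := Away.mk_surjective (𝒯.deg U hU) ha q
    rw [RingHom.comp_apply, RingHom.comp_apply, Away.map_mk]
    refine (congrArg ω (Away.map_mk χ' (ν a) hb n (ν b) (ν.map_mem hb'))).trans ?_
    refine Eq.trans ?_ (Away.map_mk χ a ha n b hb').symm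
    refine (hωmk n _ _).trans ?_
    refine HomogeneousLocalization.val_injective _ ?_
    rw [Away.val_mk, Away.val_mk]
    congr 1
    exact gradedAt_baseChange u v u' hc U hU U' hU' V hV hle hle' hle'' b
  rw [← hring, CommRingCat.ofHom_comp, CommRingCat.ofHom_comp, Spec.map_comp, Spec.map_comp]
  simp only [Category.assoc]

end Comp

/-- base change of a projective bundle and of its fundamental sheaf -/
theorem exists_bundle_baseChange {Y Y' P : Scheme.{u}} (g : Y' ⟶ Y) {E : Y.Modules} (hE : Coh.IsQCoh E)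
    {𝒯 : RelProj.QCGrAlg Y} {j : E ⟶ 𝒯.toModule} (hj : RelProj.IsGrSymAlg E 𝒯 j) {p : P ⟶ Y}
    {chart : ∀ (U : Y.Opens) (hU : IsAffineOpen U), (((p ⁻¹ᵁ U : P.Opens) : Scheme.{u}) ≅ Proj (𝒯.deg U hU))}
    (hP : RelProj.IsRelProj 𝒯 p chart) {O1 : P.Modules}
    {lam : ∀ (U : Y.Opens) (hU : IsAffineOpen U),
      O1 ⟶ (Scheme.Modules.pushforward (RelProj.emb p chart U hU)).obj (GrTwist.twist (𝒯.deg U hU) 1)}
    (hO1 : RelProj.IsRelTwist 𝒯 p chart 1 O1 lam) :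
    ∃ (𝒯' : RelProj.QCGrAlg Y') (j' : (Scheme.Modules.pullback g).obj E ⟶ 𝒯'.toModule)
      (_ : Coh.IsQCoh ((Scheme.Modules.pullback g).obj E))
      (_ : RelProj.IsGrSymAlg ((Scheme.Modules.pullback g).obj E) 𝒯' j') (P' : Scheme.{u}) (p' : P' ⟶ Y')
      (chart' : ∀ (U : Y'.Opens) (hU : IsAffineOpen U), (((p' ⁻¹ᵁ U : P'.Opens) : Scheme.{u}) ≅ Proj (𝒯'.deg U hU)))
      (_ : RelProj.IsRelProj 𝒯' p' chart') (O1' : P'.Modules)
      (lam' : ∀ (U : Y'.Opens) (hU : IsAffineOpen U),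
        O1' ⟶ (Scheme.Modules.pushforward (RelProj.emb p' chart' U hU)).obj (GrTwist.twist (𝒯'.deg U hU) 1))
      (_ : RelProj.IsRelTwist 𝒯' p' chart' 1 O1' lam') (h : P' ⟶ P),
      IsPullback h p' p g ∧ Nonempty ((Scheme.Modules.pullback h).obj O1 ≅ O1') := by
  haveI : E.IsQuasicoherent := hE
  let E' := (Scheme.Modules.pullback g).obj E
  have hE' : Coh.IsQCoh E' := QCohPull.isQuasicoherent_pullback g E
  obtain ⟨𝒯', j', hj'⟩ := exists_isGrSymAlg E' hE'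
  obtain ⟨P', p', chart', hP'⟩ := exists_isRelProj 𝒯'
  obtain ⟨O1', lam', hO1'⟩ := exists_isRelTwist hP' 1
  obtain ⟨v, hv⟩ := exists_qGrHom (g := g) E hj hE j' (fun V hV x => hj'.2 V hV x)
  have hb := isQBaseChange_sym E hE hj.1 hj'.1 v.toQHom hv
  obtain ⟨h, hh⟩ := exists_isProjQMap v hb hP hP'
  have hpb := isPullback_projQMap v hb hP hP' h hh
  refine ⟨𝒯', j', hE', hj', P', p', chart', hP', O1', lam', hO1', h, hpb, ?_⟩
  let L := (Scheme.Modules.pullback h).obj O1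
  have hL : PicF.IsInvertible L :=
    GenLocus.isInvertible_pullback h (isInvertible_relTwist (grSymAlg_isGenDegOne hE hj) hO1)
  have hLq := TensorMod.isQCoh_of_isInvertible hL
  obtain ⟨𝒮L, jL, hjL⟩ := exists_isGrSymAlg L hLq
  obtain ⟨PL, pL, chartL, hPL⟩ := exists_isRelProj 𝒮L
  obtain ⟨φ, hφ⟩ := exists_canMap (lam := lam) hP hj hO1
  obtain ⟨u₀, hu₀⟩ := exists_bundle_hom hE hj φ hjL h (Iso.refl L)
  have key0 : ∀ (q : P' ⟶ Y) (hq : h ≫ p = q), ∃ (u : RelProj.QGrHom q 𝒯 𝒮L) (σq : E ⟶ (Scheme.Modules.pushforward q).obj L),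
      (∀ (U : Y.Opens), IsAffineOpen U → ∀ e : Γ(E, U), (u.app U).hom (tgen j e) = jL.app _ (σq.app U e)) ∧
      RelProj.domQ u pL chartL = ⊤ ∧ ∀ r, RelProj.IsProjQMapOn u p chart pL chartL (RelProj.domQ u pL chartL) r →
        r = ((RelProj.domQ u pL chartL).ι ≫ pL) ≫ h := by
    rintro q rfl
    obtain ⟨u, hu⟩ := exists_bundle_hom hE hj φ hjL h (Iso.refl L)
    refine ⟨u, φ ≫ (Scheme.Modules.pushforward p).map
      ((Scheme.Modules.pullbackPushforwardAdjunction h).unit.app O1) ≫ (Scheme.Modules.pushforwardComp h p).hom.app L,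
      fun U hU e => hu U hU e,
      bundle_domQ_eq_top hE hj hP hO1 φ hφ hjL hLq hL h (Iso.refl L) u hu hPL,
      fun r hr => qmap_eq_comp hE hj hP hO1 φ hφ hjL hLq hL h (Iso.refl L) u hu hPL r hr⟩
  obtain ⟨u, σq, hu, htop, heq⟩ := key0 (p' ≫ g) hpb.w
  let σ₀ : E ⟶ (Scheme.Modules.pushforward g).obj ((Scheme.Modules.pushforward p').obj L) :=
    σq ≫ (Scheme.Modules.pushforwardComp p' g).inv.app L
  let σ' : E' ⟶ (Scheme.Modules.pushforward p').obj L :=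
    ((Scheme.Modules.pullbackPushforwardAdjunction g).homEquiv E _).symm σ₀
  obtain ⟨u', hu'⟩ := exists_qGrHom_sigma (q := p') hE' hj' hjL σ'
  have hσ' : ∀ (U : Y.Opens) (e : Γ(E, U)), σ'.app (g ⁻¹ᵁ U) (pullSec g E U e) =
      (show Γ(L, p' ⁻¹ᵁ (g ⁻¹ᵁ U)) from σq.app U e) := fun U e => by
    have h2 := Adjunction.homEquiv_unit (Scheme.Modules.pullbackPushforwardAdjunction g) E _ σ'
    rw [Equiv.apply_symm_apply] at h2
    exact (congr($(congrArg (fun f ↦ Scheme.Modules.Hom.app f U) h2) e)).symm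
  have hc : ∀ (U : Y.Opens), IsAffineOpen U → ∀ (U' : Y'.Opens), IsAffineOpen U' → ∀ (hle : U' ≤ g ⁻¹ᵁ U)
      (a : 𝒯.presheaf.obj (op U)), (u'.app U').hom ((v.appLE U U' hle).hom a) =
        (u.appLE U (p' ⁻¹ᵁ U') (p'.preimage_mono hle)).hom a := by
    intro U hU U' hU' hle a
    refine RingHom.congr_fun (hom_ext_sym E hE hj.1 hU (f := (u'.app U').hom.comp (v.appLE U U' hle).hom)
      (h := (u.appLE U (p' ⁻¹ᵁ U') (p'.preimage_mono hle)).hom) (fun r => ?_) fun e => ?_) a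
    · show (u'.app U').hom ((v.appLE U U' hle).hom ((𝒯.str.app (op U)).hom r)) = _
      refine (congrArg _ (ConcreteCategory.congr_hom (v.toQHom.str_appLE U U' hle) r)).trans ?_
      refine (ConcreteCategory.congr_hom (u'.str_app U') ((g.appLE U U' hle).hom r)).trans ?_
      refine Eq.trans ?_ (ConcreteCategory.congr_hom (u.toQHom.str_appLE U (p' ⁻¹ᵁ U') (p'.preimage_mono hle)) r).symm
      refine congrArg (𝒮L.str.app (op (p' ⁻¹ᵁ U'))).hom ?_
      show (g.appLE U U' hle ≫ p'.app U').hom r = _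
      rw [Scheme.Hom.app_eq_appLE, Scheme.Hom.appLE_comp_appLE]
      rfl
    · show (u'.app U').hom ((v.appLE U U' hle).hom (tgen j e)) = (u.appLE U _ _).hom (tgen j e)
      have e1 : (v.appLE U U' hle).hom (tgen j e) = tgen j' (mres E' hle (pullSec g E U e)) := by
        refine ((ares_appLE v U U' hle _).symm.trans (congrArg _ ((appLE_self_apply v U _).trans (hv U hU e)))).trans ?_
        exact res_tgen hj' hle
      rw [e1, hu' U' hU']
      refine Eq.trans ?_ (((ares_appLE u U _ (p'.preimage_mono hle) _).symm.trans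
        (congrArg _ ((appLE_self_apply u U _).trans (hu U hU e)))).trans (res_tgen hjL (p'.preimage_mono hle))).symm
      refine congrArg (jL.app (p' ⁻¹ᵁ U')) ?_
      rw [← app_mres σ' hle, hσ']
      rfl
  obtain ⟨r, hr, -⟩ := EGA2Misc.existsUnique_projQMapOn u hP hPL
  obtain ⟨r', hr', -⟩ := EGA2Misc.existsUnique_projQMapOn u' hP' hPL
  obtain ⟨hle, hcomp⟩ := exists_comp_baseChange u v u' hc hP hP' hPL hh hr hr'
  haveI := isIso_pL hjL hLq hPL hL
  have htop' : RelProj.domQ u' pL chartL = ⊤ := eq_top_iff.2 (htop.ge.trans hle)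
  haveI : IsIso (RelProj.domQ u pL chartL).ι := by rw [htop]; exact inferInstanceAs (IsIso PL.topIso.hom)
  haveI : IsIso (RelProj.domQ u' pL chartL).ι := by rw [htop']; exact inferInstanceAs (IsIso PL.topIso.hom)
  haveI : IsIso (PL.homOfLE hle) := by
    haveI : IsIso (PL.homOfLE hle ≫ (RelProj.domQ u' pL chartL).ι) := by rw [Scheme.homOfLE_ι]; infer_instance
    exact IsIso.of_isIso_comp_right _ (RelProj.domQ u' pL chartL).ι
  have hp' : r' ≫ p' = (RelProj.domQ u' pL chartL).ι ≫ pL ≫ p' := EGA2Misc.projQMapOn_comp u' hP' hPL r' hr'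
  have hr'eq : r' = (RelProj.domQ u' pL chartL).ι ≫ pL := by
    rw [← cancel_epi (PL.homOfLE hle)]
    refine hpb.hom_ext ?_ ?_
    · rw [Category.assoc, ← hcomp, heq r hr, Scheme.homOfLE_ι_assoc]
    · simp only [Category.assoc, hp']
  subst hr'eq
  obtain ⟨e⟩ := nonempty_pullback_qmap_one u' hjL hLq hL hP' hPL hr' hO1' (grSymAlg_isGenDegOne hE' hj')
  let τ := (RelProj.domQ u' pL chartL).ι ≫ pL
  exact ⟨((Scheme.Modules.pullbackId P').app L).symm ≪≫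
    (Scheme.Modules.pullbackCongr (IsIso.inv_hom_id τ).symm).app L ≪≫
    ((Scheme.Modules.pullbackComp (inv τ) τ).app L).symm ≪≫ (Scheme.Modules.pullback (inv τ)).mapIso e.symm ≪≫
    (Scheme.Modules.pullbackComp (inv τ) τ).app O1' ≪≫
    (Scheme.Modules.pullbackCongr (IsIso.inv_hom_id τ)).app O1' ≪≫ (Scheme.Modules.pullbackId P').app O1'⟩

end Groth.Agent.SymAlgRel
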