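import Mathlib
import Groth.Agent.SymAlgRel.VABundle
import Groth.Agent.SymAlgRel.SectBC
import Groth.Agent.DCohBridge.QCohTensor
import Groth.Agent.GenLocus.Tensor
import Groth.Agent.QCohBase.CohProps
import Groth.Prelude.Def_KoszTw

/-!
# Tensor products of very ample modules
-/

set_option autoImplicit false
set_option synthInstance.maxHeartbeats 200000
set_option backward.isDefEq.respectTransparency false
set_option backward.isDefEq.respectTransparency.types false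

noncomputable section

universe u

open CategoryTheory CategoryTheory.Limits AlgebraicGeometry TopologicalSpace Opposite RelSpec
open Groth.Agent.QCohBase Groth.Agent.GenLocus
open scoped HomogeneousIdeal

namespace Groth.Agent.SymAlgRel

variable {Y X PL : Scheme.{u}} {q : X ⟶ Y} {L : X.Modules} {𝒮L : RelProj.QCGrAlg X} {jL : L ⟶ 𝒮L.toModule}

section Refine

variable {𝒮 : RelProj.QCGrAlg Y} (u : RelProj.QGrHom q 𝒮 𝒮L)
  {pL : PL ⟶ X} {chartL : ∀ (U : X.Opens) (hU : IsAffineOpen U), (((pL ⁻¹ᵁ U : PL.Opens) : Scheme.{u}) ≅ Proj (𝒮L.deg U hU))}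
  (hjL : RelProj.IsGrSymAlg L 𝒮L jL) (hLq : Coh.IsQCoh L) (hL : PicF.IsInvertible L)
  (hPL : RelProj.IsRelProj 𝒮L pL chartL)

include hjL hLq hL hPL in
theorem xs_mul (U : Y.Opens) (hU : IsAffineOpen U) {a b : ℕ} (ha : 0 < a) (hb : 0 < b)
    (f g : 𝒮.presheaf.obj (op U)) (hf : f ∈ 𝒮.deg U hU a) (hg : g ∈ 𝒮.deg U hU b) :
    xs u U (a + b) (f * g) = xs u U a f ⊓ xs u U b g := by
  refine SetLike.ext fun x => ?_
  by_cases hx : x ∈ q ⁻¹ᵁ U
  swap
  · exact ⟨fun h => absurd (xs_le u U _ _ h) hx, fun h => absurd (xs_le u U _ _ h.1) hx⟩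
  obtain ⟨V, hV, hxV, hVU, e, he⟩ := exists_isFrame hL hx
  obtain ⟨c, hc⟩ := exists_eq_of_mem_deg hjL hLq hV he ((u.gradedAt U hU V hV hVU).map_mem hf)
  obtain ⟨c', hc'⟩ := exists_eq_of_mem_deg hjL hLq hV he ((u.gradedAt U hU V hV hVU).map_mem hg)
  have hcc : (u.appLE U V hVU).hom (f * g) = (𝒮L.str.app (op V)).hom (c * c') * tgen jL e ^ (a + b) := by
    rw [map_mul, map_mul, pow_add]
    refine (congrArg₂ (· * ·) hc hc').trans ?_
    ring
  show x ∈ xs u U (a + b) (f * g) ↔ x ∈ xs u U a f ∧ x ∈ xs u U b g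
  rw [mem_xs, mem_xs, mem_xs,
    genAt_iff_basicOpen u hjL hLq hL hPL U hU (by omega) _ (SetLike.mul_mem_graded hf hg) hV hVU he hcc hxV,
    genAt_iff_basicOpen u hjL hLq hL hPL U hU ha _ hf hV hVU he hc hxV,
    genAt_iff_basicOpen u hjL hLq hL hPL U hU hb _ hg hV hVU he hc' hxV, Scheme.basicOpen_mul]
  exact Iff.rfl

include hjL hLq hL hPL in
/-- good elements can be taken inside any neighbourhood -/
theorem exists_good_le (U : Y.Opens) (hU : IsAffineOpen U) {d : ℕ} (hd : 0 < d) (f : 𝒮.presheaf.obj (op U))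
    (hf : f ∈ 𝒮.deg U hU d) {x : X} (hx : x ∈ xs u U d f) (hT : IsAffineOpen (xs u U d f))
    (hF : Frac u U hU (xs u U d f) (xs_le u U d f) d f) (G : X.Opens) (hG : x ∈ G) :
    ∃ (d' : ℕ) (_ : 0 < d') (g : 𝒮.presheaf.obj (op U)) (_ : g ∈ 𝒮.deg U hU d'),
      x ∈ xs u U d' g ∧ IsAffineOpen (xs u U d' g) ∧ xs u U d' g ≤ G ∧
        Frac u U hU (xs u U d' g) (xs_le u U d' g) d' g := by
  let T := xs u U d f
  obtain ⟨t, ht, hxt⟩ := hT.exists_basicOpen_le (V := G) ⟨x, hG⟩ hx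
  obtain ⟨m, hm, a, ha, hta⟩ := hF t
  have hmd : 0 < m * d := Nat.mul_pos hm hd
  have hg : a * f ∈ 𝒮.deg U hU (m * d + d) := SetLike.mul_mem_graded ha hf
  have hxa : xs u U (m * d) a ⊓ T = X.basicOpen t := by
    refine SetLike.ext fun y => ?_
    by_cases hy : y ∈ T
    swap
    · exact ⟨fun h => absurd h.2 hy, fun h => absurd (X.basicOpen_le t h) hy⟩
    obtain ⟨V, hV, hyV, hVT, e, he⟩ := exists_isFrame hL hy
    have hle : V ≤ q ⁻¹ᵁ U := hVT.trans (xs_le u U d f)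
    obtain ⟨c, hc⟩ := exists_eq_of_mem_deg hjL hLq hV he ((u.gradedAt U hU V hV hle).map_mem hf)
    have hcu : y ∈ X.basicOpen c :=
      (genAt_iff_basicOpen u hjL hLq hL hPL U hU hd f hf hV hle he hc hyV).1 ((mem_xs u).1 hy)
    have hca : (u.appLE U V hle).hom a = (𝒮L.str.app (op V)).hom (ores hVT t * c ^ m) * tgen jL e ^ (m * d) := by
      have h1 := congrArg (ares 𝒮L.toQCAlg hVT) hta
      rw [map_mul, map_pow, ares_str] at h1
      have h2 : ∀ b, ares 𝒮L.toQCAlg hVT ((u.appLE U T (xs_le u U d f)).hom b) = (u.appLE U V hle).hom b := fun b =>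
        ConcreteCategory.congr_hom (RelSpec.QHom.appLE_map u.toQHom (xs_le u U d f) hVT) b
      rw [h2, h2] at h1
      rw [← h1, show (u.appLE U V hle).hom f = _ from hc, mul_pow, map_mul, map_pow, pow_mul', mul_assoc]
    show y ∈ xs u U (m * d) a ∧ y ∈ T ↔ _
    rw [mem_xs, genAt_iff_basicOpen u hjL hLq hL hPL U hU hmd a ha hV hle he hca hyV, Scheme.basicOpen_mul,
      show X.basicOpen (c ^ m) = X.basicOpen c from X.basicOpen_pow _ hm, show X.basicOpen (ores hVT t) = V ⊓ X.basicOpen t from Scheme.basicOpen_res X t _]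
    exact ⟨fun h => h.1.1.2, fun h => ⟨⟨⟨hyV, h⟩, hcu⟩, hy⟩⟩
  have hxg : xs u U (m * d + d) (a * f) = X.basicOpen t := by
    rw [xs_mul u hjL hLq hL hPL U hU hmd hd a f ha hf]
    exact hxa
  refine ⟨m * d + d, by omega, a * f, hg, hxg ▸ hxt, hxg ▸ hT.basicOpen t, hxg ▸ ht, ?_⟩
  intro w
  have hTT : X.basicOpen t ≤ T := X.basicOpen_le t
  haveI := hT.isLocalization_basicOpen t
  obtain ⟨⟨s, ⟨_, k, rfl⟩⟩, hs⟩ := IsLocalization.surj (Submonoid.powers t) (ores hxg.ge w)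
  obtain ⟨n, hn, b, hb, hsb⟩ := hF s
  have hle' : xs u U (m * d + d) (a * f) ≤ T := hxg.le.trans hTT
  refine ⟨k + n + 1, by omega, b * a ^ (n + 1) * f ^ (k + 1 + m * k), ?_, ?_⟩
  · have h1 := SetLike.mul_mem_graded (SetLike.mul_mem_graded hb (SetLike.pow_mem_graded (n + 1) ha))
      (SetLike.pow_mem_graded (k + 1 + m * k) hf)
    convert h1 using 2
    simp only [smul_eq_mul]
    ring
  · have hw : w * ores hle' t ^ k = ores hle' s := by
      have h1 := congrArg (ores hxg.le) hs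
      rw [map_mul] at h1
      have h2 : ∀ r : Γ(X, T), ores hxg.le ((X.presheaf.map (homOfLE hTT).op).hom r) = ores hle' r := fun r =>
        ores_ores hTT hxg.le r
      refine Eq.trans ?_ ((h1.trans (h2 s)))
      refine congrArg₂ (· * ·) ?_ ?_
      · exact ((ores_ores hxg.ge hxg.le w).trans (ConcreteCategory.congr_hom (X.presheaf.map_id (op _)) w)).symm
      · rw [← map_pow]
        exact (h2 (t ^ k)).symm
    let K := (u.appLE U (xs u U (m * d + d) (a * f)) (xs_le u U (m * d + d) (a * f))).hom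
    let σ := (𝒮L.str.app (op (xs u U (m * d + d) (a * f)))).hom
    have h2 : ∀ b, ares 𝒮L.toQCAlg hle' ((u.appLE U T (xs_le u U d f)).hom b) = K b := fun b =>
      ConcreteCategory.congr_hom (RelSpec.QHom.appLE_map u.toQHom (xs_le u U d f) hle') b
    have ht1 : σ (ores hle' t) * K f ^ m = K a := by
      have h1 := congrArg (ares 𝒮L.toQCAlg hle') hta
      rwa [map_mul, map_pow, ares_str, h2, h2] at h1
    have hs1 : σ (ores hle' s) * K f ^ n = K b := by
      have h1 := congrArg (ares 𝒮L.toQCAlg hle') hsb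
      rwa [map_mul, map_pow, ares_str, h2, h2] at h1
    show σ w * K (a * f) ^ (k + n + 1) = K (b * a ^ (n + 1) * f ^ (k + 1 + m * k))
    rw [map_mul, map_mul, map_mul, map_pow, map_pow, ← hs1, ← ht1, ← hw, map_mul, map_pow]
    ring

end Refine

section Tensor

variable {L' : X.Modules} {E E' : Y.Modules} {𝒯 : RelProj.QCGrAlg Y} {j : E ⟶ 𝒯.toModule}
  {𝒯'' : RelProj.QCGrAlg Y} {j'' : CohB1.tensorMod E E' ⟶ 𝒯''.toModule}
  {𝒮'' : RelProj.QCGrAlg X} {jL'' : CohB1.tensorMod L L' ⟶ 𝒮''.toModule}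
  (hE : Coh.IsQCoh E) (hj : RelProj.IsGrSymAlg E 𝒯 j)
  (hj'' : RelProj.IsGrSymAlg (CohB1.tensorMod E E') 𝒯'' j'')
  (hjL : RelProj.IsGrSymAlg L 𝒮L jL) (hjL'' : RelProj.IsGrSymAlg (CohB1.tensorMod L L') 𝒮'' jL'')
  (u : RelProj.QGrHom q 𝒯 𝒮L) (u'' : RelProj.QGrHom q 𝒯'' 𝒮'')
  (σ : E ⟶ (Scheme.Modules.pushforward q).obj L) (σ' : E' ⟶ (Scheme.Modules.pushforward q).obj L')
  (hu : ∀ (U : Y.Opens), IsAffineOpen U → ∀ e : Γ(E, U), (u.app U).hom (tgen j e) = jL.app _ (σ.app U e))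
  (hu'' : ∀ (U : Y.Opens), IsAffineOpen U → ∀ (e : Γ(E, U)) (e' : Γ(E', U)),
    (u''.app U).hom (tgen j'' (SecTwist.tmul E E' U e e')) =
      jL''.app _ (SecTwist.tmul L L' (q ⁻¹ᵁ U) (σ.app U e) (σ'.app U e')))

include hE hj hj'' hjL hjL'' hu hu'' in
/-- the element `a ⊗ e'^n` -/
theorem exists_twisted (U : Y.Opens) (hU : IsAffineOpen U) (e' : Γ(E', U)) {n : ℕ} {a : 𝒯.presheaf.obj (op U)}
    (ha : a ∈ 𝒯.deg U hU n) :
    ∃ A ∈ 𝒯''.deg U hU n, ∀ (V : X.Opens) (hle : V ≤ q ⁻¹ᵁ U) (l : Γ(L, V)) (l' : Γ(L', V)) (c' : Γ(X, V)),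
      IsFrame L l → mres L' hle (σ'.app U e') = c' • l' →
        ∃ c : Γ(X, V), (u.appLE U V hle).hom a = (𝒮L.str.app (op V)).hom c * tgen jL l ^ n ∧
          (u''.appLE U V hle).hom A =
            (𝒮''.str.app (op V)).hom (c * c' ^ n) * tgen jL'' (SecTwist.tmul L L' V l l') ^ n := by
  let good : ℕ → 𝒯.presheaf.obj (op U) → Prop := fun k z => z ∈ 𝒯.deg U hU k ∧
    ∃ A ∈ 𝒯''.deg U hU k, ∀ (V : X.Opens) (hle : V ≤ q ⁻¹ᵁ U) (l : Γ(L, V)) (l' : Γ(L', V)) (c' : Γ(X, V)),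
      IsFrame L l → mres L' hle (σ'.app U e') = c' • l' →
        ∃ c : Γ(X, V), (u.appLE U V hle).hom z = (𝒮L.str.app (op V)).hom c * tgen jL l ^ k ∧
          (u''.appLE U V hle).hom A =
            (𝒮''.str.app (op V)).hom (c * c' ^ k) * tgen jL'' (SecTwist.tmul L L' V l l') ^ k
  have h := mem_closure_of_gen (𝒜 := 𝒯.deg U hU) good (fun k z hz => hz.1) ?_ ?_ _ ?_
    (closure_sym_eq_top E hE hj.1 hU) ha
  rotate_left
  · exact ⟨SetLike.one_mem_graded _, 1, SetLike.one_mem_graded _, fun V hle l l' c' _ _ => ⟨1, by simp, by simp⟩⟩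
  · rintro k m x y ⟨hx, A, hA, hAc⟩ ⟨hy, B, hB, hBc⟩
    refine ⟨SetLike.mul_mem_graded hx hy, A * B, SetLike.mul_mem_graded hA hB, fun V hle l l' c' hl hl' => ?_⟩
    obtain ⟨c, hc1, hc2⟩ := hAc V hle l l' c' hl hl'
    obtain ⟨d, hd1, hd2⟩ := hBc V hle l l' c' hl hl'
    exact ⟨c * d, by rw [map_mul, hc1, hd1]; simp only [map_mul, pow_add]; ring,
      by rw [map_mul, hc2, hd2]; simp only [map_mul, map_pow, pow_add]; ring⟩
  · rintro z (⟨r, rfl⟩ | ⟨e, rfl⟩)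
    · refine ⟨0, 𝒯.str_mem U hU r, (𝒯''.str.app (op U)).hom r, 𝒯''.str_mem U hU r, fun V hle l l' c' _ _ =>
        ⟨(q.appLE U V hle).hom r, ?_, ?_⟩⟩
      · rw [pow_zero, mul_one]
        exact ConcreteCategory.congr_hom (u.toQHom.str_appLE U V hle) r
      · rw [pow_zero, pow_zero, mul_one, mul_one]
        exact ConcreteCategory.congr_hom (u''.toQHom.str_appLE U V hle) r
    · refine ⟨1, tgen_mem hj hU e, tgen j'' (SecTwist.tmul E E' U e e'), tgen_mem hj'' hU _,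
        fun V hle l l' c' hl hl' => ?_⟩
      obtain ⟨c, hc⟩ := hl.bijective.2 (mres L hle (σ.app U e))
      replace hc : c • l = mres L hle (σ.app U e) := hc
      refine ⟨c, ?_, ?_⟩
      · rw [pow_one]
        refine ((ares_appLE u U V hle _).symm.trans (congrArg _ ((appLE_self_apply u U _).trans (hu U hU e)))).trans ?_
        refine (res_tgen hjL hle (e := σ.app U e)).trans ?_
        refine Eq.trans (congrArg (tgen jL) hc.symm) ?_
        exact map_smul (jL.val.app (op V)).hom c l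
      · rw [pow_one, pow_one]
        refine ((ares_appLE u'' U V hle _).symm.trans (congrArg _ ((appLE_self_apply u'' U _).trans
          (hu'' U hU e e')))).trans ?_
        refine (res_tgen hjL'' hle (e := SecTwist.tmul L L' (q ⁻¹ᵁ U) (σ.app U e) (σ'.app U e'))).trans ?_
        refine Eq.trans (congrArg (tgen jL'') ?_) (map_smul (jL''.val.app (op V)).hom (c * c') _)
        refine (SecTwist.map_tmul L L' (homOfLE hle) _ _).trans ?_
        refine (congrArg₂ (SecTwist.tmul L L' V) hc.symm hl').trans ?_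
        exact tmul_smul_smul L L' c c' l l'
  suffices h' : good n a from h'.2
  clear ha
  induction h using AddSubgroup.closure_induction with
  | mem z hz => exact hz
  | zero => exact ⟨zero_mem _, 0, zero_mem _, fun V hle l l' c' _ _ => ⟨0, by simp, by simp⟩⟩
  | add x y _ _ hx hy =>
    obtain ⟨hx, A, hA, hAc⟩ := hx
    obtain ⟨hy, B, hB, hBc⟩ := hy
    refine ⟨add_mem hx hy, A + B, add_mem hA hB, fun V hle l l' c' hl hl' => ?_⟩
    obtain ⟨c, hc1, hc2⟩ := hAc V hle l l' c' hl hl'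
    obtain ⟨d, hd1, hd2⟩ := hBc V hle l l' c' hl hl'
    exact ⟨c + d, by rw [map_add, hc1, hd1, map_add, add_mul],
      by rw [map_add, hc2, hd2, add_mul, map_add, add_mul]⟩
  | neg x _ hx =>
    obtain ⟨hx, A, hA, hAc⟩ := hx
    refine ⟨neg_mem hx, -A, neg_mem hA, fun V hle l l' c' hl hl' => ?_⟩
    obtain ⟨c, hc1, hc2⟩ := hAc V hle l l' c' hl hl'
    exact ⟨-c, by rw [map_neg, hc1, map_neg, neg_mul], by rw [map_neg, hc2, neg_mul, map_neg, neg_mul]⟩

end Tensor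

/-- an epimorphism `q^*E → L` has a section of `E` generating near every point -/
theorem exists_sec_frame {q : X ⟶ Y} {E : Y.Modules} (hE : Coh.IsQCoh E) {L : X.Modules} (hL : PicF.IsInvertible L)
    (φ : (Scheme.Modules.pullback q).obj E ⟶ L) [Epi φ] {U : Y.Opens} (hU : IsAffineOpen U) {x : X}
    (hx : x ∈ q ⁻¹ᵁ U) :
    ∃ (e : Γ(E, U)) (G : X.Opens) (hG : G ≤ q ⁻¹ᵁ U), x ∈ G ∧
      IsFrame L (mres L hG (φ.app (q ⁻¹ᵁ U) (pullSec q E U e))) := by
  haveI : E.IsQuasicoherent := hE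
  obtain ⟨V, hV, hxV, hVU, ε, hε⟩ := exists_isFrame hL hx
  obtain ⟨m, hm⟩ := app_surjective_of_epi φ (QCohPull.isQuasicoherent_pullback q E)
    (TensorMod.isQCoh_of_isInvertible hL) hV ε
  have key : ∃ (e : Γ(E, U)) (b : Γ(X, V)), b • ε = φ.app V (mres _ hVU (pullSec q E U e)) ∧ x ∈ X.basicOpen b := by
    by_contra hne
    push Not at hne
    letI := (q.appLE U V hVU).hom.toAlgebra
    letI := pullModuleLE q E U V hVU
    haveI : IsScalarTower Γ(Y, U) Γ(X, V) Γ((Scheme.Modules.pullback q).obj E, V) :=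
      .of_algebraMap_smul fun _ _ => rfl
    have hbc := isBaseChange_pullSecLE q E hU hV hVU
    have hall : ∀ m : Γ((Scheme.Modules.pullback q).obj E, V), ∀ b : Γ(X, V), b • ε = φ.app V m →
        X.evaluation V x hxV b = 0 := by
      intro m
      refine hbc.inductionOn m (fun m => ∀ b : Γ(X, V), b • ε = φ.app V m → X.evaluation V x hxV b = 0) ?_ ?_ ?_ ?_
      · intro b hb
        have : b = 0 := (hε.bijective.1 (by
          show b • ε = (0 : Γ(X, V)) • ε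
          rw [hb, map_zero, zero_smul]))
        rw [this, map_zero]
      · intro e b hb
        exact (X.evaluation_eq_zero_iff_notMem_basicOpen x hxV b).2 (hne e b hb)
      · intro r m' ih b hb
        obtain ⟨b', hb'⟩ := hε.bijective.2 (φ.app V m')
        replace hb' : b' • ε = φ.app V m' := hb'
        have : b = r * b' := hε.bijective.1 (by
          show b • ε = (r * b') • ε
          rw [hb, mul_smul, hb']
          exact Scheme.Modules.Hom.app_smul φ r m')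
        rw [this, map_mul, ih b' hb', mul_zero]
      · intro m₁ m₂ ih₁ ih₂ b hb
        obtain ⟨b₁, hb₁⟩ := hε.bijective.2 (φ.app V m₁)
        obtain ⟨b₂, hb₂⟩ := hε.bijective.2 (φ.app V m₂)
        replace hb₁ : b₁ • ε = φ.app V m₁ := hb₁
        replace hb₂ : b₂ • ε = φ.app V m₂ := hb₂
        have : b = b₁ + b₂ := hε.bijective.1 (by
          show b • ε = (b₁ + b₂) • ε
          rw [hb, add_smul, hb₁, hb₂, map_add])
        rw [this, map_add, ih₁ b₁ hb₁, ih₂ b₂ hb₂, add_zero]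
    have h1 := hall m 1 (by rw [one_smul]; exact hm.symm)
    rw [X.evaluation_eq_zero_iff_notMem_basicOpen x hxV, X.basicOpen_of_isUnit isUnit_one] at h1
    exact h1 hxV
  obtain ⟨e, b, hb, hxb⟩ := key
  refine ⟨e, X.basicOpen b, (X.basicOpen_le b).trans hVU, hxb, ?_⟩
  have h1 : mres L ((X.basicOpen_le b).trans hVU) (φ.app (q ⁻¹ᵁ U) (pullSec q E U e)) =
      ores (X.basicOpen_le b) b • mres L (X.basicOpen_le b) ε := by
    rw [← mres_smul, hb, ← app_mres, mres_mres]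
  rw [h1]
  exact (hε.res _).smul_unit (RingedSpace.isUnit_res_basicOpen _ b)

set_option maxHeartbeats 1000000 in
/-- `L ⊗ L'` is very ample if `L` is very ample and `L'` is generated relative to the base -/
theorem isRelVeryAmple_tensor_of_epi {q : X ⟶ Y} {L L' : X.Modules} (hL : PicF.IsInvertible L)
    (hva : RelProj.IsRelVeryAmple q L) (hL' : PicF.IsInvertible L') {E' : Y.Modules} (hE' : Coh.IsQCoh E')
    (φ : (Scheme.Modules.pullback q).obj E' ⟶ L') [Epi φ] :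
    RelProj.IsRelVeryAmple q (CohB1.tensorMod L L') := by
  obtain ⟨𝒮L, jL, hjL, PL, pL, chartL, hPL, E, hE, 𝒯, j, hj, u, σ, hu, hgood⟩ := exists_data_of_isRelVeryAmple hL hva
  have hLq := TensorMod.isQCoh_of_isInvertible hL
  have hLL := TensorMod.isInvertible_tensorMod hL hL'
  have hLLq := TensorMod.isQCoh_of_isInvertible hLL
  obtain ⟨𝒮'', jL'', hjL''⟩ := exists_isGrSymAlg (CohB1.tensorMod L L') hLLq
  obtain ⟨PL'', pL'', chartL'', hPL''⟩ := exists_isRelProj 𝒮''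
  have hEE := DCohBridge.isQCoh_cohb1TensorMod hE hE'
  obtain ⟨𝒯'', j'', hj''⟩ := exists_isGrSymAlg (CohB1.tensorMod E E') hEE
  let adj := Scheme.Modules.pullbackPushforwardAdjunction q
  let ψ := (adj.homEquiv E L).symm σ
  let σ' := adj.homEquiv E' L' φ
  let Ψ := GenLocus.pullTensorMap q E E' ≫ KoszTw.tensorMap ψ φ
  obtain ⟨u'', hu''0⟩ := exists_qGrHom_sigma (q := q) hEE hj'' hjL'' (adj.homEquiv _ _ Ψ)
  have hadj : ∀ {M : Y.Modules} {N : X.Modules} (a : (Scheme.Modules.pullback q).obj M ⟶ N) (U : Y.Opens) (s : Γ(M, U)),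
      (adj.homEquiv M N a).app U s = a.app (q ⁻¹ᵁ U) (pullSec q M U s) := fun a U s => by
    rw [Adjunction.homEquiv_unit]
    rfl
  have hu'' : ∀ (U : Y.Opens), IsAffineOpen U → ∀ (e : Γ(E, U)) (e' : Γ(E', U)),
      (u''.app U).hom (tgen j'' (SecTwist.tmul E E' U e e')) =
        jL''.app _ (SecTwist.tmul L L' (q ⁻¹ᵁ U) (σ.app U e) (σ'.app U e')) := fun U hU e e' => by
    rw [hu''0 U hU]
    refine congrArg (jL''.app (q ⁻¹ᵁ U)) ?_
    rw [hadj Ψ U, hadj φ U, ← (Equiv.apply_symm_apply (adj.homEquiv E L) σ), hadj ψ U]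
    refine Eq.trans ?_ (KoszTw.tensorMap_tmul ψ φ (q ⁻¹ᵁ U) (pullSec q E U e) (pullSec q E' U e'))
    exact congrArg ((KoszTw.tensorMap ψ φ).app (q ⁻¹ᵁ U)) (GenLocus.pullTensorMap_tmul q E E' U e e')
  refine isRelVeryAmple_of_forall hLL hjL'' hEE hj'' u'' fun x => ?_
  obtain ⟨_, ⟨U, hU, rfl⟩, hxU, -⟩ :=
    Y.isBasis_affineOpens.exists_subset_of_mem_open (Set.mem_univ (q x)) isOpen_univ
  replace hU : IsAffineOpen U := hU
  obtain ⟨d₀, hd₀, f₀, hf₀, hxf₀, hT₀, hF₀⟩ := hgood x U hU hxU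
  obtain ⟨e', G, hGU, hxG, hfr'⟩ := exists_sec_frame hE' hL' φ hU hxU
  obtain ⟨d, hd, f, hf, hxf, hT, hTG, hF⟩ := exists_good_le u hjL hLq hL hPL U hU hd₀ f₀ hf₀ hxf₀ hT₀ hF₀ G hxG
  let T := xs u U d f
  obtain ⟨F, hFd, hFc⟩ := exists_twisted hE hj hj'' hjL hjL'' u u'' σ σ' hu hu'' U hU e' hf
  have hxs : xs u'' U d F = T := by
    refine SetLike.ext fun y => ?_
    by_cases hy : y ∈ q ⁻¹ᵁ U
    swap
    · exact ⟨fun h => absurd (xs_le u'' U d F h) hy, fun h => absurd (xs_le u U d f h) hy⟩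
    obtain ⟨V, hV, hyV, hVU, l', hl'⟩ := exists_isFrame hL' hy
    obtain ⟨V₁, hV₁, hyV₁, hV₁V, l, hl⟩ := exists_isFrame hL hyV
    have hle : V₁ ≤ q ⁻¹ᵁ U := hV₁V.trans hVU
    obtain ⟨c', hc'⟩ := (hl'.res hV₁V).bijective.2 (mres L' hle (σ'.app U e'))
    replace hc' : c' • mres L' hV₁V l' = mres L' hle (σ'.app U e') := hc'
    obtain ⟨c, hc1, hc2⟩ := hFc V₁ hle l (mres L' hV₁V l') c' hl hc'.symm
    rw [mem_xs, mem_xs, genAt_iff_basicOpen u'' hjL'' hLLq hLL hPL'' U hU hd F hFd hV₁ hle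
      (hl.tmul (hl'.res hV₁V)) hc2 hyV₁, genAt_iff_basicOpen u hjL hLq hL hPL U hU hd f hf hV₁ hle hl hc1 hyV₁,
      Scheme.basicOpen_mul, show X.basicOpen (c' ^ d) = X.basicOpen c' from X.basicOpen_pow _ hd]
    refine ⟨fun h => h.1, fun h => ⟨h, ?_⟩⟩
    have hyG : y ∈ G := hTG ((mem_xs u).2 ((genAt_iff_basicOpen u hjL hLq hL hPL U hU hd f hf hV₁ hle hl hc1 hyV₁).2 h))
    have h5 : IsFrame L' (mres L' (inf_le_right : G ⊓ V₁ ≤ V₁) (c' • mres L' hV₁V l')) := by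
      rw [hc', mres_mres]
      have := hfr'.res (inf_le_left : G ⊓ V₁ ≤ G)
      rw [mres_mres] at this
      exact this
    rw [mres_smul] at h5
    have h6 := ((hl'.res hV₁V).res (inf_le_right : G ⊓ V₁ ≤ V₁)).isUnit_of_smul h5
    have h7 : G ⊓ V₁ ⊓ X.basicOpen c' = G ⊓ V₁ := by
      have h8 := X.basicOpen_of_isUnit h6
      rw [show X.basicOpen (ores (inf_le_right : G ⊓ V₁ ≤ V₁) c') = (G ⊓ V₁) ⊓ X.basicOpen c' from
        Scheme.basicOpen_res X c' _] at h8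
      exact h8
    exact (h7.ge ⟨hyG, hyV₁⟩).2
  refine ⟨U, hU, d, hd, F, hFd, hxs.symm ▸ hxf, hxs.symm ▸ hT, ?_⟩
  intro t
  obtain ⟨m, hm, a, ha, hta⟩ := hF (ores hxs.ge t)
  obtain ⟨A, hA, hAc⟩ := exists_twisted hE hj hj'' hjL hjL'' u u'' σ σ' hu hu'' U hU e' ha
  refine ⟨m, hm, A, hA, ?_⟩
  choose V hV hxV hVle l hl using fun y : (T : X.Opens) => exists_isFrame hL y.2
  have hVT : ∀ y, V y ≤ xs u'' U d F := fun y => (hVle y).trans hxs.ge
  refine eq_of_ares 𝒮''.toQCAlg V hVT (fun y hy => Opens.mem_iSup.2 ⟨⟨y, hxs.le hy⟩, hxV _⟩) _ _ fun y => ?_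
  have hle : V y ≤ q ⁻¹ᵁ U := (hVle y).trans (xs_le u U d f)
  let l' := mres L' ((hVle y).trans hTG) (mres L' hGU (σ'.app U e'))
  have hl1 : mres L' hle (σ'.app U e') = (1 : Γ(X, V y)) • l' := by
    rw [one_smul]; exact (mres_mres L' hGU ((hVle y).trans hTG) _).symm
  obtain ⟨cf, hcf1, hcf2⟩ := hFc (V y) hle (l y) l' 1 (hl y) hl1
  obtain ⟨ca, hca1, hca2⟩ := hAc (V y) hle (l y) l' 1 (hl y) hl1
  have hK : ∀ (b : 𝒯''.presheaf.obj (op U)), ares 𝒮''.toQCAlg (hVT y)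
      ((u''.appLE U (xs u'' U d F) (xs_le u'' U d F)).hom b) = (u''.appLE U (V y) hle).hom b := fun b =>
    ConcreteCategory.congr_hom (RelSpec.QHom.appLE_map u''.toQHom (xs_le u'' U d F) (hVT y)) b
  have hK' : ∀ (b : 𝒯.presheaf.obj (op U)), ares 𝒮L.toQCAlg (hVle y)
      ((u.appLE U T (xs_le u U d f)).hom b) = (u.appLE U (V y) hle).hom b := fun b =>
    ConcreteCategory.congr_hom (RelSpec.QHom.appLE_map u.toQHom (xs_le u U d f) (hVle y)) b
  have h1 := congrArg (ares 𝒮L.toQCAlg (hVle y)) hta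
  rw [map_mul, map_pow, ares_str, hK', hK', hcf1, hca1, ores_ores, mul_pow, ← map_pow, ← pow_mul, mul_comm d m,
    ← mul_assoc, ← map_mul] at h1
  have h2 := str_mul_pow_inj hjL hLq (hV y) (hl y) h1
  rw [map_mul, map_pow, ares_str, hK, hK, hcf2, hca2]
  simp only [one_pow, mul_one]
  rw [mul_pow, ← map_pow, ← pow_mul, mul_comm d m, ← mul_assoc, ← map_mul, h2]

end Groth.Agent.SymAlgRel
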