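import Mathlib
import Groth.Agent.SymAlgRel.Segre
import Groth.Agent.S5732
import Groth.Agent.TensorMod.Dual

/-!
# Operations preserving very ampleness
-/

set_option autoImplicit false
set_option backward.isDefEq.respectTransparency false

noncomputable section

universe u

open CategoryTheory CategoryTheory.Limits AlgebraicGeometry TopologicalSpace Opposite
open scoped HomogeneousIdeal

namespace Groth.Agent.SymAlgRel

variable {X Y : Scheme.{u}} {q : X ⟶ Y} {L L' : X.Modules}

theorem isRelVeryAmple_of_iso (h : RelProj.IsRelVeryAmple q L) (e : L ≅ L') : RelProj.IsRelVeryAmple q L' := by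
  obtain ⟨E, hE, 𝒯, j, hj, P, p, chart, hP, O1, lam, hO1, i, hi, hc, ⟨θ⟩⟩ := h
  exact ⟨E, hE, 𝒯, j, hj, P, p, chart, hP, O1, lam, hO1, i, hi, hc, ⟨e.symm ≪≫ θ⟩⟩

/-- a very ample module is a quotient of the inverse image of a quasi-coherent module -/
theorem exists_epi_of_isRelVeryAmple (h : RelProj.IsRelVeryAmple q L) :
    ∃ (E : Y.Modules) (_ : Coh.IsQCoh E) (φ : (Scheme.Modules.pullback q).obj E ⟶ L), Epi φ := by
  obtain ⟨E, hE, 𝒯, j, hj, P, p, chart, hP, O1, lam, hO1, i, hi, hc, ⟨θ⟩⟩ := h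
  subst hc
  obtain ⟨φ, hφ⟩ := exists_canMap (lam := lam) hP hj hO1
  haveI := S5732.result E hE 𝒯 j hj p chart hP O1 lam hO1 φ hφ
  let a := ((Scheme.Modules.pullbackPushforwardAdjunction p).homEquiv E O1).symm φ
  haveI : (Scheme.Modules.pullback i).PreservesEpimorphisms :=
    Functor.preservesEpimorphisms_of_adjunction (Scheme.Modules.pullbackPushforwardAdjunction i)
  haveI : Epi ((Scheme.Modules.pullback i).map a) := (Scheme.Modules.pullback i).map_epi a
  exact ⟨E, hE, ((Scheme.Modules.pullbackComp i p).app E).inv ≫ (Scheme.Modules.pullback i).map a ≫ θ.inv,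
    inferInstance⟩

theorem isRelVeryAmple_tensor (hL : PicF.IsInvertible L) (hva : RelProj.IsRelVeryAmple q L)
    (hL' : PicF.IsInvertible L') (hva' : RelProj.IsRelVeryAmple q L') :
    RelProj.IsRelVeryAmple q (CohB1.tensorMod L L') := by
  obtain ⟨E, hE, φ, hφ⟩ := exists_epi_of_isRelVeryAmple hva'
  exact isRelVeryAmple_tensor_of_epi hL hva hL' hE φ

theorem isRelVeryAmple_tensorPow (hL : PicF.IsInvertible L) (hva : RelProj.IsRelVeryAmple q L) :
    ∀ n : ℕ, 0 < n → RelProj.IsRelVeryAmple q (CohB1.tensorPow L n)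
  | 0, h => absurd h (lt_irrefl 0)
  | 1, _ => isRelVeryAmple_of_iso hva (TensorMod.tensorPowOneIso L).symm
  | n + 2, _ => isRelVeryAmple_tensor (TensorMod.isInvertible_tensorPow hL (n + 1))
      (isRelVeryAmple_tensorPow hL hva (n + 1) (Nat.succ_pos _)) hL hva

theorem isRelVeryAmple_tensor_pullback (hL : PicF.IsInvertible L) (hva : RelProj.IsRelVeryAmple q L)
    {K : Y.Modules} (hK : PicF.IsInvertible K) :
    RelProj.IsRelVeryAmple q (CohB1.tensorMod L ((Scheme.Modules.pullback q).obj K)) :=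
  isRelVeryAmple_tensor_of_epi hL hva (GenLocus.isInvertible_pullback q hK) (TensorMod.isQCoh_of_isInvertible hK)
    (𝟙 ((Scheme.Modules.pullback q).obj K))

theorem isRelVeryAmple_iff_tensor_pullback (hL : PicF.IsInvertible L) {K : Y.Modules} (hK : PicF.IsInvertible K) :
    RelProj.IsRelVeryAmple q L ↔
      RelProj.IsRelVeryAmple q (CohB1.tensorMod L ((Scheme.Modules.pullback q).obj K)) := by
  refine ⟨fun h => isRelVeryAmple_tensor_pullback hL h hK, fun h => ?_⟩
  obtain ⟨M, hM, ⟨e⟩, -⟩ := TensorMod.exists_inverse hK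
  have hqK := GenLocus.isInvertible_pullback q hK
  exact isRelVeryAmple_of_iso (isRelVeryAmple_tensor_pullback (TensorMod.isInvertible_tensorMod hL hqK) h hM)
    (TensorMod.tensorInverseIso ((GenLocus.pullTensorIso q hK hM).symm ≪≫
      (Scheme.Modules.pullback q).mapIso e ≪≫ GenLocus.pullUnitIso q) L)

end Groth.Agent.SymAlgRel
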