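import Mathlib
import Groth.Agent.SymAlgRel.VAOps
import Groth.Agent.QCohBase.Qcqs
import Groth.Agent.ProjUPLib.Immersion
import Groth.Agent.ProjFinite.Finite

/-!
# Very ampleness from sections over affine opens of the base
-/

set_option autoImplicit false
set_option synthInstance.maxHeartbeats 200000
set_option backward.isDefEq.respectTransparency false
set_option backward.isDefEq.respectTransparency.types false

noncomputable section

universe u

open CategoryTheory CategoryTheory.Limits AlgebraicGeometry TopologicalSpace Opposite RelSpec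
open Groth.Agent.QCohBase Groth.Agent.GenLocus
open scoped HomogeneousIdeal

namespace Groth.Agent.SymAlgRel

variable {X Y : Scheme.{u}} {q : X ⟶ Y} {L : X.Modules}

/-- sections over affine opens whose loci are affine with rings generated by ratios of sections
make `L` very ample -/
theorem isRelVeryAmple_of_sections [QuasiCompact q] [QuasiSeparated q] (hL : PicF.IsInvertible L)
    (h : ∀ x : X, ∃ (U : Y.Opens) (_ : IsAffineOpen U) (s : Γ(L, q ⁻¹ᵁ U)) (W : X.Opens) (hW : W ≤ q ⁻¹ᵁ U),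
      x ∈ W ∧ IsAffineOpen W ∧ IsFrame L (mres L hW s) ∧
      (∀ (G : X.Opens) (hG : G ≤ q ⁻¹ᵁ U), IsFrame L (mres L hG s) → G ≤ W) ∧
      Subring.closure ((Set.range fun r : Γ(Y, U) => (q.appLE U W hW).hom r) ∪
        {v | ∃ s' : Γ(L, q ⁻¹ᵁ U), v • mres L hW s = mres L hW s'}) = ⊤) :
    RelProj.IsRelVeryAmple q L := by
  have hLq := TensorMod.isQCoh_of_isInvertible hL
  haveI : L.IsQuasicoherent := hLq
  let E := (Scheme.Modules.pushforward q).obj L
  have hE : Coh.IsQCoh E := QCohBase.isQuasicoherent_pushforward L q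
  obtain ⟨𝒯, j, hj⟩ := exists_isGrSymAlg E hE
  obtain ⟨𝒮L, jL, hjL⟩ := exists_isGrSymAlg L hLq
  obtain ⟨PL, pL, chartL, hPL⟩ := exists_isRelProj 𝒮L
  obtain ⟨u, hu⟩ := exists_qGrHom_sigma (q := q) hE hj hjL (𝟙 E)
  refine isRelVeryAmple_of_forall hL hjL hE hj u fun x => ?_
  obtain ⟨U, hU, s, W, hW, hxW, hWaff, hfr, hmax, hgen⟩ := h x
  let f := tgen j (show Γ(E, U) from s)
  have hf : f ∈ 𝒯.deg U hU 1 := tgen_mem hj hU _
  have hK : ∀ (V : X.Opens) (hle : V ≤ q ⁻¹ᵁ U) (s' : Γ(L, q ⁻¹ᵁ U)),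
      (u.appLE U V hle).hom (tgen j (show Γ(E, U) from s')) = tgen jL (mres L hle s') := fun V hle s' => by
    refine ((ares_appLE u U V hle _).symm.trans (congrArg _ ((appLE_self_apply u U _).trans (hu U hU _)))).trans ?_
    exact res_tgen hjL hle (e := s')
  have hlin : ∀ (V : X.Opens) (c : Γ(X, V)) (e : Γ(L, V)),
      tgen jL (c • e) = (𝒮L.str.app (op V)).hom c * tgen jL e := fun V c e => map_smul (jL.val.app (op V)).hom c e
  have hxs : xs u U 1 f = W := by
    refine SetLike.ext fun y => ?_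
    by_cases hy : y ∈ q ⁻¹ᵁ U
    swap
    · exact ⟨fun h => absurd (xs_le u U 1 f h) hy, fun h => absurd (hW h) hy⟩
    obtain ⟨V, hV, hyV, hVU, e, he⟩ := exists_isFrame hL hy
    obtain ⟨c, hc⟩ := he.bijective.2 (mres L hVU s)
    replace hc : c • e = mres L hVU s := hc
    rw [mem_xs, genAt_iff_basicOpen u hjL hLq hL hPL U hU one_pos f hf hV hVU he (c := c)
      (by rw [pow_one]; exact (hK V hVU s).trans ((congrArg (tgen jL) hc.symm).trans (hlin V c e))) hyV]
    refine ⟨fun hyc => ?_, fun hyW => ?_⟩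
    · refine hmax (X.basicOpen c) ((X.basicOpen_le c).trans hVU) ?_ hyc
      have h1 : mres L ((X.basicOpen_le c).trans hVU) s = ores (X.basicOpen_le c) c • mres L (X.basicOpen_le c) e := by
        rw [← mres_smul, hc, mres_mres]
      rw [h1]
      exact (he.res _).smul_unit (RingedSpace.isUnit_res_basicOpen _ c)
    · have h5 : IsFrame L (mres L (inf_le_right : W ⊓ V ≤ V) (c • e)) := by
        rw [hc, mres_mres]
        have := hfr.res (inf_le_left : W ⊓ V ≤ W)
        rw [mres_mres] at this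
        exact this
      rw [mres_smul] at h5
      have h6 := (he.res (inf_le_right : W ⊓ V ≤ V)).isUnit_of_smul h5
      have h8 := X.basicOpen_of_isUnit h6
      rw [show X.basicOpen (ores (inf_le_right : W ⊓ V ≤ V) c) = (W ⊓ V) ⊓ X.basicOpen c from
        Scheme.basicOpen_res X c _] at h8
      exact (h8.ge ⟨hyW, hyV⟩).2
  have hFrac : ∀ (T : X.Opens) (hT : T = W) (hle : T ≤ q ⁻¹ᵁ U), Frac u U hU T hle 1 f := by
    rintro T rfl hle t
    let K := (u.appLE U T hle).hom
    let σ := (𝒮L.str.app (op T)).hom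
    let R : Γ(X, T) → Prop := fun t => ∃ (m : ℕ) (_ : 0 < m) (a : 𝒯.presheaf.obj (op U)) (_ : a ∈ 𝒯.deg U hU (m * 1)),
      σ t * K f ^ m = K a
    suffices hR : R t from hR
    have hmem : ∀ {m : ℕ} {a : 𝒯.presheaf.obj (op U)}, a ∈ 𝒯.deg U hU (m * 1) → a ∈ 𝒯.deg U hU m := fun h => by
      rwa [mul_one] at h
    have hmem' : ∀ {m : ℕ} {a : 𝒯.presheaf.obj (op U)}, a ∈ 𝒯.deg U hU m → a ∈ 𝒯.deg U hU (m * 1) := fun h => by
      rwa [mul_one]
    have ht := hgen.ge (Subring.mem_top t)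
    induction ht using Subring.closure_induction with
    | mem v hv =>
      rcases hv with ⟨r, rfl⟩ | ⟨s', hs'⟩
      · refine ⟨1, one_pos, (𝒯.str.app (op U)).hom r * f, hmem' ?_, ?_⟩
        · have := SetLike.mul_mem_graded (𝒯.str_mem U hU r) hf
          rwa [zero_add] at this
        · rw [pow_one, map_mul]
          exact congrArg (· * K f) (ConcreteCategory.congr_hom (u.toQHom.str_appLE U T hle) r).symm
      · refine ⟨1, one_pos, tgen j (show Γ(E, U) from s'), hmem' (tgen_mem hj hU _), ?_⟩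
        show σ v * (u.appLE U T hle).hom f ^ 1 = (u.appLE U T hle).hom _
        rw [pow_one, hK T hle s, hK T hle s', ← hlin]
        exact congrArg (tgen jL) hs'
    | zero => exact ⟨1, one_pos, 0, zero_mem _, by rw [map_zero, zero_mul, map_zero]⟩
    | one => exact ⟨1, one_pos, f, hmem' hf, by rw [map_one, one_mul, pow_one]⟩
    | add x y _ _ hx hy =>
      obtain ⟨m, hm, a, ha, hxa⟩ := hx
      obtain ⟨n, hn, b, hb, hyb⟩ := hy
      refine ⟨m + n, by omega, a * f ^ n + f ^ m * b, hmem' (add_mem ?_ ?_), ?_⟩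
      · have := SetLike.mul_mem_graded (hmem ha) (SetLike.pow_mem_graded n hf)
        rwa [smul_eq_mul, mul_one] at this
      · have := SetLike.mul_mem_graded (SetLike.pow_mem_graded m hf) (hmem hb)
        rwa [smul_eq_mul, mul_one] at this
      · simp only [map_add, map_mul, map_pow, ← hxa, ← hyb, pow_add]
        ring
    | mul x y _ _ hx hy =>
      obtain ⟨m, hm, a, ha, hxa⟩ := hx
      obtain ⟨n, hn, b, hb, hyb⟩ := hy
      refine ⟨m + n, by omega, a * b, hmem' (SetLike.mul_mem_graded (hmem ha) (hmem hb)), ?_⟩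
      simp only [map_mul, ← hxa, ← hyb, pow_add]
      ring
    | neg x _ hx =>
      obtain ⟨m, hm, a, ha, hxa⟩ := hx
      exact ⟨m, hm, -a, neg_mem ha, by rw [map_neg, map_neg, neg_mul, hxa]⟩
  exact ⟨U, hU, 1, one_pos, f, hf, hxs.symm ▸ hxW, hxs.symm ▸ hWaff, hFrac _ hxs _⟩

/-- very ampleness restricts along immersions -/
theorem isRelVeryAmple_pullback_immersion {Z : Scheme.{u}} (i : Z ⟶ X) [IsImmersion i]
    (h : RelProj.IsRelVeryAmple q L) : RelProj.IsRelVeryAmple (i ≫ q) ((Scheme.Modules.pullback i).obj L) := by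
  obtain ⟨E, hE, 𝒯, j, hj, P, p, chart, hP, O1, lam, hO1, k, hk, hc, ⟨θ⟩⟩ := h
  haveI := hk
  exact ⟨E, hE, 𝒯, j, hj, P, p, chart, hP, O1, lam, hO1, i ≫ k, inferInstance, by rw [Category.assoc, hc],
    ⟨(Scheme.Modules.pullback i).mapIso θ ≪≫ (Scheme.Modules.pullbackComp i k).app O1⟩⟩

/-- `O(1)` on projective space over `ℤ` is very ample -/
theorem isRelVeryAmple_twistProjSpace (n : ℕ) :
    RelProj.IsRelVeryAmple (CohB1.ProjSpace.toSpec n (ULift.{u} ℤ))
      (Twist.twistProjSpace n (ULift.{u} ℤ) 1) := by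
  let Z := ULift.{u} ℤ
  let 𝒜 := CohB1.polyGrading n Z
  let e : ULift.{u} (Fin (n + 1)) → MvPolynomial (Fin (n + 1)) Z := fun i ↦ MvPolynomial.X i.down
  have he : ∀ i, e i ∈ 𝒜 1 := fun i ↦ ProjCoord.X_mem i.down
  have hcov1 := ProjUPLib.le_iSup_basicOpen 𝒜 e he (ProjUPLib.adjoin_range_X n Z)
  have hcov : (⨆ f : 𝒜 1, Proj.basicOpen 𝒜 (f : MvPolynomial (Fin (n + 1)) Z)) = ⊤ :=
    eq_top_iff.2 (hcov1.trans (iSup_le fun k => le_iSup (fun f : 𝒜 1 => Proj.basicOpen 𝒜 (f : MvPolynomial (Fin (n + 1)) Z)) ⟨e k, he k⟩))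
  have hL : PicF.IsInvertible (Twist.twistProjSpace n Z 1) := ProjUPLib.isInvertible_twist 𝒜 1 hcov
  refine isRelVeryAmple_of_sections (q := CohB1.ProjSpace.toSpec n Z) hL fun x => ?_
  obtain ⟨k, hk⟩ := Opens.mem_iSup.1 (hcov1 (trivial : x ∈ (⊤ : (Proj 𝒜).Opens)))
  refine ⟨⊤, isAffineOpen_top _, ProjUPLib.oneSec 𝒜 (he k), Proj.basicOpen 𝒜 (e k), le_top, hk,
    Proj.isAffineOpen_basicOpen 𝒜 (e k) (he k) one_pos, ProjUPLib.isFrame_oneSec 𝒜 (he k), fun G hG hG' => ?_, ?_⟩
  · exact (ProjUPLib.le_loc hG').trans (ProjUPLib.genLocus_oneSec 𝒜 hcov (he k)).le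
  · refine eq_top_iff.2 fun z hz => ?_
    clear hz
    let ψ : MvPolynomial (Fin (n + 1)) Z →+* Γ(Proj 𝒜, Proj.basicOpen 𝒜 (e k)) :=
      (Proj.awayToSection 𝒜 (e k)).hom.comp (EGA2G.dehom 𝒜 (he k))
    obtain ⟨w, rfl⟩ := ((ConcreteCategory.isIso_iff_bijective
      (Proj.basicOpenIsoAway 𝒜 (e k) (he k) one_pos).hom).mp inferInstance).2 z
    obtain ⟨a, rfl⟩ := ProjUPLib.dehom_surjective 𝒜 (he k) w
    show ψ a ∈ _
    induction a using MvPolynomial.induction_on with
    | C c =>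
      have hc : (MvPolynomial.C c : MvPolynomial (Fin (n + 1)) Z) = ((c.down : ℤ) : MvPolynomial (Fin (n + 1)) Z) := by
        rw [← map_intCast (MvPolynomial.C : Z →+* MvPolynomial (Fin (n + 1)) Z)]
        congr 1
      rw [hc, map_intCast]
      exact intCast_mem _ _
    | add a b ha hb => rw [map_add]; exact add_mem ha hb
    | mul_X a i ha =>
      rw [map_mul]
      refine mul_mem ha (Subring.subset_closure (Or.inr ⟨ProjUPLib.oneSec 𝒜 (he ⟨i⟩), ?_⟩))
      exact ProjUPLib.secRatio_smul_oneSec 𝒜 (he k) (he ⟨i⟩)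

/-- `O(1)` on projective space over a base is very ample -/
theorem isRelVeryAmple_twistOver (n : ℕ) (S : Scheme.{u}) :
    RelProj.IsRelVeryAmple (pullback.snd (CohB1.ProjSpace.toSpec n (ULift.{u} ℤ)) (specULiftZIsTerminal.from S))
      (Twist.twistOver n S 1) := by
  obtain ⟨E, hE, 𝒯, j, hj, P, p, chart, hP, O1, lam, hO1, i, hi, hcomp, ⟨e⟩⟩ := isRelVeryAmple_twistProjSpace n
  obtain ⟨𝒯', j', hE', hj', P', p', chart', hP', O1', lam', hO1', h, hpb, ⟨θ⟩⟩ :=
    exists_bundle_baseChange (specULiftZIsTerminal.from S) hE hj hP hO1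
  let p₁ := pullback.fst (CohB1.ProjSpace.toSpec n (ULift.{u} ℤ)) (specULiftZIsTerminal.from S)
  let p₂ := pullback.snd (CohB1.ProjSpace.toSpec n (ULift.{u} ℤ)) (specULiftZIsTerminal.from S)
  have hw : (p₁ ≫ i) ≫ p = p₂ ≫ specULiftZIsTerminal.from S := by
    rw [Category.assoc, hcomp]; exact pullback.condition
  let i' := hpb.lift (p₁ ≫ i) p₂ hw
  have hsq2 : IsPullback p₁ i' i h := by
    refine IsPullback.of_bot ?_ (hpb.lift_fst _ _ _).symm hpb
    rw [hpb.lift_snd, hcomp]; exact IsPullback.of_hasPullback _ _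
  haveI : IsImmersion i' := MorphismProperty.of_isPullback hsq2 hi
  exact ⟨_, hE', 𝒯', j', hj', P', p', chart', hP', O1', lam', hO1', i', inferInstance, hpb.lift_snd _ _ _,
    ⟨(Scheme.Modules.pullback p₁).mapIso e ≪≫ (Scheme.Modules.pullbackComp p₁ i).app O1 ≪≫
      (Scheme.Modules.pullbackCongr (hpb.lift_fst (p₁ ≫ i) p₂ hw).symm).app O1 ≪≫
      ((Scheme.Modules.pullbackComp i' h).app O1).symm ≪≫ (Scheme.Modules.pullback i').mapIso θ⟩⟩

/-- very ampleness in the sense of projective space implies very ampleness -/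
theorem isRelVeryAmple_of_Pn (h : RelAmple.IsRelVeryAmplePn q L) : RelProj.IsRelVeryAmple q L := by
  obtain ⟨n, i, hi, hq, ⟨e⟩⟩ := h
  haveI := hi
  subst hq
  exact isRelVeryAmple_of_iso (isRelVeryAmple_pullback_immersion i (isRelVeryAmple_twistOver n Y)) e.symm

end Groth.Agent.SymAlgRel
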