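import Mathlib
import Groth.Agent.SymAlgRel.VASections
import Groth.Agent.EGA2Misc.RelProjBasic
import Groth.Agent.SymAlgRel.RLample

/-!
# Very ampleness is local on the base
-/

set_option autoImplicit false
set_option synthInstance.maxHeartbeats 200000
set_option backward.isDefEq.respectTransparency false
set_option backward.isDefEq.respectTransparency.types false

noncomputable section

universe u

open CategoryTheory CategoryTheory.Limits AlgebraicGeometry TopologicalSpace Opposite RelSpec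
open Groth.Agent.QCohBase Groth.Agent.GenLocus
open scoped HomogeneousIdeal

namespace Groth.Agent.SymAlgRel

theorem isSeparated_of_isRelVeryAmple {X Y : Scheme.{u}} {q : X ⟶ Y} {L : X.Modules}
    (h : RelProj.IsRelVeryAmple q L) : IsSeparated q := by
  obtain ⟨E, hE, 𝒯, j, hj, P, p, chart, hP, O1, lam, hO1, i, hi, hc, -⟩ := h
  haveI := hi
  haveI := EGA2Misc.isSeparated_of_isRelProj hP
  subst hc
  infer_instance

/-- restriction to an open of the base -/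
theorem isRelVeryAmple_restrict {X Y : Scheme.{u}} {q : X ⟶ Y} {L : X.Modules} (U : Y.Opens)
    (h : RelProj.IsRelVeryAmple q L) : RelProj.IsRelVeryAmple (q ∣_ U) (L.restrict (q ⁻¹ᵁ U).ι) := by
  obtain ⟨E, hE, 𝒯, j, hj, P, p, chart, hP, O1, lam, hO1, i, hi, hcomp, ⟨e⟩⟩ := h
  obtain ⟨𝒯', j', hE', hj', P', p', chart', hP', O1', lam', hO1', h, hpb, ⟨θ⟩⟩ :=
    exists_bundle_baseChange U.ι hE hj hP hO1
  subst hcomp
  let g' := ((i ≫ p) ⁻¹ᵁ U).ι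
  let f' := (i ≫ p) ∣_ U
  have hsq : IsPullback g' f' (i ≫ p) U.ι := (isPullback_morphismRestrict (i ≫ p) U).flip
  let i' := hpb.lift (g' ≫ i) f' (by rw [Category.assoc]; exact hsq.w)
  have hsq2 : IsPullback g' i' i h := by
    refine IsPullback.of_bot ?_ (hpb.lift_fst _ _ _).symm hpb
    rw [hpb.lift_snd]; exact hsq
  haveI : IsImmersion i' := MorphismProperty.of_isPullback hsq2 hi
  exact ⟨_, hE', 𝒯', j', hj', P', p', chart', hP', O1', lam', hO1', i', inferInstance, hpb.lift_snd _ _ _,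
    ⟨(Scheme.Modules.restrictFunctorIsoPullback g').app L ≪≫
      (Scheme.Modules.pullback g').mapIso e ≪≫ (Scheme.Modules.pullbackComp g' i).app O1 ≪≫
      (Scheme.Modules.pullbackCongr (hpb.lift_fst (g' ≫ i) f' _).symm).app O1 ≪≫
      ((Scheme.Modules.pullbackComp i' h).app O1).symm ≪≫ (Scheme.Modules.pullback i').mapIso θ⟩⟩

section Transfer

variable {X Y : Scheme.{u}} {q : X ⟶ Y} {L : X.Modules} (Ui : Y.Opens)
  {Ei : (Ui : Scheme.{u}).Modules} (hEi : Coh.IsQCoh Ei) {𝒯i : RelProj.QCGrAlg (Ui : Scheme.{u})}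
  {ji : Ei ⟶ 𝒯i.toModule} (hji : RelProj.IsGrSymAlg Ei 𝒯i ji)
  {𝒮i : RelProj.QCGrAlg (q ⁻¹ᵁ Ui : Scheme.{u})} {jLi : L.restrict (q ⁻¹ᵁ Ui).ι ⟶ 𝒮i.toModule}
  (hjLi : RelProj.IsGrSymAlg (L.restrict (q ⁻¹ᵁ Ui).ι) 𝒮i jLi)
  (ui : RelProj.QGrHom (q ∣_ Ui) 𝒯i 𝒮i) (σi : Ei ⟶ (Scheme.Modules.pushforward (q ∣_ Ui)).obj (L.restrict (q ⁻¹ᵁ Ui).ι))
  (hui : ∀ (U : (Ui : Scheme.{u}).Opens), IsAffineOpen U → ∀ e : Γ(Ei, U),
    (ui.app U).hom (tgen ji e) = jLi.app _ (σi.app U e))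
  {𝒯 : RelProj.QCGrAlg Y} {j : (Scheme.Modules.pushforward q).obj L ⟶ 𝒯.toModule}
  (hj : RelProj.IsGrSymAlg ((Scheme.Modules.pushforward q).obj L) 𝒯 j)
  {𝒮L : RelProj.QCGrAlg X} {jL : L ⟶ 𝒮L.toModule} (hjL : RelProj.IsGrSymAlg L 𝒮L jL)
  (u : RelProj.QGrHom q 𝒯 𝒮L)
  (hu : ∀ (U : Y.Opens), IsAffineOpen U → ∀ s : Γ((Scheme.Modules.pushforward q).obj L, U),
    (u.app U).hom (tgen j s) = jL.app (q ⁻¹ᵁ U) (show Γ(L, q ⁻¹ᵁ U) from s))

theorem image_le_preimage {U' : (Ui : Scheme.{u}).Opens} {V : (q ⁻¹ᵁ Ui : Scheme.{u}).Opens}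
    (hle : V ≤ (q ∣_ Ui) ⁻¹ᵁ U') : (q ⁻¹ᵁ Ui).ι ''ᵁ V ≤ q ⁻¹ᵁ (Ui.ι ''ᵁ U') :=
  ((q ⁻¹ᵁ Ui).ι.image_mono hle).trans (image_morphismRestrict_preimage q Ui U').le

include hEi hji hjLi hui hj hjL hu in
/-- the element of the global algebra with the same coefficients -/
theorem exists_transfer (U' : (Ui : Scheme.{u}).Opens) (hU' : IsAffineOpen U') (hU : IsAffineOpen (Ui.ι ''ᵁ U'))
    {n : ℕ} {a : 𝒯i.presheaf.obj (op U')} (ha : a ∈ 𝒯i.deg U' hU' n) :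
    ∃ A ∈ 𝒯.deg (Ui.ι ''ᵁ U') hU n, ∀ (V : (q ⁻¹ᵁ Ui : Scheme.{u}).Opens) (hle : V ≤ (q ∣_ Ui) ⁻¹ᵁ U')
      (l : Γ(L, (q ⁻¹ᵁ Ui).ι ''ᵁ V)), IsFrame L l → ∃ c : Γ(X, (q ⁻¹ᵁ Ui).ι ''ᵁ V),
        (ui.appLE U' V hle).hom a = (𝒮i.str.app (op V)).hom (show Γ((q ⁻¹ᵁ Ui : Scheme.{u}), V) from c) *
          tgen jLi (show Γ(L.restrict (q ⁻¹ᵁ Ui).ι, V) from l) ^ n ∧
        (u.appLE (Ui.ι ''ᵁ U') ((q ⁻¹ᵁ Ui).ι ''ᵁ V) (image_le_preimage Ui hle)).hom A =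
          (𝒮L.str.app (op _)).hom c * tgen jL l ^ n := by
  let good : ℕ → 𝒯i.presheaf.obj (op U') → Prop := fun k z => z ∈ 𝒯i.deg U' hU' k ∧
    ∃ A ∈ 𝒯.deg (Ui.ι ''ᵁ U') hU k, ∀ (V : (q ⁻¹ᵁ Ui : Scheme.{u}).Opens) (hle : V ≤ (q ∣_ Ui) ⁻¹ᵁ U')
      (l : Γ(L, (q ⁻¹ᵁ Ui).ι ''ᵁ V)), IsFrame L l → ∃ c : Γ(X, (q ⁻¹ᵁ Ui).ι ''ᵁ V),
        (ui.appLE U' V hle).hom z = (𝒮i.str.app (op V)).hom (show Γ((q ⁻¹ᵁ Ui : Scheme.{u}), V) from c) *
          tgen jLi (show Γ(L.restrict (q ⁻¹ᵁ Ui).ι, V) from l) ^ k ∧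
        (u.appLE (Ui.ι ''ᵁ U') ((q ⁻¹ᵁ Ui).ι ''ᵁ V) (image_le_preimage Ui hle)).hom A =
          (𝒮L.str.app (op _)).hom c * tgen jL l ^ k
  have h := mem_closure_of_gen (𝒜 := 𝒯i.deg U' hU') good (fun k z hz => hz.1) ?_ ?_ _ ?_
    (closure_sym_eq_top Ei hEi hji.1 hU') ha
  rotate_left
  · exact ⟨SetLike.one_mem_graded _, 1, SetLike.one_mem_graded _, fun V hle l _ =>
      ⟨1, (map_one _).trans (((congrArg₂ (· * ·) (map_one _) (pow_zero _)).trans (one_mul 1)).symm), by simp⟩⟩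
  · rintro k m x y ⟨hx, A, hA, hAc⟩ ⟨hy, B, hB, hBc⟩
    refine ⟨SetLike.mul_mem_graded hx hy, A * B, SetLike.mul_mem_graded hA hB, fun V hle l hl => ?_⟩
    obtain ⟨c, hc1, hc2⟩ := hAc V hle l hl
    obtain ⟨d, hd1, hd2⟩ := hBc V hle l hl
    refine ⟨c * d, ?_, by rw [map_mul, hc2, hd2]; simp only [map_mul, pow_add]; ring⟩
    rw [map_mul, hc1, hd1]
    refine Eq.trans ?_ (congrArg (· * _) (map_mul (𝒮i.str.app (op V)).hom
      (show Γ((q ⁻¹ᵁ Ui : Scheme.{u}), V) from c) (show Γ((q ⁻¹ᵁ Ui : Scheme.{u}), V) from d))).symm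
    rw [pow_add]
    ring
  · rintro z (⟨r, rfl⟩ | ⟨e, rfl⟩)
    · refine ⟨0, 𝒯i.str_mem U' hU' r, (𝒯.str.app (op (Ui.ι ''ᵁ U'))).hom (show Γ(Y, Ui.ι ''ᵁ U') from r),
        𝒯.str_mem _ hU _, fun V hle l _ =>
        ⟨(q.appLE (Ui.ι ''ᵁ U') ((q ⁻¹ᵁ Ui).ι ''ᵁ V) (image_le_preimage Ui hle)).hom r, ?_, ?_⟩⟩
      · rw [pow_zero, mul_one]
        refine (ConcreteCategory.congr_hom (ui.toQHom.str_appLE U' V hle) r).trans ?_
        refine congrArg (𝒮i.str.app (op V)).hom ?_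
        rw [morphismRestrict_appLE]
        rfl
      · rw [pow_zero, mul_one]
        exact ConcreteCategory.congr_hom (u.toQHom.str_appLE _ _ (image_le_preimage Ui hle)) _
    · let s : Γ(L, q ⁻¹ᵁ (Ui.ι ''ᵁ U')) := mres L (image_morphismRestrict_preimage q Ui U').ge
        (show Γ(L, (q ⁻¹ᵁ Ui).ι ''ᵁ ((q ∣_ Ui) ⁻¹ᵁ U')) from σi.app U' e)
      refine ⟨1, tgen_mem hji hU' e, tgen j (show Γ((Scheme.Modules.pushforward q).obj L, Ui.ι ''ᵁ U') from s),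
        tgen_mem hj hU _, fun V hle l hl => ?_⟩
      obtain ⟨c, hc⟩ := hl.bijective.2 (mres L (image_le_preimage Ui hle) s)
      replace hc : c • l = mres L (image_le_preimage Ui hle) s := hc
      refine ⟨c, ?_, ?_⟩
      · rw [pow_one]
        refine ((ares_appLE ui U' V hle _).symm.trans (congrArg _ ((appLE_self_apply ui U' _).trans (hui U' hU' e)))).trans ?_
        refine (res_tgen hjLi hle (e := σi.app U' e)).trans ?_
        refine Eq.trans (congrArg (tgen jLi) ?_) (map_smul (jLi.val.app (op V)).hom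
          (show Γ((q ⁻¹ᵁ Ui : Scheme.{u}), V) from c) (show Γ(L.restrict (q ⁻¹ᵁ Ui).ι, V) from l))
        refine Eq.trans ?_ (Eq.trans hc.symm ?_)
        · exact (mres_mres L (image_morphismRestrict_preimage q Ui U').ge (image_le_preimage Ui hle) _).symm
        · have h1 := Scheme.Modules.smul_restrictAppIso_hom_apply (M := L) (q ⁻¹ᵁ Ui).ι (U := V)
            (show Γ((q ⁻¹ᵁ Ui : Scheme.{u}), V) from c) (show Γ(L.restrict (q ⁻¹ᵁ Ui).ι, V) from l)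
          simp only [Scheme.Opens.ι_appIso] at h1
          exact h1.symm
      · rw [pow_one]
        refine ((ares_appLE u _ _ (image_le_preimage Ui hle) _).symm.trans (congrArg _ ((appLE_self_apply u _ _).trans
          (hu _ hU _)))).trans ?_
        refine (res_tgen hjL (image_le_preimage Ui hle) (e := s)).trans ?_
        exact (congrArg (tgen jL) hc.symm).trans (map_smul (jL.val.app (op _)).hom c l)
  suffices h' : good n a from h'.2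
  clear ha
  induction h using AddSubgroup.closure_induction with
  | mem z hz => exact hz
  | zero =>
    refine ⟨zero_mem _, 0, zero_mem _, fun V hle l _ => ⟨0, ?_, by simp⟩⟩
    refine (map_zero _).trans ((congrArg (· * _) (map_zero (𝒮i.str.app (op V)).hom)).trans (zero_mul _)).symm
  | add x y _ _ hx hy =>
    obtain ⟨hx, A, hA, hAc⟩ := hx
    obtain ⟨hy, B, hB, hBc⟩ := hy
    refine ⟨add_mem hx hy, A + B, add_mem hA hB, fun V hle l hl => ?_⟩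
    obtain ⟨c, hc1, hc2⟩ := hAc V hle l hl
    obtain ⟨d, hd1, hd2⟩ := hBc V hle l hl
    refine ⟨c + d, ?_, by rw [map_add, hc2, hd2, map_add, add_mul]⟩
    rw [map_add, hc1, hd1]
    exact ((congrArg (· * _) (map_add (𝒮i.str.app (op V)).hom (show Γ((q ⁻¹ᵁ Ui : Scheme.{u}), V) from c)
      (show Γ((q ⁻¹ᵁ Ui : Scheme.{u}), V) from d))).trans (add_mul _ _ _)).symm
  | neg x _ hx =>
    obtain ⟨hx, A, hA, hAc⟩ := hx
    refine ⟨neg_mem hx, -A, neg_mem hA, fun V hle l hl => ?_⟩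
    obtain ⟨c, hc1, hc2⟩ := hAc V hle l hl
    refine ⟨-c, ?_, by rw [map_neg, hc2, map_neg, neg_mul]⟩
    rw [map_neg, hc1]
    exact ((congrArg (· * _) (map_neg (𝒮i.str.app (op V)).hom (show Γ((q ⁻¹ᵁ Ui : Scheme.{u}), V) from c))).trans
      (neg_mul _ _)).symm

end Transfer

set_option maxHeartbeats 1000000 in
/-- very ampleness is local on the base -/
theorem isRelVeryAmple_of_openCover {X Y : Scheme.{u}} {q : X ⟶ Y} [QuasiCompact q] {L : X.Modules}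
    (hL : PicF.IsInvertible L) {ι : Type*} (U : ι → Y.Opens) (hU : ⨆ i, U i = ⊤)
    (h : ∀ i, RelProj.IsRelVeryAmple (q ∣_ (U i)) (L.restrict (q ⁻¹ᵁ (U i)).ι)) :
    RelProj.IsRelVeryAmple q L := by
  haveI : IsSeparated q :=
    (IsZariskiLocalAtTarget.iff_of_iSup_eq_top (P := @IsSeparated) U hU).2 fun i => isSeparated_of_isRelVeryAmple (h i)
  have hLq := TensorMod.isQCoh_of_isInvertible hL
  haveI : L.IsQuasicoherent := hLq
  let E := (Scheme.Modules.pushforward q).obj L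
  have hE : Coh.IsQCoh E := QCohBase.isQuasicoherent_pushforward L q
  obtain ⟨𝒯, j, hj⟩ := exists_isGrSymAlg E hE
  obtain ⟨𝒮L, jL, hjL⟩ := exists_isGrSymAlg L hLq
  obtain ⟨PL, pL, chartL, hPL⟩ := exists_isRelProj 𝒮L
  obtain ⟨u, hu⟩ := exists_qGrHom_sigma (q := q) hE hj hjL (𝟙 E)
  refine isRelVeryAmple_of_forall hL hjL hE hj u fun x => ?_
  obtain ⟨i, hxi⟩ := Opens.mem_iSup.1 (show q x ∈ ⨆ i, U i by rw [hU]; trivial)
  let W := q ⁻¹ᵁ U i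
  let qi := q ∣_ U i
  have hLi : PicF.IsInvertible (L.restrict W.ι) := TensorMod.isInvertible_restrict hL _
  have hLiq := TensorMod.isQCoh_of_isInvertible hLi
  obtain ⟨𝒮i, jLi, hjLi, PLi, pLi, chartLi, hPLi, Ei, hEi, 𝒯i, ji, hji, ui, σi, hui, hgood⟩ :=
    exists_data_of_isRelVeryAmple hLi (h i)
  obtain ⟨_, ⟨U', hU', rfl⟩, hxU', -⟩ := ((U i : Scheme.{u})).isBasis_affineOpens.exists_subset_of_mem_open
    (Set.mem_univ (qi ⟨x, hxi⟩)) isOpen_univ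
  replace hU' : IsAffineOpen U' := hU'
  have hU'' : IsAffineOpen ((U i).ι ''ᵁ U') := hU'.image_of_isOpenImmersion _
  obtain ⟨d, hd, f, hf, hxf, hT, hF⟩ := hgood ⟨x, hxi⟩ U' hU' hxU'
  obtain ⟨F, hFd, hFc⟩ := exists_transfer (U i) hEi hji hjLi ui σi hui hj hjL u hu U' hU' hU'' hf
  let T := xs ui U' d f
  have hxs : xs u ((U i).ι ''ᵁ U') d F = W.ι ''ᵁ T := by
    refine SetLike.ext fun y => ?_
    by_cases hy : y ∈ q ⁻¹ᵁ ((U i).ι ''ᵁ U')
    swap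
    · exact ⟨fun h => absurd (xs_le u _ d F h) hy,
        fun h => absurd (image_le_preimage (U i) (xs_le ui U' d f) h) hy⟩
    obtain ⟨z, hz, rfl⟩ := (image_morphismRestrict_preimage q (U i) U').ge hy
    obtain ⟨V, hVaff, hVle, e, hzV, he⟩ := exists_frame_le hL W (qi ⁻¹ᵁ U') z hz
    have hV : IsAffineOpen V := (W.ι.isAffineOpen_iff_of_isOpenImmersion).1 hVaff
    obtain ⟨c, hc1, hc2⟩ := hFc V hVle e he
    have he' : IsFrame (L.restrict W.ι) (show Γ(L.restrict W.ι, V) from e) := isFrame_restrict W e he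
    have hzV' : W.ι z ∈ W.ι ''ᵁ V := ⟨z, hzV, rfl⟩
    refine (mem_xs u).trans ((genAt_iff_basicOpen u hjL hLq hL hPL _ hU'' hd F hFd hVaff (image_le_preimage (U i) hVle) he hc2 hzV').trans ?_)
    refine Iff.trans ?_ (Iff.trans ((genAt_iff_basicOpen ui hjLi hLiq hLi hPLi U' hU' hd f hf hV hVle he' hc1 hzV).symm.trans
      (mem_xs ui).symm) ⟨fun h => ⟨z, h, rfl⟩, ?_⟩)
    · have hb : W.ι ''ᵁ (W : Scheme.{u}).basicOpen (show Γ((W : Scheme.{u}), V) from c) = X.basicOpen c := by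
        rw [Scheme.image_basicOpen, Scheme.Opens.ι_appIso]
        rfl
      refine Iff.trans (SetLike.ext_iff.1 hb (W.ι z)).symm ?_
      exact ⟨fun ⟨z', hz', e'⟩ => W.ι.isOpenEmbedding.injective e' ▸ hz', fun h => ⟨z, h, rfl⟩⟩
    · rintro ⟨z', hz', e'⟩
      exact W.ι.isOpenEmbedding.injective e' ▸ hz'
  refine ⟨(U i).ι ''ᵁ U', hU'', d, hd, F, hFd, hxs.symm ▸ ⟨⟨x, hxi⟩, hxf, rfl⟩,
    hxs.symm ▸ hT.image_of_isOpenImmersion W.ι, ?_⟩
  intro t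
  obtain ⟨m, hm, a, ha, hta⟩ := hF (show Γ((W : Scheme.{u}), T) from ores hxs.ge t)
  obtain ⟨A, hA, hAc⟩ := exists_transfer (U i) hEi hji hjLi ui σi hui hj hjL u hu U' hU' hU'' ha
  refine ⟨m, hm, A, hA, ?_⟩
  choose V hVaff hVle e hzV he using fun z : T => exists_frame_le hL W T z.1 z.2
  have hVT : ∀ z, W.ι ''ᵁ V z ≤ xs u ((U i).ι ''ᵁ U') d F := fun z => (W.ι.image_mono (hVle z)).trans hxs.ge
  refine eq_of_ares 𝒮L.toQCAlg (fun z => W.ι ''ᵁ V z) hVT (fun y hy => ?_) _ _ fun z => ?_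
  · obtain ⟨z, hz, rfl⟩ := hxs.le hy
    exact Opens.mem_iSup.2 ⟨⟨z, hz⟩, z, hzV _, rfl⟩
  have hle : V z ≤ qi ⁻¹ᵁ U' := (hVle z).trans (xs_le ui U' d f)
  have hV : IsAffineOpen (V z) := (W.ι.isAffineOpen_iff_of_isOpenImmersion).1 (hVaff z)
  have he' : IsFrame (L.restrict W.ι) (show Γ(L.restrict W.ι, V z) from e z) := isFrame_restrict W (e z) (he z)
  obtain ⟨cf, hcf1, hcf2⟩ := hFc (V z) hle (e z) (he z)
  obtain ⟨ca, hca1, hca2⟩ := hAc (V z) hle (e z) (he z)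
  have hK : ∀ (b : 𝒯.presheaf.obj (op ((U i).ι ''ᵁ U'))), ares 𝒮L.toQCAlg (hVT z)
      ((u.appLE ((U i).ι ''ᵁ U') (xs u _ d F) (xs_le u _ d F)).hom b) =
        (u.appLE ((U i).ι ''ᵁ U') (W.ι ''ᵁ V z) (image_le_preimage (U i) hle)).hom b := fun b =>
    ConcreteCategory.congr_hom (RelSpec.QHom.appLE_map u.toQHom (xs_le u _ d F) (hVT z)) b
  have hK' : ∀ (b : 𝒯i.presheaf.obj (op U')), ares 𝒮i.toQCAlg (hVle z)
      ((ui.appLE U' T (xs_le ui U' d f)).hom b) = (ui.appLE U' (V z) hle).hom b := fun b =>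
    ConcreteCategory.congr_hom (RelSpec.QHom.appLE_map ui.toQHom (xs_le ui U' d f) (hVle z)) b
  have h1 := congrArg (ares 𝒮i.toQCAlg (hVle z)) hta
  rw [map_mul, map_pow, ares_str, hK', hK', hcf1, hca1, mul_pow, ← map_pow, ← pow_mul, mul_comm d m,
    ← mul_assoc, ← map_mul] at h1
  have h2 := str_mul_pow_inj hjLi hLiq hV he' h1
  rw [map_mul, map_pow, ares_str, hK, hK, hcf2, hca2, mul_pow, ← map_pow, ← pow_mul, mul_comm d m, ← mul_assoc,
    ← map_mul]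
  refine congrArg (fun c => (𝒮L.str.app (op _)).hom c * _) (Eq.trans ?_ h2)
  refine congrArg₂ (· * ·) ?_ rfl
  exact (ores_ores hxs.ge (W.ι.image_mono (hVle z)) t).symm

end Groth.Agent.SymAlgRel
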