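import Mathlib
import Groth.Agent.SymAlgRel.VALocal
import Groth.Agent.SymAlgRel.DegPiece
import Groth.Agent.QCohExt.Basic

/-!
# Finite type submodules carrying an immersion into a projective bundle
-/

set_option autoImplicit false
set_option synthInstance.maxHeartbeats 200000
set_option backward.isDefEq.respectTransparency false
set_option backward.isDefEq.respectTransparency.types false

noncomputable section

universe u

open CategoryTheory CategoryTheory.Limits AlgebraicGeometry TopologicalSpace Opposite RelSpec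
open Groth.Agent.QCohBase Groth.Agent.GenLocus
open scoped HomogeneousIdeal

namespace Groth.Agent.SymAlgRel

variable {X Y : Scheme.{u}} {q : X ⟶ Y} {F : Y.Modules} {𝒯 : RelProj.QCGrAlg Y} {jF : F ⟶ 𝒯.toModule}
  {𝒮L : RelProj.QCGrAlg X}

/-- the image of a generator is homogeneous of degree one -/
theorem app_tgen_mem (hF : RelProj.IsGrSymAlg F 𝒯 jF) (u : RelProj.QGrHom q 𝒯 𝒮L) (U : Y.Opens) (m : Γ(F, U)) :
    (u.app U).hom (tgen jF m) ∈ degSub 𝒮L 1 (q ⁻¹ᵁ U) := by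
  refine degSub_of_cover 𝒮L 1 _ fun x hx => ?_
  obtain ⟨U', hU', hxU', hU'U⟩ := Opens.isBasis_iff_nbhd.1 Y.isBasis_affineOpens (show q x ∈ U from hx)
  obtain ⟨V, hV, hxV, hVU'⟩ := Opens.isBasis_iff_nbhd.1 X.isBasis_affineOpens (show x ∈ q ⁻¹ᵁ U' from hxU')
  refine ⟨V, hVU'.trans (q.preimage_mono hU'U), hxV, (mem_degSub_iff 𝒮L 1 hV _).2 ?_⟩
  have h1 := (u.gradedAt U' hU' V hV hVU').map_mem (tgen_mem hF hU' (mres F hU'U m))
  have h2 : (u.appLE U' V hVU').hom (tgen jF (mres F hU'U m)) =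
      (u.appLE U V (hVU'.trans (q.preimage_mono hU'U))).hom (tgen jF m) := by
    rw [← res_tgen hF hU'U]
    exact ConcreteCategory.congr_hom (RelSpec.QHom.map_appLE u.toQHom hU'U hVU') _
  exact h2 ▸ h1

/-- the degree one part of a homomorphism, as a map of modules -/
def degOneMap (hF : RelProj.IsGrSymAlg F 𝒯 jF) (u : RelProj.QGrHom q 𝒯 𝒮L) :
    F ⟶ (Scheme.Modules.pushforward q).obj (degPiece 𝒮L 1) :=
  ⟨PresheafOfModules.homMk
    { app := fun U => AddCommGrpCat.ofHom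
        { toFun := fun m => (⟨(u.app U.unop).hom (jF.app U.unop m), app_tgen_mem hF u U.unop m⟩ :
            degSub 𝒮L 1 (q ⁻¹ᵁ U.unop))
          map_zero' := Subtype.ext (by
            show (u.app U.unop).hom (jF.app U.unop 0) = 0
            rw [map_zero]
            exact map_zero _)
          map_add' := fun a b => Subtype.ext (by
            show (u.app U.unop).hom (jF.app U.unop (a + b)) = _
            rw [map_add]
            exact map_add (u.app U.unop).hom _ _) }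
      naturality := fun U V i => by
        ext m
        refine Subtype.ext ?_
        show (u.app V.unop).hom (jF.app V.unop (mres F i.unop.le m)) =
          (𝒮L.presheaf.map _).hom ((u.app U.unop).hom (jF.app U.unop m))
        rw [← app_mres jF i.unop.le m]
        exact (ConcreteCategory.congr_hom (u.naturality i.unop.le) (jF.app U.unop m)).symm }
    fun U r m => Subtype.ext (by
      show (u.app U.unop).hom (jF.app U.unop (r • m)) =
        (𝒮L.str.app (op (q ⁻¹ᵁ U.unop))).hom ((q.app U.unop).hom r) * (u.app U.unop).hom (jF.app U.unop m)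
      rw [Scheme.Modules.Hom.app_smul]
      refine (map_mul (u.app U.unop).hom ((𝒯.str.app (op U.unop)).hom r) (jF.app U.unop m)).trans ?_
      exact congrArg (· * _) (ConcreteCategory.congr_hom (u.str_app U.unop) r))⟩

/-- a homomorphism out of the symmetric algebra of a module mapping to `F` -/
theorem exists_qGrHom_sub (hF : RelProj.IsGrSymAlg F 𝒯 jF) (u : RelProj.QGrHom q 𝒯 𝒮L) {E : Y.Modules}
    (hE : Coh.IsQCoh E) {𝒯' : RelProj.QCGrAlg Y} {jE : E ⟶ 𝒯'.toModule} (hj : RelProj.IsGrSymAlg E 𝒯' jE)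
    (ι : E ⟶ F) :
    ∃ u' : RelProj.QGrHom q 𝒯' 𝒮L, ∀ (U : Y.Opens) (x : Γ(E, U)),
      (u'.app U).hom (tgen jE x) = (u.app U).hom (tgen jF (ι.app U x)) := by
  let ψ := ι ≫ degOneMap hF u
  let φ₁ := ((Scheme.Modules.pullbackPushforwardAdjunction q).homEquiv E (degPiece 𝒮L 1)).symm ψ
  obtain ⟨u', hu'⟩ := exists_qGrHom (g := q) E hj hE (φ₁ ≫ degIncl 𝒮L 1) fun V hV x =>
    degIncl_app_mem 𝒮L 1 V hV (φ₁.app V x)
  have key : ∀ (U : Y.Opens), IsAffineOpen U → ∀ x : Γ(E, U),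
      (u'.app U).hom (tgen jE x) = (u.app U).hom (tgen jF (ι.app U x)) := by
    intro U hU x
    have h2 := Adjunction.homEquiv_unit (Scheme.Modules.pullbackPushforwardAdjunction q) E _ φ₁
    rw [Equiv.apply_symm_apply] at h2
    have h3 := (congr($(congrArg (fun f ↦ Scheme.Modules.Hom.app f U) h2) x)).symm
    exact (hu' U hU x).trans (congrArg (fun z : degSub 𝒮L 1 (q ⁻¹ᵁ U) => z.1) h3)
  refine ⟨u', fun U x => ?_⟩
  refine TopCat.Sheaf.eq_of_locally_eq' (⟨𝒮L.presheaf, 𝒮L.isSheaf⟩ : TopCat.Sheaf CommRingCat.{u} X.carrier)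
    (fun W : {W : Y.affineOpens // (W : Y.Opens) ≤ U} => q ⁻¹ᵁ (W.1 : Y.Opens)) (q ⁻¹ᵁ U)
    (fun W => homOfLE (q.preimage_mono W.2)) (fun y hy => ?_) _ _ fun W => ?_
  · obtain ⟨U', hU', h1, h2⟩ := Opens.isBasis_iff_nbhd.1 Y.isBasis_affineOpens (show q y ∈ U from hy)
    exact Opens.mem_iSup.2 ⟨⟨⟨U', hU'⟩, h2⟩, h1⟩
  · refine (ConcreteCategory.congr_hom (u'.naturality W.2) _).trans
      (Eq.trans ?_ (ConcreteCategory.congr_hom (u.naturality W.2) _).symm)
    refine (congrArg (u'.app _).hom (res_tgen hj W.2 (e := x))).trans (Eq.trans ?_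
      (congrArg (u.app _).hom (res_tgen hF W.2 (e := ι.app U x))).symm)
    exact (key _ W.1.2 _).trans (congrArg (fun z => (u.app _).hom (tgen jF z)) (app_mres ι W.2 x).symm)

/-- homogeneous elements made of reachable generators are reachable -/
theorem exists_reach (hF : RelProj.IsGrSymAlg F 𝒯 jF) (u : RelProj.QGrHom q 𝒯 𝒮L)
    {𝒯' : RelProj.QCGrAlg Y} (u' : RelProj.QGrHom q 𝒯' 𝒮L) {U : Y.Opens} (hU : IsAffineOpen U)
    (S : Set Γ(F, U)) (hS : ∀ m ∈ S, ∃ a, (u'.app U).hom a = (u.app U).hom (tgen jF m))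
    {n : ℕ} {a : 𝒯.presheaf.obj (op U)} (ha : a ∈ 𝒯.deg U hU n)
    (hcl : a ∈ Subring.closure (Set.range (𝒯.str.app (op U)).hom ∪ (fun m => tgen jF m) '' S)) :
    ∃ a' ∈ 𝒯'.deg U hU n, (u'.app U).hom a' = (u.app U).hom a := by
  classical
  have h : ∃ b, (u'.app U).hom b = (u.app U).hom a := by
    clear ha
    induction hcl using Subring.closure_induction with
    | mem z hz =>
      rcases hz with ⟨r, rfl⟩ | ⟨m, hm, rfl⟩
      · exact ⟨(𝒯'.str.app (op U)).hom r, (ConcreteCategory.congr_hom (u'.str_app U) r).trans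
          (ConcreteCategory.congr_hom (u.str_app U) r).symm⟩
      · exact hS m hm
    | zero => exact ⟨0, by rw [map_zero, map_zero]⟩
    | one => exact ⟨1, by rw [map_one, map_one]⟩
    | add x y _ _ hx hy =>
      obtain ⟨b, hb⟩ := hx
      obtain ⟨c, hc⟩ := hy
      exact ⟨b + c, by rw [map_add, map_add, hb, hc]⟩
    | neg x _ hx =>
      obtain ⟨b, hb⟩ := hx
      exact ⟨-b, by rw [map_neg, map_neg, hb]⟩
    | mul x y _ _ hx hy =>
      obtain ⟨b, hb⟩ := hx
      obtain ⟨c, hc⟩ := hy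
      exact ⟨b * c, by rw [map_mul, map_mul, hb, hc]⟩
  obtain ⟨b, hb⟩ := h
  refine ⟨DirectSum.decompose (𝒯'.deg U hU) b n, SetLike.coe_mem _, ?_⟩
  refine TopCat.Sheaf.eq_of_locally_eq' (⟨𝒮L.presheaf, 𝒮L.isSheaf⟩ : TopCat.Sheaf CommRingCat.{u} X.carrier)
    (fun W : {W : X.affineOpens // (W : X.Opens) ≤ q ⁻¹ᵁ U} => (W.1 : X.Opens)) (q ⁻¹ᵁ U)
    (fun W => homOfLE W.2) (fun y hy => ?_) _ _ fun W => ?_
  · obtain ⟨V, hV, h1, h2⟩ := Opens.isBasis_iff_nbhd.1 X.isBasis_affineOpens hy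
    exact Opens.mem_iSup.2 ⟨⟨⟨V, hV⟩, h2⟩, h1⟩
  · show u'.gradedAt U hU W.1 W.1.2 W.2 (DirectSum.decompose (𝒯'.deg U hU) b n : 𝒯'.presheaf.obj (op U)) =
      u.gradedAt U hU W.1 W.1.2 W.2 a
    rw [GradedRingHom.map_directSumDecompose]
    have h1 : u'.gradedAt U hU W.1 W.1.2 W.2 b = u.gradedAt U hU W.1 W.1.2 W.2 a :=
      congrArg (𝒮L.presheaf.map (homOfLE W.2).op).hom hb
    rw [h1]
    exact DirectSum.decompose_of_mem_same _ ((u.gradedAt U hU W.1 W.1.2 W.2).map_mem ha)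

/-- a good element with reachable witnesses gives a good element -/
theorem good_transfer (u : RelProj.QGrHom q 𝒯 𝒮L) {𝒯' : RelProj.QCGrAlg Y} (u' : RelProj.QGrHom q 𝒯' 𝒮L)
    (U : Y.Opens) {d : ℕ} {f : 𝒯.presheaf.obj (op U)} {f' : 𝒯'.presheaf.obj (op U)}
    (hf : (u'.app U).hom f' = (u.app U).hom f) : xs u' U d f' = xs u U d f := by
  have h : ∀ (V : X.Opens) (hle : V ≤ q ⁻¹ᵁ U), (u'.appLE U V hle).hom f' = (u.appLE U V hle).hom f :=
    fun V hle => congrArg (𝒮L.presheaf.map (homOfLE hle).op).hom hf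
  refine le_antisymm (fun x hx => ?_) (fun x hx => ?_)
  · obtain ⟨⟨V, hle, hg⟩, hxV⟩ := Opens.mem_iSup.1 hx
    exact Opens.mem_iSup.2 ⟨⟨V, hle, by rw [← h]; exact hg⟩, hxV⟩
  · obtain ⟨⟨V, hle, hg⟩, hxV⟩ := Opens.mem_iSup.1 hx
    exact Opens.mem_iSup.2 ⟨⟨V, hle, by rw [h]; exact hg⟩, hxV⟩

theorem frac_transfer (u : RelProj.QGrHom q 𝒯 𝒮L) {𝒯' : RelProj.QCGrAlg Y} (u' : RelProj.QGrHom q 𝒯' 𝒮L)
    (U : Y.Opens) (hU : IsAffineOpen U) {d : ℕ} {f : 𝒯.presheaf.obj (op U)} {f' : 𝒯'.presheaf.obj (op U)}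
    (hf : (u'.app U).hom f' = (u.app U).hom f) {T T' : X.Opens} (hT : T' = T) (hle : T ≤ q ⁻¹ᵁ U)
    (hle' : T' ≤ q ⁻¹ᵁ U)
    (h : ∀ t : X.presheaf.obj (op T), ∃ (m : ℕ) (_ : 0 < m) (a' : 𝒯'.presheaf.obj (op U))
      (_ : a' ∈ 𝒯'.deg U hU (m * d)) (a : 𝒯.presheaf.obj (op U)), (u'.app U).hom a' = (u.app U).hom a ∧
        (𝒮L.str.app (op T)).hom t * ((u.appLE U T hle).hom f) ^ m = (u.appLE U T hle).hom a) :
    Frac u' U hU T' hle' d f' := by
  subst hT
  intro t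
  obtain ⟨m, hm, a', ha', a, hau, hta⟩ := h t
  have hr : ∀ {z' : 𝒯'.presheaf.obj (op U)} {z}, (u'.app U).hom z' = (u.app U).hom z →
      (u'.appLE U T' hle').hom z' = (u.appLE U T' hle).hom z :=
    fun hz => congrArg (𝒮L.presheaf.map (homOfLE hle).op).hom hz
  exact ⟨m, hm, a', ha', by rw [hr hf, hr hau]; exact hta⟩

/-- every element of a symmetric algebra involves finitely many generators -/
theorem exists_finset_gen (hFq : Coh.IsQCoh F) (hF : RelProj.IsGrSymAlg F 𝒯 jF) {U : Y.Opens} (hU : IsAffineOpen U)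
    (a : 𝒯.presheaf.obj (op U)) :
    ∃ S : Finset Γ(F, U),
      a ∈ Subring.closure (Set.range (𝒯.str.app (op U)).hom ∪ (fun m => tgen jF m) '' (S : Set Γ(F, U))) := by
  classical
  have ha := (closure_sym_eq_top F hFq hF.1 hU).ge (Subring.mem_top a)
  have hmono : ∀ {S S' : Finset Γ(F, U)}, S ⊆ S' →
      Subring.closure (Set.range (𝒯.str.app (op U)).hom ∪ (fun m => tgen jF m) '' (S : Set Γ(F, U))) ≤
      Subring.closure (Set.range (𝒯.str.app (op U)).hom ∪ (fun m => tgen jF m) '' (S' : Set Γ(F, U))) :=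
    fun h => Subring.closure_mono (Set.union_subset_union_right _ (Set.image_mono (Finset.coe_subset.2 h)))
  induction ha using Subring.closure_induction with
  | mem z hz =>
    rcases hz with ⟨r, rfl⟩ | ⟨m, rfl⟩
    · exact ⟨∅, Subring.subset_closure (Or.inl ⟨r, rfl⟩)⟩
    · exact ⟨{m}, Subring.subset_closure (Or.inr ⟨m, Finset.mem_coe.2 (Finset.mem_singleton_self m), rfl⟩)⟩
  | zero => exact ⟨∅, zero_mem _⟩
  | one => exact ⟨∅, one_mem _⟩
  | add x y _ _ hx hy =>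
    obtain ⟨S, hS⟩ := hx
    obtain ⟨T, hT⟩ := hy
    exact ⟨S ∪ T, add_mem (hmono Finset.subset_union_left hS) (hmono Finset.subset_union_right hT)⟩
  | neg x _ hx =>
    obtain ⟨S, hS⟩ := hx
    exact ⟨S, neg_mem hS⟩
  | mul x y _ _ hx hy =>
    obtain ⟨S, hS⟩ := hx
    obtain ⟨T, hT⟩ := hy
    exact ⟨S ∪ T, mul_mem (hmono Finset.subset_union_left hS) (hmono Finset.subset_union_right hT)⟩

set_option maxHeartbeats 1000000 in
/-- finitely many sections of `F` suffice for good elements and for generation -/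
theorem exists_finite_family [CompactSpace Y] [QuasiCompact q] [LocallyOfFiniteType q]
    (hFq : Coh.IsQCoh F) (hF : RelProj.IsGrSymAlg F 𝒯 jF) (u : RelProj.QGrHom q 𝒯 𝒮L)
    (hgood : ∀ x : X, ∃ (U : Y.Opens) (hU : IsAffineOpen U) (d : ℕ) (_ : 0 < d) (f : 𝒯.presheaf.obj (op U))
      (_ : f ∈ 𝒯.deg U hU d), x ∈ xs u U d f ∧ IsAffineOpen (xs u U d f) ∧
        Frac u U hU (xs u U d f) (xs_le u U d f) d f)
    (hsurj : ∀ x : X, ∃ (U : Y.Opens) (hU : IsAffineOpen U) (e : Γ(F, U)) (V : X.Opens) (hV : IsAffineOpen V)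
        (hVU : V ≤ q ⁻¹ᵁ U), x ∈ V ∧
          ((𝒮L.deg V hV 1 : AddSubgroup (𝒮L.presheaf.obj (op V))) : Set (𝒮L.presheaf.obj (op V))) ⊆
              (Ideal.span {(u.appLE U V hVU).hom (tgen jF e)} : Set (𝒮L.presheaf.obj (op V)))) :
    ∃ (n : ℕ) (W : Fin n → Y.Opens) (_ : ∀ k, IsAffineOpen (W k)) (s : ∀ k, Γ(F, W k)),
      ∀ {E : Y.Modules} {𝒯' : RelProj.QCGrAlg Y} {jE : E ⟶ 𝒯'.toModule} (u' : RelProj.QGrHom q 𝒯' 𝒮L),
        (∀ k, ∃ x : Γ(E, W k), (u'.app (W k)).hom (tgen jE x) = (u.app (W k)).hom (tgen jF (s k))) →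
        (∀ x : X, ∃ (U : Y.Opens) (hU : IsAffineOpen U) (d : ℕ) (_ : 0 < d) (f : 𝒯'.presheaf.obj (op U))
          (_ : f ∈ 𝒯'.deg U hU d), x ∈ xs u' U d f ∧ IsAffineOpen (xs u' U d f) ∧
            Frac u' U hU (xs u' U d f) (xs_le u' U d f) d f) ∧
        (∀ x : X, ∃ (U : Y.Opens) (hU : IsAffineOpen U) (e : Γ(E, U)) (V : X.Opens) (hV : IsAffineOpen V)
            (hVU : V ≤ q ⁻¹ᵁ U), x ∈ V ∧
              ((𝒮L.deg V hV 1 : AddSubgroup (𝒮L.presheaf.obj (op V))) : Set (𝒮L.presheaf.obj (op V))) ⊆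
                  (Ideal.span {(u'.appLE U V hVU).hom (tgen jE e)} : Set (𝒮L.presheaf.obj (op V)))) := by
  classical
  haveI : CompactSpace X := QuasiCompact.compactSpace_of_compactSpace q
  choose U hU d hd f hf hxf hT hFr using hgood
  choose U₁ hU₁ e₁ V₁ hV₁ hVU₁ hxV₁ hgen₁ using hsurj
  obtain ⟨t, ht⟩ := CompactSpace.elim_nhds_subcover
    (fun x : X => (((xs u (U x) (d x) (f x)) ⊓ V₁ x : X.Opens) : Set X))
    (fun x => ((xs u (U x) (d x) (f x)) ⊓ V₁ x).isOpen.mem_nhds ⟨hxf x, hxV₁ x⟩)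
  have hG : ∀ x : X, ∃ G : Finset Γ(X, xs u (U x) (d x) (f x)), Subring.closure
      (Set.range (q.appLE (U x) _ (xs_le u (U x) (d x) (f x))).hom ∪ (G : Set _)) = ⊤ := fun x => by
    have h := q.finiteType_appLE (hU x) (hT x) (xs_le u (U x) (d x) (f x))
    letI := (q.appLE (U x) _ (xs_le u (U x) (d x) (f x))).hom.toAlgebra
    obtain ⟨G, hG⟩ := (Algebra.FiniteType.out (self := h) : (⊤ : Subalgebra Γ(Y, U x) Γ(X, xs u (U x) (d x) (f x))).FG)
    refine ⟨G, eq_top_iff.2 fun z _ => ?_⟩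
    have hz : z ∈ Algebra.adjoin Γ(Y, U x) (G : Set _) := hG ▸ Algebra.mem_top
    rw [← Subalgebra.mem_toSubring, Algebra.adjoin_eq_ring_closure] at hz
    exact hz
  choose G hG using hG
  choose m hm a ha hta using fun (x : X) (g : Γ(X, xs u (U x) (d x) (f x))) => hFr x g
  choose Sf hSf using fun x => exists_finset_gen hFq hF (hU x) (f x)
  choose Sa hSa using fun x g => exists_finset_gen hFq hF (hU x) (a x g)
  let I := (x : t) × ↥(Sf x.1 ∪ (G x.1).biUnion (Sa x.1)) ⊕ t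
  let W : I → Y.Opens := Sum.elim (fun p => U p.1.1) (fun x => U₁ x.1)
  have hW : ∀ i, IsAffineOpen (W i) := fun i => by
    cases i with
    | inl p => exact hU p.1.1
    | inr x => exact hU₁ x.1
  let s : ∀ i, Γ(F, W i) := fun i => match i with
    | .inl p => p.2.1
    | .inr x => e₁ x.1
  refine ⟨Fintype.card I, fun k => W ((Fintype.equivFin I).symm k), fun k => hW _,
    fun k => s ((Fintype.equivFin I).symm k), fun {E 𝒯' jE} u' hreach => ?_⟩
  have hreach' : ∀ i : I, ∃ x : Γ(E, W i), (u'.app (W i)).hom (tgen jE x) = (u.app (W i)).hom (tgen jF (s i)) := by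
    intro i
    obtain ⟨k, rfl⟩ := (Fintype.equivFin I).symm.surjective i
    exact hreach k
  refine ⟨fun x => ?_, fun x => ?_⟩
  · obtain ⟨y, hy, hxy⟩ := Set.mem_iUnion₂.1 (ht.ge (Set.mem_univ x))
    have hS : ∀ e ∈ ((Sf y ∪ (G y).biUnion (Sa y) : Finset _) : Set Γ(F, U y)),
        ∃ b, (u'.app (U y)).hom b = (u.app (U y)).hom (tgen jF e) := fun e he => by
      obtain ⟨z, hz⟩ := hreach' (.inl ⟨⟨y, hy⟩, ⟨e, he⟩⟩)
      exact ⟨_, hz⟩
    have hmono : ∀ {S : Finset Γ(F, U y)}, S ⊆ Sf y ∪ (G y).biUnion (Sa y) →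
        Subring.closure (Set.range (𝒯.str.app (op (U y))).hom ∪ (fun m => tgen jF m) '' (S : Set Γ(F, U y))) ≤
        Subring.closure (Set.range (𝒯.str.app (op (U y))).hom ∪
          (fun m => tgen jF m) '' ((Sf y ∪ (G y).biUnion (Sa y) : Finset _) : Set Γ(F, U y))) :=
      fun h => Subring.closure_mono (Set.union_subset_union_right _ (Set.image_mono (Finset.coe_subset.2 h)))
    obtain ⟨f', hf', hfu⟩ := exists_reach hF u u' (hU y) _ hS (hf y) (hmono Finset.subset_union_left (hSf y))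
    have hxs := good_transfer u u' (U y) (d := d y) hfu
    refine ⟨U y, hU y, d y, hd y, f', hf', hxs ▸ hxy.1, hxs ▸ hT y,
      frac_transfer u u' (U y) (hU y) hfu hxs (xs_le u (U y) (d y) (f y)) _ fun z => ?_⟩
    let σ := (𝒮L.str.app (op (xs u (U y) (d y) (f y)))).hom
    let K := (u.appLE (U y) _ (xs_le u (U y) (d y) (f y))).hom
    suffices h : ∃ (m : ℕ) (_ : 0 < m) (a' : 𝒯'.presheaf.obj (op (U y))) (_ : a' ∈ 𝒯'.deg (U y) (hU y) (m * d y))
        (a : 𝒯.presheaf.obj (op (U y))), (u'.app (U y)).hom a' = (u.app (U y)).hom a ∧ σ z * K (f y) ^ m = K a from h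
    induction (hG y).ge (Subring.mem_top z) using Subring.closure_induction with
    | mem v hv =>
      rcases hv with ⟨r, rfl⟩ | hv
      · refine ⟨1, one_pos, (𝒯'.str.app (op (U y))).hom r * f', ?_, (𝒯.str.app (op (U y))).hom r * f y, ?_, ?_⟩
        · rw [one_mul]
          simpa only [zero_add] using SetLike.mul_mem_graded (𝒯'.str_mem (U y) (hU y) r) hf'
        · rw [map_mul, map_mul, hfu]
          exact congrArg (· * _) ((ConcreteCategory.congr_hom (u'.str_app (U y)) r).trans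
            (ConcreteCategory.congr_hom (u.str_app (U y)) r).symm)
        · rw [pow_one, map_mul]
          exact congrArg (· * K (f y)) (ConcreteCategory.congr_hom (u.toQHom.str_appLE (U y) _ _) r).symm
      · obtain ⟨a', ha', hau⟩ := exists_reach hF u u' (hU y) _ hS (ha y v)
          (hmono (fun e he => Finset.mem_union_right _ (Finset.mem_biUnion.2 ⟨v, hv, he⟩)) (hSa y v))
        exact ⟨m y v, hm y v, a', ha', a y v, hau, hta y v⟩
    | zero => exact ⟨1, one_pos, 0, zero_mem _, 0, by rw [map_zero, map_zero], by rw [map_zero, zero_mul, map_zero]⟩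
    | one => exact ⟨1, one_pos, f', by rwa [one_mul], f y, hfu, by rw [map_one, one_mul, pow_one]⟩
    | add v w _ _ hv hw =>
      obtain ⟨k, hk, A', hA', A, hAu, hvA⟩ := hv
      obtain ⟨l, hl, B', hB', B, hBu, hwB⟩ := hw
      refine ⟨k + l, by omega, A' * f' ^ l + B' * f' ^ k, ?_, A * f y ^ l + B * f y ^ k,
        by simp only [map_add, map_mul, map_pow, hfu, hAu, hBu], ?_⟩
      · refine add_mem ?_ ?_
        · have := SetLike.mul_mem_graded hA' (SetLike.pow_mem_graded l hf')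
          rwa [smul_eq_mul, ← add_mul] at this
        · have := SetLike.mul_mem_graded hB' (SetLike.pow_mem_graded k hf')
          rwa [smul_eq_mul, ← add_mul, add_comm l] at this
      · simp only [map_add, map_mul, map_pow, ← hvA, ← hwB]
        ring
    | neg v _ hv =>
      obtain ⟨k, hk, A', hA', A, hAu, hvA⟩ := hv
      exact ⟨k, hk, -A', neg_mem hA', -A, by rw [map_neg, map_neg, hAu], by rw [map_neg, neg_mul, hvA, map_neg]⟩
    | mul v w _ _ hv hw =>
      obtain ⟨k, hk, A', hA', A, hAu, hvA⟩ := hv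
      obtain ⟨l, hl, B', hB', B, hBu, hwB⟩ := hw
      refine ⟨k + l, by omega, A' * B', by rw [add_mul]; exact SetLike.mul_mem_graded hA' hB', A * B,
        by rw [map_mul, map_mul, hAu, hBu], ?_⟩
      rw [map_mul, map_mul, pow_add, ← hvA, ← hwB]
      ring
  · obtain ⟨y, hy, hxy⟩ := Set.mem_iUnion₂.1 (ht.ge (Set.mem_univ x))
    obtain ⟨e', he'⟩ := hreach' (.inr ⟨y, hy⟩)
    refine ⟨U₁ y, hU₁ y, e', V₁ y, hV₁ y, hVU₁ y, hxy.2, ?_⟩
    have h1 : (u'.appLE (U₁ y) (V₁ y) (hVU₁ y)).hom (tgen jE e') = (u.appLE (U₁ y) (V₁ y) (hVU₁ y)).hom (tgen jF (e₁ y)) :=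
      congrArg (𝒮L.presheaf.map (homOfLE (hVU₁ y)).op).hom he'
    rw [h1]
    exact hgen₁ y

end Groth.Agent.SymAlgRel
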