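import Mathlib
import Groth.Agent.SymAlgRel.FTSub

/-!
# Immersions into the projective bundle of a finite type submodule
-/

set_option autoImplicit false
set_option synthInstance.maxHeartbeats 200000
set_option backward.isDefEq.respectTransparency false
set_option backward.isDefEq.respectTransparency.types false

noncomputable section

universe u

open CategoryTheory CategoryTheory.Limits AlgebraicGeometry TopologicalSpace Opposite RelSpec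
open Groth.Agent.QCohBase Groth.Agent.GenLocus
open scoped HomogeneousIdeal

namespace Groth.Agent.SymAlgRel

variable {X Y PL : Scheme.{u}} {q : X ⟶ Y} {L : X.Modules} {F : Y.Modules} {𝒯 : RelProj.QCGrAlg Y}
  {jF : F ⟶ 𝒯.toModule} {𝒮L : RelProj.QCGrAlg X} {jL : L ⟶ 𝒮L.toModule} {pL : PL ⟶ X}
  {chartL : ∀ (V : X.Opens) (hV : IsAffineOpen V), (((pL ⁻¹ᵁ V : PL.Opens) : Scheme.{u}) ≅ Proj (𝒮L.deg V hV))}

theorem qcqs_of_or (h : (CompactSpace Y ∧ Y.IsSeparated) ∨ NoetherianSpace Y) :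
    CompactSpace Y ∧ QuasiSeparatedSpace Y := by
  rcases h with ⟨h1, h2⟩ | h
  · haveI := h2
    exact ⟨h1, inferInstance⟩
  · haveI := h
    exact ⟨inferInstance, inferInstance⟩

/-- generation by single sections makes the morphism to the bundle everywhere defined -/
theorem domQ_eq_top_of_surj (hL : PicF.IsInvertible L) (hjL : RelProj.IsGrSymAlg L 𝒮L jL)
    (hPL : RelProj.IsRelProj 𝒮L pL chartL) (hF : RelProj.IsGrSymAlg F 𝒯 jF) (u : RelProj.QGrHom q 𝒯 𝒮L)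
    (hsurj : ∀ x : X, ∃ (U : Y.Opens) (hU : IsAffineOpen U) (e : Γ(F, U)) (V : X.Opens) (hV : IsAffineOpen V)
        (hVU : V ≤ q ⁻¹ᵁ U), x ∈ V ∧
          ((𝒮L.deg V hV 1 : AddSubgroup (𝒮L.presheaf.obj (op V))) : Set (𝒮L.presheaf.obj (op V))) ⊆
              (Ideal.span {(u.appLE U V hVU).hom (tgen jF e)} : Set (𝒮L.presheaf.obj (op V)))) :
    RelProj.domQ u pL chartL = ⊤ := by
  refine domQ_eq_top_of_forall u hjL (TensorMod.isQCoh_of_isInvertible hL) hL hPL fun x => ?_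
  obtain ⟨U, hU, e, V, hV, hVU, hxV, hg⟩ := hsurj x
  exact ⟨U, hU, 1, one_pos, tgen jF e, tgen_mem hF hU e, Opens.mem_iSup.2 ⟨⟨⟨V, hV⟩, hVU, hg⟩, hxV⟩⟩

/-- the finite type submodule with its homomorphism -/
theorem exists_ft_sub [CompactSpace Y] [QuasiSeparatedSpace Y] [QuasiCompact q] [LocallyOfFiniteType q]
    (hFq : Coh.IsQCoh F) (hF : RelProj.IsGrSymAlg F 𝒯 jF) (u : RelProj.QGrHom q 𝒯 𝒮L)
    (hgood : ∀ x : X, ∃ (U : Y.Opens) (hU : IsAffineOpen U) (d : ℕ) (_ : 0 < d) (f : 𝒯.presheaf.obj (op U))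
      (_ : f ∈ 𝒯.deg U hU d), x ∈ xs u U d f ∧ IsAffineOpen (xs u U d f) ∧
        Frac u U hU (xs u U d f) (xs_le u U d f) d f)
    (hsurj : ∀ x : X, ∃ (U : Y.Opens) (hU : IsAffineOpen U) (e : Γ(F, U)) (V : X.Opens) (hV : IsAffineOpen V)
        (hVU : V ≤ q ⁻¹ᵁ U), x ∈ V ∧
          ((𝒮L.deg V hV 1 : AddSubgroup (𝒮L.presheaf.obj (op V))) : Set (𝒮L.presheaf.obj (op V))) ⊆
              (Ideal.span {(u.appLE U V hVU).hom (tgen jF e)} : Set (𝒮L.presheaf.obj (op V)))) :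
    ∃ (E : Y.Modules) (_ : Coh.IsQCoh E) (_ : CohB1.IsFT E) (ι : E ⟶ F)
      (_ : ∀ U : Y.Opens, Function.Injective (ι.app U)) (𝒯' : RelProj.QCGrAlg Y) (jE : E ⟶ 𝒯'.toModule)
      (_ : RelProj.IsGrSymAlg E 𝒯' jE) (u' : RelProj.QGrHom q 𝒯' 𝒮L)
      (_ : ∀ (U : Y.Opens) (x : Γ(E, U)), (u'.app U).hom (tgen jE x) = (u.app U).hom (tgen jF (ι.app U x))),
      (∀ x : X, ∃ (U : Y.Opens) (hU : IsAffineOpen U) (d : ℕ) (_ : 0 < d) (f : 𝒯'.presheaf.obj (op U))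
        (_ : f ∈ 𝒯'.deg U hU d), x ∈ xs u' U d f ∧ IsAffineOpen (xs u' U d f) ∧
          Frac u' U hU (xs u' U d f) (xs_le u' U d f) d f) ∧
      (∀ x : X, ∃ (U : Y.Opens) (hU : IsAffineOpen U) (e : Γ(E, U)) (V : X.Opens) (hV : IsAffineOpen V)
          (hVU : V ≤ q ⁻¹ᵁ U), x ∈ V ∧
            ((𝒮L.deg V hV 1 : AddSubgroup (𝒮L.presheaf.obj (op V))) : Set (𝒮L.presheaf.obj (op V))) ⊆
                (Ideal.span {(u'.appLE U V hVU).hom (tgen jE e)} : Set (𝒮L.presheaf.obj (op V)))) := by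
  obtain ⟨n, W, hW, s, hfam⟩ := exists_finite_family hFq hF u hgood hsurj
  haveI : F.IsQuasicoherent := hFq
  obtain ⟨E, ι, hm, hE, hft, hs⟩ := QCohExt.exists_sub_through F n W hW s
  haveI := hm
  haveI := hE
  obtain ⟨𝒯', jE, hj⟩ := exists_isGrSymAlg E hE
  obtain ⟨u', hu'⟩ := exists_qGrHom_sub hF u hE hj ι
  have h := hfam (E := E) (jE := jE) u' fun k => by
    obtain ⟨x, hx⟩ := hs k
    exact ⟨x, by rw [hu', hx]⟩
  exact ⟨E, hE, QCohExt.isFT_of_FTOn_top E hft, ι, fun U => app_injective_of_mono ι U, 𝒯', jE, hj, u', hu',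
    h.1, h.2⟩

/-- good elements of a submodule give good elements -/
theorem good_of_sub (hF : RelProj.IsGrSymAlg F 𝒯 jF) (u : RelProj.QGrHom q 𝒯 𝒮L) {E : Y.Modules}
    (hE : Coh.IsQCoh E) {𝒯' : RelProj.QCGrAlg Y} {jE : E ⟶ 𝒯'.toModule} (hj : RelProj.IsGrSymAlg E 𝒯' jE)
    (u' : RelProj.QGrHom q 𝒯' 𝒮L)
    (hu' : ∀ (U : Y.Opens), IsAffineOpen U → ∀ x : Γ(E, U), ∃ a, (u.app U).hom a = (u'.app U).hom (tgen jE x))
    (h : ∀ x : X, ∃ (U : Y.Opens) (hU : IsAffineOpen U) (d : ℕ) (_ : 0 < d) (f : 𝒯'.presheaf.obj (op U))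
        (_ : f ∈ 𝒯'.deg U hU d), x ∈ xs u' U d f ∧ IsAffineOpen (xs u' U d f) ∧
          Frac u' U hU (xs u' U d f) (xs_le u' U d f) d f) :
    ∀ x : X, ∃ (U : Y.Opens) (hU : IsAffineOpen U) (d : ℕ) (_ : 0 < d) (f : 𝒯.presheaf.obj (op U))
        (_ : f ∈ 𝒯.deg U hU d), x ∈ xs u U d f ∧ IsAffineOpen (xs u U d f) ∧
          Frac u U hU (xs u U d f) (xs_le u U d f) d f := by
  intro x
  obtain ⟨U, hU, d, hd, f', hf', hxf, hT, hFr⟩ := h x
  have hreach : ∀ {n : ℕ} {a' : 𝒯'.presheaf.obj (op U)}, a' ∈ 𝒯'.deg U hU n →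
      ∃ a ∈ 𝒯.deg U hU n, (u.app U).hom a = (u'.app U).hom a' := fun {n a'} ha => by
    refine exists_reach hj u' u hU Set.univ (fun m _ => hu' U hU m) ha ?_
    rw [Set.image_univ]
    exact (closure_sym_eq_top E hE hj.1 hU).ge (Subring.mem_top a')
  obtain ⟨f, hf, hfu⟩ := hreach hf'
  have hxs := good_transfer u' u U (d := d) hfu
  refine ⟨U, hU, d, hd, f, hf, hxs ▸ hxf, hxs ▸ hT,
    frac_transfer u' u U hU hfu hxs (xs_le u' U d f') _ fun t => ?_⟩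
  obtain ⟨m, hm, a', ha', hta⟩ := hFr t
  obtain ⟨a, ha, hau⟩ := hreach ha'
  exact ⟨m, hm, a, ha, a', hau, hta⟩

set_option maxHeartbeats 1000000 in
/-- a very ample module is generated by a finite type submodule of its direct image, with immersion -/
theorem exists_ft_sub_of_isRelVeryAmple [CompactSpace Y] [QuasiSeparatedSpace Y] [QuasiCompact q]
    [LocallyOfFiniteType q] (hL : PicF.IsInvertible L) (hjL : RelProj.IsGrSymAlg L 𝒮L jL)
    (hPL : RelProj.IsRelProj 𝒮L pL chartL) (h : RelProj.IsRelVeryAmple q L) :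
    ∃ (E : Y.Modules) (_ : Coh.IsQCoh E) (_ : CohB1.IsFT E) (ι : E ⟶ (Scheme.Modules.pushforward q).obj L)
      (_ : ∀ U : Y.Opens, Function.Injective (ι.app U))
      (𝒯 : RelProj.QCGrAlg Y) (jE : E ⟶ 𝒯.toModule) (_ : RelProj.IsGrSymAlg E 𝒯 jE)
      (u : RelProj.QGrHom q 𝒯 𝒮L)
      (_ : ∀ (U : Y.Opens) (x : Γ(E, U)), (u.app U).hom ((jE.app U) x) = (jL.app (q ⁻¹ᵁ U)) ((ι.app U) x)),
      (∀ x : X, ∃ (U : Y.Opens) (hU : IsAffineOpen U) (e : Γ(E, U)) (V : X.Opens) (hV : IsAffineOpen V)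
          (hVU : V ≤ q ⁻¹ᵁ U), x ∈ V ∧
            ((𝒮L.deg V hV 1 : AddSubgroup (𝒮L.presheaf.obj (op V))) : Set (𝒮L.presheaf.obj (op V))) ⊆
              (Ideal.span {(u.appLE U V hVU).hom ((jE.app U) e)} : Set (𝒮L.presheaf.obj (op V)))) ∧
      (∀ x : X, ∃ (U : Y.Opens) (hU : IsAffineOpen U) (d : ℕ) (_ : 0 < d) (f : 𝒯.presheaf.obj (op U))
        (_ : f ∈ 𝒯.deg U hU d), x ∈ xs u U d f ∧ IsAffineOpen (xs u U d f) ∧
          Frac u U hU (xs u U d f) (xs_le u U d f) d f) := by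
  have hLq := TensorMod.isQCoh_of_isInvertible hL
  haveI : L.IsQuasicoherent := hLq
  haveI := isSeparated_of_isRelVeryAmple h
  let F := (Scheme.Modules.pushforward q).obj L
  have hFq : Coh.IsQCoh F := QCohBase.isQuasicoherent_pushforward L q
  obtain ⟨𝒯F, jF, hF⟩ := exists_isGrSymAlg F hFq
  obtain ⟨v, hv⟩ := exists_qGrHom_sigma (q := q) hFq hF hjL (𝟙 F)
  obtain ⟨E₀, hE₀, 𝒯₀, j₀, hj₀, P₀, p₀, chart₀, hP₀, u₀, σ₀, r₀, hu₀, hr₀, htop₀, himm₀, hgood₀⟩ :=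
    exists_of_isRelVeryAmple h hjL hLq hL hPL
  have hgood := good_of_sub hF v hE₀ hj₀ u₀
    (fun U hU x => ⟨tgen jF (σ₀.app U x), (hv U hU _).trans (hu₀ U hU x).symm⟩)
    fun x => by
      obtain ⟨U, hU, hxU, -⟩ := Opens.isBasis_iff_nbhd.1 Y.isBasis_affineOpens (U := ⊤) (Opens.mem_top (q x))
      obtain ⟨d, hd, f, hf, h1⟩ := hgood₀ x U hU hxU
      exact ⟨U, hU, d, hd, f, hf, h1⟩
  obtain ⟨E₁, hE₁, φ, hφ⟩ := exists_epi_of_isRelVeryAmple h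
  let σ₁ := (Scheme.Modules.pullbackPushforwardAdjunction q).homEquiv E₁ L φ
  have hsurj : ∀ x : X, ∃ (U : Y.Opens) (hU : IsAffineOpen U) (e : Γ(F, U)) (V : X.Opens) (hV : IsAffineOpen V)
        (hVU : V ≤ q ⁻¹ᵁ U), x ∈ V ∧
          ((𝒮L.deg V hV 1 : AddSubgroup (𝒮L.presheaf.obj (op V))) : Set (𝒮L.presheaf.obj (op V))) ⊆
              (Ideal.span {(v.appLE U V hVU).hom (tgen jF e)} : Set (𝒮L.presheaf.obj (op V))) := by
    intro x
    obtain ⟨U, hU, hxU, -⟩ := Opens.isBasis_iff_nbhd.1 Y.isBasis_affineOpens (U := ⊤) (Opens.mem_top (q x))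
    obtain ⟨e, G, hG, hxG, hfr⟩ := exists_sec_frame hE₁ hL φ hU (x := x) hxU
    obtain ⟨V, hV, hxV, hVG⟩ := Opens.isBasis_iff_nbhd.1 X.isBasis_affineOpens hxG
    have hfV := hfr.res hVG
    rw [mres_mres] at hfV
    refine ⟨U, hU, φ.app (q ⁻¹ᵁ U) (pullSec q E₁ U e), V, hV, hVG.trans hG, hxV, fun y hy => ?_⟩
    obtain ⟨c, hc⟩ := exists_eq_of_mem_deg hjL hLq hV hfV (SetLike.mem_coe.1 hy)
    refine SetLike.mem_coe.2 (Ideal.mem_span_singleton'.2 ⟨(𝒮L.str.app (op V)).hom c, ?_⟩)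
    rw [hc, pow_one]
    refine congrArg ((𝒮L.str.app (op V)).hom c * ·) ?_
    refine (congrArg (𝒮L.presheaf.map (homOfLE (hVG.trans hG)).op).hom (hv U hU _)).trans ?_
    exact res_tgen hjL (hVG.trans hG) (e := φ.app (q ⁻¹ᵁ U) (pullSec q E₁ U e))
  obtain ⟨E, hE, hft, ι, hι, 𝒯, jE, hj, u, hu, h1, h2⟩ := exists_ft_sub hFq hF v hgood hsurj
  have hv' : ∀ (U : Y.Opens) (m : Γ(F, U)), (v.app U).hom (tgen jF m) = tgen jL (show Γ(L, q ⁻¹ᵁ U) from m) := by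
    intro U m
    refine TopCat.Sheaf.eq_of_locally_eq' (⟨𝒮L.presheaf, 𝒮L.isSheaf⟩ : TopCat.Sheaf CommRingCat.{u} X.carrier)
      (fun W : {W : Y.affineOpens // (W : Y.Opens) ≤ U} => q ⁻¹ᵁ (W.1 : Y.Opens)) (q ⁻¹ᵁ U)
      (fun W => homOfLE (q.preimage_mono W.2)) (fun y hy => ?_) _ _ fun W => ?_
    · obtain ⟨U', hU', h1, h2⟩ := Opens.isBasis_iff_nbhd.1 Y.isBasis_affineOpens (show q y ∈ U from hy)
      exact Opens.mem_iSup.2 ⟨⟨⟨U', hU'⟩, h2⟩, h1⟩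
    · refine (ConcreteCategory.congr_hom (v.naturality W.2) _).trans ?_
      refine ((congrArg (v.app _).hom (res_tgen hF W.2 (e := m))).trans (hv _ W.1.2 _)).trans ?_
      exact (res_tgen hjL (q.preimage_mono W.2) (e := (show Γ(L, q ⁻¹ᵁ U) from m))).symm
  exact ⟨E, hE, hft, ι, hι, 𝒯, jE, hj, u, fun U x => (hu U x).trans (hv' U _), h2, h1⟩

end Groth.Agent.SymAlgRel
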