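import Mathlib
import Groth.Agent.ProjUPLib.Immersion

/-!
# Functions on affine pieces of fibre products
-/

set_option autoImplicit false
set_option backward.isDefEq.respectTransparency false
set_option backward.isDefEq.respectTransparency.types false

noncomputable section

universe u

open CategoryTheory CategoryTheory.Limits AlgebraicGeometry TopologicalSpace Opposite

namespace Groth.Agent.SymAlgRel

theorem closure_appLE_eq_top {T P₁ P₂ Z : Scheme.{u}} {a : T ⟶ P₁} {b : T ⟶ P₂} {p₁ : P₁ ⟶ Z} {p₂ : P₂ ⟶ Z}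
    (h : IsPullback a b p₁ p₂) {U : Z.Opens} (hU : IsAffineOpen U) {A : P₁.Opens} {B : P₂.Opens}
    (hA : IsAffineOpen A) (hB : IsAffineOpen B) (hAU : A ≤ p₁ ⁻¹ᵁ U) (hBU : B ≤ p₂ ⁻¹ᵁ U) :
    IsAffineOpen (a ⁻¹ᵁ A ⊓ b ⁻¹ᵁ B) ∧
      Subring.closure (Set.range (a.appLE A (a ⁻¹ᵁ A ⊓ b ⁻¹ᵁ B) inf_le_left).hom ∪
        Set.range (b.appLE B (a ⁻¹ᵁ A ⊓ b ⁻¹ᵁ B) inf_le_right).hom) = ⊤ := by
  haveI : IsAffine (U : Scheme.{u}) := hU
  haveI : IsAffine (A : Scheme.{u}) := hA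
  haveI : IsAffine (B : Scheme.{u}) := hB
  let W := a ⁻¹ᵁ A ⊓ b ⁻¹ᵁ B
  have hsq := Scheme.Hom.isPullback_resLE h hBU hAU (UY := W) rfl
  haveI : IsAffine (W : Scheme.{u}) := IsAffine.of_isPullback hsq
  refine ⟨(inferInstance : IsAffine (W : Scheme.{u})), eq_top_iff.2 fun t _ => ?_⟩
  let R := Subring.closure (Set.range (a.appLE A W inf_le_left).hom ∪ Set.range (b.appLE B W inf_le_right).hom)
  show t ∈ R
  let R' : Subring Γ((W : Scheme.{u}), ⊤) := R.comap W.topIso.hom.hom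
  have hmem : ∀ {V : Scheme.{u}} {C : V.Opens} (k : T ⟶ V) (e : W ≤ k ⁻¹ᵁ C),
      (∀ x, (k.appLE C W e).hom x ∈ R) → ∀ x, (k.resLE C W e).appTop.hom x ∈ R' := by
    intro V C k e hk x
    show W.topIso.hom.hom ((k.resLE C W e).app ⊤ x) ∈ R
    rw [Scheme.Hom.resLE_app_top]
    have h2 : ∀ z, W.topIso.hom.hom (W.topIso.inv.hom z) = z := fun z =>
      ConcreteCategory.congr_hom W.topIso.inv_hom_id z
    exact (h2 _).symm ▸ hk _
  have hA' := hmem a (inf_le_left : W ≤ a ⁻¹ᵁ A) fun x => Subring.subset_closure (Or.inl ⟨x, rfl⟩)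
  have hB' := hmem b (inf_le_right : W ≤ b ⁻¹ᵁ B) fun x => Subring.subset_closure (Or.inr ⟨x, rfl⟩)
  have hpo := isPushout_appTop_of_isPullback hsq
  let α : Γ((A : Scheme.{u}), ⊤) ⟶ CommRingCat.of R' :=
    CommRingCat.ofHom ((a.resLE A W inf_le_left).appTop.hom.codRestrict R' hA')
  let β : Γ((B : Scheme.{u}), ⊤) ⟶ CommRingCat.of R' :=
    CommRingCat.ofHom ((b.resLE B W inf_le_right).appTop.hom.codRestrict R' hB')
  let d := hpo.desc α β (CommRingCat.hom_ext (RingHom.ext fun x => Subtype.ext (ConcreteCategory.congr_hom hpo.w x)))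
  have hd : d ≫ CommRingCat.ofHom R'.subtype = 𝟙 _ := by
    refine hpo.hom_ext ?_ ?_
    · rw [IsPushout.inl_desc_assoc, Category.comp_id]; rfl
    · rw [IsPushout.inr_desc_assoc, Category.comp_id]; rfl
  have h1 : W.topIso.inv.hom t ∈ R' := by
    have h2 := ConcreteCategory.congr_hom hd (W.topIso.inv.hom t)
    rw [← show _ = W.topIso.inv.hom t from h2]
    exact (d.hom (W.topIso.inv.hom t)).2
  have h3 : W.topIso.hom.hom (W.topIso.inv.hom t) = t := ConcreteCategory.congr_hom W.topIso.inv_hom_id t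
  have h4 : W.topIso.hom.hom (W.topIso.inv.hom t) ∈ R := h1
  rwa [h3] at h4

end Groth.Agent.SymAlgRel
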