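import Mathlib
import Groth.Agent.SymAlgRel.Segre

/-!
# Good elements for a twist by a generated module
-/

set_option autoImplicit false
set_option synthInstance.maxHeartbeats 200000
set_option backward.isDefEq.respectTransparency false
set_option backward.isDefEq.respectTransparency.types false

noncomputable section

universe u

open CategoryTheory CategoryTheory.Limits AlgebraicGeometry TopologicalSpace Opposite RelSpec
open Groth.Agent.QCohBase Groth.Agent.GenLocus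
open scoped HomogeneousIdeal

namespace Groth.Agent.SymAlgRel

variable {X Y : Scheme.{u}}

set_option maxHeartbeats 1000000 in
/-- good elements for `L ⊗ L'` from good elements for `L` when `L'` is generated relative to the base -/
theorem exists_good_tensor_of_epi {q : X ⟶ Y} {L L' : X.Modules} (hL : PicF.IsInvertible L)
    {𝒮L : RelProj.QCGrAlg X} {jL : L ⟶ 𝒮L.toModule} (hjL : RelProj.IsGrSymAlg L 𝒮L jL)
    {PL : Scheme.{u}} {pL : PL ⟶ X}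
    {chartL : ∀ (V : X.Opens) (hV : IsAffineOpen V), (((pL ⁻¹ᵁ V : PL.Opens) : Scheme.{u}) ≅ Proj (𝒮L.deg V hV))}
    (hPL : RelProj.IsRelProj 𝒮L pL chartL) {E : Y.Modules} (hE : Coh.IsQCoh E) {𝒯 : RelProj.QCGrAlg Y}
    {j : E ⟶ 𝒯.toModule} (hj : RelProj.IsGrSymAlg E 𝒯 j) (u : RelProj.QGrHom q 𝒯 𝒮L)
    (σ : E ⟶ (Scheme.Modules.pushforward q).obj L)
    (hu : ∀ (U : Y.Opens), IsAffineOpen U → ∀ e : Γ(E, U), (u.app U).hom (tgen j e) = jL.app _ (σ.app U e))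
    (hgood : ∀ x : X, ∃ (U : Y.Opens) (hU : IsAffineOpen U) (d : ℕ) (_ : 0 < d) (f : 𝒯.presheaf.obj (op U))
      (_ : f ∈ 𝒯.deg U hU d), x ∈ xs u U d f ∧ IsAffineOpen (xs u U d f) ∧
        Frac u U hU (xs u U d f) (xs_le u U d f) d f)
    (hL' : PicF.IsInvertible L') {E' : Y.Modules} (hE' : Coh.IsQCoh E')
    (φ : (Scheme.Modules.pullback q).obj E' ⟶ L') [Epi φ] :
    ∃ (𝒮'' : RelProj.QCGrAlg X) (jL'' : CohB1.tensorMod L L' ⟶ 𝒮''.toModule)
      (_ : RelProj.IsGrSymAlg (CohB1.tensorMod L L') 𝒮'' jL'') (PL'' : Scheme.{u}) (pL'' : PL'' ⟶ X)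
      (chartL'' : ∀ (V : X.Opens) (hV : IsAffineOpen V), (((pL'' ⁻¹ᵁ V : PL''.Opens) : Scheme.{u}) ≅ Proj (𝒮''.deg V hV)))
      (_ : RelProj.IsRelProj 𝒮'' pL'' chartL'') (𝒯'' : RelProj.QCGrAlg Y)
      (j'' : CohB1.tensorMod E E' ⟶ 𝒯''.toModule) (_ : RelProj.IsGrSymAlg (CohB1.tensorMod E E') 𝒯'' j'')
      (u'' : RelProj.QGrHom q 𝒯'' 𝒮'') (σ'' : CohB1.tensorMod E E' ⟶ (Scheme.Modules.pushforward q).obj (CohB1.tensorMod L L')),
      (∀ (U : Y.Opens), IsAffineOpen U → ∀ e, (u''.app U).hom (tgen j'' e) = jL''.app _ (σ''.app U e)) ∧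
      ∀ x : X, ∃ (U : Y.Opens) (hU : IsAffineOpen U) (d : ℕ) (_ : 0 < d) (f : 𝒯''.presheaf.obj (op U))
        (_ : f ∈ 𝒯''.deg U hU d), x ∈ xs u'' U d f ∧ IsAffineOpen (xs u'' U d f) ∧
          Frac u'' U hU (xs u'' U d f) (xs_le u'' U d f) d f := by
  have hLq := TensorMod.isQCoh_of_isInvertible hL
  have hLL := TensorMod.isInvertible_tensorMod hL hL'
  have hLLq := TensorMod.isQCoh_of_isInvertible hLL
  obtain ⟨𝒮'', jL'', hjL''⟩ := exists_isGrSymAlg (CohB1.tensorMod L L') hLLq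
  obtain ⟨PL'', pL'', chartL'', hPL''⟩ := exists_isRelProj 𝒮''
  have hEE := DCohBridge.isQCoh_cohb1TensorMod hE hE'
  obtain ⟨𝒯'', j'', hj''⟩ := exists_isGrSymAlg (CohB1.tensorMod E E') hEE
  let adj := Scheme.Modules.pullbackPushforwardAdjunction q
  let ψ := (adj.homEquiv E L).symm σ
  let σ' := adj.homEquiv E' L' φ
  let Ψ := GenLocus.pullTensorMap q E E' ≫ KoszTw.tensorMap ψ φ
  obtain ⟨u'', hu''0⟩ := exists_qGrHom_sigma (q := q) hEE hj'' hjL'' (adj.homEquiv _ _ Ψ)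
  have hadj : ∀ {M : Y.Modules} {N : X.Modules} (a : (Scheme.Modules.pullback q).obj M ⟶ N) (U : Y.Opens) (s : Γ(M, U)),
      (adj.homEquiv M N a).app U s = a.app (q ⁻¹ᵁ U) (pullSec q M U s) := fun a U s => by
    rw [Adjunction.homEquiv_unit]
    rfl
  have hu'' : ∀ (U : Y.Opens), IsAffineOpen U → ∀ (e : Γ(E, U)) (e' : Γ(E', U)),
      (u''.app U).hom (tgen j'' (SecTwist.tmul E E' U e e')) =
        jL''.app _ (SecTwist.tmul L L' (q ⁻¹ᵁ U) (σ.app U e) (σ'.app U e')) := fun U hU e e' => by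
    rw [hu''0 U hU]
    refine congrArg (jL''.app (q ⁻¹ᵁ U)) ?_
    rw [hadj Ψ U, hadj φ U, ← (Equiv.apply_symm_apply (adj.homEquiv E L) σ), hadj ψ U]
    refine Eq.trans ?_ (KoszTw.tensorMap_tmul ψ φ (q ⁻¹ᵁ U) (pullSec q E U e) (pullSec q E' U e'))
    exact congrArg ((KoszTw.tensorMap ψ φ).app (q ⁻¹ᵁ U)) (GenLocus.pullTensorMap_tmul q E E' U e e')
  refine ⟨𝒮'', jL'', hjL'', PL'', pL'', chartL'', hPL'', 𝒯'', j'', hj'', u'', _, hu''0, fun x => ?_⟩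
  obtain ⟨U, hU, d₀, hd₀, f₀, hf₀, hxf₀, hT₀, hF₀⟩ := hgood x
  have hxU : q x ∈ U := xs_le u U d₀ f₀ hxf₀
  obtain ⟨e', G, hGU, hxG, hfr'⟩ := exists_sec_frame hE' hL' φ hU hxU
  obtain ⟨d, hd, f, hf, hxf, hT, hTG, hF⟩ := exists_good_le u hjL hLq hL hPL U hU hd₀ f₀ hf₀ hxf₀ hT₀ hF₀ G hxG
  let T := xs u U d f
  obtain ⟨F, hFd, hFc⟩ := exists_twisted hE hj hj'' hjL hjL'' u u'' σ σ' hu hu'' U hU e' hf
  have hxs : xs u'' U d F = T := by
    refine SetLike.ext fun y => ?_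
    by_cases hy : y ∈ q ⁻¹ᵁ U
    swap
    · exact ⟨fun h => absurd (xs_le u'' U d F h) hy, fun h => absurd (xs_le u U d f h) hy⟩
    obtain ⟨V, hV, hyV, hVU, l', hl'⟩ := exists_isFrame hL' hy
    obtain ⟨V₁, hV₁, hyV₁, hV₁V, l, hl⟩ := exists_isFrame hL hyV
    have hle : V₁ ≤ q ⁻¹ᵁ U := hV₁V.trans hVU
    obtain ⟨c', hc'⟩ := (hl'.res hV₁V).bijective.2 (mres L' hle (σ'.app U e'))
    replace hc' : c' • mres L' hV₁V l' = mres L' hle (σ'.app U e') := hc'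
    obtain ⟨c, hc1, hc2⟩ := hFc V₁ hle l (mres L' hV₁V l') c' hl hc'.symm
    rw [mem_xs, mem_xs, genAt_iff_basicOpen u'' hjL'' hLLq hLL hPL'' U hU hd F hFd hV₁ hle
      (hl.tmul (hl'.res hV₁V)) hc2 hyV₁, genAt_iff_basicOpen u hjL hLq hL hPL U hU hd f hf hV₁ hle hl hc1 hyV₁,
      Scheme.basicOpen_mul, show X.basicOpen (c' ^ d) = X.basicOpen c' from X.basicOpen_pow _ hd]
    refine ⟨fun h => h.1, fun h => ⟨h, ?_⟩⟩
    have hyG : y ∈ G := hTG ((mem_xs u).2 ((genAt_iff_basicOpen u hjL hLq hL hPL U hU hd f hf hV₁ hle hl hc1 hyV₁).2 h))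
    have h5 : IsFrame L' (mres L' (inf_le_right : G ⊓ V₁ ≤ V₁) (c' • mres L' hV₁V l')) := by
      rw [hc', mres_mres]
      have := hfr'.res (inf_le_left : G ⊓ V₁ ≤ G)
      rw [mres_mres] at this
      exact this
    rw [mres_smul] at h5
    have h6 := ((hl'.res hV₁V).res (inf_le_right : G ⊓ V₁ ≤ V₁)).isUnit_of_smul h5
    have h7 : G ⊓ V₁ ⊓ X.basicOpen c' = G ⊓ V₁ := by
      have h8 := X.basicOpen_of_isUnit h6
      rw [show X.basicOpen (ores (inf_le_right : G ⊓ V₁ ≤ V₁) c') = (G ⊓ V₁) ⊓ X.basicOpen c' from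
        Scheme.basicOpen_res X c' _] at h8
      exact h8
    exact (h7.ge ⟨hyG, hyV₁⟩).2
  refine ⟨U, hU, d, hd, F, hFd, hxs.symm ▸ hxf, hxs.symm ▸ hT, ?_⟩
  intro t
  obtain ⟨m, hm, a, ha, hta⟩ := hF (ores hxs.ge t)
  obtain ⟨A, hA, hAc⟩ := exists_twisted hE hj hj'' hjL hjL'' u u'' σ σ' hu hu'' U hU e' ha
  refine ⟨m, hm, A, hA, ?_⟩
  choose V hV hxV hVle l hl using fun y : (T : X.Opens) => exists_isFrame hL y.2
  have hVT : ∀ y, V y ≤ xs u'' U d F := fun y => (hVle y).trans hxs.ge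
  refine eq_of_ares 𝒮''.toQCAlg V hVT (fun y hy => Opens.mem_iSup.2 ⟨⟨y, hxs.le hy⟩, hxV _⟩) _ _ fun y => ?_
  have hle : V y ≤ q ⁻¹ᵁ U := (hVle y).trans (xs_le u U d f)
  let l' := mres L' ((hVle y).trans hTG) (mres L' hGU (σ'.app U e'))
  have hl1 : mres L' hle (σ'.app U e') = (1 : Γ(X, V y)) • l' := by
    rw [one_smul]; exact (mres_mres L' hGU ((hVle y).trans hTG) _).symm
  obtain ⟨cf, hcf1, hcf2⟩ := hFc (V y) hle (l y) l' 1 (hl y) hl1
  obtain ⟨ca, hca1, hca2⟩ := hAc (V y) hle (l y) l' 1 (hl y) hl1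
  have hK : ∀ (b : 𝒯''.presheaf.obj (op U)), ares 𝒮''.toQCAlg (hVT y)
      ((u''.appLE U (xs u'' U d F) (xs_le u'' U d F)).hom b) = (u''.appLE U (V y) hle).hom b := fun b =>
    ConcreteCategory.congr_hom (RelSpec.QHom.appLE_map u''.toQHom (xs_le u'' U d F) (hVT y)) b
  have hK' : ∀ (b : 𝒯.presheaf.obj (op U)), ares 𝒮L.toQCAlg (hVle y)
      ((u.appLE U T (xs_le u U d f)).hom b) = (u.appLE U (V y) hle).hom b := fun b =>
    ConcreteCategory.congr_hom (RelSpec.QHom.appLE_map u.toQHom (xs_le u U d f) (hVle y)) b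
  have h1 := congrArg (ares 𝒮L.toQCAlg (hVle y)) hta
  rw [map_mul, map_pow, ares_str, hK', hK', hcf1, hca1, ores_ores, mul_pow, ← map_pow, ← pow_mul, mul_comm d m,
    ← mul_assoc, ← map_mul] at h1
  have h2 := str_mul_pow_inj hjL hLq (hV y) (hl y) h1
  rw [map_mul, map_pow, ares_str, hK, hK, hcf2, hca2]
  simp only [one_pow, mul_one]
  rw [mul_pow, ← map_pow, ← pow_mul, mul_comm d m, ← mul_assoc, ← map_mul, h2]

end Groth.Agent.SymAlgRel
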