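import Mathlib
import Groth.Agent.SymAlgRel.SegreBundle
import Groth.Agent.SymAlgRel.TensorGood
import Groth.Agent.SymAlgRel.FTSubImm
import Groth.Agent.SymAlgRel.VALocal
import Groth.Agent.ProjUPLib.FiniteGen
import Groth.Agent.TensorMod.FinLocFree
import Groth.Agent.GenLocus.Rel
import Groth.Agent.S5721

/-!
# Very ampleness of twists along a composite
-/

set_option autoImplicit false
set_option synthInstance.maxHeartbeats 200000
set_option backward.isDefEq.respectTransparency false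
set_option backward.isDefEq.respectTransparency.types false

noncomputable section

universe u

open CategoryTheory CategoryTheory.Limits AlgebraicGeometry TopologicalSpace Opposite RelSpec
open Groth.Agent.QCohBase Groth.Agent.GenLocus
open scoped HomogeneousIdeal

namespace Groth.Agent.SymAlgRel

variable {X Y Z : Scheme.{u}}

theorem isAmple_of_isRelAmple_affine [IsAffine Z] {g : Y ⟶ Z} {K : Y.Modules} (h : RelAmple.IsRelAmple g K) :
    CohB1.IsAmple K := by
  let ι := (g ⁻¹ᵁ (⊤ : Z.Opens)).ι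
  haveI : IsIso ι := inferInstanceAs (IsIso Y.topIso.hom)
  have h1 := GenLocus.isAmple_pullback_of_isAffineHom (inv ι) (h.2 ⟨⊤, isAffineOpen_top Z⟩)
  exact GenLocus.isAmple_of_iso ((Scheme.Modules.pullback (inv ι)).mapIso
      ((Scheme.Modules.restrictFunctorIsoPullback ι).app K) ≪≫ (Scheme.Modules.pullbackComp (inv ι) ι).app K ≪≫
    (Scheme.Modules.pullbackCongr (IsIso.inv_hom_id ι)).app K ≪≫ (Scheme.Modules.pullbackId Y).app K) h1

set_option maxHeartbeats 1000000 in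
/-- a module with good elements over the pullback of a module on the base gives a very ample twist on the composite -/
theorem isRelVeryAmple_comp_of_good {f : X ⟶ Y} {g : Y ⟶ Z} {M : X.Modules} (hM : PicF.IsInvertible M)
    {F : Z.Modules} (hF : Coh.IsQCoh F) {𝒯 : RelProj.QCGrAlg Y} {j : (Scheme.Modules.pullback g).obj F ⟶ 𝒯.toModule}
    (hj : RelProj.IsGrSymAlg ((Scheme.Modules.pullback g).obj F) 𝒯 j)
    {𝒮M : RelProj.QCGrAlg X} {jM : M ⟶ 𝒮M.toModule} (hjM : RelProj.IsGrSymAlg M 𝒮M jM)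
    (u : RelProj.QGrHom f 𝒯 𝒮M)
    (hgood : ∀ x : X, ∃ (U : Y.Opens) (hU : IsAffineOpen U) (d : ℕ) (_ : 0 < d) (a : 𝒯.presheaf.obj (op U))
      (_ : a ∈ 𝒯.deg U hU d), x ∈ xs u U d a ∧ IsAffineOpen (xs u U d a) ∧
        Frac u U hU (xs u U d a) (xs_le u U d a) d a)
    {K : Y.Modules} (hK : RelProj.IsRelVeryAmple g K) :
    RelProj.IsRelVeryAmple (f ≫ g) (CohB1.tensorMod M ((Scheme.Modules.pullback f).obj K)) := by
  haveI : F.IsQuasicoherent := hF
  have hFY : Coh.IsQCoh ((Scheme.Modules.pullback g).obj F) := QCohPull.isQuasicoherent_pullback g F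
  have hMq := TensorMod.isQCoh_of_isInvertible hM
  obtain ⟨PL, pL, chartL, hPL⟩ := exists_isRelProj 𝒮M
  obtain ⟨P, p, chart, hP⟩ := exists_isRelProj 𝒯
  obtain ⟨r, hr, -⟩ := EGA2Misc.existsUnique_projQMapOn u hP hPL
  obtain ⟨htop, himm⟩ := isImmersion_of_forall u hjM hMq hM hP hPL hr hgood
  haveI := isIso_pL hjM hMq hPL hM
  haveI : IsIso (RelProj.domQ u pL chartL).ι := by rw [htop]; exact inferInstanceAs (IsIso PL.topIso.hom)
  haveI := himm
  let τ := (RelProj.domQ u pL chartL).ι ≫ pL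
  have hcomp : r ≫ p = (RelProj.domQ u pL chartL).ι ≫ pL ≫ f := EGA2Misc.projQMapOn_comp u hP hPL r hr
  let s := inv τ ≫ r
  have hsp : s ≫ p = f := by rw [Category.assoc, hcomp, IsIso.inv_comp_eq, Category.assoc]
  obtain ⟨O1, lam, hO1⟩ := exists_isRelTwist hP 1
  obtain ⟨e⟩ := nonempty_pullback_qmap_one u hjM hMq hM hP hPL hr hO1 (grSymAlg_isGenDegOne hFY hj)
  let θM : M ≅ (Scheme.Modules.pullback s).obj O1 :=
    ((Scheme.Modules.pullbackId X).app M).symm ≪≫ (Scheme.Modules.pullbackCongr (IsIso.inv_hom_id τ).symm).app M ≪≫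
    ((Scheme.Modules.pullbackComp (inv τ) τ).app M).symm ≪≫ (Scheme.Modules.pullback (inv τ)).mapIso e.symm ≪≫
    (Scheme.Modules.pullbackComp (inv τ) r).app O1
  obtain ⟨E₂, hE₂, 𝒯₂, j₂, hj₂, P₂, p₂, chart₂, hP₂, O₂, lam₂, hO₂, i₂, hi₂, hc₂, ⟨θK⟩⟩ := hK
  obtain ⟨𝒯₁, j₁, hj₁⟩ := exists_isGrSymAlg F hF
  obtain ⟨P₁, p₁, chart₁, hP₁⟩ := exists_isRelProj 𝒯₁
  obtain ⟨O₁, lam₁, hO₁⟩ := exists_isRelTwist hP₁ 1
  obtain ⟨𝒯', j', hE', hj', P', p', chart', hP', O1', lam', hO1', k, hpb, ⟨θ⟩⟩ :=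
    exists_bundle_baseChange g hF hj₁ hP₁ hO₁
  -- compare the two bundles of the pullback
  obtain ⟨s', hs', hs'i, ⟨θ'⟩⟩ : ∃ s' : X ⟶ P', IsImmersion s' ∧ s' ≫ p' = f ∧
      Nonempty (M ≅ (Scheme.Modules.pullback s').obj O1') := by
    obtain ⟨u', hu'⟩ := exists_qGrHom_sub hj u hFY hj' (𝟙 _)
    have hgood' := good_of_sub hj' u' hFY hj u
      (fun U hU x => ⟨tgen j' x, hu' U x⟩) hgood
    obtain ⟨r', hr', -⟩ := EGA2Misc.existsUnique_projQMapOn u' hP' hPL
    obtain ⟨htop', himm'⟩ := isImmersion_of_forall u' hjM hMq hM hP' hPL hr' hgood'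
    haveI : IsIso (RelProj.domQ u' pL chartL).ι := by rw [htop']; exact inferInstanceAs (IsIso PL.topIso.hom)
    haveI := himm'
    let τ' := (RelProj.domQ u' pL chartL).ι ≫ pL
    have hcomp' : r' ≫ p' = (RelProj.domQ u' pL chartL).ι ≫ pL ≫ f := EGA2Misc.projQMapOn_comp u' hP' hPL r' hr'
    obtain ⟨e'⟩ := nonempty_pullback_qmap_one u' hjM hMq hM hP' hPL hr' hO1' (grSymAlg_isGenDegOne hFY hj')
    exact ⟨inv τ' ≫ r', inferInstance, by rw [Category.assoc, hcomp', IsIso.inv_comp_eq, Category.assoc],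
      ⟨((Scheme.Modules.pullbackId X).app M).symm ≪≫ (Scheme.Modules.pullbackCongr (IsIso.inv_hom_id τ').symm).app M ≪≫
        ((Scheme.Modules.pullbackComp (inv τ') τ').app M).symm ≪≫ (Scheme.Modules.pullback (inv τ')).mapIso e'.symm ≪≫
        (Scheme.Modules.pullbackComp (inv τ') r').app O1'⟩⟩
  haveI := hs'
  haveI := hi₂
  let T := pullback p₁ p₂
  let a : T ⟶ P₁ := pullback.fst p₁ p₂
  let b : T ⟶ P₂ := pullback.snd p₁ p₂
  let m : P' ⟶ T := pullback.lift k (p' ≫ i₂) (by rw [Category.assoc, hc₂]; exact hpb.w)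
  haveI : IsImmersion m := by
    have hsq : IsPullback m p' b i₂ := by
      refine IsPullback.of_right ?_ (pullback.lift_snd _ _ _) (IsPullback.of_hasPullback p₁ p₂)
      rw [pullback.lift_fst, hc₂]
      exact hpb
    exact MorphismProperty.of_isPullback (P := @IsImmersion) hsq.flip inferInstance
  have hva := isRelVeryAmple_pullback_immersion (s' ≫ m)
    (isRelVeryAmple_segre hF hj₁ hP₁ hO₁ hE₂ hj₂ hP₂ hO₂ (IsPullback.of_hasPullback p₁ p₂))
  have hq : (s' ≫ m) ≫ a ≫ p₁ = f ≫ g := by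
    rw [Category.assoc, pullback.lift_fst_assoc, hpb.w, ← Category.assoc, hs'i]
  rw [hq] at hva
  refine isRelVeryAmple_of_iso hva ?_
  have hO₁i := isInvertible_relTwist (grSymAlg_isGenDegOne hF hj₁) hO₁
  have hO₂i := isInvertible_relTwist (grSymAlg_isGenDegOne hE₂ hj₂) hO₂
  refine GenLocus.pullTensorIso (s' ≫ m) (GenLocus.isInvertible_pullback a hO₁i)
    (GenLocus.isInvertible_pullback b hO₂i) ≪≫ TensorMod.tensorIso ?_ ?_
  · exact (Scheme.Modules.pullbackComp (s' ≫ m) a).app O₁ ≪≫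
      (Scheme.Modules.pullbackCongr (show (s' ≫ m) ≫ a = s' ≫ k by rw [Category.assoc, pullback.lift_fst])).app O₁ ≪≫
      ((Scheme.Modules.pullbackComp s' k).app O₁).symm ≪≫ (Scheme.Modules.pullback s').mapIso θ ≪≫ θ'.symm
  · exact (Scheme.Modules.pullbackComp (s' ≫ m) b).app O₂ ≪≫
      (Scheme.Modules.pullbackCongr (show (s' ≫ m) ≫ b = f ≫ i₂ by
        rw [Category.assoc, pullback.lift_snd, ← Category.assoc, hs'i])).app O₂ ≪≫
      ((Scheme.Modules.pullbackComp f i₂).app O₂).symm ≪≫ (Scheme.Modules.pullback f).mapIso θK.symm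

set_option maxHeartbeats 1000000 in
/-- eventually very ample along a composite, over an affine base -/
theorem eventually_isRelVeryAmple_comp_affine [IsAffine Z] (f : X ⟶ Y) [QuasiCompact f] [LocallyOfFiniteType f]
    (g : Y ⟶ Z) [QuasiCompact g] {L : X.Modules} (hL : PicF.IsInvertible L) (hLva : RelProj.IsRelVeryAmple f L)
    {K : Y.Modules} (hK : PicF.IsInvertible K) (hKva : RelProj.IsRelVeryAmple g K) :
    ∀ᶠ n in Filter.atTop, RelProj.IsRelVeryAmple (f ≫ g)
      (CohB1.tensorMod L ((Scheme.Modules.pullback f).obj (CohB1.tensorPow K n))) := by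
  classical
  have hamp := isAmple_of_isRelAmple_affine (S5721.result g K hK hKva)
  haveI : CompactSpace Y := hamp.2.1
  haveI := isSeparated_of_isRelVeryAmple hKva
  haveI : QuasiSeparatedSpace Y := quasiSeparatedSpace_of_quasiSeparated g
  have hLq := TensorMod.isQCoh_of_isInvertible hL
  obtain ⟨𝒮L, jL, hjL⟩ := exists_isGrSymAlg L hLq
  obtain ⟨PL, pL, chartL, hPL⟩ := exists_isRelProj 𝒮L
  obtain ⟨E, hE, hft, ι, -, 𝒯, jE, hj, u, hu, -, hgood⟩ := exists_ft_sub_of_isRelVeryAmple hL hjL hPL hLva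
  obtain ⟨m₀, hm₀⟩ := Filter.eventually_atTop.1 (ProjUPLib.eventually_exists_epi_free hamp (⟨hE, hft⟩ : Coh.IsCoh E))
  have key : ∀ m, m₀ ≤ m → RelProj.IsRelVeryAmple (f ≫ g)
      (CohB1.tensorMod L ((Scheme.Modules.pullback f).obj (CohB1.tensorPow K (m + 1)))) := by
    intro m hm
    obtain ⟨k, π, hπ⟩ := hm₀ m hm
    have hKm := TensorMod.isInvertible_tensorPow hK m
    have hK' := GenLocus.isInvertible_pullback f hKm
    obtain ⟨𝒮'', jL'', hjL'', PL'', pL'', chartL'', hPL'', 𝒯'', j'', hj'', u'', σ'', hu'', hgood''⟩ :=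
      exists_good_tensor_of_epi hL hjL hPL hE hj u ι (fun U hU e => hu U e) hgood hK'
        (TensorMod.isQCoh_of_isInvertible hKm) (𝟙 ((Scheme.Modules.pullback f).obj (CohB1.tensorPow K m)))
    let F := FlatMod.freeMod Z k
    have hF : Coh.IsQCoh F := TensorMod.isQCoh_of_isFinLocFree (TensorMod.isFinLocFree_freeMod Z k)
    haveI : F.IsQuasicoherent := hF
    have hFY : Coh.IsQCoh ((Scheme.Modules.pullback g).obj F) := QCohPull.isQuasicoherent_pullback g F
    let π' : (Scheme.Modules.pullback g).obj F ⟶ CohB1.tensorMod E (CohB1.tensorPow K m) :=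
      (TensorMod.pullbackFreeModIso g k).hom ≫ π
    haveI := hπ
    haveI : Epi π' := inferInstanceAs (Epi ((TensorMod.pullbackFreeModIso g k).hom ≫ π))
    have hEE := DCohBridge.isQCoh_cohb1TensorMod hE (TensorMod.isQCoh_of_isInvertible hKm)
    obtain ⟨𝒯F, jF, hjF⟩ := exists_isGrSymAlg _ hFY
    obtain ⟨v, hv⟩ := exists_qGrHom_sub hj'' u'' hFY hjF π'
    have hgoodF := good_of_sub hjF v hEE hj'' u'' (fun U hU x => by
      obtain ⟨y, hy⟩ := QCohBase.app_surjective_of_epi π' hFY hEE hU x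
      exact ⟨tgen jF y, by rw [hv, hy]⟩) hgood''
    have hM := TensorMod.isInvertible_tensorMod hL hK'
    refine isRelVeryAmple_of_iso (isRelVeryAmple_comp_of_good hM hF hjF hjL'' v hgoodF hKva) ?_
    exact TensorMod.assocIso L ((Scheme.Modules.pullback f).obj (CohB1.tensorPow K m)) ((Scheme.Modules.pullback f).obj K) ≪≫
      TensorMod.tensorIso (Iso.refl L) (GenLocus.pullTensorIso f hKm hK).symm
  refine Filter.eventually_atTop.2 ⟨m₀ + 1, fun n hn => ?_⟩
  obtain ⟨m, rfl⟩ : ∃ m, n = m + 1 := ⟨n - 1, by omega⟩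
  exact key m (by omega)

end Groth.Agent.SymAlgRel
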