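import Mathlib
import Groth.Agent.QCohExt.SubAlg
import Groth.Agent.QCohBase.Qcqs
import Groth.Agent.SymAlgRel.FTSubImm

/-!
# The image of a graded homomorphism as a graded algebra
-/

set_option autoImplicit false
set_option synthInstance.maxHeartbeats 200000
set_option backward.isDefEq.respectTransparency false
set_option backward.isDefEq.respectTransparency.types false

noncomputable section

universe u

open CategoryTheory CategoryTheory.Limits AlgebraicGeometry TopologicalSpace Opposite RelSpec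
open Groth.Agent.QCohBase Groth.Agent.GenLocus
open scoped HomogeneousIdeal DirectSum

namespace Groth.Agent.SymAlgRel

variable {X Y : Scheme.{u}} (q : X ⟶ Y) [QuasiCompact q] [QuasiSeparated q]

/-- the direct image of a quasi-coherent algebra -/
def pushAlg (B : RelSpec.QCAlg X) : RelSpec.QCAlg Y where
  presheaf := q.base _* B.presheaf
  isSheaf := TopCat.Sheaf.pushforward_sheaf_of_sheaf _ B.isSheaf
  str := q.c ≫ (TopCat.Presheaf.pushforward CommRingCat.{u} q.base).map B.str
  isQC U hU r := by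
    haveI := QCohExt.isQuasicoherent_toModule (B := B)
    let le : q ⁻¹ᵁ Y.basicOpen r ≤ q ⁻¹ᵁ U := q.preimage_mono (Y.basicOpen_le r)
    letI := (B.presheaf.map (homOfLE le).op).hom.toAlgebra
    show IsLocalization.Away ((B.str.app (op (q ⁻¹ᵁ U))).hom ((q.app U).hom r)) (B.presheaf.obj (op (q ⁻¹ᵁ Y.basicOpen r)))
    have hW : q ⁻¹ᵁ Y.basicOpen r = X.basicOpen ((q.app U).hom r) := q.preimage_basicOpen r
    have hc := q.isCompact_preimage hU.isCompact
    have hc' := q.isQuasiSeparated_preimage hU.isQuasiSeparated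
    have hu : IsUnit ((B.presheaf.map (homOfLE le).op).hom ((B.str.app (op (q ⁻¹ᵁ U))).hom ((q.app U).hom r))) := by
      rw [QCohExt.str_res B le]
      refine IsUnit.map _ ?_
      have h : ores le ((q.app U).hom r) = (q.app (Y.basicOpen r)).hom (ores (Y.basicOpen_le r) r) :=
        (ConcreteCategory.congr_hom (q.naturality (homOfLE (Y.basicOpen_le r)).op) r).symm
      rw [h]
      exact (RingedSpace.isUnit_res_basicOpen _ r).map _
    refine IsLocalization.Away.mk _ hu (fun z => ?_) (fun x y hxy => ?_)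
    · obtain ⟨n, y, hy⟩ := exists_pow_smul_eq_mres_of_qcqs B.toModule hc hc' _ hW le
        (show Γ(B.toModule, _) from z)
      refine ⟨n, y, ?_⟩
      have hy' : (B.presheaf.map (homOfLE le).op).hom y =
          (B.str.app (op (q ⁻¹ᵁ Y.basicOpen r))).hom (ores le ((q.app U).hom r) ^ n) * z := hy
      show z * (B.presheaf.map (homOfLE le).op).hom ((B.str.app (op (q ⁻¹ᵁ U))).hom ((q.app U).hom r)) ^ n =
        (B.presheaf.map (homOfLE le).op).hom y
      rw [hy', QCohExt.str_res B le, map_pow, mul_comm]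
    · have h0 : mres B.toModule le (show Γ(B.toModule, q ⁻¹ᵁ U) from (x - y : B.presheaf.obj (op (q ⁻¹ᵁ U)))) = 0 := by
        show (B.presheaf.map (homOfLE le).op).hom (x - y) = 0
        rw [map_sub, sub_eq_zero]; exact hxy
      obtain ⟨n, hn⟩ := exists_pow_smul_eq_zero_of_isCompact B.toModule hc _ hW le _ h0
      refine ⟨n, ?_⟩
      have hn' : (B.str.app (op (q ⁻¹ᵁ U))).hom ((q.app U).hom r ^ n) * (x - y) = 0 := hn
      rw [map_pow, mul_sub, sub_eq_zero] at hn'
      exact hn'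

variable {q}
variable {𝒯 : RelProj.QCGrAlg Y} {𝒮L : RelProj.QCGrAlg X} (u : RelProj.QGrHom q 𝒯 𝒮L)

theorem push_str (U : Y.Opens) (r : Γ(Y, U)) :
    ((pushAlg q 𝒮L.toQCAlg).str.app (op U)).hom r = (u.app U).hom ((𝒯.str.app (op U)).hom r) :=
  (ConcreteCategory.congr_hom (u.str_app U) r).symm

/-- the image subrings -/
def imgSys : QCohExt.SubSys (pushAlg q 𝒮L.toQCAlg) where
  G U := (u.app U).hom.range
  str_mem U r := ⟨(𝒯.str.app (op U)).hom r, (push_str u U r).symm⟩
  res_mem {V W} h {s} hs := by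
    obtain ⟨a, rfl⟩ := hs
    exact ⟨(𝒯.presheaf.map (homOfLE h).op).hom a, (ConcreteCategory.congr_hom (u.naturality h) a).symm⟩
  lift_mem U hU g {y} hy := by
    obtain ⟨b, rfl⟩ := hy
    letI := (𝒯.presheaf.map (homOfLE (Y.basicOpen_le g)).op).hom.toAlgebra
    haveI : IsLocalization.Away ((𝒯.str.app (op U)).hom g) (𝒯.presheaf.obj (op (Y.basicOpen g))) := 𝒯.isQC U hU g
    obtain ⟨n, a, ha⟩ := IsLocalization.Away.surj ((𝒯.str.app (op U)).hom g) b
    refine ⟨n, (u.app U).hom a, ⟨a, rfl⟩, ?_⟩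
    refine (ConcreteCategory.congr_hom (u.naturality (Y.basicOpen_le g)) a).trans ?_
    show (u.app _).hom ((𝒯.presheaf.map (homOfLE (Y.basicOpen_le g)).op).hom a) = _
    rw [show (𝒯.presheaf.map (homOfLE (Y.basicOpen_le g)).op).hom a = _ from ha.symm, map_mul, map_pow,
      push_str u, mul_comm, map_pow, map_pow]
    refine congrArg (fun z => (u.app _).hom z ^ n * (u.app _).hom b) ?_
    exact (ConcreteCategory.congr_hom (𝒯.str.naturality (homOfLE (Y.basicOpen_le g)).op) g).symm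

/-- the map onto the image -/
def imgMap (U : Y.Opens) : 𝒯.presheaf.obj (op U) →+* (imgSys u).alg.presheaf.obj (op U) :=
  ((u.app U).hom).codRestrict _ fun a => (imgSys u).mem_loc_of_mem ⟨a, rfl⟩

theorem imgMap_val (U : Y.Opens) (a : 𝒯.presheaf.obj (op U)) : (imgMap u U a).1 = (u.app U).hom a := rfl

theorem imgMap_surjective (U : Y.Opens) (hU : IsAffineOpen U) : Function.Surjective (imgMap u U) := fun s => by
  obtain ⟨a, ha⟩ := ((imgSys u).loc_eq hU).le s.2
  exact ⟨a, Subtype.ext ha⟩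

theorem imgMap_decompose_eq_zero (U : Y.Opens) (hU : IsAffineOpen U) {a : 𝒯.presheaf.obj (op U)}
    (ha : imgMap u U a = 0) (n : ℕ) : imgMap u U (DirectSum.decompose (𝒯.deg U hU) a n : 𝒯.presheaf.obj (op U)) = 0 := by
  classical
  refine Subtype.ext (TopCat.Sheaf.eq_of_locally_eq' (⟨𝒮L.presheaf, 𝒮L.isSheaf⟩ : TopCat.Sheaf CommRingCat.{u} X.carrier)
    (fun W : {W : X.affineOpens // (W : X.Opens) ≤ q ⁻¹ᵁ U} => (W.1 : X.Opens)) (q ⁻¹ᵁ U)
    (fun W => homOfLE W.2) (fun y hy => ?_) _ _ fun W => ?_)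
  · obtain ⟨V, hV, h1, h2⟩ := Opens.isBasis_iff_nbhd.1 X.isBasis_affineOpens hy
    exact Opens.mem_iSup.2 ⟨⟨⟨V, hV⟩, h2⟩, h1⟩
  · show u.gradedAt U hU W.1 W.1.2 W.2 (DirectSum.decompose (𝒯.deg U hU) a n : 𝒯.presheaf.obj (op U)) =
      (𝒮L.presheaf.map (homOfLE W.2).op).hom 0
    rw [GradedRingHom.map_directSumDecompose,
      show u.gradedAt U hU W.1 W.1.2 W.2 a = 0 from
        (congrArg (fun z => (𝒮L.presheaf.map (homOfLE W.2).op).hom z.1) ha).trans (map_zero _),
      DirectSum.decompose_zero, map_zero]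
    rfl

/-- the degree `d` part of the image -/
def imgDeg (U : Y.Opens) (hU : IsAffineOpen U) (d : ℕ) : AddSubgroup ((imgSys u).alg.presheaf.obj (op U)) :=
  (𝒯.deg U hU d).map (imgMap u U).toAddMonoidHom

theorem isInternal_imgDeg (U : Y.Opens) (hU : IsAffineOpen U) : DirectSum.IsInternal (imgDeg u U hU) := by
  classical
  constructor
  · rw [injective_iff_map_eq_zero]
    intro x hx
    choose a ha hax using fun n => (x n).2
    let a' : ⨁ n, 𝒯.deg U hU n := DFinsupp.mk (DFinsupp.support x) fun n => ⟨a n.1, ha n.1⟩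
    have hsum : imgMap u U (DirectSum.coeAddMonoidHom (fun n => 𝒯.deg U hU n) a') = 0 := by
      rw [← hx, DirectSum.coeAddMonoidHom_eq_dfinsuppSum, DirectSum.coeAddMonoidHom_eq_dfinsuppSum,
        DFinsupp.sum, DFinsupp.sum, map_sum]
      refine Finset.sum_subset_zero_on_sdiff DFinsupp.support_mk_subset ?_ ?_
      · intro n hn
        obtain ⟨hn1, hn2⟩ := Finset.mem_sdiff.1 hn
        have h2 : a' n = ⟨a n, ha n⟩ := DFinsupp.mk_apply.trans (dif_pos hn1)
        have h3 : a' n = 0 := DFinsupp.notMem_support_iff.1 hn2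
        rw [← hax n]
        show imgMap u U (a n) = 0
        rw [show a n = ((a' n : 𝒯.deg U hU n) : 𝒯.presheaf.obj (op U)) from (congrArg Subtype.val h2).symm, h3]
        exact map_zero _
      · intro n hn
        have h2 : a' n = ⟨a n, ha n⟩ := DFinsupp.mk_apply.trans (dif_pos (DFinsupp.support_mk_subset hn))
        rw [h2, ← hax n]
        rfl
    refine DirectSum.ext_iff.2 fun n => Subtype.ext ?_
    by_cases hn : n ∈ DFinsupp.support x
    · have h2 : a' n = ⟨a n, ha n⟩ := DFinsupp.mk_apply.trans (dif_pos hn)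
      have h3 := imgMap_decompose_eq_zero u U hU hsum n
      rw [show DirectSum.decompose (𝒯.deg U hU) (DirectSum.coeAddMonoidHom (fun n => 𝒯.deg U hU n) a') = a' from
        DirectSum.Decomposition.right_inv a', h2] at h3
      exact (hax n).symm.trans h3
    · rw [DFinsupp.notMem_support_iff.1 hn]
      rfl
  · intro s
    obtain ⟨a, rfl⟩ := imgMap_surjective u U hU s
    refine ⟨∑ n ∈ (DirectSum.decompose (𝒯.deg U hU) a).support, DirectSum.of _ n
      ⟨imgMap u U (DirectSum.decompose (𝒯.deg U hU) a n : 𝒯.presheaf.obj (op U)),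
        AddSubgroup.mem_map_of_mem _ (SetLike.coe_mem _)⟩, ?_⟩
    simp only [map_sum, DirectSum.coeAddMonoidHom_of]
    rw [← map_sum, DirectSum.sum_support_decompose]

/-- the graded structure on the image -/
def imgAlg : RelProj.QCGrAlg Y where
  toQCAlg := (imgSys u).alg
  deg := imgDeg u
  graded U hU :=
    { one_mem := ⟨1, SetLike.one_mem_graded _, map_one (imgMap u U)⟩
      mul_mem := fun i k x y hx hy => by
        obtain ⟨a, ha, rfl⟩ := hx
        obtain ⟨b, hb, rfl⟩ := hy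
        exact ⟨a * b, SetLike.mul_mem_graded ha hb, map_mul (imgMap u U) a b⟩
      toDecomposition := (isInternal_imgDeg u U hU).chooseDecomposition }
  map_mem := fun {U V} hU hV i {d x} hx => by
    obtain ⟨a, ha, rfl⟩ := hx
    exact ⟨(𝒯.presheaf.map (homOfLE i).op).hom a, 𝒯.map_mem hU hV i ha,
      Subtype.ext (ConcreteCategory.congr_hom (u.naturality i) a).symm⟩
  str_mem U hU r := ⟨(𝒯.str.app (op U)).hom r, 𝒯.str_mem U hU r, Subtype.ext (push_str u U r).symm⟩

/-- the inclusion of the image -/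
def imgHom : RelProj.QGrHom q (imgAlg u) 𝒮L where
  app U := CommRingCat.ofHom ((imgSys u).loc U).subtype
  naturality {U V} i := by ext s; rfl
  str_app U := by ext r; rfl
  map_mem U hU U' hU' hle {d x} hx := by
    obtain ⟨a, ha, rfl⟩ := hx
    exact u.map_mem U hU U' hU' hle ha

theorem imgHom_app (U : Y.Opens) (a : 𝒯.presheaf.obj (op U)) :
    ((imgHom u).app U).hom (imgMap u U a) = (u.app U).hom a := rfl

theorem imgHom_injective (U : Y.Opens) : Function.Injective ((imgHom u).app U).hom := fun a b h => Subtype.ext h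

theorem imgMap_mem (U : Y.Opens) (hU : IsAffineOpen U) {d : ℕ} {a : 𝒯.presheaf.obj (op U)}
    (ha : a ∈ 𝒯.deg U hU d) : imgMap u U a ∈ (imgAlg u).deg U hU d :=
  AddSubgroup.mem_map_of_mem _ ha

theorem isGenDegOne_img (h : 𝒯.IsGenDegOne) : (imgAlg u).IsGenDegOne := fun U hU => by
  rw [eq_top_iff]
  intro s _
  obtain ⟨a, rfl⟩ := imgMap_surjective u U hU s
  have ha : a ∈ Subring.closure ((𝒯.deg U hU 0 : Set _) ∪ (𝒯.deg U hU 1 : Set _)) := by
    rw [h U hU]; exact Subring.mem_top a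
  induction ha using Subring.closure_induction with
  | mem z hz =>
    rcases hz with hz | hz
    · exact Subring.subset_closure (Or.inl (imgMap_mem u U hU hz))
    · exact Subring.subset_closure (Or.inr (imgMap_mem u U hU hz))
  | zero => rw [map_zero]; exact zero_mem _
  | one => rw [map_one]; exact one_mem _
  | add x y _ _ hx hy => rw [map_add]; exact add_mem (hx trivial) (hy trivial)
  | neg x _ hx => rw [map_neg]; exact neg_mem (hx trivial)
  | mul x y _ _ hx hy => rw [map_mul]; exact mul_mem (hx trivial) (hy trivial)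

theorem exists_tgen_of_mem_deg_one {E : Y.Modules} (hE : Coh.IsQCoh E) {j : E ⟶ 𝒯.toModule}
    (hj : RelProj.IsGrSymAlg E 𝒯 j) {U : Y.Opens} (hU : IsAffineOpen U) {x : 𝒯.presheaf.obj (op U)}
    (hx : x ∈ 𝒯.deg U hU 1) : ∃ e : Γ(E, U), tgen j e = x := by
  have h := mem_closure_of_gen (𝒜 := 𝒯.deg U hU)
    (fun i z => z ∈ 𝒯.deg U hU i ∧ (i = 0 → ∃ r, (𝒯.str.app (op U)).hom r = z) ∧ (i = 1 → ∃ e : Γ(E, U), tgen j e = z))
    (fun i z hz => hz.1) ⟨SetLike.one_mem_graded _, fun _ => ⟨1, map_one _⟩, fun h => absurd h zero_ne_one⟩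
    (fun i k a b ha hb => ⟨SetLike.mul_mem_graded ha.1 hb.1, fun h => by
        obtain ⟨r, hr⟩ := ha.2.1 (by omega)
        obtain ⟨r', hr'⟩ := hb.2.1 (by omega)
        exact ⟨r * r', by rw [map_mul, hr, hr']⟩, fun h => by
        rcases Nat.eq_zero_or_pos i with hi | hi
        · obtain ⟨r, hr⟩ := ha.2.1 hi
          obtain ⟨e, he⟩ := hb.2.2 (by omega)
          exact ⟨r • e, by rw [tgen, Scheme.Modules.Hom.app_smul, ← hr, ← he]; rfl⟩
        · obtain ⟨r, hr⟩ := hb.2.1 (by omega)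
          obtain ⟨e, he⟩ := ha.2.2 (by omega)
          exact ⟨r • e, by rw [tgen, Scheme.Modules.Hom.app_smul, ← hr, ← he, mul_comm]; rfl⟩⟩)
    _ (by
      rintro z (⟨r, rfl⟩ | ⟨e, rfl⟩)
      · exact ⟨0, 𝒯.str_mem U hU r, fun _ => ⟨r, rfl⟩, fun h => absurd h zero_ne_one⟩
      · exact ⟨1, tgen_mem hj hU e, fun h => absurd h one_ne_zero, fun _ => ⟨e, rfl⟩⟩)
    (closure_sym_eq_top E hE hj.1 hU) hx
  clear hx
  induction h using AddSubgroup.closure_induction with
  | mem z hz => exact hz.2.2 rfl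
  | zero => exact ⟨0, map_zero _⟩
  | add a b _ _ ha hb =>
    obtain ⟨e, rfl⟩ := ha
    obtain ⟨e', rfl⟩ := hb
    exact ⟨e + e', map_add _ _ _⟩
  | neg a _ ha =>
    obtain ⟨e, rfl⟩ := ha
    exact ⟨-e, map_neg _ _⟩

theorem isFTDeg_img {E : Y.Modules} (hE : Coh.IsQCoh E) (hft : CohB1.IsFT E) {j : E ⟶ 𝒯.toModule}
    (hj : RelProj.IsGrSymAlg E 𝒯 j) : (imgAlg u).IsFTDeg 1 := by
  classical
  intro U hU
  haveI : E.IsQuasicoherent := hE
  haveI := QCohBase.finite_sections E hft hU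
  obtain ⟨G, hG⟩ := Module.Finite.fg_top (R := Γ(Y, U)) (M := Γ(E, U))
  let π : 𝒯.presheaf.obj (op U) →+* (imgAlg u).presheaf.obj (op U) := imgMap u U
  refine ⟨G.image fun e => π (tgen j e), fun t ht => ?_, fun x hx => ?_⟩
  · obtain ⟨e, -, rfl⟩ := Finset.mem_image.1 (Finset.mem_coe.1 ht)
    exact (imgMap_mem u U hU (tgen_mem hj hU e) : π (tgen j e) ∈ (imgAlg u).deg U hU 1)
  · obtain ⟨a, ha, rfl⟩ := hx
    obtain ⟨e, rfl⟩ := exists_tgen_of_mem_deg_one hE hj hU ha
    show ∃ c : (imgAlg u).presheaf.obj (op U) → Γ(Y, U), π (tgen j e) = _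
    letI : Module Γ(Y, U) ((imgAlg u).presheaf.obj (op U)) := ((imgAlg u).str.app (op U)).hom.toAlgebra.toModule
    have hsmul : ∀ (r : Γ(Y, U)) (z : (imgAlg u).presheaf.obj (op U)), r • z = ((imgAlg u).str.app (op U)).hom r * z :=
      fun r z => rfl
    suffices h : π (tgen j e) ∈ Submodule.span Γ(Y, U)
        ((G.image fun e => π (tgen j e) : Finset _) : Set ((imgAlg u).presheaf.obj (op U))) by
      obtain ⟨c, -, hc⟩ := Submodule.mem_span_finset.1 h
      exact ⟨c, hc.symm.trans (Finset.sum_congr rfl fun t _ => hsmul _ _)⟩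
    have he : e ∈ Submodule.span Γ(Y, U) (G : Set Γ(E, U)) := hG ▸ Submodule.mem_top
    clear ha
    induction he using Submodule.span_induction with
    | mem g hg => exact Submodule.subset_span (Finset.mem_coe.2 (Finset.mem_image_of_mem _ hg))
    | zero => rw [tgen, map_zero]; exact (map_zero π).symm ▸ zero_mem _
    | add x y _ _ hx hy =>
      rw [tgen, map_add]
      exact (map_add π _ _).symm ▸ add_mem hx hy
    | smul r x _ hx =>
      have : π (tgen j (r • x)) = r • π (tgen j x) := by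
        rw [hsmul, tgen, Scheme.Modules.Hom.app_smul]
        refine Subtype.ext ?_
        show (u.app U).hom ((𝒯.str.app (op U)).hom r * _) = _
        rw [map_mul, ← push_str u]
        rfl
      rw [this]
      exact Submodule.smul_mem _ r hx

theorem imgStrZero_surjective {E : Y.Modules} (hE : Coh.IsQCoh E) {j : E ⟶ 𝒯.toModule}
    (hj : RelProj.IsGrSymAlg E 𝒯 j) (U : Y.Opens) (hU : IsAffineOpen U) :
    Function.Surjective ((imgAlg u).strZero U hU).hom := by
  rintro ⟨x, hx⟩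
  obtain ⟨a, ha, rfl⟩ := hx
  have h := mem_closure_of_gen (𝒜 := 𝒯.deg U hU)
    (fun i z => z ∈ 𝒯.deg U hU i ∧ (i = 0 → ∃ r, (𝒯.str.app (op U)).hom r = z))
    (fun i z hz => hz.1) ⟨SetLike.one_mem_graded _, fun _ => ⟨1, map_one _⟩⟩
    (fun i k a b ha hb => ⟨SetLike.mul_mem_graded ha.1 hb.1, fun h => by
        obtain ⟨r, hr⟩ := ha.2 (by omega)
        obtain ⟨r', hr'⟩ := hb.2 (by omega)
        exact ⟨r * r', by rw [map_mul, hr, hr']⟩⟩)
    _ (by
      rintro z (⟨r, rfl⟩ | ⟨e, rfl⟩)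
      · exact ⟨0, 𝒯.str_mem U hU r, fun _ => ⟨r, rfl⟩⟩
      · exact ⟨1, tgen_mem hj hU e, fun h => absurd h one_ne_zero⟩)
    (closure_sym_eq_top E hE hj.1 hU) ha
  suffices h' : ∃ r, (𝒯.str.app (op U)).hom r = a by
    obtain ⟨r, rfl⟩ := h'
    exact ⟨r, Subtype.ext (Subtype.ext (push_str u U r))⟩
  clear ha
  induction h using AddSubgroup.closure_induction with
  | mem z hz => exact hz.2 rfl
  | zero => exact ⟨0, map_zero _⟩
  | add a b _ _ ha hb =>
    obtain ⟨r, rfl⟩ := ha
    obtain ⟨r', rfl⟩ := hb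
    exact ⟨r + r', map_add _ _ _⟩
  | neg a _ ha =>
    obtain ⟨r, rfl⟩ := ha
    exact ⟨-r, map_neg _ _⟩

end Groth.Agent.SymAlgRel
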