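import Mathlib
import Groth.Agent.SymAlgRel.ImageAlg
import Groth.Agent.SymAlgRel.RLmain

/-!
# Relative Proj models from very ample data of finite type
-/

set_option autoImplicit false
set_option synthInstance.maxHeartbeats 200000
set_option backward.isDefEq.respectTransparency false
set_option backward.isDefEq.respectTransparency.types false

noncomputable section

universe u

open CategoryTheory CategoryTheory.Limits AlgebraicGeometry TopologicalSpace Opposite RelSpec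
open Groth.Agent.QCohBase Groth.Agent.GenLocus
open scoped HomogeneousIdeal

namespace Groth.Agent.SymAlgRel

variable {X Y PL : Scheme.{u}} {q : X ⟶ Y} {L : X.Modules} {E : Y.Modules} {𝒯 : RelProj.QCGrAlg Y}
  {j : E ⟶ 𝒯.toModule} {𝒮L : RelProj.QCGrAlg X} {jL : L ⟶ 𝒮L.toModule} {pL : PL ⟶ X}
  {chartL : ∀ (V : X.Opens) (hV : IsAffineOpen V), (((pL ⁻¹ᵁ V : PL.Opens) : Scheme.{u}) ≅ Proj (𝒮L.deg V hV))}

set_option maxHeartbeats 1000000 in
/-- the image algebra gives a dense open immersion into a relative Proj -/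
theorem exists_image_model [QuasiCompact q] [QuasiSeparated q] (hL : PicF.IsInvertible L)
    (hjL : RelProj.IsGrSymAlg L 𝒮L jL) (hPL : RelProj.IsRelProj 𝒮L pL chartL)
    (hE : Coh.IsQCoh E) (hft : CohB1.IsFT E) (hj : RelProj.IsGrSymAlg E 𝒯 j) (u : RelProj.QGrHom q 𝒯 𝒮L)
    (hgood : ∀ x : X, ∃ (U : Y.Opens) (hU : IsAffineOpen U) (d : ℕ) (_ : 0 < d) (f : 𝒯.presheaf.obj (op U))
      (_ : f ∈ 𝒯.deg U hU d), x ∈ xs u U d f ∧ IsAffineOpen (xs u U d f) ∧
        Frac u U hU (xs u U d f) (xs_le u U d f) d f) :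
    ∃ (𝒮 : RelProj.QCGrAlg Y) (P : Scheme.{u}) (p : P ⟶ Y)
      (chart : ∀ (U : Y.Opens) (hU : IsAffineOpen U), (((p ⁻¹ᵁ U : P.Opens) : Scheme.{u}) ≅ Proj (𝒮.deg U hU)))
      (i : X ⟶ P), 𝒮.IsGenDegOne ∧ 𝒮.IsFTDeg 1 ∧ RelProj.IsRelProj 𝒮 p chart ∧ IsOpenImmersion i ∧
        Dense (Set.range i.base) ∧ i ≫ p = q ∧
        (∀ (O1 : P.Modules) (lam : ∀ (U : Y.Opens) (hU : IsAffineOpen U),
          O1 ⟶ (Scheme.Modules.pushforward (RelProj.emb p chart U hU)).obj (GrTwist.twist (𝒮.deg U hU) 1)),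
          RelProj.IsRelTwist 𝒮 p chart 1 O1 lam → Nonempty (L ≅ (Scheme.Modules.pullback i).obj O1)) ∧
        ∀ (U : Y.Opens) (hU : IsAffineOpen U), Function.Surjective (𝒮.strZero U hU).hom := by
  have hLq := TensorMod.isQCoh_of_isInvertible hL
  let v := imgHom u
  have hgen : (imgAlg u).IsGenDegOne := isGenDegOne_img u (grSymAlg_isGenDegOne hE hj)
  obtain ⟨P, p, chart, hP⟩ := exists_isRelProj (imgAlg u)
  obtain ⟨r, hr, -⟩ := EGA2Misc.existsUnique_projQMapOn v hP hPL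
  have htors : ∀ (U : Y.Opens) (hU : IsAffineOpen U) (d : ℕ), 0 < d → ∀ f ∈ (imgAlg u).deg U hU d,
      Tors v U hU (xs v U d f) (xs_le v U d f) d f := fun U hU d hd f hf =>
    tors_of_injective v hjL hLq hL hPL U hU (q.isCompact_preimage hU.isCompact) (imgHom_injective u U) hd f hf
  obtain ⟨htop, ho⟩ := isOpenImmersion_of_forall v hjL hLq hL hP hPL hr fun x => by
    obtain ⟨U, hU, d, hd, f, hf, hxf, hT, hFr⟩ := hgood x
    have hf' : imgMap u U f ∈ (imgAlg u).deg U hU d := imgMap_mem u U hU hf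
    have hxs := good_transfer u v U (d := d) (imgHom_app u U f)
    refine ⟨U, hU, d, hd, imgMap u U f, hf', hxs ▸ hxf, hxs ▸ hT,
      frac_transfer u v U hU (imgHom_app u U f) hxs (xs_le u U d f) _ fun t => ?_,
      htors U hU d hd _ hf'⟩
    obtain ⟨m, hm, a, ha, hta⟩ := hFr t
    exact ⟨m, hm, imgMap u U a, imgMap_mem u U hU ha, a, imgHom_app u U a, hta⟩
  have hdom := isDominant_of_tors v hjL hLq hL hP hPL hr fun y => by
    obtain ⟨U, hU, hy, -⟩ := Opens.isBasis_iff_nbhd.1 Y.isBasis_affineOpens (U := ⊤) (Opens.mem_top y)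
    exact ⟨U, hU, hy, htors U hU⟩
  haveI := isIso_pL hjL hLq hPL hL
  haveI : IsIso (RelProj.domQ v pL chartL).ι := by rw [htop]; exact inferInstanceAs (IsIso PL.topIso.hom)
  haveI := ho
  let τ := (RelProj.domQ v pL chartL).ι ≫ pL
  have hcomp : r ≫ p = (RelProj.domQ v pL chartL).ι ≫ pL ≫ q := EGA2Misc.projQMapOn_comp v hP hPL r hr
  refine ⟨imgAlg u, P, p, chart, inv τ ≫ r, hgen, isFTDeg_img u hE hft hj, hP, inferInstance, ?_,
    by rw [Category.assoc, hcomp, IsIso.inv_comp_eq, Category.assoc], fun O1 lam hO1 => ?_,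
    fun U hU => imgStrZero_surjective u hE hj U hU⟩
  · have hsurj : Function.Surjective (inv τ).base := (inv τ).homeomorph.surjective
    show DenseRange (inv τ ≫ r)
    exact hdom.denseRange.comp hsurj.denseRange r.continuous
  · obtain ⟨e⟩ := nonempty_pullback_qmap_one v hjL hLq hL hP hPL hr hO1 hgen
    exact ⟨((Scheme.Modules.pullbackId X).app L).symm ≪≫
      (Scheme.Modules.pullbackCongr (IsIso.inv_hom_id τ).symm).app L ≪≫
      ((Scheme.Modules.pullbackComp (inv τ) τ).app L).symm ≪≫ (Scheme.Modules.pullback (inv τ)).mapIso e.symm ≪≫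
      (Scheme.Modules.pullbackComp (inv τ) r).app O1⟩

/-- universally closed with very ample data of finite type is projective -/
theorem isProjective_of_good [QuasiCompact q] [QuasiSeparated q] [UniversallyClosed q] (hL : PicF.IsInvertible L)
    (hjL : RelProj.IsGrSymAlg L 𝒮L jL) (hPL : RelProj.IsRelProj 𝒮L pL chartL)
    (hE : Coh.IsQCoh E) (hft : CohB1.IsFT E) (hj : RelProj.IsGrSymAlg E 𝒯 j) (u : RelProj.QGrHom q 𝒯 𝒮L)
    (hgood : ∀ x : X, ∃ (U : Y.Opens) (hU : IsAffineOpen U) (d : ℕ) (_ : 0 < d) (f : 𝒯.presheaf.obj (op U))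
      (_ : f ∈ 𝒯.deg U hU d), x ∈ xs u U d f ∧ IsAffineOpen (xs u U d f) ∧
        Frac u U hU (xs u U d f) (xs_le u U d f) d f) :
    RelProj.IsProjective q := by
  obtain ⟨𝒮, P, p, chart, i, h1, h2, hP, ho, hd, hc, -, -⟩ := exists_image_model hL hjL hPL hE hft hj u hgood
  haveI : IsSeparated p := EGA2Misc.isSeparated_of_isRelProj hP
  haveI : UniversallyClosed (i ≫ p) := by rw [hc]; infer_instance
  haveI : UniversallyClosed i := UniversallyClosed.of_comp_of_isSeparated i p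
  haveI : IsIso i := (isIso_iff_isOpenImmersion_and_surjective i).2 ⟨ho, ⟨fun z =>
    Set.mem_range.1 ((i.isClosedMap.isClosed_range.closure_eq.symm.trans hd.closure_eq).ge (Set.mem_univ z))⟩⟩
  exact ⟨𝒮, P, p, chart, asIso i, h1, h2, hP, hc⟩

/-- a universally closed morphism with a closed immersion into the bundle of a module of finite type is projective -/
theorem isProjective_of_bundle {P : Scheme.{u}} {p : P ⟶ Y}
    {chart : ∀ (U : Y.Opens) (hU : IsAffineOpen U), (((p ⁻¹ᵁ U : P.Opens) : Scheme.{u}) ≅ Proj (𝒯.deg U hU))}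
    (hE : Coh.IsQCoh E) (hft : CohB1.IsFT E) (hj : RelProj.IsGrSymAlg E 𝒯 j) (hP : RelProj.IsRelProj 𝒯 p chart)
    (i : X ⟶ P) [IsImmersion i] [QuasiCompact (i ≫ p)] [UniversallyClosed (i ≫ p)] :
    RelProj.IsProjective (i ≫ p) := by
  haveI : IsSeparated p := EGA2Misc.isSeparated_of_isRelProj hP
  obtain ⟨O1, lam, hO1⟩ := exists_isRelTwist hP 1
  obtain ⟨φ, hφ⟩ := exists_canMap (lam := lam) hP hj hO1
  let L := (Scheme.Modules.pullback i).obj O1
  have hL : PicF.IsInvertible L :=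
    GenLocus.isInvertible_pullback i (isInvertible_relTwist (grSymAlg_isGenDegOne hE hj) hO1)
  have hLq := TensorMod.isQCoh_of_isInvertible hL
  obtain ⟨𝒮L, jL, hjL⟩ := exists_isGrSymAlg L hLq
  obtain ⟨PL, pL, chartL, hPL⟩ := exists_isRelProj 𝒮L
  obtain ⟨u, hu⟩ := exists_bundle_hom hE hj φ hjL i (Iso.refl L)
  refine isProjective_of_good hL hjL hPL hE hft hj u fun x => ?_
  obtain ⟨U, hU, hxU, -⟩ := Opens.isBasis_iff_nbhd.1 Y.isBasis_affineOpens (U := ⊤) (Opens.mem_top ((i ≫ p) x))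
  obtain ⟨d, hd, f, hf, h⟩ := exists_good_element hE hj hP hO1 φ hφ hjL hLq hL i (Iso.refl L) u hu hPL x U hU hxU
  exact ⟨U, hU, d, hd, f, hf, h⟩

end Groth.Agent.SymAlgRel
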