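import Mathlib
import Groth.Agent.SymAlgRel.FTSubImm
import Groth.Agent.ProjUPLib.Immersion
import Groth.Agent.QCohBase.Finite

/-!
# The projective bundle of a finite type module over an affine scheme is very ample in a projective space
-/

set_option autoImplicit false
set_option synthInstance.maxHeartbeats 200000
set_option backward.isDefEq.respectTransparency false
set_option backward.isDefEq.respectTransparency.types false

noncomputable section

universe u

open CategoryTheory CategoryTheory.Limits AlgebraicGeometry TopologicalSpace Opposite RelSpec HomogeneousLocalization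
open Groth.Agent.QCohBase Groth.Agent.GenLocus
open scoped HomogeneousIdeal

namespace Groth.Agent.SymAlgRel

variable {Y P : Scheme.{u}} {E : Y.Modules} (hE : Coh.IsQCoh E) {𝒯 : RelProj.QCGrAlg Y} {j : E ⟶ 𝒯.toModule}
  (hj : RelProj.IsGrSymAlg E 𝒯 j)
  {p : P ⟶ Y} {chart : ∀ (U : Y.Opens) (hU : IsAffineOpen U), (((p ⁻¹ᵁ U : P.Opens) : Scheme.{u}) ≅ Proj (𝒯.deg U hU))}
  (hP : RelProj.IsRelProj 𝒯 p chart) {O1 : P.Modules}
  {lam : ∀ (U : Y.Opens) (hU : IsAffineOpen U),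
    O1 ⟶ (Scheme.Modules.pushforward (RelProj.emb p chart U hU)).obj (GrTwist.twist (𝒯.deg U hU) 1)}
  (hO1 : RelProj.IsRelTwist 𝒯 p chart 1 O1 lam)

include hE hj hP hO1 in
theorem isRelVeryAmplePn_bundle [IsAffine Y] (hft : CohB1.IsFT E) : RelAmple.IsRelVeryAmplePn p O1 := by
  classical
  obtain ⟨φ, hφ⟩ := exists_canMap (lam := lam) hP hj hO1
  have hU : IsAffineOpen (⊤ : Y.Opens) := isAffineOpen_top Y
  haveI : E.IsQuasicoherent := hE
  haveI := QCohBase.finite_sections E hft hU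
  obtain ⟨G, hG⟩ := Module.Finite.fg_top (R := Γ(Y, ⊤)) (M := Γ(E, ⊤))
  let s : G → Γ(O1, ⊤) := fun g => φ.app ⊤ g.1
  have hframe : ∀ e : Γ(E, ⊤), IsFrame O1 (mres O1 (le_top : T₀ j chart ⊤ hU e ≤ ⊤) (φ.app ⊤ e)) := fun e =>
    isFrame_phi hj hO1 φ hφ ⊤ hU e
  have hloc : ∀ e : Γ(E, ⊤), ProjUPLib.loc O1 (φ.app ⊤ e) = T₀ j chart ⊤ hU e := by
    intro e₀
    refine le_antisymm (fun z hz => ?_) (ProjUPLib.le_loc (hframe e₀))
    obtain ⟨w, hw⟩ : z ∈ (RelProj.emb p chart ⊤ hU).opensRange := by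
      rw [EGA2Misc.opensRange_emb]; exact Opens.mem_top _
    obtain ⟨e, he⟩ := exists_gen_notMem hE hj ⊤ hU w
    have hze : z ∈ T₀ j chart ⊤ hU e := ⟨w, he, hw⟩
    let W := ProjUPLib.loc O1 (φ.app ⊤ e₀) ⊓ T₀ j chart ⊤ hU e
    have hW₀ : IsFrame O1 (mres O1 (le_top : W ≤ ⊤) (φ.app ⊤ e₀)) := by
      have h := (ProjUPLib.isFrame_loc (L := O1) (φ.app ⊤ e₀)).res (inf_le_left : W ≤ _)
      rwa [mres_mres] at h
    have h1 : mres O1 (le_top : W ≤ ⊤) (φ.app ⊤ e₀) =
        ores (inf_le_right : W ≤ _) (rho hj chart ⊤ hU e 1 (tgen j e₀) (tgen_mem hj hU e₀)) •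
          mres O1 (le_top : W ≤ ⊤) (φ.app ⊤ e) := by
      have h := congrArg (mres O1 (inf_le_right : W ≤ _)) (rho_smul (chart := chart) hj hO1 φ hφ ⊤ hU e e₀)
      rw [mres_smul, mres_mres, mres_mres] at h
      exact h.symm
    rw [h1] at hW₀
    have hfe : IsFrame O1 (mres O1 (le_top : W ≤ ⊤) (φ.app ⊤ e)) := by
      have h := (hframe e).res (inf_le_right : W ≤ _)
      rwa [mres_mres] at h
    have h2 := P.basicOpen_of_isUnit (hfe.isUnit_of_smul hW₀)
    have h3 : z ∈ P.basicOpen (ores (inf_le_right : W ≤ _) (rho hj chart ⊤ hU e 1 (tgen j e₀) (tgen_mem hj hU e₀))) :=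
      h2.ge ⟨hz, hze⟩
    rw [show P.basicOpen (ores (inf_le_right : W ≤ T₀ j chart ⊤ hU e) (rho hj chart ⊤ hU e 1 (tgen j e₀) (tgen_mem hj hU e₀))) =
      W ⊓ P.basicOpen _ from Scheme.basicOpen_res P _ _] at h3
    obtain ⟨v, hv, hvz⟩ := (basicOpen_rho hj ⊤ hU e one_pos (tgen j e₀) (tgen_mem hj hU e₀)).le h3.2
    exact ⟨v, hv.2, hvz⟩
  refine ProjUPLib.isRelVeryAmplePn_of_sections p (isInvertible_relTwist (grSymAlg_isGenDegOne hE hj) hO1) s fun z => ?_
  obtain ⟨w, hw⟩ : z ∈ (RelProj.emb p chart ⊤ hU).opensRange := by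
    rw [EGA2Misc.opensRange_emb]; exact Opens.mem_top _
  have hk : ∃ g ∈ G, tgen j g ∉ w.asHomogeneousIdeal := by
    by_contra hne
    push Not at hne
    obtain ⟨e, he⟩ := exists_gen_notMem hE hj ⊤ hU w
    refine he ?_
    clear he
    have hmem : e ∈ Submodule.span Γ(Y, ⊤) (G : Set Γ(E, ⊤)) := hG ▸ Submodule.mem_top
    induction hmem using Submodule.span_induction with
    | mem g hg => exact hne g hg
    | zero =>
      show (j.app ⊤ 0 : 𝒯.presheaf.obj (op ⊤)) ∈ w.asHomogeneousIdeal.toIdeal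
      rw [map_zero]
      exact zero_mem _
    | add a b _ _ ha hb =>
      show (j.app ⊤ (a + b) : 𝒯.presheaf.obj (op ⊤)) ∈ w.asHomogeneousIdeal.toIdeal
      rw [map_add]
      exact add_mem ha hb
    | smul r a _ ha =>
      show (j.app ⊤ (r • a) : 𝒯.presheaf.obj (op ⊤)) ∈ w.asHomogeneousIdeal.toIdeal
      rw [Scheme.Modules.Hom.app_smul]
      exact Ideal.mul_mem_left (α := 𝒯.presheaf.obj (op ⊤)) _ _ ha
  obtain ⟨g, hgG, hgw⟩ := hk
  refine ⟨⟨g, hgG⟩, (hloc g).ge ⟨w, hgw, hw⟩, ⊤, hU, ?_⟩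
  have key : ∀ T : P.Opens, T = T₀ j chart ⊤ hU g → ∃ h : T ≤ p ⁻¹ᵁ ⊤, IsAffineOpen T ∧
      Subring.closure ((Set.range fun c : Γ(Y, ⊤) => (p.appLE ⊤ T h).hom c) ∪
        {v | ∃ k : G, v • mres O1 (le_top : T ≤ ⊤) (φ.app ⊤ g) = mres O1 le_top (s k)}) = ⊤ := by
    rintro T rfl
    refine ⟨T₀_le ⊤ hU g, (Proj.isAffineOpen_basicOpen (𝒯.deg ⊤ hU) (tgen j g) (tgen_mem hj hU g) one_pos).image_of_isOpenImmersion _,
      eq_top_iff.2 fun t _ => ?_⟩
    let R := Subring.closure ((Set.range fun c : Γ(Y, ⊤) => (p.appLE ⊤ (T₀ j chart ⊤ hU g) (T₀_le ⊤ hU g)).hom c) ∪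
        {v | ∃ k : G, v • mres O1 (le_top : T₀ j chart ⊤ hU g ≤ ⊤) (φ.app ⊤ g) = mres O1 le_top (s k)})
    have hR : ∀ (d : ℕ) (f : 𝒯.presheaf.obj (op ⊤)) (hf : f ∈ 𝒯.deg ⊤ hU d), rho hj chart ⊤ hU g d f hf ∈ R := by
      intro d f hf
      have hstr : ∀ r, rho hj chart ⊤ hU g 0 ((𝒯.str.app (op ⊤)).hom r) (𝒯.str_mem ⊤ hU r) ∈ R := fun r => by
        rw [rho_str hj hP]
        exact Subring.subset_closure (Or.inl ⟨r, rfl⟩)
      have hgen : ∀ e : Γ(E, ⊤), rho hj chart ⊤ hU g 1 (tgen j e) (tgen_mem hj hU e) ∈ R := by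
        intro e
        have hmem : e ∈ Submodule.span Γ(Y, ⊤) (G : Set Γ(E, ⊤)) := hG ▸ Submodule.mem_top
        have hinj : ∀ {a b : Γ(P, T₀ j chart ⊤ hU g)},
            a • mres O1 (le_top : T₀ j chart ⊤ hU g ≤ ⊤) (φ.app ⊤ g) = b • mres O1 le_top (φ.app ⊤ g) → a = b :=
          fun h => (hframe g).bijective.1 h
        induction hmem using Submodule.span_induction with
        | mem k hk => exact Subring.subset_closure (Or.inr ⟨⟨k, hk⟩, rho_smul hj hO1 φ hφ ⊤ hU g k⟩)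
        | zero =>
          have : rho hj chart ⊤ hU g 1 (tgen j 0) (tgen_mem hj hU 0) = 0 := hinj (by
            refine (rho_smul hj hO1 φ hφ ⊤ hU g 0).trans ?_
            rw [map_zero, map_zero, zero_smul])
          rw [this]; exact zero_mem _
        | add a b _ _ ha hb =>
          have : rho hj chart ⊤ hU g 1 (tgen j (a + b)) (tgen_mem hj hU _) =
              rho hj chart ⊤ hU g 1 (tgen j a) (tgen_mem hj hU a) + rho hj chart ⊤ hU g 1 (tgen j b) (tgen_mem hj hU b) :=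
            hinj (by
              refine (rho_smul hj hO1 φ hφ ⊤ hU g (a + b)).trans ?_
              rw [map_add, map_add, add_smul]
              exact (congrArg₂ (· + ·) (rho_smul hj hO1 φ hφ ⊤ hU g a) (rho_smul hj hO1 φ hφ ⊤ hU g b)).symm)
          rw [this]; exact add_mem ha hb
        | smul r a _ ha =>
          have : rho hj chart ⊤ hU g 1 (tgen j (r • a)) (tgen_mem hj hU _) =
              (p.appLE ⊤ (T₀ j chart ⊤ hU g) (T₀_le ⊤ hU g)).hom r * rho hj chart ⊤ hU g 1 (tgen j a) (tgen_mem hj hU a) :=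
            hinj (by
              refine (rho_smul hj hO1 φ hφ ⊤ hU g (r • a)).trans ?_
              rw [Scheme.Modules.Hom.app_smul, mul_smul]
              refine Eq.trans ?_ (congrArg (_ • ·) (rho_smul hj hO1 φ hφ ⊤ hU g a)).symm
              exact mres_smul O1 _ _ _)
          rw [this]; exact mul_mem (Subring.subset_closure (Or.inl ⟨r, rfl⟩)) ha
      have h := mem_closure_of_gen (𝒜 := 𝒯.deg ⊤ hU)
        (fun k z => ∃ hz : z ∈ 𝒯.deg ⊤ hU k, rho hj chart ⊤ hU g k z hz ∈ R) (fun k z hz => hz.1) ?_ ?_ _ ?_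
        (closure_sym_eq_top E hE hj.1 hU) hf
      rotate_left
      · refine ⟨SetLike.one_mem_graded _, ?_⟩
        have h1 := hstr 1
        simp only [map_one] at h1
        exact h1
      · rintro k m a b ⟨ha, hae⟩ ⟨hb, hbe⟩
        exact ⟨SetLike.mul_mem_graded ha hb, rho_mul hj ⊤ hU g k m a b ha hb ▸ mul_mem hae hbe⟩
      · rintro z (⟨r, rfl⟩ | ⟨e, rfl⟩)
        · exact ⟨0, 𝒯.str_mem ⊤ hU r, hstr r⟩
        · exact ⟨1, tgen_mem hj hU e, hgen e⟩
      suffices h' : ∃ hz : f ∈ 𝒯.deg ⊤ hU d, rho hj chart ⊤ hU g d f hz ∈ R from h'.2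
      clear hf
      induction h using AddSubgroup.closure_induction with
      | mem z hz => exact hz
      | zero =>
        refine ⟨zero_mem _, ?_⟩
        have h0 := rho_add hj (chart := chart) ⊤ hU g d 0 0 (zero_mem _) (zero_mem _)
        simp only [add_zero] at h0
        rw [left_eq_add.1 h0]; exact zero_mem _
      | add a b _ _ ha hb => exact ⟨add_mem ha.1 hb.1, rho_add hj ⊤ hU g d a b ha.1 hb.1 ▸ add_mem ha.2 hb.2⟩
      | neg a _ ha =>
        refine ⟨neg_mem ha.1, ?_⟩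
        have h0 := rho_add hj (chart := chart) ⊤ hU g d (-a) a (neg_mem ha.1) ha.1
        have hz := rho_add hj (chart := chart) ⊤ hU g d 0 0 (zero_mem _) (zero_mem _)
        simp only [neg_add_cancel] at h0
        simp only [add_zero] at hz
        rw [left_eq_add.1 hz] at h0
        rw [eq_neg_of_add_eq_zero_left h0.symm]
        exact neg_mem ha.2
    let e := RelProj.emb p chart ⊤ hU
    obtain ⟨t', rfl⟩ : ∃ t', (e.appIso (Proj.basicOpen (𝒯.deg ⊤ hU) (tgen j g))).inv t' = t :=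
      ((ConcreteCategory.isIso_iff_bijective (e.appIso (Proj.basicOpen (𝒯.deg ⊤ hU) (tgen j g))).inv).1 inferInstance).2 t
    obtain ⟨a, rfl⟩ := ((ConcreteCategory.isIso_iff_bijective
      (Proj.basicOpenIsoAway (𝒯.deg ⊤ hU) (tgen j g) (tgen_mem hj hU g) one_pos).hom).1 inferInstance).2 t'
    obtain ⟨n, f, hf, rfl⟩ := Away.mk_surjective (𝒯.deg ⊤ hU) (tgen_mem hj hU g) a
    exact hR n f (by simpa only [smul_eq_mul, mul_one] using hf)
  exact key _ (hloc g)

theorem isRelVeryAmplePn_of_bundle_immersion {X : Scheme.{u}} {L : X.Modules} {i : X ⟶ P} [IsImmersion i]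
    (h : RelAmple.IsRelVeryAmplePn p O1) (e : L ≅ (Scheme.Modules.pullback i).obj O1) :
    RelAmple.IsRelVeryAmplePn (i ≫ p) L := by
  obtain ⟨n, k, hk, hkp, ⟨θ⟩⟩ := h
  haveI := hk
  exact ⟨n, i ≫ k, inferInstance, by rw [Category.assoc, hkp],
    ⟨e ≪≫ (Scheme.Modules.pullback i).mapIso θ ≪≫ (Scheme.Modules.pullbackComp i k).app _⟩⟩

end Groth.Agent.SymAlgRel
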