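import Groth.Agent.SymAlgRel.ProjQuasi
import Groth.Agent.ProjCoord.Extra
import Groth.Agent.ProjUPLib.OfVeryAmple
import Groth.Agent.S4419
import Groth.Agent.S9707
import Groth.Agent.S9705
import Groth.Agent.S4414
import Groth.Agent.S12478
import Groth.Agent.S12473

/-! H-projective and projective morphisms. -/

set_option autoImplicit false
set_option backward.isDefEq.respectTransparency false
set_option backward.isDefEq.respectTransparency.types false

noncomputable section

universe u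

open CategoryTheory CategoryTheory.Limits AlgebraicGeometry TopologicalSpace Opposite

namespace Groth.Agent.SymAlgRel

variable {X S : Scheme.{u}}

theorem isProjective_toSpec (n : ℕ) : RelProj.IsProjective (CohB1.ProjSpace.toSpec n (ULift.{u} ℤ)) := by
  haveI : IsProper (CohB1.ProjSpace.toSpec n (ULift.{u} ℤ)) := ProjCoord.isProper_baseMap (n := n) (R := ULift.{u} ℤ)
  exact S4419.result (Or.inl ⟨inferInstance, inferInstance⟩) _ ⟨inferInstance, inferInstance, _,
    GenLocus.isRelAmple_of_isAmple _ (ProjUPLib.isAmple_twist_polyGrading n (ULift.{u} ℤ))⟩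

theorem isProjective_toBase (n : ℕ) : RelProj.IsProjective (CohB1.ProjSpaceOver.toBase n S) :=
  isProjective_pullback (isProjective_toSpec n) (specULiftZIsTerminal.from S)

theorem isProjective_of_isHProjective {f : X ⟶ S} (h : RelProj.IsHProjective f) : RelProj.IsProjective f := by
  obtain ⟨n, i, hi, rfl⟩ := h
  haveI := hi
  exact isProjective_closedImmersion_comp i (isProjective_toBase n)

theorem isHProjective_of_affine [IsAffine S] {f : X ⟶ S} (h : RelProj.IsProjective f) :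
    RelProj.IsHProjective f := by
  obtain ⟨hq, hp⟩ := isQuasiProjective_and_isProper h
  haveI := hp
  obtain ⟨E, 𝒯, jE, P, p, chart, i, hE, hft, hj, hP, hi, rfl⟩ := exists_bundle_of_isProjective h
  obtain ⟨O1, lam, hO1⟩ := exists_isRelTwist hP 1
  haveI := hi
  obtain ⟨n, k, hk, hc, -⟩ := isRelVeryAmplePn_of_bundle_immersion
    (i := i) (isRelVeryAmplePn_bundle hE hj hP hO1 hft) (Iso.refl _)
  haveI := hk
  refine (S9705.result _).2 ⟨⟨n, k, hk, ?_, hc⟩, hp⟩
  haveI : QuasiCompact (k ≫ CohB1.ProjSpaceOver.toBase n S) := by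
    rw [show k ≫ CohB1.ProjSpaceOver.toBase n S = i ≫ p from hc]; infer_instance
  haveI : IsSeparated (CohB1.ProjSpaceOver.toBase n S) := (isProper_of_isProjective (isProjective_toBase n)).2.1
  exact QuasiCompact.of_comp k (CohB1.ProjSpaceOver.toBase n S)

theorem isLocallyProjective_iff (f : X ⟶ S) :
    RelProj.IsLocallyProjective f ↔ ∀ s : S, ∃ U : S.Opens, s ∈ U ∧ RelProj.IsHProjective (f ∣_ U) := by
  constructor
  · intro h s
    obtain ⟨U, hsU, hU⟩ := h s
    obtain ⟨V, hV, hsV, hVU⟩ := Opens.isBasis_iff_nbhd.1 S.isBasis_affineOpens hsU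
    refine ⟨V, hsV, ?_⟩
    haveI : IsAffine ((V : S.Opens) : Scheme.{u}) := hV
    refine isHProjective_of_affine ?_
    let r := S.homOfLE hVU
    obtain ⟨𝒮, P, p, chart, e, h1, h2, hP, hc⟩ := isProjective_pullback hU r
    have hsq : IsPullback (X.homOfLE (f.preimage_mono hVU)) (f ∣_ V) (f ∣_ U) r :=
      IsPullback.of_right (by
          simpa only [Scheme.homOfLE_ι, r] using (isPullback_morphismRestrict f V).flip)
        (by rw [← cancel_mono U.ι]; simp [r]) (isPullback_morphismRestrict f U).flip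
    exact ⟨𝒮, P, p, chart, hsq.isoPullback ≪≫ e, h1, h2, hP, by
      rw [Iso.trans_hom, Category.assoc, hc, IsPullback.isoPullback_hom_snd]⟩
  · intro h s
    obtain ⟨U, hsU, hU⟩ := h s
    exact ⟨U, hsU, isProjective_of_isHProjective hU⟩

theorem isProjective_iff_isHProjective {Y : Scheme.{u}} [CompactSpace Y] [Y.IsSeparated]
    (hY : ∃ M : Y.Modules, CohB1.IsAmple M) (f : X ⟶ Y) :
    RelProj.IsProjective f ↔ RelProj.IsHProjective f := by
  refine ⟨fun h => ?_, isProjective_of_isHProjective⟩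
  obtain ⟨hq, hp⟩ := isQuasiProjective_and_isProper h
  obtain ⟨-, hqc, r, i, hi, hc⟩ := (S4414.result hY f).1 hq
  haveI := hi
  haveI := hqc
  refine (S9705.result f).2 ⟨⟨r, i, hi, ?_, hc⟩, hp⟩
  haveI : QuasiCompact (i ≫ CohB1.ProjSpaceOver.toBase r Y) := by rw [hc]; infer_instance
  haveI : IsSeparated (CohB1.ProjSpaceOver.toBase r Y) := (isProper_of_isProjective (isProjective_toBase r)).2.1
  exact QuasiCompact.of_comp i (CohB1.ProjSpaceOver.toBase r Y)

theorem exists_openImmersion_projective [CompactSpace S] [QuasiSeparatedSpace S] (f : X ⟶ S)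
    (hf : RelProj.IsQuasiProjective f) :
    ∃ (X' : Scheme.{u}) (j : X ⟶ X') (g : X' ⟶ S), IsOpenImmersion j ∧ RelProj.IsProjective g ∧ j ≫ g = f := by
  obtain ⟨hlft, hqc, L, hamp⟩ := hf
  haveI := hlft
  haveI := hqc
  have hL0 := GenLocus.isInvertible_of_isRelAmple f hamp
  obtain ⟨n, -, hn⟩ := S12478.result f L hL0 hamp
  have h := hn n le_rfl
  have hL := TensorMod.isInvertible_tensorPow hL0 n
  haveI := isSeparated_of_isRelVeryAmple h
  obtain ⟨𝒮L, jL, hjL⟩ := exists_isGrSymAlg _ (TensorMod.isQCoh_of_isInvertible hL)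
  obtain ⟨PL, pL, chartL, hPL⟩ := exists_isRelProj 𝒮L
  obtain ⟨E, hE, hft, ι, -, 𝒯, jE, hj, u, -, -, hgood⟩ := exists_ft_sub_of_isRelVeryAmple hL hjL hPL h
  obtain ⟨𝒮, P, p, chart, i, h1, h2, hP, hi, hd, hc, -⟩ := exists_image_model hL hjL hPL hE hft hj u hgood
  exact ⟨P, i, p, hi, ⟨𝒮, P, p, chart, Iso.refl P, h1, h2, hP, Category.id_comp _⟩, hc⟩

theorem isProjective_of_isProper_qcqs [CompactSpace S] [QuasiSeparatedSpace S] (f : X ⟶ S) [IsProper f]
    (hf : RelProj.IsQuasiProjective f) : RelProj.IsProjective f := by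
  obtain ⟨X', j, g, hj, hg, hc⟩ := exists_openImmersion_projective f hf
  haveI := hj
  haveI : IsSeparated g := (isProper_of_isProjective hg).2.1
  haveI : IsProper (j ≫ g) := by rw [hc]; infer_instance
  haveI : IsProper j := IsProper.of_comp j g
  haveI : IsClosedImmersion j := .of_isPreimmersion j j.isClosedMap.isClosed_range
  rw [← hc]
  exact isProjective_closedImmersion_comp j hg

theorem exists_relVeryAmple_of_isProjective {Y : Scheme.{u}} {f : X ⟶ Y} (h : RelProj.IsProjective f) :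
    ∃ L : X.Modules, PicF.IsInvertible L ∧ RelProj.IsRelVeryAmple f L := by
  obtain ⟨E, 𝒯, jE, P, p, chart, i, hE, hft, hj, hP, hi, rfl⟩ := exists_bundle_of_isProjective h
  obtain ⟨O1, lam, hO1⟩ := exists_isRelTwist hP 1
  haveI := hi
  exact ⟨(Scheme.Modules.pullback i).obj O1,
    GenLocus.isInvertible_pullback i (isInvertible_relTwist (grSymAlg_isGenDegOne hE hj) hO1),
    E, hE, 𝒯, jE, hj, P, p, chart, hP, O1, lam, hO1, i, inferInstance, rfl, ⟨Iso.refl _⟩⟩

theorem isProjective_comp {Y : Scheme.{u}} [CompactSpace S] [QuasiSeparatedSpace S] (f : X ⟶ Y) (g : Y ⟶ S)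
    (hf : RelProj.IsProjective f) (hg : RelProj.IsProjective g) : RelProj.IsProjective (f ≫ g) := by
  obtain ⟨⟨hlf, hqf, -⟩, hpf⟩ := isQuasiProjective_and_isProper hf
  obtain ⟨⟨hlg, hqg, -⟩, hpg⟩ := isQuasiProjective_and_isProper hg
  haveI := hpf
  haveI := hpg
  obtain ⟨L, hL, hLva⟩ := exists_relVeryAmple_of_isProjective hf
  obtain ⟨K, hK, hKva⟩ := exists_relVeryAmple_of_isProjective hg
  obtain ⟨n, -, hn⟩ := S12473.result f g L hL hLva K hK hKva
  exact isProjective_of_isProper_qcqs (f ≫ g) ⟨inferInstance, inferInstance, _,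
    S5721.result (f ≫ g) _ (TensorMod.isInvertible_tensorMod hL
      (GenLocus.isInvertible_pullback f (TensorMod.isInvertible_tensorPow hK n))) (hn n le_rfl)⟩

theorem isLocallyProjective_baseChange {S' : Scheme.{u}} (f : X ⟶ S) (hf : RelProj.IsLocallyProjective f)
    (g : S' ⟶ S) : RelProj.IsLocallyProjective (pullback.snd f g) := by
  intro s
  obtain ⟨U, hsU, hU⟩ := hf (g s)
  refine ⟨g ⁻¹ᵁ U, hsU, ?_⟩
  obtain ⟨𝒮, P, p, chart, e, h1, h2, hP, hc⟩ := isProjective_pullback hU (g ∣_ U)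
  have hbig : IsPullback ((pullback.snd f g ⁻¹ᵁ (g ⁻¹ᵁ U)).ι ≫ pullback.fst f g)
      (pullback.snd f g ∣_ (g ⁻¹ᵁ U)) f ((g ⁻¹ᵁ U).ι ≫ g) :=
    ((isPullback_morphismRestrict (pullback.snd f g) (g ⁻¹ᵁ U)).flip).paste_horiz (IsPullback.of_hasPullback f g)
  rw [← morphismRestrict_ι] at hbig
  let a := (isPullback_morphismRestrict f U).flip.lift
    ((pullback.snd f g ⁻¹ᵁ (g ⁻¹ᵁ U)).ι ≫ pullback.fst f g) ((pullback.snd f g ∣_ (g ⁻¹ᵁ U)) ≫ (g ∣_ U))
    (by rw [hbig.w, Category.assoc])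
  have hsq : IsPullback a (pullback.snd f g ∣_ (g ⁻¹ᵁ U)) (f ∣_ U) (g ∣_ U) :=
    IsPullback.of_right (by rw [IsPullback.lift_fst]; exact hbig) (IsPullback.lift_snd _ _ _ _)
      (isPullback_morphismRestrict f U).flip
  exact ⟨𝒮, P, p, chart, hsq.isoPullback ≪≫ e, h1, h2, hP, by
    rw [Iso.trans_hom, Category.assoc, hc, IsPullback.isoPullback_hom_snd]⟩

end Groth.Agent.SymAlgRel
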