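import Groth.Agent.SymAlgRel.CounitAmple
import Groth.Agent.GenLocus.Rel
import Groth.Agent.ModPairLib.QcIdeal

/-! Absolute criteria of ampleness from generation. -/

set_option autoImplicit false
set_option backward.isDefEq.respectTransparency false
set_option backward.isDefEq.respectTransparency.types false
set_option linter.style.haveILetI false

noncomputable section

universe u

open CategoryTheory Limits AlgebraicGeometry Opposite TopologicalSpace
open Groth.Agent.QCohBase Groth.Agent.GenLocus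

namespace Groth.Agent.SymAlgRel

variable {X Y : Scheme.{u}}

theorem hom_eq_zero_of_top {M P : X.Modules} {ι : Type*} [HasCoproduct fun _ : ι => Coh.structureModule X]
    (p : (∐ fun _ : ι => Coh.structureModule X) ⟶ M) [Epi p] (g : M ⟶ P) (h : ∀ σ, g.app ⊤ σ = 0) : g = 0 := by
  rw [← cancel_epi p, comp_zero]
  refine Sigma.hom_ext _ _ fun a => ?_
  rw [comp_zero]
  exact hom_eq_zero_of_sect _ (h _)

theorem counit_epi_of_epi_free (f : X ⟶ Y) {M : X.Modules} {ι : Type*} [HasCoproduct fun _ : ι => Coh.structureModule X]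
    (p : (∐ fun _ : ι => Coh.structureModule X) ⟶ M) [Epi p] :
    Epi ((Scheme.Modules.pullbackPushforwardAdjunction f).counit.app M) := by
  let adj := Scheme.Modules.pullbackPushforwardAdjunction f
  refine Preadditive.epi_of_cancel_zero _ fun {P} g hg => ?_
  have hg0 : (Scheme.Modules.pushforward f).map g = 0 := by
    have h1 := congrArg (adj.homEquiv _ P) hg
    rw [adj.homEquiv_naturality_right, adj.homEquiv_unit, adj.homEquiv_unit,
      adj.right_triangle_components, Category.id_comp, Functor.map_zero, comp_zero] at h1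
    exact h1
  exact hom_eq_zero_of_top p g fun σ =>
    ConcreteCategory.congr_hom (congrArg (fun φ => Scheme.Modules.Hom.app φ ⊤) hg0 : g.app ⊤ = 0) σ

theorem isAmple_of_isRelAmple_top [IsAffine Y] {f : X ⟶ Y} {L : X.Modules} (h : RelAmple.IsRelAmple f L) :
    CohB1.IsAmple L := isAmple_of_isRelAmple_affine h

theorem isQuasiAffine_of_globallyGenerated (X : Scheme.{u}) [CompactSpace X] [X.IsSeparated]
    (h : ∀ (J : X.Modules) (i : J ⟶ Coh.structureModule X), Mono i → Coh.IsQCoh J → CohB1.IsFT J →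
      Curv2.IsGloballyGenerated J) : X.IsQuasiAffine := by
  let f := specULiftZIsTerminal.from X
  haveI : QuasiCompact f := quasiCompact_of_compactSpace f
  refine GenLocus.isQuasiAffine_iff_isAmple.mpr (isAmple_of_isRelAmple_top
    (isRelAmple_of_counit_ideal f _ (PicLoc.isInvertible_structureModule X) fun J i hi hJ hJF => ?_))
  obtain ⟨ι, p, hp⟩ := h J i hi hJ hJF
  refine ⟨1, one_pos, ?_⟩
  let e : J ≅ CohB1.tensorMod J (CohB1.tensorPow (Coh.structureModule X) 1) :=
    (TensorMod.unitRightIso J).symm ≪≫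
      TensorMod.tensorIso (Iso.refl J) (TensorMod.tensorPowOneIso (Coh.structureModule X)).symm
  haveI := hp
  haveI : Epi (p ≫ e.hom) := epi_comp _ _
  exact counit_epi_of_epi_free f (p ≫ e.hom)

theorem eventually_counit_epi [CompactSpace X] [X.IsSeparated] (f : X ⟶ Y) [IsSeparated f] [QuasiCompact f]
    {L : X.Modules} (hL : RelAmple.IsRelAmple f L) (F : X.Modules) (hF : Coh.IsQCoh F) (hFT : CohB1.IsFT F) :
    ∃ n₀ : ℕ, 0 < n₀ ∧ ∀ n : ℕ, n₀ ≤ n →
      Epi ((Scheme.Modules.pullbackPushforwardAdjunction f).counit.app (CohB1.tensorMod F (CohB1.tensorPow L n))) := by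
  classical
  have hex : ∀ x : X, ∃ V : Y.affineOpens, f x ∈ V.1 := fun x => by
    obtain ⟨V, hV, hxV, -⟩ := Opens.isBasis_iff_nbhd.1 Y.isBasis_affineOpens (U := ⊤) (Opens.mem_top (f x))
    exact ⟨⟨V, hV⟩, hxV⟩
  choose V hV using hex
  obtain ⟨t, ht⟩ := isCompact_univ.elim_finite_subcover (fun x : X => ((f ⁻¹ᵁ (V x).1 : X.Opens) : Set X))
    (fun x => (f ⁻¹ᵁ (V x).1).2) (fun x _ => Set.mem_iUnion.2 ⟨x, hV x⟩)
  obtain ⟨m₀, hm₀⟩ := Filter.eventually_atTop.1 (Filter.eventually_all.2 fun x : t =>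
    ProjUPLib.eventually_exists_epi_free (hL.2 (V x.1))
      (isCoh_restrict (f ⁻¹ᵁ (V x.1).1).ι (⟨hF, hFT⟩ : Coh.IsCoh F)))
  refine ⟨m₀ + 1, by omega, fun n hn => ?_⟩
  let adj := Scheme.Modules.pullbackPushforwardAdjunction f
  refine Preadditive.epi_of_cancel_zero _ fun {P} g hg => ?_
  have hg0 : (Scheme.Modules.pushforward f).map g = 0 := by
    have h1 := congrArg (adj.homEquiv _ P) hg
    rw [adj.homEquiv_naturality_right, adj.homEquiv_unit, adj.homEquiv_unit,
      adj.right_triangle_components, Category.id_comp, Functor.map_zero, comp_zero] at h1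
    exact h1
  refine eq_zero_of_restrict g (fun x : t => f ⁻¹ᵁ (V x.1).1) (fun y => ?_) fun x => ?_
  · obtain ⟨z, hz, hy⟩ := Set.mem_iUnion₂.1 (ht (Set.mem_univ y))
    exact ⟨⟨z, hz⟩, hy⟩
  obtain ⟨k, p, hp⟩ := hm₀ n (by omega) x
  let ι := (f ⁻¹ᵁ (V x.1).1).ι
  let α : (CohB1.tensorMod F (CohB1.tensorPow L n)).restrict ι ≅
      CohB1.tensorMod (F.restrict ι) (CohB1.tensorPow (L.restrict ι) n) :=
    TensorMod.restrictTensorIso ι _ _ ≪≫ TensorMod.tensorIso (Iso.refl _) (TensorMod.restrictPowIso ι L n)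
  haveI := hp
  haveI : Epi (p ≫ α.inv) := epi_comp _ _
  refine hom_eq_zero_of_top (p ≫ α.inv) _ fun σ => ?_
  have h2 : g.app (f ⁻¹ᵁ (V x.1).1) = 0 := congrArg (fun φ => Scheme.Modules.Hom.app φ (V x.1).1) hg0
  have e : ι ''ᵁ ⊤ = f ⁻¹ᵁ (V x.1).1 := Scheme.Opens.ι_image_top _
  rw [← e] at h2
  exact ConcreteCategory.congr_hom h2 σ

theorem exists_section_of_counit_epi (f : X ⟶ Y) [QuasiCompact f] [QuasiSeparated f] {N : X.Modules}
    (hN : PicF.IsInvertible N)
    (hepi : Epi ((Scheme.Modules.pullbackPushforwardAdjunction f).counit.app N))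
    {V : Y.Opens} (hV : IsAffineOpen V) (w : (f ⁻¹ᵁ V).toScheme) :
    ∃ s : Coh.structureModule (f ⁻¹ᵁ V).toScheme ⟶ N.restrict (f ⁻¹ᵁ V).ι, w ∈ CohB1.genLocus _ s := by
  classical
  haveI : N.IsQuasicoherent := TensorMod.isQCoh_of_isInvertible hN
  let W := f ⁻¹ᵁ V
  obtain ⟨U, hU, hxU, hUW, e, he⟩ := exists_isFrame hN (x := W.ι w) (W := W) w.2
  have hspan := exists_sum_of_counit_epi f N hepi hV hU hUW e
  choose c hc using fun a : Γ(N, W) => he.bijective.2 (mres N hUW a)
  obtain ⟨a, ha⟩ : ∃ a : Γ(N, W), IsUnit (X.presheaf.germ U (W.ι w) hxU (c a)) := by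
    by_contra hall
    push Not at hall
    have key : ∀ z ∈ Submodule.span Γ(X, U) (Set.range fun a : Γ(N, W) => mres N hUW a),
        ∃ r : Γ(X, U), r • e = z ∧ ¬ IsUnit (X.presheaf.germ U (W.ι w) hxU r) := by
      intro z hz
      induction hz using Submodule.span_induction with
      | mem z hz =>
        obtain ⟨a, rfl⟩ := hz
        exact ⟨c a, hc a, hall a⟩
      | zero => exact ⟨0, zero_smul _ _, by rw [map_zero]; exact not_isUnit_zero⟩
      | add a b _ _ ha hb =>
        obtain ⟨r, hr, hr'⟩ := ha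
        obtain ⟨r₂, hr₂, hr₂'⟩ := hb
        exact ⟨r + r₂, by rw [add_smul, hr, hr₂], by rw [map_add]; exact IsLocalRing.nonunits_add hr' hr₂'⟩
      | smul q a _ ha =>
        obtain ⟨r, hr, hr'⟩ := ha
        exact ⟨q * r, by rw [mul_smul, hr],
          by rw [map_mul]; exact fun hu => hr' (isUnit_of_mul_isUnit_right hu)⟩
    obtain ⟨r, hr, hr'⟩ := key e hspan
    exact hr' (by rw [he.bijective.1 (hr.trans (one_smul _ e).symm), map_one]; exact isUnit_one)
  let s := homOfSection (N.restrict W.ι) ((N.restrictAppIso W.ι ⊤).inv (mres N W.ι_image_top.le a))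
  have hs : sect s ⊤ = (N.restrictAppIso W.ι ⊤).inv (mres N W.ι_image_top.le a) :=
    (sect_homOfSection _ _ ⊤).trans (mres_refl _ _ _)
  let D := X.basicOpen (c a)
  refine ⟨s, (mem_genLocus_iff s).mpr ⟨W.ι ⁻¹ᵁ D, (Scheme.mem_basicOpen X _ _ hxU).mpr ha, ?_⟩⟩
  have hD : W.ι ''ᵁ (W.ι ⁻¹ᵁ D) ≤ D := W.ι.image_preimage_le D
  have hle : W.ι ''ᵁ (W.ι ⁻¹ᵁ D) ≤ W := (W.ι.image_le_opensRange _).trans_eq W.opensRange_ι
  refine (isFrame_restrict_iff W a s hs _ hle).mp ?_
  rw [← mres_mres N hUW (hD.trans (X.basicOpen_le _)), ← hc a, mres_smul]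
  refine (he.res _).smul_unit ?_
  have hu : IsUnit (ores (X.basicOpen_le (c a)) (c a)) := RingedSpace.isUnit_res_basicOpen _ _
  have := hu.map (ores hD)
  rwa [ores_ores] at this

theorem isRelAmple_tensor_of_counit_pow_epi (f : X ⟶ Y) [QuasiCompact f] {L L' : X.Modules}
    (hL : RelAmple.IsRelAmple f L) (hL' : PicF.IsInvertible L') (n : ℕ) (hn : 0 < n)
    (hepi : Epi ((Scheme.Modules.pullbackPushforwardAdjunction f).counit.app (CohB1.tensorPow L' n))) :
    RelAmple.IsRelAmple f (CohB1.tensorMod L L') := by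
  haveI : IsSeparated f := by
    refine IsZariskiLocalAtTarget.of_iSup_eq_top (P := @IsSeparated)
      (fun V : Y.affineOpens ↦ V.1) (iSup_affineOpens_eq_top Y) fun V ↦ ?_
    haveI := isSeparated_of_isAmple (hL.2 V)
    infer_instance
  obtain ⟨m, rfl⟩ : ∃ m, n = m + 1 := ⟨n - 1, by omega⟩
  refine ⟨inferInstance, fun V => ?_⟩
  let ι := (f ⁻¹ᵁ V.1).ι
  have hL'' : PicF.IsInvertible (L'.restrict ι) := TensorMod.isInvertible_of_iso
    ((Scheme.Modules.restrictFunctorIsoPullback ι).symm.app L') (GenLocus.isInvertible_pullback ι hL')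
  refine isAmple_of_iso (TensorMod.restrictTensorIso ι L L').symm
    (isAmple_tensorMod (hL.2 V) hL'' fun w => ?_)
  obtain ⟨s, hs⟩ := exists_section_of_counit_epi f (TensorMod.isInvertible_tensorPow hL' (m + 1)) hepi V.2 w
  exact ⟨m, s ≫ (TensorMod.restrictPowIso ι L' (m + 1)).hom, by rw [genLocus_comp_iso]; exact hs⟩

theorem isAmple_of_ft_ideals (X : Scheme.{u}) [CompactSpace X] [X.IsSeparated] (L : X.Modules) (hL : PicF.IsInvertible L)
    (h : ∀ I : X.IdealSheafData, BlowUp.IsFiniteTypeIdeal I →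
      ∃ (n k : ℕ) (p : FlatMod.freeMod X k ⟶ CohB1.tensorMod (ClSub.idealMod I) (CohB1.tensorPow L (n + 1))), 0 < k ∧ Epi p) :
    CohB1.IsAmple L := by
  let f := specULiftZIsTerminal.from X
  haveI : QuasiCompact f := quasiCompact_of_compactSpace f
  refine isAmple_of_isRelAmple_top (isRelAmple_of_counit_core f L hL fun Z U hU hZ t₁ ht₁ => ?_)
  obtain ⟨F, hF, hsupp⟩ := ModPairLib.exists_fg_support U hU.isCompact
  have hr : Set.range F.subschemeι = (Z : Set X) := by
    rw [Scheme.IdealSheafData.range_subschemeι, hZ]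
    exact Set.ext hsupp
  have hiff : ∀ (W : X.Opens) (s : Γ(X, W)), F.subschemeι.app W s = 0 → ∀ z ∈ Z, z ∉ X.basicOpen s := by
    intro W s hs z hz hz'
    have hbot : F.subschemeι ⁻¹ᵁ X.basicOpen s = ⊥ := by
      rw [Scheme.preimage_basicOpen, hs, Scheme.basicOpen_zero]
    obtain ⟨w, rfl⟩ : z ∈ Set.range F.subschemeι := hr.symm ▸ hz
    exact (hbot.le hz' : w ∈ (⊥ : Opens _))
  have hq : (ClSub.idealMod F).IsQuasicoherent :=
    isQuasicoherent_kernel _ (AssPts.isQuasicoherent_structureModule X)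
      (by
        haveI := AssPts.isQuasicoherent_structureModule F.subscheme
        exact isQuasicoherent_pushforward _ _)
  have hcomp : ClSub.idealModι F ≫ ClSub.toSubscheme (Scheme.IdealSheafData.vanishingIdeal Z) = 0 := by
    ext W t
    exact (SerreAff.app_eq_zero_iff Z W _).2 (hiff W _
      (congrArg (fun φ => Scheme.Modules.Hom.app φ W t) (kernel.condition (ClSub.toSubscheme F))))
  let j : ClSub.idealMod F ⟶ SerreAff.idl Z := kernel.lift _ _ hcomp
  let T : ShortComplex X.Modules := ShortComplex.mk (ClSub.idealModι F) (ClSub.toSubscheme F) (kernel.condition _)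
  haveI : Mono T.f := inferInstanceAs (Mono (kernel.ι _))
  have h1 : F.subschemeι.app U (1 : Γ(X, U)) = 0 := by
    refine QCohBase.eq_of_iSup_le (Coh.structureModule F.subscheme) (fun i : Empty => (i.elim : F.subscheme.Opens))
      (fun i => i.elim) (fun w hw => ?_) _ _ fun i => i.elim
    have h2 : F.subschemeι w ∈ (Z : Set X) := hr ▸ ⟨w, rfl⟩
    rw [hZ] at h2
    exact absurd hw h2
  obtain ⟨s₁, hs₁⟩ := sections_exact_left (T := T) (ShortComplex.exact_of_f_is_kernel _ (kernelIsKernel _))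
    (U := U) (1 : Γ(X, U)) h1
  obtain ⟨n, k, p, -, hp⟩ := h F hF
  refine ⟨_, j, hq, s₁, n + 1, n.succ_pos, ?_, ?_⟩
  · apply app_injective_of_mono (SerreAff.idlι Z)
    refine Eq.trans ?_ (hs₁.trans ht₁.symm)
    rw [← ConcreteCategory.comp_apply, ← Scheme.Modules.Hom.comp_app]
    exact congrArg (fun φ => Scheme.Modules.Hom.app φ U s₁) (kernel.lift_ι _ _ hcomp)
  · haveI := hp
    exact counit_epi_of_epi_free f p

end Groth.Agent.SymAlgRel
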