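import Mathlib
import Groth.Agent.SymAlgRel.ProjModel
import Groth.Agent.SymAlgRel.ProjExist
import Groth.Agent.EGA2Misc.RelProjMap
import Groth.Agent.EGA2Misc.RelProjFT

/-!
# Relative Proj over an affine scheme as the Proj of a graded algebra
-/

set_option autoImplicit false
set_option synthInstance.maxHeartbeats 200000
set_option backward.isDefEq.respectTransparency false
set_option backward.isDefEq.respectTransparency.types false

noncomputable section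

universe u

open CategoryTheory CategoryTheory.Limits AlgebraicGeometry TopologicalSpace Opposite
open scoped HomogeneousIdeal DirectSum

namespace Groth.Agent.SymAlgRel

variable {A B : Type u} [CommRing A] [CommRing B] [Algebra A B] (𝒜 : ℕ → AddSubgroup B) [GradedRing 𝒜]
  (hsc : ∀ (a : A), algebraMap A B a ∈ 𝒜 0)

/-- a grading by subgroups containing the scalars in degree zero, by submodules -/
def subGr (d : ℕ) : Submodule A B where
  carrier := 𝒜 d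
  zero_mem' := zero_mem _
  add_mem' := add_mem
  smul_mem' a x hx := by
    show a • x ∈ 𝒜 d
    rw [Algebra.smul_def]
    simpa only [zero_add] using SetLike.mul_mem_graded (hsc a) hx

instance gradedAlgebra_subGr : GradedAlgebra (subGr 𝒜 hsc) where
  one_mem := SetLike.one_mem_graded 𝒜
  mul_mem := fun i j x y hx hy => SetLike.mul_mem_graded (A := 𝒜) hx hy
  toDecomposition :=
    { decompose' := DirectSum.decompose 𝒜
      left_inv := DirectSum.Decomposition.left_inv (ℳ := 𝒜)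
      right_inv := DirectSum.Decomposition.right_inv (ℳ := 𝒜) }

/-- the identity, as a graded homomorphism to the grading by submodules -/
def toSubGr : 𝒜 →+*ᵍ subGr 𝒜 hsc := { RingHom.id B with map_mem := fun hx => hx }

/-- the identity, back -/
def ofSubGr : subGr 𝒜 hsc →+*ᵍ 𝒜 := { RingHom.id B with map_mem := fun hx => hx }

theorem projMapId {σ : Type u} [SetLike σ B] [AddSubgroupClass σ B] {ℬ : ℕ → σ} [GradedRing ℬ]
    {f : ℬ →+*ᵍ ℬ} (h : ∀ x, f x = x) (hf : ℬ₊ ≤ (ℬ₊).map f) : Proj.map f hf = 𝟙 _ := by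
  obtain rfl : f = GradedRingHom.id ℬ := GradedRingHom.ext h
  exact Proj.map_id

theorem exists_iso_subGr : ∃ e : Proj 𝒜 ≅ Proj (subGr 𝒜 hsc),
    e.inv ≫ Proj.toSpecZero 𝒜 = Proj.toSpecZero (subGr 𝒜 hsc) ≫
      Spec.map (CommRingCat.ofHom (EGA2Misc.zeroPart (toSubGr 𝒜 hsc))) := by
  have h1 : (subGr 𝒜 hsc)₊ ≤ (𝒜₊).map (toSubGr 𝒜 hsc) := by
    rw [HomogeneousIdeal.irrelevant_le]
    intro i hi b hb
    exact Ideal.mem_map_of_mem _ (HomogeneousIdeal.mem_irrelevant_of_mem 𝒜 hi hb)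
  have h2 : 𝒜₊ ≤ ((subGr 𝒜 hsc)₊).map (ofSubGr 𝒜 hsc) := by
    rw [HomogeneousIdeal.irrelevant_le]
    intro i hi b hb
    exact Ideal.mem_map_of_mem _ (HomogeneousIdeal.mem_irrelevant_of_mem (subGr 𝒜 hsc) hi hb)
  refine ⟨⟨Proj.map (ofSubGr 𝒜 hsc) h2, Proj.map (toSubGr 𝒜 hsc) h1, ?_, ?_⟩, EGA2Misc.map_toSpecZero _ h1⟩
  · rw [← Proj.map_comp]
    exact projMapId (fun _ => rfl) _
  · rw [← Proj.map_comp]
    exact projMapId (fun _ => rfl) _

set_option maxHeartbeats 2000000 in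
theorem exists_proj_over_affine {A : Type u} [CommRing A] {X : Scheme.{u}}
    (f : X ⟶ Spec (CommRingCat.of A)) (𝒮 : RelProj.QCGrAlg (Spec (CommRingCat.of A))) {P : Scheme.{u}}
    {p : P ⟶ Spec (CommRingCat.of A)}
    {chart : ∀ (U : (Spec (CommRingCat.of A)).Opens) (hU : IsAffineOpen U),
      (((p ⁻¹ᵁ U : P.Opens) : Scheme.{u}) ≅ Proj (𝒮.deg U hU))}
    (hP : RelProj.IsRelProj 𝒮 p chart) (hgen : 𝒮.IsGenDegOne) (hft : 𝒮.IsFTDeg 1)
    (hz : ∀ (U : (Spec (CommRingCat.of A)).Opens) (hU : IsAffineOpen U), Function.Surjective (𝒮.strZero U hU).hom)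
    (e : X ≅ P) (he : e.hom ≫ p = f) :
    ∃ (S : Type u) (_ : CommRing S) (_ : Algebra A S) (ℳ : ℕ → Submodule A S) (_ : GradedAlgebra ℳ) (s : Finset S),
      Function.Surjective (algebraMap A (ℳ 0)) ∧ (∀ g ∈ s, g ∈ ℳ 1) ∧
      (HomogeneousIdeal.irrelevant ℳ).toIdeal = Ideal.span (s : Set S) ∧
      ∃ e : X ≅ Proj ℳ, e.hom ≫ Proj.toSpecZero ℳ ≫ Spec.map (CommRingCat.ofHom (algebraMap A (ℳ 0))) = f := by
  classical
  let hU : IsAffineOpen (⊤ : (Spec (CommRingCat.of A)).Opens) := isAffineOpen_top _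
  let T : CommRingCat.{u} := 𝒮.presheaf.obj (op ⊤)
  let θ : CommRingCat.of A ⟶ Γ(Spec (CommRingCat.of A), ⊤) := (Scheme.ΓSpecIso (CommRingCat.of A)).inv
  letI : Algebra A T := ((𝒮.str.app (op ⊤)).hom.comp θ.hom).toAlgebra
  have hsc : ∀ a : A, algebraMap A T a ∈ 𝒮.deg ⊤ hU 0 := fun a => 𝒮.str_mem ⊤ hU (θ.hom a)
  obtain ⟨s, hs1, hs⟩ := hft ⊤ hU
  obtain ⟨ψ, hψ⟩ := exists_iso_subGr (𝒮.deg ⊤ hU) hsc
  let c : CommRingCat.of A ⟶ CommRingCat.of (subGr (𝒮.deg ⊤ hU) hsc 0) :=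
    CommRingCat.ofHom (algebraMap A (subGr (𝒮.deg ⊤ hU) hsc 0))
  have hcz : θ ≫ 𝒮.strZero ⊤ hU ≫ CommRingCat.ofHom (EGA2Misc.zeroPart (toSubGr (𝒮.deg ⊤ hU) hsc)) = c :=
    CommRingCat.hom_ext (RingHom.ext fun a => Subtype.ext rfl)
  refine ⟨T, inferInstance, inferInstance, subGr (𝒮.deg ⊤ hU) hsc, inferInstance, s, ?_,
    fun g hg => hs1 (Finset.mem_coe.2 hg), le_antisymm ?_ (Ideal.span_le.2 fun g hg => ?_), ?_⟩
  · intro x
    obtain ⟨r, hr⟩ := hz ⊤ hU ⟨x.1, x.2⟩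
    obtain ⟨a, rfl⟩ := ((ConcreteCategory.isIso_iff_bijective θ).1 inferInstance).2 r
    exact ⟨a, Subtype.ext (congrArg Subtype.val hr)⟩
  · intro x hx
    refine EGA2Misc.irrelevant_le_span (𝒮.deg ⊤ hU) (hgen ⊤ hU) _ (fun y hy => ?_) ?_
    · obtain ⟨k, hk⟩ := hs y hy
      rw [hk]
      exact sum_mem fun t ht => Ideal.mul_mem_left _ _ (Ideal.subset_span ht)
    · exact (HomogeneousIdeal.mem_irrelevant_iff _ x).2 ((HomogeneousIdeal.mem_irrelevant_iff _ x).1 hx)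
  · exact HomogeneousIdeal.mem_irrelevant_of_mem (subGr (𝒮.deg ⊤ hU) hsc) one_pos (hs1 hg)
  · let top : ((p ⁻¹ᵁ ⊤ : P.Opens) : Scheme.{u}) ≅ P := P.topIso
    refine ⟨e ≪≫ top.symm ≪≫ chart ⊤ hU ≪≫ ψ, ?_⟩
    have h1 : ψ.hom ≫ Proj.toSpecZero (subGr (𝒮.deg ⊤ hU) hsc) ≫ Spec.map c =
        Proj.toSpecZero (𝒮.deg ⊤ hU) ≫ Spec.map (𝒮.strZero ⊤ hU) ≫ Spec.map θ := by
      rw [← hcz, Spec.map_comp, Spec.map_comp]
      simp only [Category.assoc]
      rw [reassoc_of% hψ.symm, Iso.hom_inv_id_assoc]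
    have h2 : Spec.map θ = hU.fromSpec := by
      rw [IsAffineOpen.fromSpec_top, Scheme.isoSpec_Spec_inv]
    show (e.hom ≫ top.inv ≫ (chart ⊤ hU).hom ≫ ψ.hom) ≫ Proj.toSpecZero (subGr (𝒮.deg ⊤ hU) hsc) ≫ Spec.map c = f
    simp only [Category.assoc]
    rw [h1, h2, hP.chart_over ⊤ hU, ← he]
    exact congrArg (e.hom ≫ ·) (top.inv_hom_id_assoc p)

end Groth.Agent.SymAlgRel
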