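import Groth.Agent.SymAlgRel.GenPull
import Groth.Agent.SymAlgRel.AffineBC
import Groth.Agent.SerreAff.Basic
import Groth.Prelude.Def_KoszTw
import Groth.Agent.S4407

/-! Ampleness from generation of twisted ideals by their direct images. -/

set_option autoImplicit false
set_option backward.isDefEq.respectTransparency false
set_option backward.isDefEq.respectTransparency.types false
set_option linter.style.haveILetI false
set_option maxHeartbeats 1000000

noncomputable section

universe u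

open CategoryTheory Limits AlgebraicGeometry Opposite TopologicalSpace TensorProduct
open Groth.Agent.QCohBase Groth.Agent.GenLocus

namespace Groth.Agent.SymAlgRel

variable {X Y : Scheme.{u}}

theorem isFrame_restrict_iff {M : X.Modules} (W : X.Opens) (b : Γ(M, W))
    (s : Coh.structureModule W.toScheme ⟶ M.restrict W.ι)
    (hs : sect s ⊤ = (M.restrictAppIso W.ι ⊤).inv (mres M W.ι_image_top.le b))
    (V : W.toScheme.Opens) (hle : W.ι ''ᵁ V ≤ W) :
    IsFrame M (mres M hle b) ↔ IsFrame (M.restrict W.ι) (sect s V) := by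
  have hsect : mres M hle b = (M.restrictAppIso W.ι V).hom (sect s V) := by
    rw [← mres_sect s (le_top : V ≤ ⊤), hs]
    exact (mres_mres M W.ι_image_top.le (W.ι.image_mono le_top) b).symm
  rw [hsect]
  have hsm : ∀ (V' : W.toScheme.Opens) (hV' : V' ≤ V),
      (fun r : Γ(X, W.ι ''ᵁ V') ↦ r • mres M (W.ι.image_mono hV') ((M.restrictAppIso W.ι V).hom (sect s V))) =
      fun r : Γ(X, W.ι ''ᵁ V') ↦ (M.restrictAppIso W.ι V').hom
        ((show Γ(W.toScheme, V') from r) • mres (M.restrict W.ι) hV' (sect s V)) := fun V' hV' ↦ funext fun r ↦ by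
    rw [Scheme.Modules.smul_restrictAppIso_hom_apply, Scheme.Opens.ι_appIso]
    rfl
  constructor
  · intro hf V' hV'
    have := hf (W.ι ''ᵁ V') (W.ι.image_mono hV')
    rw [hsm V' hV'] at this
    exact this
  · intro hf V' hV'
    obtain ⟨V'', rfl⟩ : ∃ V'' : W.toScheme.Opens, W.ι ''ᵁ V'' = V' :=
      ⟨W.ι ⁻¹ᵁ V', (W.ι.image_preimage_eq_opensRange_inf V').trans
        (by rw [Scheme.Opens.opensRange_ι]; exact inf_eq_right.mpr (hV'.trans hle))⟩
    have := hf V'' ((W.ι.image_le_image_iff _ _).mp hV')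
    rw [hsm V'' ((W.ι.image_le_image_iff _ _).mp hV')]
    exact this

/-- the canonical images of sections over the preimage of an affine span, when the counit is epi -/
theorem exists_sum_of_counit_epi (f : X ⟶ Y) [QuasiCompact f] [QuasiSeparated f] (M : X.Modules)
    [M.IsQuasicoherent] (hepi : Epi ((Scheme.Modules.pullbackPushforwardAdjunction f).counit.app M))
    {V : Y.Opens} (hV : IsAffineOpen V) {A : X.Opens} (hA : IsAffineOpen A) (hAW : A ≤ f ⁻¹ᵁ V)
    (z : Γ(M, A)) : z ∈ Submodule.span Γ(X, A) (Set.range fun a : Γ(M, f ⁻¹ᵁ V) => mres M hAW a) := by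
  let adj := Scheme.Modules.pullbackPushforwardAdjunction f
  haveI hG : ((Scheme.Modules.pushforward f).obj M).IsQuasicoherent := isQuasicoherent_pushforward M f
  let G := (Scheme.Modules.pushforward f).obj M
  have hFY : ((Scheme.Modules.pullback f).obj G).IsQuasicoherent := QCohPull.isQuasicoherent_pullback f G
  obtain ⟨w, hw⟩ := QCohBase.app_surjective_of_epi (adj.counit.app M) hFY ‹M.IsQuasicoherent› hA z
  letI := (f.appLE V A hAW).hom.toAlgebra
  letI := pullModuleLE f G V A hAW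
  haveI : IsScalarTower Γ(Y, V) Γ(X, A) Γ((Scheme.Modules.pullback f).obj G, A) :=
    .of_algebraMap_smul fun _ _ => rfl
  subst hw
  induction w using (isBaseChange_pullSecLE f G hV hA hAW).inductionOn with
  | zero => rw [map_zero]; exact Submodule.zero_mem _
  | tmul m =>
    refine Submodule.subset_span ⟨m, ?_⟩
    show mres M hAW m = (adj.counit.app M).app A (mres _ hAW (pullSec f G V m))
    rw [← app_nat]
    congr 1
    exact (ConcreteCategory.congr_hom
      (congrArg (fun ψ => Scheme.Modules.Hom.app ψ V) (adj.right_triangle_components M)) m).symm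
  | smul r n hn => rw [Scheme.Modules.Hom.app_smul]; exact Submodule.smul_mem _ _ hn
  | add a b ha hb => rw [map_add]; exact Submodule.add_mem _ ha hb

theorem isRelAmple_of_counit_core (f : X ⟶ Y)
    [IsSeparated f] [QuasiCompact f] (L : X.Modules) (hL : PicF.IsInvertible L)
    (h : ∀ (Z : Closeds X) (U : X.Opens), IsAffineOpen U → (Z : Set X) = (U : Set X)ᶜ →
      ∀ t₁ : Γ(SerreAff.idl Z, U), (SerreAff.idlι Z).app U t₁ = (1 : Γ(X, U)) →
      ∃ (J : X.Modules) (j : J ⟶ SerreAff.idl Z) (_ : Coh.IsQCoh J) (s₁ : Γ(J, U)) (n : ℕ), 0 < n ∧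
        j.app U s₁ = t₁ ∧
        Epi ((Scheme.Modules.pullbackPushforwardAdjunction f).counit.app (CohB1.tensorMod J (CohB1.tensorPow L n)))) :
    RelAmple.IsRelAmple f L := by
  classical
  refine ⟨inferInstance, fun V => ?_⟩
  set W := f ⁻¹ᵁ V.1
  haveI : CompactSpace W.toScheme := isCompact_iff_compactSpace.mp (f.isCompact_preimage V.2.isCompact)
  refine ⟨TensorMod.isInvertible_of_iso ((Scheme.Modules.restrictFunctorIsoPullback W.ι).symm.app L) (GenLocus.isInvertible_pullback W.ι hL), inferInstance, fun w => ?_⟩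
  obtain ⟨U, hU, hxU, hUW, e, he⟩ := exists_isFrame hL (x := W.ι w) (W := W) w.2
  set x := W.ι w
  let Z : Closeds X := ⟨(U : Set X)ᶜ, U.2.isClosed_compl⟩
  obtain ⟨t₁, ht₁⟩ := (SerreAff.exists_idl_iff Z U (1 : Γ(X, U))).2 fun z hz hz' => hz (X.basicOpen_le _ hz')
  haveI : (SerreAff.idl Z).IsQuasicoherent := SerreAff.isQCoh_idl Z
  obtain ⟨J, j, hJq, s₁, n, hn, hs₁, hepi⟩ := h Z U hU rfl t₁ ht₁
  let i := j ≫ SerreAff.idlι Z
  have hi1 : i.app U s₁ = (1 : Γ(X, U)) := by
    refine Eq.trans ?_ ht₁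
    rw [← hs₁]
    rfl
  obtain ⟨m, rfl⟩ : ∃ m, n = m + 1 := ⟨n - 1, by omega⟩
  let N := CohB1.tensorPow L (m + 1)
  have hN : PicF.IsInvertible N := TensorMod.isInvertible_tensorPow hL (m + 1)
  let M := CohB1.tensorMod J N
  haveI : M.IsQuasicoherent := DCohBridge.isQCoh_cohb1TensorMod hJq (TensorMod.isQCoh_of_isInvertible hN)
  let N' := CohB1.tensorMod (Coh.structureModule X) N
  let τ : M ⟶ N' := KoszTw.tensorMap i (𝟙 N)
  have hτ : ∀ (A : X.Opens) (a : Γ(J, A)) (l : Γ(N, A)),
      τ.app A (SecTwist.tmul J N A a l) = SecTwist.tmul _ N A (i.app A a) l := fun A a l =>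
    KoszTw.tensorMap_tmul i (𝟙 N) A a l
  let one := fun (A : X.Opens) => sect (𝟙 (Coh.structureModule X)) A
  have hone : ∀ (A : X.Opens) (a : Γ(X, A)), (a : Γ(Coh.structureModule X, A)) = a • one A := fun A a =>
    app_eq_smul (𝟙 (Coh.structureModule X)) A a
  have hframe1 : ∀ A : X.Opens, IsFrame (Coh.structureModule X) (one A) := fun A =>
    (GenLocus.isIso_restrict_iff (𝟙 (Coh.structureModule X)) A).mp (by rw [CategoryTheory.Functor.map_id]; infer_instance)
  let eU := framePow e (m + 1)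
  let e' : Γ(N', U) := SecTwist.tmul _ N U (one U) eU
  have he' : IsFrame N' e' := (hframe1 U).tmul (he.framePow (m + 1))
  let σ₀ : Γ(M, U) := SecTwist.tmul J N U s₁ eU
  have hσ₀ : τ.app U σ₀ = e' := by
    rw [hτ, hi1]
    refine congrArg (fun o => SecTwist.tmul (Coh.structureModule X) N U o eU) ?_
    exact (hone U 1).trans (one_smul _ _)
  have hspan := exists_sum_of_counit_epi f M hepi V.2 hU hUW σ₀
  choose c hc using fun a : Γ(M, W) => he'.bijective.2 (mres N' hUW (τ.app W a))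
  have hex : ∃ a : Γ(M, W), IsUnit (X.presheaf.germ U x hxU (c a)) := by
    by_contra hall
    push Not at hall
    have key : ∀ z ∈ Submodule.span Γ(X, U) (Set.range fun a : Γ(M, W) => mres M hUW a),
        ∃ r : Γ(X, U), r • e' = τ.app U z ∧ ¬ IsUnit (X.presheaf.germ U x hxU r) := by
      intro z hz
      induction hz using Submodule.span_induction with
      | mem z hz =>
        obtain ⟨a, rfl⟩ := hz
        exact ⟨c a, (hc a).trans (app_nat τ hUW a), hall a⟩
      | zero => exact ⟨0, by rw [zero_smul, map_zero], by rw [map_zero]; exact not_isUnit_zero⟩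
      | add a b _ _ ha hb =>
        obtain ⟨r, hr, hr'⟩ := ha
        obtain ⟨r₂, hr₂, hr₂'⟩ := hb
        exact ⟨r + r₂, by rw [add_smul, hr, hr₂, map_add],
          by rw [map_add]; exact IsLocalRing.nonunits_add hr' hr₂'⟩
      | smul q a _ ha =>
        obtain ⟨r, hr, hr'⟩ := ha
        exact ⟨q * r, by rw [mul_smul, hr, Scheme.Modules.Hom.app_smul],
          by rw [map_mul]; exact fun hu => hr' (isUnit_of_mul_isUnit_right hu)⟩
    obtain ⟨r, hr, hr'⟩ := key σ₀ hspan
    rw [hσ₀] at hr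
    exact hr' (by rw [he'.bijective.1 (hr.trans (one_smul _ e').symm), map_one]; exact isUnit_one)
  obtain ⟨a, ha⟩ := hex
  let b : Γ(N', W) := τ.app W a
  let s := homOfSection (N'.restrict W.ι) ((N'.restrictAppIso W.ι ⊤).inv (mres N' W.ι_image_top.le b))
  have hs : sect s ⊤ = (N'.restrictAppIso W.ι ⊤).inv (mres N' W.ι_image_top.le b) :=
    (sect_homOfSection _ _ ⊤).trans (mres_refl _ _ _)
  let D := X.basicOpen (c a)
  have hgen : CohB1.genLocus _ s = W.ι ⁻¹ᵁ D := by
    refine Opens.ext (Set.ext fun y => ⟨fun hy => ?_, fun hy => ?_⟩)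
    · obtain ⟨T, hyT, hT⟩ := (mem_genLocus_iff s).mp hy
      have hle : W.ι ''ᵁ T ≤ W := (W.ι.image_le_opensRange _).trans_eq W.opensRange_ι
      have hfr := (isFrame_restrict_iff W b s hs T hle).mpr hT
      let p := W.ι y
      have hpT : p ∈ W.ι ''ᵁ T := ⟨y, hyT, rfl⟩
      have hpU : p ∈ U := by
        by_contra hpU
        obtain ⟨A, hA, hpA, hAT, d, hd⟩ := exists_isFrame hN hpT
        have hd' := (hframe1 A).tmul hd
        obtain ⟨T', hT'A, x', hpT', hx'⟩ := locallySurjective_toT J N (mres M (hAT.trans hle) a) hpA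
        have key2 : ∀ z, ∃ r : Γ(X, T'), r • mres N' hT'A (SecTwist.tmul _ N A (one A) d) =
            τ.app T' (toT J N T' z) ∧ ¬ IsUnit (X.presheaf.germ T' p hpT' r) := by
          intro z
          induction z using TensorProduct.induction_on with
          | zero => exact ⟨0, by rw [zero_smul]; exact (map_zero _).symm.trans (congrArg _ (map_zero _).symm),
              by rw [map_zero]; exact not_isUnit_zero⟩
          | tmul jj l =>
            obtain ⟨q, hq⟩ := (hd.res hT'A).bijective.2 l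
            obtain ⟨q₀, hq₀⟩ : ∃ q₀ : Γ(X, T'), q₀ = i.app T' jj := ⟨_, rfl⟩
            refine ⟨q₀ * q, ?_, ?_⟩
            · rw [show toT J N T' (jj ⊗ₜ l) = SecTwist.tmul J N T' jj l from rfl, hτ, hone T' (i.app T' jj), ← hq,
                tmul_smul_smul, hq₀]
              congr 1
              refine (SecTwist.map_tmul _ _ (homOfLE hT'A) _ _).trans ?_
              exact congrArg (fun o => SecTwist.tmul _ N T' o _) (mres_sect (𝟙 (Coh.structureModule X)) hT'A)
            · rw [map_mul]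
              intro hu
              have h1 := (SerreAff.exists_idl_iff Z T' (i.app T' jj)).1 ⟨j.app T' jj, rfl⟩ p hpU
              rw [hq₀] at hu
              exact h1 ((Scheme.mem_basicOpen X _ p hpT').mpr (isUnit_of_mul_isUnit_left hu))
          | add z z' hz hz' =>
            obtain ⟨r, hr, hr'⟩ := hz
            obtain ⟨r₂, hr₂, hr₂'⟩ := hz'
            exact ⟨r + r₂, by rw [add_smul, hr, hr₂]; exact ((congrArg _ (map_add _ z z')).trans (map_add _ _ _)).symm,
              by rw [map_add]; exact IsLocalRing.nonunits_add hr' hr₂'⟩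
        obtain ⟨r, hr, hr'⟩ := key2 x'
        rw [hx', ← app_nat, ← app_nat, mres_mres] at hr
        have h5 := hfr.res (hT'A.trans hAT)
        rw [mres_mres] at h5
        have h6 : IsFrame N' (r • mres N' hT'A (SecTwist.tmul _ N A (one A) d)) := by rw [hr]; exact h5
        exact hr' (((hd'.res hT'A).isUnit_of_smul h6).map (X.presheaf.germ T' p hpT').hom)
      have h5 := hfr.res (inf_le_left : W.ι ''ᵁ T ⊓ U ≤ W.ι ''ᵁ T)
      rw [mres_mres, ← mres_mres N' hUW (inf_le_right : W.ι ''ᵁ T ⊓ U ≤ U), ← hc a, mres_smul] at h5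
      have h6 := X.basicOpen_of_isUnit ((he'.res inf_le_right).isUnit_of_smul h5)
      rw [basicOpen_ores] at h6
      exact (h6.ge ⟨hpT, hpU⟩).2
    · refine (mem_genLocus_iff s).mpr ⟨W.ι ⁻¹ᵁ D, hy, ?_⟩
      have hD : W.ι ''ᵁ (W.ι ⁻¹ᵁ D) ≤ D := W.ι.image_preimage_le D
      have hle : W.ι ''ᵁ (W.ι ⁻¹ᵁ D) ≤ W := (W.ι.image_le_opensRange _).trans_eq W.opensRange_ι
      refine (isFrame_restrict_iff W b s hs _ hle).mp ?_
      rw [← mres_mres N' hUW (hD.trans (X.basicOpen_le _)), ← hc a, mres_smul]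
      refine (he'.res _).smul_unit ?_
      have hu : IsUnit (ores (X.basicOpen_le (c a)) (c a)) := RingedSpace.isUnit_res_basicOpen _ _
      have := hu.map (ores hD)
      rwa [ores_ores] at this
  let θ : N'.restrict W.ι ≅ CohB1.tensorPow (L.restrict W.ι) (m + 1) :=
    (Scheme.Modules.restrictFunctor W.ι).mapIso (TensorMod.unitLeftIso N) ≪≫ TensorMod.restrictPowIso W.ι L (m + 1)
  refine ⟨m, s ≫ θ.hom, ?_, ?_⟩ <;> rw [genLocus_comp_iso, hgen]
  · exact (Scheme.mem_basicOpen X _ x hxU).mpr ha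
  · exact (hU.basicOpen (c a)).preimage_of_isOpenImmersion W.ι
      (by rw [Scheme.Opens.opensRange_ι]; exact (X.basicOpen_le _).trans hUW)

theorem isRelAmple_of_counit_ideal [CompactSpace X] [X.IsSeparated] (f : X ⟶ Y)
    [IsSeparated f] [QuasiCompact f] (L : X.Modules) (hL : PicF.IsInvertible L)
    (h : ∀ (J : X.Modules) (i : J ⟶ Coh.structureModule X), Mono i → Coh.IsQCoh J → CohB1.IsFT J →
      ∃ n : ℕ, 0 < n ∧
        Epi ((Scheme.Modules.pullbackPushforwardAdjunction f).counit.app (CohB1.tensorMod J (CohB1.tensorPow L n)))) :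
    RelAmple.IsRelAmple f L := by
  refine isRelAmple_of_counit_core f L hL fun Z U hU _ t₁ _ => ?_
  haveI : (SerreAff.idl Z).IsQuasicoherent := SerreAff.isQCoh_idl Z
  obtain ⟨J, j, hj, hJq, hJF, hJs⟩ :=
    QCohExt.exists_sub_through (SerreAff.idl Z) 1 (fun _ => U) (fun _ => hU) (fun _ => t₁)
  obtain ⟨s₁, hs₁⟩ := hJs 0
  haveI := hj
  obtain ⟨n, hn, hepi⟩ := h J (j ≫ SerreAff.idlι Z) (mono_comp _ _) hJq (QCohExt.isFT_of_FTOn_top J hJF)
  exact ⟨J, j, hJq, s₁, n, hn, hs₁, hepi⟩

theorem isQuasiAffine_of_counit_epi (f : X ⟶ Y) [QuasiCompact f] [IsSeparated f]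
    (h : ∀ F : X.Modules, Coh.IsQCoh F → Epi ((Scheme.Modules.pullbackPushforwardAdjunction f).counit.app F)) :
    RelAmple.IsRelAmple f (Coh.structureModule X) := by
  refine isRelAmple_of_counit_core f _ (PicLoc.isInvertible_structureModule X) fun Z U hU _ t₁ _ => ?_
  refine ⟨SerreAff.idl Z, 𝟙 _, SerreAff.isQCoh_idl Z, t₁, 1, one_pos, rfl, h _ ?_⟩
  exact DCohBridge.isQCoh_cohb1TensorMod (SerreAff.isQCoh_idl Z) (TensorMod.isQCoh_of_isInvertible
    (TensorMod.isInvertible_tensorPow (PicLoc.isInvertible_structureModule X) 1))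

theorem epi_counit_of_isQuasiAffine (f : X ⟶ Y) (hf : Mor2.IsQuasiAffine f) (F : X.Modules)
    (hF : Coh.IsQCoh F) : Epi ((Scheme.Modules.pullbackPushforwardAdjunction f).counit.app F) := by
  haveI : F.IsQuasicoherent := hF
  let adj := Scheme.Modules.pullbackPushforwardAdjunction f
  refine Preadditive.epi_of_cancel_zero _ fun {P} g hg => ?_
  have hg0 : (Scheme.Modules.pushforward f).map g = 0 := by
    have h1 := congrArg (adj.homEquiv _ P) hg
    rw [adj.homEquiv_naturality_right, adj.homEquiv_unit, adj.homEquiv_unit,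
      adj.right_triangle_components, Category.id_comp, Functor.map_zero, comp_zero] at h1
    exact h1
  refine eq_zero_of_restrict g (fun V : Y.affineOpens => f ⁻¹ᵁ V.1) (fun y => ?_) fun V => ?_
  · obtain ⟨U, hU, hxU, -⟩ := Opens.isBasis_iff_nbhd.1 Y.isBasis_affineOpens (U := ⊤) (Opens.mem_top (f y))
    exact ⟨⟨U, hU⟩, hxU⟩
  haveI := hf.2 V.1 V.2
  obtain ⟨ι, p, hp⟩ := S4407.result (f ⁻¹ᵁ V.1 : Scheme.{u}) (F.restrict (f ⁻¹ᵁ V.1).ι)
    (show (F.restrict (f ⁻¹ᵁ V.1).ι).IsQuasicoherent from inferInstance)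
  haveI := hp
  have key : ∀ σ : Γ(F.restrict (f ⁻¹ᵁ V.1).ι, ⊤),
      ((Scheme.Modules.restrictFunctor (f ⁻¹ᵁ V.1).ι).map g).app ⊤ σ = 0 := by
    intro σ
    have h2 : g.app (f ⁻¹ᵁ V.1) = 0 := congrArg (fun φ => Scheme.Modules.Hom.app φ V.1) hg0
    have e : (f ⁻¹ᵁ V.1).ι ''ᵁ ⊤ = f ⁻¹ᵁ V.1 := (f ⁻¹ᵁ V.1).ι_image_top
    rw [← e] at h2
    exact ConcreteCategory.congr_hom h2 σ
  rw [← cancel_epi p, comp_zero]
  refine Sigma.hom_ext _ _ fun a => ?_
  rw [comp_zero]
  exact hom_eq_zero_of_sect _ (key _)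

end Groth.Agent.SymAlgRel
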