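import Mathlib
import Groth.Agent.GenLocus.Rel
import Groth.Agent.GenLocus.FlatDescent
import Groth.Agent.TensorMod.Invertible
import Groth.Agent.GenLocus.PullTensor
import Groth.Prelude.Def_RelProj
import Groth.Agent.QCohBase.Qcqs
import Groth.Agent.QCohBase.Noetherian

/-! Relative ampleness on disjoint sums. -/

set_option autoImplicit false
set_option linter.style.haveILetI false
set_option maxHeartbeats 1000000

noncomputable section

universe u

open CategoryTheory Limits AlgebraicGeometry Opposite TopologicalSpace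
open Groth.Agent.GenLocus

namespace Groth.Agent.SymAlgRel

variable {X X' Y Y' Z : Scheme.{u}}

theorem isAffineOpen_codiag_preimage {V : Y.Opens} (hV : IsAffineOpen V) :
    IsAffineOpen (coprod.desc (𝟙 Y) (𝟙 Y) ⁻¹ᵁ V) := by
  let U : ULift.{u} Bool → (Y ⨿ Y).Opens := fun b =>
    bif b.down then (coprod.inl : Y ⟶ Y ⨿ Y) ''ᵁ V else (coprod.inr : Y ⟶ Y ⨿ Y) ''ᵁ V
  have e : coprod.desc (𝟙 Y) (𝟙 Y) ⁻¹ᵁ V = iSup U := by
    ext p
    obtain ⟨(y | y), rfl⟩ := (coprodMk Y Y).surjective p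
    · rw [coprodMk_inl]
      show coprod.desc (𝟙 Y) (𝟙 Y) ((coprod.inl : Y ⟶ Y ⨿ Y) y) ∈ V ↔ _ ∈ (iSup U : (Y ⨿ Y).Opens)
      rw [← Scheme.Hom.comp_apply, coprod.inl_desc]
      refine ⟨fun h => Opens.mem_iSup.2 ⟨⟨true⟩, y, h, rfl⟩, fun h => ?_⟩
      obtain ⟨⟨b⟩, hb⟩ := Opens.mem_iSup.1 h
      cases b
      · obtain ⟨z, -, hz⟩ := hb
        exact absurd hz (inr_ne_inl _ _ _ _)
      · obtain ⟨z, hzV, hz⟩ := hb
        rw [(coprod.inl : Y ⟶ Y ⨿ Y).isOpenEmbedding.injective hz] at hzV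
        exact hzV
    · rw [coprodMk_inr]
      show coprod.desc (𝟙 Y) (𝟙 Y) ((coprod.inr : Y ⟶ Y ⨿ Y) y) ∈ V ↔ _ ∈ (iSup U : (Y ⨿ Y).Opens)
      rw [← Scheme.Hom.comp_apply, coprod.inr_desc]
      refine ⟨fun h => Opens.mem_iSup.2 ⟨⟨false⟩, y, h, rfl⟩, fun h => ?_⟩
      obtain ⟨⟨b⟩, hb⟩ := Opens.mem_iSup.1 h
      cases b
      · obtain ⟨z, hzV, hz⟩ := hb
        rw [(coprod.inr : Y ⟶ Y ⨿ Y).isOpenEmbedding.injective hz] at hzV
        exact hzV
      · obtain ⟨z, -, hz⟩ := hb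
        exact absurd hz (inl_ne_inr _ _ _ _)
  rw [e]
  refine IsAffineOpen.iSup_of_disjoint (fun b => ?_) fun a b hab => ?_
  · cases h : b.down <;> simp only [U, h] <;> exact hV.image_of_isOpenImmersion _
  · have hd : Disjoint ((coprod.inl : Y ⟶ Y ⨿ Y) ''ᵁ V) ((coprod.inr : Y ⟶ Y ⨿ Y) ''ᵁ V) :=
      (isCompl_opensRange_inl_inr Y Y).disjoint.mono (Scheme.Hom.image_le_opensRange _ _)
        (Scheme.Hom.image_le_opensRange _ _)
    obtain ⟨a⟩ := a
    obtain ⟨b⟩ := b
    cases a <;> cases b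
    · exact absurd rfl hab
    · exact hd.symm
    · exact hd
    · exact absurd rfl hab

theorem isAmple_restrict_of_piece {P : Scheme.{u}} (F : P ⟶ Y) (g : X ⟶ Y') (iX : X ⟶ P) [IsOpenImmersion iX]
    (iY : Y' ⟶ Y) [IsOpenImmersion iY] (hpb : IsPullback g iX iY F) (L : P.Modules)
    (h : RelAmple.IsRelAmple g ((Scheme.Modules.pullback iX).obj L)) (W : Y.Opens) (hW : IsAffineOpen W)
    (hWle : W ≤ iY.opensRange) : CohB1.IsAmple (L.restrict (F ⁻¹ᵁ W).ι) := by
  have hW' : IsAffineOpen (iY ⁻¹ᵁ W) := hW.preimage_of_isOpenImmersion iY hWle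
  have h1 := h.2 ⟨_, hW'⟩
  let m := (g ⁻¹ᵁ (iY ⁻¹ᵁ W)).ι ≫ iX
  have hm : m.opensRange = F ⁻¹ᵁ W := by
    ext p
    constructor
    · rintro ⟨⟨x, hx⟩, rfl⟩
      show F (iX x) ∈ W
      rw [← Scheme.Hom.comp_apply, ← hpb.w]
      exact hx
    · intro hp
      obtain ⟨y, hy⟩ := hWle hp
      obtain ⟨x, hx₁, hx₂⟩ := Scheme.exists_preimage_of_isPullback hpb y p hy
      refine ⟨⟨x, show iY (g x) ∈ W from ?_⟩, hx₂⟩
      rw [hx₁, hy]
      exact hp
  have h2 : CohB1.IsAmple ((Scheme.Modules.pullback m).obj L) :=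
    isAmple_of_iso ((Scheme.Modules.restrictFunctorIsoPullback _).app _ ≪≫
      (Scheme.Modules.pullbackComp _ iX).app L) h1
  exact (isAmple_restrict_congr L hm).1 (isAmple_restrict_opensRange m h2)

theorem isRelAmple_coprodMap (f : X ⟶ Y) (f' : X' ⟶ Y') (L : (X ⨿ X').Modules)
    (h : RelAmple.IsRelAmple f ((Scheme.Modules.pullback (coprod.inl : X ⟶ X ⨿ X')).obj L))
    (h' : RelAmple.IsRelAmple f' ((Scheme.Modules.pullback (coprod.inr : X' ⟶ X ⨿ X')).obj L)) :
    RelAmple.IsRelAmple (coprod.map f f') L := by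
  let U : ULift.{u} Bool → (Y ⨿ Y').Opens := fun b =>
    bif b.down then (coprod.inl : Y ⟶ Y ⨿ Y').opensRange else (coprod.inr : Y' ⟶ Y ⨿ Y').opensRange
  have hU : ⨆ b, U b = ⊤ := by
    rw [eq_top_iff]
    intro p _
    obtain ⟨(y | y), rfl⟩ := (coprodMk Y Y').surjective p
    · exact Opens.mem_iSup.2 ⟨⟨true⟩, y, (coprodMk_inl _ _ y).symm⟩
    · exact Opens.mem_iSup.2 ⟨⟨false⟩, y, (coprodMk_inr _ _ y).symm⟩
  refine isRelAmple_of_cover _ U hU fun b => ?_
  haveI := h.1
  haveI := h'.1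
  obtain ⟨b⟩ := b
  refine ⟨?_, fun W => ?_⟩
  · cases b
    · exact (MorphismProperty.arrow_mk_iso_iff @QuasiCompact (morphismRestrictOpensRange _ _)).2
        ((MorphismProperty.cancel_left_of_respectsIso @QuasiCompact
          (isPullback_inr_inr_coprodMap f f').flip.isoPullback.hom _).1
            (by rw [IsPullback.isoPullback_hom_snd]; exact h'.1))
    · exact (MorphismProperty.arrow_mk_iso_iff @QuasiCompact (morphismRestrictOpensRange _ _)).2
        ((MorphismProperty.cancel_left_of_respectsIso @QuasiCompact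
          (isPullback_inl_inl_coprodMap f f').flip.isoPullback.hom _).1
            (by rw [IsPullback.isoPullback_hom_snd]; exact h.1))
  · rw [isAmple_restrict_restrict, isAmple_restrict_congr L (image_morphismRestrict_preimage _ _ W.1)]
    have hW := W.2.image_of_isOpenImmersion (U ⟨b⟩).ι
    have hle := (U ⟨b⟩).ι_image_le W.1
    cases b
    · exact isAmple_restrict_of_piece _ f' coprod.inr coprod.inr (isPullback_inr_inr_coprodMap f f') L h' _ hW hle
    · exact isAmple_restrict_of_piece _ f coprod.inl coprod.inl (isPullback_inl_inl_coprodMap f f') L h _ hW hle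

theorem isRelAmple_coprod_desc_iff (f : X ⟶ Y) (f' : X' ⟶ Y) [QuasiCompact f] [QuasiCompact f']
    (L : (X ⨿ X').Modules) :
    RelAmple.IsRelAmple (coprod.desc f f') L ↔
      RelAmple.IsRelAmple f ((Scheme.Modules.pullback (coprod.inl : X ⟶ X ⨿ X')).obj L) ∧
        RelAmple.IsRelAmple f' ((Scheme.Modules.pullback (coprod.inr : X' ⟶ X ⨿ X')).obj L) := by
  constructor
  · intro h
    haveI := h.1
    haveI : QuasiCompact (coprod.desc f f') := h.1
    have ex : ∀ {A : Scheme.{u}} (i : A ⟶ X ⨿ X') [IsOpenImmersion i] (q : A ⟶ Y) [QuasiCompact q],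
        IsClosed (Set.range i) → i ≫ coprod.desc f f' = q →
        RelAmple.IsRelAmple q ((Scheme.Modules.pullback i).obj L) := by
      intro A i _ q _ hcl hq
      haveI : IsClosedImmersion i := IsClosedImmersion.of_isPreimmersion i hcl
      subst hq
      exact isRelAmple_comp_of_isEmbedding i _ i.isOpenEmbedding.isEmbedding h
    exact ⟨ex coprod.inl f (by rw [(isCompl_range_inl_inr X X').eq_compl]; exact
        (coprod.inr : X' ⟶ X ⨿ X').isOpenEmbedding.isOpen_range.isClosed_compl) (coprod.inl_desc _ _),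
      ex coprod.inr f' (by rw [(isCompl_range_inl_inr X X').symm.eq_compl]; exact
        (coprod.inl : X ⟶ X ⨿ X').isOpenEmbedding.isOpen_range.isClosed_compl) (coprod.inr_desc _ _)⟩
  · rintro ⟨h, h'⟩
    have hF := isRelAmple_coprodMap f f' L h h'
    have e : coprod.map f f' ≫ coprod.desc (𝟙 Y) (𝟙 Y) = coprod.desc f f' := by
      ext1 <;> simp
    rw [← e]
    haveI := hF.1
    haveI : IsAffineHom (coprod.desc (𝟙 Y) (𝟙 Y)) := ⟨fun V hV => isAffineOpen_codiag_preimage hV⟩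
    refine ⟨inferInstance, fun V => ?_⟩
    exact hF.2 ⟨_, isAffineOpen_codiag_preimage V.2⟩

/-- Restricting the direct image from a disjoint open gives zero. -/
theorem isZero_pullback_pushforward_disjoint {A B P : Scheme.{u}} (a : A ⟶ P) [IsOpenImmersion a] (b : B ⟶ P)
    (hd : Disjoint (Set.range a) (Set.range b)) (M : B.Modules) :
    IsZero ((Scheme.Modules.pullback a).obj ((Scheme.Modules.pushforward b).obj M)) := by
  refine IsZero.of_iso ?_ ((Scheme.Modules.restrictFunctorIsoPullback a).symm.app _)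
  rw [IsZero.iff_id_eq_zero]
  refine Scheme.Modules.hom_ext _ _ fun U => ?_
  ext s
  change s = 0
  let U' : B.Opens := b ⁻¹ᵁ (a ''ᵁ U)
  have hbot : U' ≤ ⊥ := fun x hx => by
    obtain ⟨y, -, hy⟩ := hx
    exact (Set.disjoint_iff_forall_ne.1 hd ⟨y, rfl⟩ ⟨x, rfl⟩ hy).elim
  haveI : Subsingleton Γ(M, U') := ⟨fun s t => QCohBase.eq_of_iSup_le M (fun i : Empty => (i.elim : B.Opens))
    (fun i => i.elim) (fun x hx => (hbot hx).elim) s t fun i => i.elim⟩
  exact Subsingleton.elim (α := Γ(M, U')) _ _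

/-- Invertible modules on the summands glue to the disjoint sum. -/
theorem exists_invertible_coprod {L : X.Modules} (hL : PicF.IsInvertible L) {L' : X'.Modules}
    (hL' : PicF.IsInvertible L') :
    ∃ M : (X ⨿ X').Modules, Nonempty ((Scheme.Modules.pullback (coprod.inl : X ⟶ X ⨿ X')).obj M ≅ L) ∧
      Nonempty ((Scheme.Modules.pullback (coprod.inr : X' ⟶ X ⨿ X')).obj M ≅ L') ∧ PicF.IsInvertible M := by
  let a := (coprod.inl : X ⟶ X ⨿ X')
  let b := (coprod.inr : X' ⟶ X ⨿ X')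
  let M := (Scheme.Modules.pushforward a).obj L ⊞ (Scheme.Modules.pushforward b).obj L'
  haveI := preservesBinaryBiproducts_of_preservesBinaryCoproducts (Scheme.Modules.pullback a)
  haveI := preservesBinaryBiproducts_of_preservesBinaryCoproducts (Scheme.Modules.pullback b)
  have e₁ : (Scheme.Modules.pullback a).obj M ≅ L :=
    (Scheme.Modules.pullback a).mapBiprod _ _ ≪≫
      (isoBiprodZero (isZero_pullback_pushforward_disjoint a b (isCompl_range_inl_inr X X').disjoint L')).symm ≪≫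
      (Scheme.Modules.restrictFunctorIsoPullback a).symm.app _ ≪≫
      (Scheme.Modules.restrictFunctorAdjCounitIso a).app L
  have e₂ : (Scheme.Modules.pullback b).obj M ≅ L' :=
    (Scheme.Modules.pullback b).mapBiprod _ _ ≪≫
      (isoZeroBiprod (isZero_pullback_pushforward_disjoint b a (isCompl_range_inl_inr X X').disjoint.symm L)).symm ≪≫
      (Scheme.Modules.restrictFunctorIsoPullback b).symm.app _ ≪≫
      (Scheme.Modules.restrictFunctorAdjCounitIso b).app L'
  refine ⟨M, ⟨e₁⟩, ⟨e₂⟩, ?_⟩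
  have key : ∀ {A : Scheme.{u}} (i : A ⟶ X ⨿ X') [IsOpenImmersion i] {N : A.Modules}, PicF.IsInvertible N →
      ((Scheme.Modules.pullback i).obj M ≅ N) → PicF.IsInvertible (M.restrict i.opensRange.ι) := by
    intro A i _ N hN e
    refine TensorMod.isInvertible_of_iso ?_
      (GenLocus.isInvertible_pullback i.isoOpensRange.inv (TensorMod.isInvertible_of_iso e.symm hN))
    exact (Scheme.Modules.pullbackComp _ i).app M ≪≫
      (Scheme.Modules.pullbackCongr (show i.isoOpensRange.inv ≫ i = i.opensRange.ι by simp)).app M ≪≫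
      (Scheme.Modules.restrictFunctorIsoPullback _).symm.app M
  refine isInvertible_of_forall_restrict fun p => ?_
  obtain ⟨(y | y), rfl⟩ := (coprodMk X X').surjective p
  · exact ⟨a.opensRange, ⟨y, (coprodMk_inl _ _ y).symm⟩, key a hL e₁⟩
  · exact ⟨b.opensRange, ⟨y, (coprodMk_inr _ _ y).symm⟩, key b hL' e₂⟩

theorem isQuasiProjective_coprod {f : X ⟶ Y} {f' : X' ⟶ Y} (hf : RelProj.IsQuasiProjective f)
    (hf' : RelProj.IsQuasiProjective f') : RelProj.IsQuasiProjective (coprod.desc f f') := by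
  obtain ⟨hft, hqc, L, hL⟩ := hf
  obtain ⟨hft', hqc', L', hL'⟩ := hf'
  haveI := hqc
  haveI := hqc'
  have inv : ∀ {A : Scheme.{u}} {q : A ⟶ Y} {N : A.Modules}, RelAmple.IsRelAmple q N → PicF.IsInvertible N := by
    intro A q N hN
    refine isInvertible_of_forall_restrict fun x => ?_
    obtain ⟨_, ⟨V, hV, rfl⟩, hxV, -⟩ := Y.isBasis_affineOpens.exists_subset_of_mem_open
      (Set.mem_univ (q x)) isOpen_univ
    exact ⟨q ⁻¹ᵁ V, hxV, (hN.2 ⟨V, hV⟩).1⟩
  obtain ⟨M, ⟨e⟩, ⟨e'⟩, -⟩ := exists_invertible_coprod (inv hL) (inv hL')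
  have hM : RelAmple.IsRelAmple (coprod.desc f f') M := (isRelAmple_coprod_desc_iff f f' M).2
    ⟨⟨hqc, fun V => isAmple_of_iso ((Scheme.Modules.restrictFunctor _).mapIso e.symm) (hL.2 V)⟩,
      ⟨hqc', fun V => isAmple_of_iso ((Scheme.Modules.restrictFunctor _).mapIso e'.symm) (hL'.2 V)⟩⟩
  refine ⟨?_, hM.1, M, hM⟩
  refine IsZariskiLocalAtSource.of_openCover (P := @LocallyOfFiniteType) (coprodOpenCover.{u, u} X X') fun i => ?_
  rcases i with i | i
  · show LocallyOfFiniteType (coprod.inl ≫ coprod.desc f f')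
    rw [coprod.inl_desc]; exact hft
  · show LocallyOfFiniteType (coprod.inr ≫ coprod.desc f f')
    rw [coprod.inr_desc]; exact hft'

end Groth.Agent.SymAlgRel
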