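import Groth.Agent.SymAlgRel.BundleProper
import Groth.Agent.S5721
import Groth.Prelude.Def_MoreMor
import Groth.Agent.EGA2Misc.RelProjFT

/-! Projective morphisms are quasi-projective. -/

set_option autoImplicit false
set_option backward.isDefEq.respectTransparency false
set_option backward.isDefEq.respectTransparency.types false

noncomputable section

universe u

open CategoryTheory CategoryTheory.Limits AlgebraicGeometry TopologicalSpace Opposite

namespace Groth.Agent.SymAlgRel

variable {X Y : Scheme.{u}}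

theorem isProjective_closedImmersion_comp {X₀ : Scheme.{u}} (j : X₀ ⟶ X) [IsClosedImmersion j] {f : X ⟶ Y}
    (h : RelProj.IsProjective f) : RelProj.IsProjective (j ≫ f) := by
  obtain ⟨hqc, hsep, huc⟩ := isProper_of_isProjective h
  obtain ⟨E, 𝒯, jE, P, p, chart, i, hE, hft, hj, hP, hi, rfl⟩ := exists_bundle_of_isProjective h
  haveI := hi
  haveI := hqc
  haveI := huc
  haveI : QuasiCompact ((j ≫ i) ≫ p) := by rw [Category.assoc]; infer_instance
  haveI : UniversallyClosed ((j ≫ i) ≫ p) := by rw [Category.assoc]; infer_instance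
  rw [← Category.assoc]
  exact isProjective_of_bundle hE hft hj hP (j ≫ i)

theorem exists_relAmple_of_isProjective {f : X ⟶ Y} (h : RelProj.IsProjective f) :
    ∃ L : X.Modules, RelAmple.IsRelAmple f L := by
  obtain ⟨hqc, -, -⟩ := isProper_of_isProjective h
  obtain ⟨E, 𝒯, jE, P, p, chart, i, hE, hft, hj, hP, hi, rfl⟩ := exists_bundle_of_isProjective h
  obtain ⟨O1, lam, hO1⟩ := exists_isRelTwist hP 1
  haveI := hqc
  haveI := hi
  refine ⟨(Scheme.Modules.pullback i).obj O1, S5721.result (i ≫ p) _ ?_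
    ⟨E, hE, 𝒯, jE, hj, P, p, chart, hP, O1, lam, hO1, i, inferInstance, rfl, ⟨Iso.refl _⟩⟩⟩
  exact GenLocus.isInvertible_pullback i (isInvertible_relTwist (grSymAlg_isGenDegOne hE hj) hO1)

theorem isQuasiProjective_and_isProper {f : X ⟶ Y} (h : RelProj.IsProjective f) :
    RelProj.IsQuasiProjective f ∧ IsProper f := by
  obtain ⟨hqc, hsep, huc⟩ := isProper_of_isProjective h
  have hL := exists_relAmple_of_isProjective h
  have hlft : LocallyOfFiniteType f := by
    obtain ⟨𝒮, P, p, chart, e, hgen, hft, hP, rfl⟩ := h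
    haveI := (EGA2Misc.relProj_finiteType hgen hft hP).1
    infer_instance
  haveI := hsep
  haveI := huc
  haveI := hlft
  exact ⟨⟨hlft, hqc, hL⟩, ⟨⟩⟩

theorem isProjective_reduced {X₀ Y₀ : Scheme.{u}} {f : X ⟶ Y} (hf : RelProj.IsProjective f)
    (j : X₀ ⟶ X) [IsClosedImmersion j] (k : Y₀ ⟶ Y) [IsClosedImmersion k] (f₀ : X₀ ⟶ Y₀)
    (hcomm : j ≫ f = f₀ ≫ k) : RelProj.IsProjective f₀ := by
  have h := isProjective_closedImmersion_comp j hf
  rw [hcomm] at h
  exact isProjective_of_comp f₀ k h

end Groth.Agent.SymAlgRel
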