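import Mathlib
import Groth.Agent.SymAlgRel.ProjModel
import Groth.Agent.SymAlgRel.ToBundle
import Groth.Agent.EGA2Misc.RelProjFT
import Groth.Agent.QCohBase.FiniteTypePullback

/-!
# Projective bundles of finite type modules are universally closed
-/

set_option autoImplicit false
set_option synthInstance.maxHeartbeats 200000
set_option backward.isDefEq.respectTransparency false
set_option backward.isDefEq.respectTransparency.types false

noncomputable section

universe u

open CategoryTheory CategoryTheory.Limits AlgebraicGeometry TopologicalSpace Opposite RelSpec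
open Groth.Agent.QCohBase
open scoped HomogeneousIdeal

namespace Groth.Agent.SymAlgRel

variable {Y : Scheme.{u}} {E : Y.Modules} {𝒯 : RelProj.QCGrAlg Y} {j : E ⟶ 𝒯.toModule}

theorem strZero_surjective (hE : Coh.IsQCoh E) (hj : RelProj.IsGrSymAlg E 𝒯 j) (U : Y.Opens) (hU : IsAffineOpen U) :
    Function.Surjective (𝒯.strZero U hU).hom := by
  rintro ⟨x, hx⟩
  have h := mem_closure_of_gen (𝒜 := 𝒯.deg U hU)
    (fun i z => z ∈ 𝒯.deg U hU i ∧ (i = 0 → ∃ r, (𝒯.str.app (op U)).hom r = z))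
    (fun i z hz => hz.1) ⟨SetLike.one_mem_graded _, fun _ => ⟨1, map_one _⟩⟩
    (fun i k a b ha hb => ⟨SetLike.mul_mem_graded ha.1 hb.1, fun h => by
        obtain ⟨r, hr⟩ := ha.2 (by omega)
        obtain ⟨r', hr'⟩ := hb.2 (by omega)
        exact ⟨r * r', by rw [map_mul, hr, hr']⟩⟩)
    _ (by
      rintro z (⟨r, rfl⟩ | ⟨e, rfl⟩)
      · exact ⟨0, 𝒯.str_mem U hU r, fun _ => ⟨r, rfl⟩⟩
      · exact ⟨1, tgen_mem hj hU e, fun h => absurd h one_ne_zero⟩)
    (closure_sym_eq_top E hE hj.1 hU) hx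
  suffices h' : ∃ r, (𝒯.str.app (op U)).hom r = x by
    obtain ⟨r, hr⟩ := h'
    exact ⟨r, Subtype.ext hr⟩
  clear hx
  induction h using AddSubgroup.closure_induction with
  | mem z hz => exact hz.2 rfl
  | zero => exact ⟨0, map_zero _⟩
  | add a b _ _ ha hb =>
    obtain ⟨r, rfl⟩ := ha
    obtain ⟨r', rfl⟩ := hb
    exact ⟨r + r', map_add _ _ _⟩
  | neg a _ ha =>
    obtain ⟨r, rfl⟩ := ha
    exact ⟨-r, map_neg _ _⟩

theorem universallyClosed_bundle (hE : Coh.IsQCoh E) (hft : CohB1.IsFT E) (hj : RelProj.IsGrSymAlg E 𝒯 j)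
    {P : Scheme.{u}} {p : P ⟶ Y}
    {chart : ∀ (U : Y.Opens) (hU : IsAffineOpen U), (((p ⁻¹ᵁ U : P.Opens) : Scheme.{u}) ≅ Proj (𝒯.deg U hU))}
    (hP : RelProj.IsRelProj 𝒯 p chart) : UniversallyClosed p := by
  classical
  haveI : E.IsQuasicoherent := hE
  refine IsZariskiLocalAtTarget.of_iSup_eq_top (fun U : Y.affineOpens => U.1)
    (AlgebraicGeometry.iSup_affineOpens_eq_top Y) fun U => ?_
  have h : p ∣_ U.1 = (chart U.1 U.2).hom ≫ (Proj.toSpecZero (𝒯.deg U.1 U.2) ≫
      Spec.map (𝒯.strZero U.1 U.2)) ≫ U.2.isoSpec.inv := by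
    rw [← cancel_mono U.1.ι, morphismRestrict_ι]
    simp only [Category.assoc, IsAffineOpen.isoSpec_inv_ι]
    exact (hP.chart_over U.1 U.2).symm
  haveI : IsClosedImmersion (Spec.map (𝒯.strZero U.1 U.2)) :=
    IsClosedImmersion.spec_of_surjective _ (strZero_surjective hE hj U.1 U.2)
  haveI := QCohBase.finite_sections E hft U.2
  obtain ⟨G, hG⟩ := Module.Finite.fg_top (R := Γ(Y, U.1)) (M := Γ(E, U.1))
  haveI : Algebra.FiniteType (𝒯.deg U.1 U.2 0) (𝒯.presheaf.obj (op U.1)) := by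
    refine ⟨⟨G.image fun e => tgen j e, eq_top_iff.2 fun x _ => ?_⟩⟩
    let B := Algebra.adjoin (𝒯.deg U.1 U.2 0) ((G.image fun e => tgen j e : Finset _) : Set (𝒯.presheaf.obj (op U.1)))
    have hstr : ∀ r, (𝒯.str.app (op U.1)).hom r ∈ B := fun r =>
      B.algebraMap_mem ⟨_, 𝒯.str_mem U.1 U.2 r⟩
    show x ∈ B.toSubring
    refine (Subring.closure_le.2 ?_ : Subring.closure _ ≤ B.toSubring)
      ((closure_sym_eq_top E hE hj.1 U.2).ge (Subring.mem_top x))
    rintro z (⟨r, rfl⟩ | ⟨e, rfl⟩)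
    · exact hstr r
    · show tgen j e ∈ B
      have he : e ∈ Submodule.span Γ(Y, U.1) (G : Set Γ(E, U.1)) := hG ▸ Submodule.mem_top
      induction he using Submodule.span_induction with
      | mem g hg => exact Algebra.subset_adjoin (Finset.mem_coe.2 (Finset.mem_image_of_mem _ hg))
      | zero => rw [tgen, map_zero]; exact zero_mem B
      | add a b _ _ ha hb => rw [tgen, map_add]; exact add_mem (s := B) ha hb
      | smul r a _ ha => rw [tgen, Scheme.Modules.Hom.app_smul]; exact mul_mem (s := B) (hstr r) ha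
  rw [h]
  infer_instance

theorem isFT_degPiece {𝒮 : RelProj.QCGrAlg Y} (hft : 𝒮.IsFTDeg 1) : CohB1.IsFT (degPiece 𝒮 1) := by
  haveI : (degPiece 𝒮 1).IsQuasicoherent := isQCoh_degPiece 𝒮 1
  refine QCohBase.isFiniteType_of_finite _ fun x => ?_
  obtain ⟨U, hU, hxU, -⟩ := Opens.isBasis_iff_nbhd.1 Y.isBasis_affineOpens (U := ⊤) (Opens.mem_top x)
  refine ⟨U, hU, hxU, Module.finite_def.2 ?_⟩
  obtain ⟨T, hT, hgen⟩ := hft U hU
  exact (isFT_iff_of_deg 𝒮 1 U hU).2 ⟨T, fun t ht => hT (Finset.mem_coe.2 ht), hgen⟩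

theorem exists_bundle_of_isProjective {X : Scheme.{u}} {f : X ⟶ Y} (h : RelProj.IsProjective f) :
    ∃ (E : Y.Modules) (𝒯 : RelProj.QCGrAlg Y) (j : E ⟶ 𝒯.toModule) (P : Scheme.{u}) (p : P ⟶ Y)
      (chart : ∀ (U : Y.Opens) (hU : IsAffineOpen U), ((p ⁻¹ᵁ U : P.Opens) : Scheme.{u}) ≅ Proj (𝒯.deg U hU))
      (i : X ⟶ P),
      Coh.IsQCoh E ∧ CohB1.IsFT E ∧ RelProj.IsGrSymAlg E 𝒯 j ∧ RelProj.IsRelProj 𝒯 p chart ∧
        IsClosedImmersion i ∧ i ≫ p = f := by
  obtain ⟨𝒮, P, p, chart, e, hgen, hft, hP, hc⟩ := h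
  obtain ⟨𝒯, j, hj, Q, q, chartQ, hQ, h, hh, hhc, -⟩ := exists_toBundle hgen hP
  haveI := hh
  exact ⟨degPiece 𝒮 1, 𝒯, j, Q, q, chartQ, e.hom ≫ h, isQCoh_degPiece 𝒮 1, isFT_degPiece hft, hj, hQ,
    inferInstance, by rw [Category.assoc, hhc, hc]⟩

theorem isProper_of_isProjective {X : Scheme.{u}} {f : X ⟶ Y} (h : RelProj.IsProjective f) :
    QuasiCompact f ∧ IsSeparated f ∧ UniversallyClosed f := by
  obtain ⟨E, 𝒯, j, P, p, chart, i, hE, hft, hj, hP, hi, rfl⟩ := exists_bundle_of_isProjective h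
  haveI : IsSeparated p := EGA2Misc.isSeparated_of_isRelProj hP
  haveI := universallyClosed_bundle hE hft hj hP
  haveI := hi
  exact ⟨inferInstance, inferInstance, inferInstance⟩

set_option maxHeartbeats 1000000 in
theorem isProjective_pullback {X Y' : Scheme.{u}} {f : X ⟶ Y} (h : RelProj.IsProjective f) (g : Y' ⟶ Y) :
    RelProj.IsProjective (pullback.snd f g) := by
  obtain ⟨hqc, hsep, huc⟩ := isProper_of_isProjective h
  haveI : QuasiCompact (pullback.snd f g) := MorphismProperty.pullback_snd _ _ hqc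
  haveI : UniversallyClosed (pullback.snd f g) := MorphismProperty.pullback_snd _ _ huc
  obtain ⟨E, 𝒯, j, P, p, chart, i, hE, hft, hj, hP, hi, rfl⟩ := exists_bundle_of_isProjective h
  obtain ⟨O1, lam, hO1⟩ := exists_isRelTwist hP 1
  obtain ⟨𝒯', j', hE', hj', P', p', chart', hP', O1', lam', hO1', k, hpb, -⟩ :=
    exists_bundle_baseChange g hE hj hP hO1
  let i' : pullback (i ≫ p) g ⟶ P' := hpb.lift (pullback.fst _ g ≫ i) (pullback.snd _ g)
    (by rw [Category.assoc]; exact pullback.condition)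
  have hc : i' ≫ p' = pullback.snd _ g := hpb.lift_snd _ _ _
  have hk : i' ≫ k = pullback.fst _ g ≫ i := hpb.lift_fst _ _ _
  haveI := hi
  haveI : IsImmersion i' := by
    have hsq : IsPullback i' (pullback.fst (i ≫ p) g) k i := by
      refine IsPullback.of_right ?_ hk hpb.flip
      rw [hc]
      exact (IsPullback.of_hasPullback (i ≫ p) g).flip
    exact MorphismProperty.of_isPullback (P := @IsImmersion) hsq.flip inferInstance
  haveI : QuasiCompact (i' ≫ p') := by rw [hc]; infer_instance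
  haveI : UniversallyClosed (i' ≫ p') := by rw [hc]; infer_instance
  rw [← hc]
  exact isProjective_of_bundle hE' (QCohBase.isFT_pullback g hft) hj' hP' i'

set_option maxHeartbeats 1000000 in
theorem isProjective_of_comp {X Z : Scheme.{u}} (f : X ⟶ Y) (g : Y ⟶ Z) [IsSeparated g]
    (h : RelProj.IsProjective (f ≫ g)) : RelProj.IsProjective f := by
  obtain ⟨hqc, hsep, huc⟩ := isProper_of_isProjective h
  haveI := hqc
  haveI := huc
  haveI : QuasiCompact f := QuasiCompact.of_comp f g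
  haveI : UniversallyClosed f := UniversallyClosed.of_comp_of_isSeparated f g
  obtain ⟨E, 𝒯, j, P, p, chart, i, hE, hft, hj, hP, hi, hc⟩ := exists_bundle_of_isProjective h
  obtain ⟨O1, lam, hO1⟩ := exists_isRelTwist hP 1
  obtain ⟨𝒯', j', hE', hj', P', p', chart', hP', O1', lam', hO1', k, hpb, -⟩ :=
    exists_bundle_baseChange g hE hj hP hO1
  let i' : X ⟶ P' := hpb.lift i f hc
  have hc' : i' ≫ p' = f := hpb.lift_snd _ _ _
  haveI := hi
  haveI : IsImmersion (i' ≫ k) := by rw [hpb.lift_fst]; infer_instance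
  haveI : IsImmersion i' := IsImmersion.of_comp i' k
  haveI : QuasiCompact (i' ≫ p') := by rw [hc']; infer_instance
  haveI : UniversallyClosed (i' ≫ p') := by rw [hc']; infer_instance
  rw [← hc']
  exact isProjective_of_bundle hE' (QCohBase.isFT_pullback g hft) hj' hP' i'

end Groth.Agent.SymAlgRel
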