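import Mathlib
import Groth.Agent.SymAlgRel.SegreBundle
import Groth.Agent.SymAlgRel.ProjModel
import Groth.Agent.SymAlgRel.ProjQuasi
import Groth.Agent.S2297
import Groth.Agent.SymAlgRel.ProdGen

/-!
# Products of projective bundles
-/

set_option autoImplicit false
set_option synthInstance.maxHeartbeats 200000
set_option backward.isDefEq.respectTransparency false
set_option backward.isDefEq.respectTransparency.types false

noncomputable section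

universe u

open CategoryTheory CategoryTheory.Limits AlgebraicGeometry TopologicalSpace Opposite RelSpec HomogeneousLocalization
open Groth.Agent.QCohBase Groth.Agent.GenLocus
open scoped HomogeneousIdeal

namespace Groth.Agent.SymAlgRel

variable {X Y : Scheme.{u}} {q : X ⟶ Y} {L : X.Modules}

theorem isFT_tensor {Z : Scheme.{u}} {F G : Z.Modules} (hF : Coh.IsQCoh F) (hG : Coh.IsQCoh G)
    (hFt : CohB1.IsFT F) (hGt : CohB1.IsFT G) : CohB1.IsFT (CohB1.tensorMod F G) :=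
  (@S2297.result _ F G hF hG).2 hFt hGt

theorem isProjective_of_sigma_sections [QuasiCompact q] [QuasiSeparated q] [UniversallyClosed q] (hL : PicF.IsInvertible L) {E : Y.Modules} (hE : Coh.IsQCoh E) (hft : CohB1.IsFT E)
    (σ : E ⟶ (Scheme.Modules.pushforward q).obj L)
    (h : ∀ x : X, ∃ (U : Y.Opens) (_ : IsAffineOpen U) (e₀ : Γ(E, U)) (W : X.Opens) (hW : W ≤ q ⁻¹ᵁ U),
      x ∈ W ∧ IsAffineOpen W ∧ IsFrame L (mres L hW (σ.app U e₀)) ∧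
      (∀ (G : X.Opens) (hG : G ≤ q ⁻¹ᵁ U), IsFrame L (mres L hG (σ.app U e₀)) → G ≤ W) ∧
      Subring.closure ((Set.range fun r : Γ(Y, U) => (q.appLE U W hW).hom r) ∪
        {v | ∃ e' : Γ(E, U), v • mres L hW (σ.app U e₀) = mres L hW (σ.app U e')}) = ⊤) :
    RelProj.IsProjective q := by
  have hLq := TensorMod.isQCoh_of_isInvertible hL
  haveI : L.IsQuasicoherent := hLq
  obtain ⟨𝒯, j, hj⟩ := exists_isGrSymAlg E hE
  obtain ⟨𝒮L, jL, hjL⟩ := exists_isGrSymAlg L hLq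
  obtain ⟨PL, pL, chartL, hPL⟩ := exists_isRelProj 𝒮L
  obtain ⟨u, hu⟩ := exists_qGrHom_sigma (q := q) hE hj hjL σ
  refine isProjective_of_good hL hjL hPL hE hft hj u fun x => ?_
  obtain ⟨U, hU, e₀, W, hW, hxW, hWaff, hfr, hmax, hgen⟩ := h x
  let s : Γ(L, q ⁻¹ᵁ U) := σ.app U e₀
  let f := tgen j e₀
  have hf : f ∈ 𝒯.deg U hU 1 := tgen_mem hj hU _
  have hK : ∀ (V : X.Opens) (hle : V ≤ q ⁻¹ᵁ U) (e' : Γ(E, U)),
      (u.appLE U V hle).hom (tgen j e') = tgen jL (mres L hle (σ.app U e')) := fun V hle e' => by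
    refine ((ares_appLE u U V hle _).symm.trans (congrArg _ ((appLE_self_apply u U _).trans (hu U hU _)))).trans ?_
    exact res_tgen hjL hle (e := σ.app U e')
  have hlin : ∀ (V : X.Opens) (c : Γ(X, V)) (e : Γ(L, V)),
      tgen jL (c • e) = (𝒮L.str.app (op V)).hom c * tgen jL e := fun V c e => map_smul (jL.val.app (op V)).hom c e
  have hxs : xs u U 1 f = W := by
    refine SetLike.ext fun y => ?_
    by_cases hy : y ∈ q ⁻¹ᵁ U
    swap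
    · exact ⟨fun h => absurd (xs_le u U 1 f h) hy, fun h => absurd (hW h) hy⟩
    obtain ⟨V, hV, hyV, hVU, e, he⟩ := exists_isFrame hL hy
    obtain ⟨c, hc⟩ := he.bijective.2 (mres L hVU s)
    replace hc : c • e = mres L hVU s := hc
    rw [mem_xs, genAt_iff_basicOpen u hjL hLq hL hPL U hU one_pos f hf hV hVU he (c := c)
      (by rw [pow_one]; exact (hK V hVU e₀).trans ((congrArg (tgen jL) hc.symm).trans (hlin V c e))) hyV]
    refine ⟨fun hyc => ?_, fun hyW => ?_⟩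
    · refine hmax (X.basicOpen c) ((X.basicOpen_le c).trans hVU) ?_ hyc
      have h1 : mres L ((X.basicOpen_le c).trans hVU) s = ores (X.basicOpen_le c) c • mres L (X.basicOpen_le c) e := by
        rw [← mres_smul, hc, mres_mres]
      rw [h1]
      exact (he.res _).smul_unit (RingedSpace.isUnit_res_basicOpen _ c)
    · have h5 : IsFrame L (mres L (inf_le_right : W ⊓ V ≤ V) (c • e)) := by
        rw [hc, mres_mres]
        have := hfr.res (inf_le_left : W ⊓ V ≤ W)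
        rw [mres_mres] at this
        exact this
      rw [mres_smul] at h5
      have h6 := (he.res (inf_le_right : W ⊓ V ≤ V)).isUnit_of_smul h5
      have h8 := X.basicOpen_of_isUnit h6
      rw [show X.basicOpen (ores (inf_le_right : W ⊓ V ≤ V) c) = (W ⊓ V) ⊓ X.basicOpen c from
        Scheme.basicOpen_res X c _] at h8
      exact (h8.ge ⟨hyW, hyV⟩).2
  have hFrac : ∀ (T : X.Opens) (hT : T = W) (hle : T ≤ q ⁻¹ᵁ U), Frac u U hU T hle 1 f := by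
    rintro T rfl hle t
    let K := (u.appLE U T hle).hom
    let σ := (𝒮L.str.app (op T)).hom
    let R : Γ(X, T) → Prop := fun t => ∃ (m : ℕ) (_ : 0 < m) (a : 𝒯.presheaf.obj (op U)) (_ : a ∈ 𝒯.deg U hU (m * 1)),
      σ t * K f ^ m = K a
    suffices hR : R t from hR
    have hmem : ∀ {m : ℕ} {a : 𝒯.presheaf.obj (op U)}, a ∈ 𝒯.deg U hU (m * 1) → a ∈ 𝒯.deg U hU m := fun h => by
      rwa [mul_one] at h
    have hmem' : ∀ {m : ℕ} {a : 𝒯.presheaf.obj (op U)}, a ∈ 𝒯.deg U hU m → a ∈ 𝒯.deg U hU (m * 1) := fun h => by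
      rwa [mul_one]
    have ht := hgen.ge (Subring.mem_top t)
    induction ht using Subring.closure_induction with
    | mem v hv =>
      rcases hv with ⟨r, rfl⟩ | ⟨s', hs'⟩
      · refine ⟨1, one_pos, (𝒯.str.app (op U)).hom r * f, hmem' ?_, ?_⟩
        · have := SetLike.mul_mem_graded (𝒯.str_mem U hU r) hf
          rwa [zero_add] at this
        · rw [pow_one, map_mul]
          exact congrArg (· * K f) (ConcreteCategory.congr_hom (u.toQHom.str_appLE U T hle) r).symm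
      · refine ⟨1, one_pos, tgen j s', hmem' (tgen_mem hj hU _), ?_⟩
        show σ v * (u.appLE U T hle).hom f ^ 1 = (u.appLE U T hle).hom _
        rw [pow_one, hK T hle e₀, hK T hle s', ← hlin]
        exact congrArg (tgen jL) hs'
    | zero => exact ⟨1, one_pos, 0, zero_mem _, by rw [map_zero, zero_mul, map_zero]⟩
    | one => exact ⟨1, one_pos, f, hmem' hf, by rw [map_one, one_mul, pow_one]⟩
    | add x y _ _ hx hy =>
      obtain ⟨m, hm, a, ha, hxa⟩ := hx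
      obtain ⟨n, hn, b, hb, hyb⟩ := hy
      refine ⟨m + n, by omega, a * f ^ n + f ^ m * b, hmem' (add_mem ?_ ?_), ?_⟩
      · have := SetLike.mul_mem_graded (hmem ha) (SetLike.pow_mem_graded n hf)
        rwa [smul_eq_mul, mul_one] at this
      · have := SetLike.mul_mem_graded (SetLike.pow_mem_graded m hf) (hmem hb)
        rwa [smul_eq_mul, mul_one] at this
      · simp only [map_add, map_mul, map_pow, ← hxa, ← hyb, pow_add]
        ring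
    | mul x y _ _ hx hy =>
      obtain ⟨m, hm, a, ha, hxa⟩ := hx
      obtain ⟨n, hn, b, hb, hyb⟩ := hy
      refine ⟨m + n, by omega, a * b, hmem' (SetLike.mul_mem_graded (hmem ha) (hmem hb)), ?_⟩
      simp only [map_mul, ← hxa, ← hyb, pow_add]
      ring
    | neg x _ hx =>
      obtain ⟨m, hm, a, ha, hxa⟩ := hx
      exact ⟨m, hm, -a, neg_mem ha, by rw [map_neg, map_neg, neg_mul, hxa]⟩
  exact ⟨U, hU, 1, one_pos, f, hf, hxs.symm ▸ hxW, hxs.symm ▸ hWaff, hFrac _ hxs _⟩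

theorem isProjective_segre {Z P₁ P₂ T : Scheme.{u}}
    {E₁ : Z.Modules} (hE₁ : Coh.IsQCoh E₁) {𝒯₁ : RelProj.QCGrAlg Z} {j₁ : E₁ ⟶ 𝒯₁.toModule}
    (hj₁ : RelProj.IsGrSymAlg E₁ 𝒯₁ j₁) {p₁ : P₁ ⟶ Z}
    {chart₁ : ∀ (U : Z.Opens) (hU : IsAffineOpen U), (((p₁ ⁻¹ᵁ U : P₁.Opens) : Scheme.{u}) ≅ Proj (𝒯₁.deg U hU))}
    (hP₁ : RelProj.IsRelProj 𝒯₁ p₁ chart₁) {O₁ : P₁.Modules}
    {lam₁ : ∀ (U : Z.Opens) (hU : IsAffineOpen U),
      O₁ ⟶ (Scheme.Modules.pushforward (RelProj.emb p₁ chart₁ U hU)).obj (GrTwist.twist (𝒯₁.deg U hU) 1)}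
    (hO₁ : RelProj.IsRelTwist 𝒯₁ p₁ chart₁ 1 O₁ lam₁)
    {E₂ : Z.Modules} (hE₂ : Coh.IsQCoh E₂) {𝒯₂ : RelProj.QCGrAlg Z} {j₂ : E₂ ⟶ 𝒯₂.toModule}
    (hj₂ : RelProj.IsGrSymAlg E₂ 𝒯₂ j₂) {p₂ : P₂ ⟶ Z}
    {chart₂ : ∀ (U : Z.Opens) (hU : IsAffineOpen U), (((p₂ ⁻¹ᵁ U : P₂.Opens) : Scheme.{u}) ≅ Proj (𝒯₂.deg U hU))}
    (hP₂ : RelProj.IsRelProj 𝒯₂ p₂ chart₂) {O₂ : P₂.Modules}
    {lam₂ : ∀ (U : Z.Opens) (hU : IsAffineOpen U),
      O₂ ⟶ (Scheme.Modules.pushforward (RelProj.emb p₂ chart₂ U hU)).obj (GrTwist.twist (𝒯₂.deg U hU) 1)}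
    (hO₂ : RelProj.IsRelTwist 𝒯₂ p₂ chart₂ 1 O₂ lam₂)
    {a : T ⟶ P₁} {b : T ⟶ P₂} (h : IsPullback a b p₁ p₂) (hft₁ : CohB1.IsFT E₁) (hft₂ : CohB1.IsFT E₂)
    [QuasiCompact (a ≫ p₁)] [QuasiSeparated (a ≫ p₁)] [UniversallyClosed (a ≫ p₁)] :
    RelProj.IsProjective (a ≫ p₁) := by
  obtain ⟨φ₁, hφ₁⟩ := exists_canMap (lam := lam₁) hP₁ hj₁ hO₁
  obtain ⟨φ₂, hφ₂⟩ := exists_canMap (lam := lam₂) hP₂ hj₂ hO₂
  let L₁ := (Scheme.Modules.pullback a).obj O₁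
  let L₂ := (Scheme.Modules.pullback b).obj O₂
  have hL₁ : PicF.IsInvertible L₁ :=
    GenLocus.isInvertible_pullback a (isInvertible_relTwist (grSymAlg_isGenDegOne hE₁ hj₁) hO₁)
  have hL₂ : PicF.IsInvertible L₂ :=
    GenLocus.isInvertible_pullback b (isInvertible_relTwist (grSymAlg_isGenDegOne hE₂ hj₂) hO₂)
  let σ₁ : E₁ ⟶ (Scheme.Modules.pushforward (a ≫ p₁)).obj L₁ :=
    φ₁ ≫ (Scheme.Modules.pushforward p₁).map ((Scheme.Modules.pullbackPushforwardAdjunction a).unit.app O₁) ≫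
      (Scheme.Modules.pushforwardComp a p₁).hom.app L₁
  let σ₂ : E₂ ⟶ (Scheme.Modules.pushforward (a ≫ p₁)).obj L₂ :=
    φ₂ ≫ (Scheme.Modules.pushforward p₂).map ((Scheme.Modules.pullbackPushforwardAdjunction b).unit.app O₂) ≫
      (Scheme.Modules.pushforwardComp b p₂).hom.app L₂ ≫ (Scheme.Modules.pushforwardCongr h.w.symm).hom.app L₂
  have hs₁ : ∀ (U : Z.Opens) (e : Γ(E₁, U)), σ₁.app U e = pullSec a O₁ (p₁ ⁻¹ᵁ U) (φ₁.app U e) := fun U e => rfl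
  have hle₂ : ∀ (U : Z.Opens), (a ≫ p₁) ⁻¹ᵁ U ≤ b ⁻¹ᵁ (p₂ ⁻¹ᵁ U) := fun U => by rw [h.w]; rfl
  have hs₂ : ∀ (U : Z.Opens) (e : Γ(E₂, U)),
      σ₂.app U e = mres L₂ (hle₂ U) (pullSec b O₂ (p₂ ⁻¹ᵁ U) (φ₂.app U e)) := fun U e => rfl
  let adj := Scheme.Modules.pullbackPushforwardAdjunction (a ≫ p₁)
  let ψ₁ := (adj.homEquiv E₁ L₁).symm σ₁
  let ψ₂ := (adj.homEquiv E₂ L₂).symm σ₂
  let Ψ := GenLocus.pullTensorMap (a ≫ p₁) E₁ E₂ ≫ KoszTw.tensorMap ψ₁ ψ₂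
  have hadj : ∀ {M : Z.Modules} {N : T.Modules} (k : (Scheme.Modules.pullback (a ≫ p₁)).obj M ⟶ N) (U : Z.Opens)
      (s : Γ(M, U)), (adj.homEquiv M N k).app U s = k.app ((a ≫ p₁) ⁻¹ᵁ U) (pullSec (a ≫ p₁) M U s) := fun k U s => by
    rw [Adjunction.homEquiv_unit]
    rfl
  have hσ : ∀ (U : Z.Opens) (e : Γ(E₁, U)) (e' : Γ(E₂, U)),
      (adj.homEquiv _ _ Ψ).app U (SecTwist.tmul E₁ E₂ U e e') =
        SecTwist.tmul L₁ L₂ ((a ≫ p₁) ⁻¹ᵁ U) (σ₁.app U e) (σ₂.app U e') := fun U e e' => by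
    rw [hadj Ψ U, ← (Equiv.apply_symm_apply (adj.homEquiv E₁ L₁) σ₁), hadj ψ₁ U,
      ← (Equiv.apply_symm_apply (adj.homEquiv E₂ L₂) σ₂), hadj ψ₂ U]
    refine Eq.trans ?_ (KoszTw.tensorMap_tmul ψ₁ ψ₂ _ (pullSec (a ≫ p₁) E₁ U e) (pullSec (a ≫ p₁) E₂ U e'))
    exact congrArg ((KoszTw.tensorMap ψ₁ ψ₂).app _) (GenLocus.pullTensorMap_tmul (a ≫ p₁) E₁ E₂ U e e')
  refine isProjective_of_sigma_sections (TensorMod.isInvertible_tensorMod hL₁ hL₂)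
    (DCohBridge.isQCoh_cohb1TensorMod hE₁ hE₂) (isFT_tensor hE₁ hE₂ hft₁ hft₂) (adj.homEquiv _ _ Ψ) fun x => ?_
  obtain ⟨U, hU, hxU, -⟩ := Opens.isBasis_iff_nbhd.1 Z.isBasis_affineOpens (U := ⊤) (Opens.mem_top ((a ≫ p₁) x))
  have hxU₂ : p₂ (b x) ∈ U := hle₂ U hxU
  have hgen : ∀ y : T, (a ≫ p₁) y ∈ U → ∃ (g₁ : Γ(E₁, U)) (g₂ : Γ(E₂, U)),
      a y ∈ T₀ j₁ chart₁ U hU g₁ ∧ b y ∈ T₀ j₂ chart₂ U hU g₂ := fun y hy => by
    obtain ⟨w₁, hw₁⟩ : a y ∈ (RelProj.emb p₁ chart₁ U hU).opensRange := by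
      rw [EGA2Misc.opensRange_emb]; exact hy
    obtain ⟨w₂, hw₂⟩ : b y ∈ (RelProj.emb p₂ chart₂ U hU).opensRange := by
      rw [EGA2Misc.opensRange_emb]; exact hle₂ U hy
    obtain ⟨g₁, hg₁⟩ := exists_gen_notMem hE₁ hj₁ U hU w₁
    obtain ⟨g₂, hg₂⟩ := exists_gen_notMem hE₂ hj₂ U hU w₂
    exact ⟨g₁, g₂, ⟨w₁, hg₁, hw₁⟩, ⟨w₂, hg₂, hw₂⟩⟩
  obtain ⟨e₁, e₂, hx₁, hx₂⟩ := hgen x hxU
  let A := T₀ j₁ chart₁ U hU e₁
  let B := T₀ j₂ chart₂ U hU e₂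
  let W := a ⁻¹ᵁ A ⊓ b ⁻¹ᵁ B
  have hW : W ≤ (a ≫ p₁) ⁻¹ᵁ U := inf_le_left.trans (a.preimage_mono (T₀_le U hU e₁))
  have hr₁ : ∀ (g e : Γ(E₁, U)) (G : T.Opens) (hGU : G ≤ (a ≫ p₁) ⁻¹ᵁ U) (hG : G ≤ a ⁻¹ᵁ T₀ j₁ chart₁ U hU g),
      mres L₁ hGU (σ₁.app U e) =
        (a.appLE _ G hG).hom (rho hj₁ chart₁ U hU g 1 (tgen j₁ e) (tgen_mem hj₁ hU e)) •
          mres L₁ hG (pullSec a O₁ _ (mres O₁ (T₀_le U hU g) (φ₁.app U g))) := fun g e G hGU hG => by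
    refine ((congrArg (mres L₁ hGU) (hs₁ U e)).trans
      (mres_mres L₁ (a.preimage_mono (T₀_le (chart := chart₁) (j := j₁) U hU g)) hG
        (pullSec a O₁ (p₁ ⁻¹ᵁ U) (φ₁.app U e))).symm).trans ?_
    refine (congrArg (mres L₁ hG) ((pullSec_mres a O₁ (T₀_le (chart := chart₁) (j := j₁) U hU g) (φ₁.app U e)).trans
      ((congrArg (pullSec a O₁ _) (rho_smul hj₁ hO₁ φ₁ hφ₁ U hU g e).symm).trans (pullSec_smul a O₁ _ _)))).trans ?_
    exact mres_smul L₁ _ _ _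
  have hr₂ : ∀ (g e : Γ(E₂, U)) (G : T.Opens) (hGU : G ≤ (a ≫ p₁) ⁻¹ᵁ U) (hG : G ≤ b ⁻¹ᵁ T₀ j₂ chart₂ U hU g),
      mres L₂ hGU (σ₂.app U e) =
        (b.appLE _ G hG).hom (rho hj₂ chart₂ U hU g 1 (tgen j₂ e) (tgen_mem hj₂ hU e)) •
          mres L₂ hG (pullSec b O₂ _ (mres O₂ (T₀_le U hU g) (φ₂.app U g))) := fun g e G hGU hG => by
    refine ((congrArg (mres L₂ hGU) (hs₂ U e)).trans ((mres_mres L₂ (hle₂ U) hGU _).trans
      (mres_mres L₂ (b.preimage_mono (T₀_le (chart := chart₂) (j := j₂) U hU g)) hG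
        (pullSec b O₂ (p₂ ⁻¹ᵁ U) (φ₂.app U e))).symm)).trans ?_
    refine (congrArg (mres L₂ hG) ((pullSec_mres b O₂ (T₀_le (chart := chart₂) (j := j₂) U hU g) (φ₂.app U e)).trans
      ((congrArg (pullSec b O₂ _) (rho_smul hj₂ hO₂ φ₂ hφ₂ U hU g e).symm).trans (pullSec_smul b O₂ _ _)))).trans ?_
    exact mres_smul L₂ _ _ _
  have hf₁ : ∀ (g : Γ(E₁, U)) (G : T.Opens) (hG : G ≤ a ⁻¹ᵁ T₀ j₁ chart₁ U hU g),
      IsFrame L₁ (mres L₁ hG (pullSec a O₁ _ (mres O₁ (T₀_le U hU g) (φ₁.app U g)))) := fun g G hG =>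
    ((isFrame_phi hj₁ hO₁ φ₁ hφ₁ U hU g).pullSec a).res hG
  have hf₂ : ∀ (g : Γ(E₂, U)) (G : T.Opens) (hG : G ≤ b ⁻¹ᵁ T₀ j₂ chart₂ U hU g),
      IsFrame L₂ (mres L₂ hG (pullSec b O₂ _ (mres O₂ (T₀_le U hU g) (φ₂.app U g)))) := fun g G hG =>
    ((isFrame_phi hj₂ hO₂ φ₂ hφ₂ U hU g).pullSec b).res hG
  have hs : ∀ (g₁ e : Γ(E₁, U)) (g₂ e' : Γ(E₂, U)) (G : T.Opens) (hGU : G ≤ (a ≫ p₁) ⁻¹ᵁ U)
      (hG₁ : G ≤ a ⁻¹ᵁ T₀ j₁ chart₁ U hU g₁) (hG₂ : G ≤ b ⁻¹ᵁ T₀ j₂ chart₂ U hU g₂),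
      mres (CohB1.tensorMod L₁ L₂) hGU ((adj.homEquiv _ _ Ψ).app U (SecTwist.tmul E₁ E₂ U e e')) =
        ((a.appLE _ G hG₁).hom (rho hj₁ chart₁ U hU g₁ 1 (tgen j₁ e) (tgen_mem hj₁ hU e)) *
          (b.appLE _ G hG₂).hom (rho hj₂ chart₂ U hU g₂ 1 (tgen j₂ e') (tgen_mem hj₂ hU e'))) •
          SecTwist.tmul L₁ L₂ G (mres L₁ hG₁ (pullSec a O₁ _ (mres O₁ (T₀_le U hU g₁) (φ₁.app U g₁))))
            (mres L₂ hG₂ (pullSec b O₂ _ (mres O₂ (T₀_le U hU g₂) (φ₂.app U g₂)))) := by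
    intro g₁ e g₂ e' G hGU hG₁ hG₂
    rw [hσ]
    refine (SecTwist.map_tmul _ _ (homOfLE hGU) _ _).trans ?_
    show SecTwist.tmul _ _ _ (mres L₁ hGU (σ₁.app U e)) (mres L₂ hGU (σ₂.app U e')) = _
    rw [hr₁ g₁ e G hGU hG₁, hr₂ g₂ e' G hGU hG₂, tmul_smul_left, tmul_smul_right, smul_smul]
  have hone₁ : rho hj₁ chart₁ U hU e₁ 1 (tgen j₁ e₁) (tgen_mem hj₁ hU e₁) = 1 :=
    (isFrame_phi hj₁ hO₁ φ₁ hφ₁ U hU e₁).bijective.1
      ((rho_smul hj₁ hO₁ φ₁ hφ₁ U hU e₁ e₁).trans (one_smul _ _).symm)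
  have hone₂ : rho hj₂ chart₂ U hU e₂ 1 (tgen j₂ e₂) (tgen_mem hj₂ hU e₂) = 1 :=
    (isFrame_phi hj₂ hO₂ φ₂ hφ₂ U hU e₂).bijective.1
      ((rho_smul hj₂ hO₂ φ₂ hφ₂ U hU e₂ e₂).trans (one_smul _ _).symm)
  refine ⟨U, hU, SecTwist.tmul E₁ E₂ U e₁ e₂, W, hW, ?_⟩
  refine And.intro ⟨hx₁, hx₂⟩ (And.intro ?_ (And.intro ?_ (And.intro (fun G hG hfr y hy => ?_) ?_)))
  · exact (closure_appLE_eq_top h hU (isAffineOpen_T₀ hj₁ U hU e₁) (isAffineOpen_T₀ hj₂ U hU e₂)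
      (T₀_le U hU e₁) (T₀_le U hU e₂)).1
  · rw [hs e₁ e₁ e₂ e₂ W hW inf_le_left inf_le_right, hone₁, hone₂, map_one, map_one, one_mul, one_smul]
    exact (hf₁ e₁ W inf_le_left).tmul (hf₂ e₂ W inf_le_right)
  · obtain ⟨g₁, g₂, hy₁, hy₂⟩ := hgen y (hG hy)
    let G' := G ⊓ (a ⁻¹ᵁ T₀ j₁ chart₁ U hU g₁ ⊓ b ⁻¹ᵁ T₀ j₂ chart₂ U hU g₂)
    have h1 : G' ≤ a ⁻¹ᵁ T₀ j₁ chart₁ U hU g₁ := inf_le_right.trans inf_le_left
    have h2 : G' ≤ b ⁻¹ᵁ T₀ j₂ chart₂ U hU g₂ := inf_le_right.trans inf_le_right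
    have e' := (mres_mres (CohB1.tensorMod L₁ L₂) hG (inf_le_left : G' ≤ G)
      ((adj.homEquiv _ _ Ψ).app U (SecTwist.tmul E₁ E₂ U e₁ e₂))).trans
      (hs g₁ e₁ g₂ e₂ G' ((inf_le_left : G' ≤ G).trans hG) h1 h2)
    have hfr' := (congrArg (fun z => IsFrame (CohB1.tensorMod L₁ L₂) z) e').mp (hfr.res (inf_le_left : G' ≤ G))
    have hu := ((hf₁ g₁ G' h1).tmul (hf₂ g₂ G' h2)).isUnit_of_smul hfr'
    have hy' : y ∈ G' := ⟨hy, hy₁, hy₂⟩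
    have k1 := (T.basicOpen_of_isUnit (isUnit_of_mul_isUnit_left hu)).ge hy'
    have k2 := (T.basicOpen_of_isUnit (isUnit_of_mul_isUnit_right hu)).ge hy'
    rw [Scheme.basicOpen_appLE] at k1 k2
    refine ⟨?_, ?_⟩
    · have kk : a y ∈ P₁.basicOpen (rho hj₁ chart₁ U hU g₁ 1 (tgen j₁ e₁) (tgen_mem hj₁ hU e₁)) := k1.2
      rw [basicOpen_rho hj₁ (chart := chart₁) U hU g₁ one_pos (tgen j₁ e₁) (tgen_mem hj₁ hU e₁)] at kk
      obtain ⟨v, hv, hvy⟩ := kk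
      exact ⟨v, hv.2, hvy⟩
    · have kk : b y ∈ P₂.basicOpen (rho hj₂ chart₂ U hU g₂ 1 (tgen j₂ e₂) (tgen_mem hj₂ hU e₂)) := k2.2
      rw [basicOpen_rho hj₂ (chart := chart₂) U hU g₂ one_pos (tgen j₂ e₂) (tgen_mem hj₂ hU e₂)] at kk
      obtain ⟨v, hv, hvy⟩ := kk
      exact ⟨v, hv.2, hvy⟩
  · let R := Subring.closure ((Set.range fun r : Γ(Z, U) => ((a ≫ p₁).appLE U W hW).hom r) ∪
      {v | ∃ e' : Γ(CohB1.tensorMod E₁ E₂, U),
        v • mres _ hW ((adj.homEquiv _ _ Ψ).app U (SecTwist.tmul E₁ E₂ U e₁ e₂)) =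
          mres _ hW ((adj.homEquiv _ _ Ψ).app U e')})
    refine eq_top_iff.2 (le_trans (closure_appLE_eq_top h hU (isAffineOpen_T₀ hj₁ U hU e₁)
      (isAffineOpen_T₀ hj₂ U hU e₂) (T₀_le U hU e₁) (T₀_le U hU e₂)).2.ge (Subring.closure_le.2 ?_))
    rintro v (⟨t, rfl⟩ | ⟨t, rfl⟩)
    · refine mem_of_rho hE₁ hj₁ hP₁ U hU e₁ (R.comap (a.appLE A W inf_le_left).hom) (fun r => ?_) (fun e => ?_) t
      · refine Subring.subset_closure (Or.inl ⟨r, ?_⟩)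
        exact (ConcreteCategory.congr_hom (Scheme.Hom.appLE_comp_appLE a p₁ U A W (T₀_le U hU e₁) inf_le_left) r).symm
      · refine Subring.subset_closure (Or.inr ⟨SecTwist.tmul E₁ E₂ U e e₂, ?_⟩)
        rw [hs e₁ e₁ e₂ e₂ W hW inf_le_left inf_le_right, hs e₁ e e₂ e₂ W hW inf_le_left inf_le_right, hone₁, hone₂,
          map_one, map_one, one_mul, one_smul, mul_one]
    · refine mem_of_rho hE₂ hj₂ hP₂ U hU e₂ (R.comap (b.appLE B W inf_le_right).hom) (fun r => ?_) (fun e => ?_) t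
      · refine Subring.subset_closure (Or.inl ⟨r, ?_⟩)
        simp only [h.w]
        exact (ConcreteCategory.congr_hom (Scheme.Hom.appLE_comp_appLE b p₂ U B W (T₀_le U hU e₂) inf_le_right) r).symm
      · refine Subring.subset_closure (Or.inr ⟨SecTwist.tmul E₁ E₂ U e₁ e, ?_⟩)
        rw [hs e₁ e₁ e₂ e₂ W hW inf_le_left inf_le_right, hs e₁ e₁ e₂ e W hW inf_le_left inf_le_right, hone₁, hone₂,
          map_one, map_one, one_mul, one_smul, one_mul]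

theorem isProjective_prod {Z A A' : Scheme.{u}} {g : A ⟶ Z} {g' : A' ⟶ Z} (h : RelProj.IsProjective g)
    (h' : RelProj.IsProjective g') : RelProj.IsProjective (pullback.fst g g' ≫ g) := by
  obtain ⟨E₁, 𝒯₁, j₁, P₁, p₁, chart₁, i₁, hE₁, hft₁, hj₁, hP₁, hi₁, rfl⟩ := exists_bundle_of_isProjective h
  obtain ⟨E₂, 𝒯₂, j₂, P₂, p₂, chart₂, i₂, hE₂, hft₂, hj₂, hP₂, hi₂, rfl⟩ := exists_bundle_of_isProjective h'
  obtain ⟨O₁, lam₁, hO₁⟩ := exists_isRelTwist hP₁ 1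
  obtain ⟨O₂, lam₂, hO₂⟩ := exists_isRelTwist hP₂ 1
  haveI := hi₁
  haveI := hi₂
  haveI : IsSeparated p₁ := EGA2Misc.isSeparated_of_isRelProj hP₁
  haveI : IsSeparated p₂ := EGA2Misc.isSeparated_of_isRelProj hP₂
  haveI := universallyClosed_bundle hE₁ hft₁ hj₁ hP₁
  haveI := universallyClosed_bundle hE₂ hft₂ hj₂ hP₂
  have hR := isProjective_segre hE₁ hj₁ hP₁ hO₁ hE₂ hj₂ hP₂ hO₂ (IsPullback.of_hasPullback p₁ p₂) hft₁ hft₂
  let m := pullback.map (i₁ ≫ p₁) (i₂ ≫ p₂) p₁ p₂ i₁ i₂ (𝟙 Z) (Category.comp_id _) (Category.comp_id _)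
  haveI : IsClosedImmersion m :=
    MorphismProperty.pullback_map (P := @IsClosedImmersion) hi₁ hi₂ (rfl : i₁ ≫ p₁ = i₁ ≫ p₁) (rfl : i₂ ≫ p₂ = i₂ ≫ p₂)
  have e : pullback.fst (i₁ ≫ p₁) (i₂ ≫ p₂) ≫ i₁ ≫ p₁ = m ≫ pullback.fst p₁ p₂ ≫ p₁ := by
    simp [m]
  rw [e]
  exact isProjective_closedImmersion_comp m hR

theorem isProjective_map {X X' Y Y' S : Scheme.{u}} (a : Y ⟶ S) (a' : Y' ⟶ S) (f : X ⟶ Y) (f' : X' ⟶ Y')
    (hf : RelProj.IsProjective f) (hf' : RelProj.IsProjective f') :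
    RelProj.IsProjective (pullback.map (f ≫ a) (f' ≫ a') a a' f f' (𝟙 S) (Category.comp_id (f ≫ a))
      (Category.comp_id (f' ≫ a'))) := by
  let π := pullback.fst a a'
  let π' := pullback.snd a a'
  let g := pullback.snd f π
  let g' := pullback.snd f' π'
  have hQ := isProjective_prod (isProjective_pullback hf π) (isProjective_pullback hf' π')
  let m := pullback.map (f ≫ a) (f' ≫ a') a a' f f' (𝟙 S) (Category.comp_id _) (Category.comp_id _)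
  have h1 : pullback.fst (f ≫ a) (f' ≫ a') ≫ f = m ≫ π := by simp [m, π]
  have h2 : pullback.snd (f ≫ a) (f' ≫ a') ≫ f' = m ≫ π' := by simp [m, π']
  let k : pullback (f ≫ a) (f' ≫ a') ⟶ pullback g g' :=
    pullback.lift (pullback.lift _ m h1) (pullback.lift _ m h2) (by simp [g, g'])
  have hc : (pullback.fst g g' ≫ pullback.fst f π) ≫ f ≫ a =
      (pullback.snd g g' ≫ pullback.fst f' π') ≫ f' ≫ a' := by
    simp only [Category.assoc, pullback.condition_assoc]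
    rw [show π ≫ a = π' ≫ a' from pullback.condition]
    exact pullback.condition_assoc (f := g) (g := g') _
  let l : pullback g g' ⟶ pullback (f ≫ a) (f' ≫ a') := pullback.lift _ _ hc
  have hlm : l ≫ m = pullback.fst g g' ≫ g := by
    refine pullback.hom_ext ?_ ?_
    · simp only [Category.assoc, l, m, π, g, pullback.lift_fst, pullback.lift_fst_assoc]
      rw [pullback.condition]
    · rw [show pullback.fst g g' ≫ g = pullback.snd g g' ≫ g' from pullback.condition]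
      simp [l, m, g', π', pullback.condition]
  let e : pullback (f ≫ a) (f' ≫ a') ≅ pullback g g' :=
    { hom := k
      inv := l
      hom_inv_id := by refine pullback.hom_ext ?_ ?_ <;> simp [k, l]
      inv_hom_id := by
        refine pullback.hom_ext (pullback.hom_ext ?_ ?_) (pullback.hom_ext ?_ ?_)
        · simp [k, l]
        · simpa [k] using hlm
        · simp [k, l]
        · simpa [k] using hlm.trans pullback.condition }
  have he : e.hom ≫ pullback.fst g g' ≫ g = m := by simp [e, k, g]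
  show RelProj.IsProjective m
  haveI : IsIso e.hom := Iso.isIso_hom e
  haveI : IsClosedImmersion e.hom := MorphismProperty.of_isIso @IsClosedImmersion e.hom
  rw [← he]
  exact isProjective_closedImmersion_comp e.hom hQ

end Groth.Agent.SymAlgRel
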