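import Groth.Agent.GenLocus.Rel
import Groth.Agent.GenLocus.AmplePull
import Groth.Agent.GenLocus.PullTensor
import Groth.Agent.ProjUPLib.RelAmpleBC

/-!
# Products of relatively ample modules
-/

set_option autoImplicit false
set_option backward.isDefEq.respectTransparency false
set_option backward.isDefEq.respectTransparency.types false
set_option linter.style.haveILetI false

noncomputable section

universe u

open CategoryTheory Limits AlgebraicGeometry Opposite TopologicalSpace
open Groth.Agent.GenLocus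

namespace Groth.Agent.SymAlgRel.AmpleProd

theorem isInvertible_of_isRelAmple {X Y : Scheme.{u}} {f : X ⟶ Y} {L : X.Modules}
    (h : RelAmple.IsRelAmple f L) : PicF.IsInvertible L := by
  refine isInvertible_of_forall_restrict fun x => ?_
  obtain ⟨V, hV, hxV, -⟩ := Opens.isBasis_iff_nbhd.1 Y.isBasis_affineOpens (show f x ∈ (⊤ : Y.Opens) from trivial)
  exact ⟨f ⁻¹ᵁ V, hxV, (h.2 ⟨V, hV⟩).1⟩

theorem isRelAmple_prod {Z A A' : Scheme.{u}} (g : A ⟶ Z) (g' : A' ⟶ Z) {L : A.Modules} {N : A'.Modules}
    (hL : RelAmple.IsRelAmple g L) (hN : RelAmple.IsRelAmple g' N) :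
    RelAmple.IsRelAmple (pullback.fst g g' ≫ g)
      (CohB1.tensorMod ((Scheme.Modules.pullback (pullback.fst g g')).obj L)
        ((Scheme.Modules.pullback (pullback.snd g g')).obj N)) := by
  haveI := hL.1
  haveI := hN.1
  refine ⟨inferInstance, fun V => ?_⟩
  haveI : IsAffine V.1 := V.2
  let B := g ⁻¹ᵁ V.1
  let B' := g' ⁻¹ᵁ V.1
  let μ : pullback (g ∣_ V.1) (g' ∣_ V.1) ⟶ pullback g g' :=
    pullback.map _ _ g g' B.ι B'.ι V.1.ι (morphismRestrict_ι g V.1) (morphismRestrict_ι g' V.1)
  let P := (pullback.fst g g' ≫ g) ⁻¹ᵁ V.1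
  have hr : Set.range μ = Set.range P.ι := by
    rw [Scheme.Pullback.range_map, Scheme.Opens.range_ι, Scheme.Opens.range_ι, Scheme.Opens.range_ι]
    refine Set.ext fun z => ⟨fun hz => hz.1, fun hz => ⟨hz, ?_⟩⟩
    show (pullback.snd g g' ≫ g') z ∈ V.1
    rw [← pullback.condition]
    exact hz
  let e : pullback (g ∣_ V.1) (g' ∣_ V.1) ≅ P.toScheme := IsOpenImmersion.isoOfRangeEq μ P.ι hr
  have he : e.inv ≫ μ = P.ι := IsOpenImmersion.isoOfRangeEq_inv_fac μ P.ι hr
  have hLi := isInvertible_of_isRelAmple hL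
  have hNi := isInvertible_of_isRelAmple hN
  let a : (Scheme.Modules.pullback μ).obj ((Scheme.Modules.pullback (pullback.fst g g')).obj L) ≅
      (Scheme.Modules.pullback (pullback.fst (g ∣_ V.1) (g' ∣_ V.1))).obj (L.restrict B.ι) :=
    (Scheme.Modules.pullbackComp _ _).app L ≪≫ (Scheme.Modules.pullbackCongr (pullback.lift_fst _ _ _)).app L ≪≫
      ((Scheme.Modules.pullbackComp _ _).app L).symm ≪≫
      ((Scheme.Modules.pullback _).mapIso ((Scheme.Modules.restrictFunctorIsoPullback _).app L).symm)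
  let b : (Scheme.Modules.pullback μ).obj ((Scheme.Modules.pullback (pullback.snd g g')).obj N) ≅
      (Scheme.Modules.pullback (pullback.snd (g ∣_ V.1) (g' ∣_ V.1))).obj (N.restrict B'.ι) :=
    (Scheme.Modules.pullbackComp _ _).app N ≪≫ (Scheme.Modules.pullbackCongr (pullback.lift_snd _ _ _)).app N ≪≫
      ((Scheme.Modules.pullbackComp _ _).app N).symm ≪≫
      ((Scheme.Modules.pullback _).mapIso ((Scheme.Modules.restrictFunctorIsoPullback _).app N).symm)
  let M := CohB1.tensorMod ((Scheme.Modules.pullback (pullback.fst g g')).obj L)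
    ((Scheme.Modules.pullback (pullback.snd g g')).obj N)
  have hQ := isAmple_of_iso (pullTensorIso μ (isInvertible_pullback _ hLi) (isInvertible_pullback _ hNi) ≪≫
    TensorMod.tensorIso a b).symm (isAmple_prod (g ∣_ V.1) (g' ∣_ V.1) (hL.2 V) (hN.2 V))
  refine isAmple_of_iso ?_ (isAmple_pullback_of_isAffineHom e.inv hQ)
  exact (Scheme.Modules.pullbackComp _ _).app M ≪≫ (Scheme.Modules.pullbackCongr he).app M ≪≫
    ((Scheme.Modules.restrictFunctorIsoPullback _).app M).symm

theorem isRelAmple_map {X X' Y Y' S : Scheme.{u}} (a : Y ⟶ S) (a' : Y' ⟶ S) (f : X ⟶ Y) (f' : X' ⟶ Y')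
    {L : X.Modules} {N : X'.Modules} (hL : RelAmple.IsRelAmple f L) (hN : RelAmple.IsRelAmple f' N) :
    RelAmple.IsRelAmple
      (pullback.map (f ≫ a) (f' ≫ a') a a' f f' (𝟙 S) (Category.comp_id (f ≫ a)) (Category.comp_id (f' ≫ a')))
      (CohB1.tensorMod ((Scheme.Modules.pullback (pullback.fst (f ≫ a) (f' ≫ a'))).obj L)
        ((Scheme.Modules.pullback (pullback.snd (f ≫ a) (f' ≫ a'))).obj N)) := by
  let π := pullback.fst a a'
  let π' := pullback.snd a a'
  let g := pullback.snd f π
  let g' := pullback.snd f' π'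
  have hA := ProjUPLib.isRelAmple_baseChange (IsPullback.of_hasPullback f π) hL
  have hA' := ProjUPLib.isRelAmple_baseChange (IsPullback.of_hasPullback f' π') hN
  have hQ := isRelAmple_prod g g' hA hA'
  let m := pullback.map (f ≫ a) (f' ≫ a') a a' f f' (𝟙 S) (Category.comp_id _) (Category.comp_id _)
  have h1 : pullback.fst (f ≫ a) (f' ≫ a') ≫ f = m ≫ π := by simp [m, π]
  have h2 : pullback.snd (f ≫ a) (f' ≫ a') ≫ f' = m ≫ π' := by simp [m, π']
  let k : pullback (f ≫ a) (f' ≫ a') ⟶ pullback g g' :=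
    pullback.lift (pullback.lift _ m h1) (pullback.lift _ m h2) (by simp [g, g'])
  have hc : (pullback.fst g g' ≫ pullback.fst f π) ≫ f ≫ a =
      (pullback.snd g g' ≫ pullback.fst f' π') ≫ f' ≫ a' := by
    simp only [Category.assoc, pullback.condition_assoc]
    rw [show π ≫ a = π' ≫ a' from pullback.condition]
    exact pullback.condition_assoc (f := g) (g := g') _
  let l : pullback g g' ⟶ pullback (f ≫ a) (f' ≫ a') := pullback.lift _ _ hc
  have hlm : l ≫ m = pullback.fst g g' ≫ g := by
    refine pullback.hom_ext ?_ ?_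
    · simp only [Category.assoc, l, m, π, g, pullback.lift_fst, pullback.lift_fst_assoc]
      rw [pullback.condition]
    · rw [show pullback.fst g g' ≫ g = pullback.snd g g' ≫ g' from pullback.condition]
      simp [l, m, g', π', pullback.condition]
  let e : pullback (f ≫ a) (f' ≫ a') ≅ pullback g g' :=
    { hom := k
      inv := l
      hom_inv_id := by refine pullback.hom_ext ?_ ?_ <;> simp [k, l]
      inv_hom_id := by
        refine pullback.hom_ext (pullback.hom_ext ?_ ?_) (pullback.hom_ext ?_ ?_)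
        · simp [k, l]
        · simpa [k] using hlm
        · simp [k, l]
        · simpa [k] using hlm.trans pullback.condition }
  haveI : IsIso e.hom := Iso.isIso_hom e
  have he : e.hom ≫ pullback.fst g g' ≫ g = m := by simp [e, k, g]
  have hsq : IsPullback e.hom m (pullback.fst g g' ≫ g) (𝟙 _) :=
    IsPullback.of_horiz_isIso ⟨by rw [he, Category.comp_id]⟩
  refine ProjUPLib.isRelAmple_iso ?_ (ProjUPLib.isRelAmple_baseChange hsq hQ)
  refine pullTensorIso e.hom ?_ ?_ ≪≫ TensorMod.tensorIso ?_ ?_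
  · exact isInvertible_pullback _ (isInvertible_pullback _ (isInvertible_of_isRelAmple hL))
  · exact isInvertible_pullback _ (isInvertible_pullback _ (isInvertible_of_isRelAmple hN))
  · exact (Scheme.Modules.pullback _).mapIso ((Scheme.Modules.pullbackComp _ _).app L) ≪≫
      (Scheme.Modules.pullbackComp _ _).app L ≪≫
      (Scheme.Modules.pullbackCongr (by simp [e, k])).app L
  · exact (Scheme.Modules.pullback _).mapIso ((Scheme.Modules.pullbackComp _ _).app N) ≪≫
      (Scheme.Modules.pullbackComp _ _).app N ≪≫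
      (Scheme.Modules.pullbackCongr (by simp [e, k])).app N

end Groth.Agent.SymAlgRel.AmpleProd
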