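import Mathlib
import Groth.Prelude.Def_Coh
import Groth.Prelude.Def_RelSpec
import Groth.Agent.QCohBase.CohProps
import Groth.Agent.FinLocFreeSections.Basic
import Groth.Agent.SymAlgRel.Exists

/-!
# Vector bundles: finite type, smoothness, closed immersions
-/

noncomputable section

universe u

open CategoryTheory CategoryTheory.Limits AlgebraicGeometry TopologicalSpace Opposite RelSpec

namespace Groth.Agent.SymAlgRel

section ring

variable {R : Type u} [CommRing R] {M : Type u} [AddCommGroup M] [Module R M]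

theorem finiteType_symmetricAlgebra [Module.Finite R M] :
    Algebra.FiniteType R (SymmetricAlgebra R M) := by
  classical
  obtain ⟨s, hs⟩ := Module.Finite.fg_top (R := R) (M := M)
  refine ⟨⟨s.image (SymmetricAlgebra.ι R M), ?_⟩⟩
  rw [eq_top_iff]
  intro x hx
  clear hx
  induction x using SymmetricAlgebra.induction with
  | algebraMap r => exact Subalgebra.algebraMap_mem _ r
  | ι m =>
    have hm : m ∈ Submodule.span R (s : Set M) := hs ▸ Submodule.mem_top
    rw [Finset.coe_image]
    have := Submodule.mem_map_of_mem (f := SymmetricAlgebra.ι R M) hm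
    rw [Submodule.map_span] at this
    exact Algebra.span_le_adjoin R _ this
  | mul a b ha hb => exact mul_mem ha hb
  | add a b ha hb => exact add_mem ha hb

theorem formallySmooth_symmetricAlgebra [Module.Projective R M] :
    Algebra.FormallySmooth R (SymmetricAlgebra R M) := by
  refine .of_comp_surjective fun C _ _ I _ f => ?_
  obtain ⟨g, hg⟩ := Module.projective_lifting_property (Ideal.Quotient.mkₐ R I).toLinearMap
    (f.toLinearMap ∘ₗ SymmetricAlgebra.ι R M) (Ideal.Quotient.mkₐ_surjective R I)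
  refine ⟨SymmetricAlgebra.lift g, SymmetricAlgebra.algHom_ext (LinearMap.ext fun m => ?_)⟩
  show Ideal.Quotient.mkₐ R I (SymmetricAlgebra.lift g (SymmetricAlgebra.ι R M m)) = f (SymmetricAlgebra.ι R M m)
  rw [SymmetricAlgebra.lift_ι_apply]
  exact congr($hg m)

theorem finitePresentation_symmetricAlgebra [Module.Finite R M] [Module.Projective R M] :
    Algebra.FinitePresentation R (SymmetricAlgebra R M) := by
  classical
  obtain ⟨n, p, i, -, -, hpi⟩ := Module.Finite.exists_comp_eq_id_of_projective R M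
  let b := Pi.basisFun R (Fin n)
  let P : SymmetricAlgebra R (Fin n → R) →ₐ[R] SymmetricAlgebra R M :=
    SymmetricAlgebra.lift (SymmetricAlgebra.ι R M ∘ₗ p)
  let Sx : SymmetricAlgebra R M →ₐ[R] SymmetricAlgebra R (Fin n → R) :=
    SymmetricAlgebra.lift (SymmetricAlgebra.ι R (Fin n → R) ∘ₗ i)
  have hPS : ∀ z, P (Sx z) = z := by
    intro z
    have : P.comp Sx = AlgHom.id R _ := SymmetricAlgebra.algHom_ext (LinearMap.ext fun m => by
      show P (Sx (SymmetricAlgebra.ι R M m)) = SymmetricAlgebra.ι R M m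
      simp only [P, Sx, SymmetricAlgebra.lift_ι_apply, LinearMap.comp_apply]
      exact congrArg _ congr($hpi m))
    exact congr($this z)
  haveI : Algebra.FinitePresentation R (SymmetricAlgebra R (Fin n → R)) :=
    Algebra.FinitePresentation.equiv (SymmetricAlgebra.equivMvPolynomial b).symm
  refine Algebra.FinitePresentation.of_surjective (f := P) (fun z => ⟨Sx z, hPS z⟩) ?_
  let x : Fin n → SymmetricAlgebra R (Fin n → R) := fun k => SymmetricAlgebra.ι R _ (b k)
  let J := Ideal.span (Set.range fun k => x k - Sx (P (x k)))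
  have hJ : (Ideal.Quotient.mkₐ R J).comp (Sx.comp P) = Ideal.Quotient.mkₐ R J := by
    refine SymmetricAlgebra.algHom_ext (b.ext fun k => ?_)
    show Ideal.Quotient.mk J (Sx (P (x k))) = Ideal.Quotient.mk J (x k)
    have hk : x k - Sx (P (x k)) ∈ J := Ideal.subset_span (Set.mem_range_self k)
    exact ((Ideal.Quotient.mk_eq_mk_iff_sub_mem _ _).2 hk).symm
  refine ⟨(Finset.univ.image fun k => x k - Sx (P (x k))), le_antisymm ?_ ?_⟩
  · rw [Finset.coe_image, Finset.coe_univ, Set.image_univ]
    refine Ideal.span_le.2 ?_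
    rintro _ ⟨k, rfl⟩
    show P (x k - Sx (P (x k))) = 0
    rw [map_sub, hPS, sub_self]
  · intro z hz
    have hz' : P z = 0 := hz
    have h1 : Ideal.Quotient.mk J z = 0 := by
      have := congr($hJ z)
      simp only [AlgHom.comp_apply, hz', map_zero] at this
      exact this.symm
    rw [Finset.coe_image, Finset.coe_univ, Set.image_univ]
    exact Ideal.Quotient.eq_zero_iff_mem.1 h1

theorem smooth_symmetricAlgebra [Module.Finite R M] [Module.Projective R M] :
    Algebra.Smooth R (SymmetricAlgebra R M) :=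
  ⟨formallySmooth_symmetricAlgebra, finitePresentation_symmetricAlgebra⟩

theorem symMap_surjective {M' : Type u} [AddCommGroup M'] [Module R M'] (l : M →+ M')
    (hl : ∀ (r : R) (m : M), l (r • m) = RingHom.id R r • l m) (h : Function.Surjective l) :
    Function.Surjective (symMap (RingHom.id R) l hl) := by
  intro x
  induction x using SymmetricAlgebra.induction with
  | algebraMap r => exact ⟨algebraMap R _ r, symMap_algebraMap _ _ hl r⟩
  | ι m =>
    obtain ⟨m₀, rfl⟩ := h m
    exact ⟨_, symMap_ι _ _ hl m₀⟩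
  | mul a b ha hb =>
    obtain ⟨a₀, rfl⟩ := ha
    obtain ⟨b₀, rfl⟩ := hb
    exact ⟨a₀ * b₀, map_mul _ _ _⟩
  | add a b ha hb =>
    obtain ⟨a₀, rfl⟩ := ha
    obtain ⟨b₀, rfl⟩ := hb
    exact ⟨a₀ + b₀, map_add _ _ _⟩

end ring

variable {S : Scheme.{u}}

/-- A property local on the target holds for `π` when it holds for the structure maps over affine opens. -/
theorem π_prop (A : QCAlg S) (Q : MorphismProperty Scheme.{u}) [IsZariskiLocalAtTarget Q]
    (h : ∀ (U : S.Opens) (_ : IsAffineOpen U), Q (Spec.map (A.str.app (op U)))) : Q A.π := by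
  refine IsZariskiLocalAtTarget.of_iSup_eq_top (P := Q) (fun U : S.affineOpens => U.1)
    (iSup_affineOpens_eq_top S) fun ⟨U, hU⟩ => ?_
  let e := (A.ι U hU).isoOpensRange ≪≫ Scheme.isoOfEq _ (A.π_preimage U hU).symm
  refine (MorphismProperty.cancel_left_of_respectsIso Q e.hom _).1 ?_
  have h1 : e.hom ≫ A.π ∣_ U = Spec.map (A.str.app (op U)) ≫ hU.isoSpec.inv := by
    rw [← cancel_mono U.ι, Category.assoc, morphismRestrict_ι, Category.assoc, hU.isoSpec_inv_ι]
    refine Eq.trans ?_ (A.ι_π U hU)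
    simp only [e, Iso.trans_hom, Category.assoc]
    exact (congrArg ((A.ι U hU).isoOpensRange.hom ≫ ·) (Scheme.isoOfEq_hom_ι_assoc _ _ _)).trans
      (Scheme.Hom.isoOpensRange_hom_ι_assoc _ _)
  rw [h1]
  exact (MorphismProperty.cancel_right_of_respectsIso Q _ hU.isoSpec.inv).2 (h U hU)

/-- A property local on the target holds for `specMap` when it holds over affine opens. -/
theorem specMap_prop {A B : QCAlg S} (ψ : A ⟶ B) (Q : MorphismProperty Scheme.{u}) [IsZariskiLocalAtTarget Q]
    (h : ∀ (U : S.Opens) (_ : IsAffineOpen U), Q (Spec.map (ψ.hom.app (op U)))) : Q (QCAlg.specMap ψ) := by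
  refine IsZariskiLocalAtTarget.of_iSup_eq_top (P := Q) (fun U : S.affineOpens => A.π ⁻¹ᵁ U.1) ?_
    fun ⟨U, hU⟩ => ?_
  · rw [← A.π.preimage_iSup, iSup_affineOpens_eq_top, A.π.preimage_top]
  have hpre : (B.ι U hU).opensRange = QCAlg.specMap ψ ⁻¹ᵁ (A.π ⁻¹ᵁ U) := by
    rw [← Scheme.Hom.comp_preimage, QCAlg.specMap_π, B.π_preimage U hU]
  let e := (B.ι U hU).isoOpensRange ≪≫ Scheme.isoOfEq _ hpre
  let a := (A.ι U hU).isoOpensRange ≪≫ Scheme.isoOfEq _ (A.π_preimage U hU).symm
  refine (MorphismProperty.cancel_left_of_respectsIso Q e.hom _).1 ?_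
  have h1 : e.hom ≫ QCAlg.specMap ψ ∣_ (A.π ⁻¹ᵁ U) = Spec.map (ψ.hom.app (op U)) ≫ a.hom := by
    have ha : a.hom ≫ (A.π ⁻¹ᵁ U).ι = A.ι U hU := by
      simp only [a, Iso.trans_hom, Category.assoc, Scheme.isoOfEq_hom_ι, Scheme.Hom.isoOpensRange_hom_ι]
    rw [← cancel_mono (A.π ⁻¹ᵁ U).ι, Category.assoc, morphismRestrict_ι, Category.assoc, ha]
    refine Eq.trans ?_ (QCAlg.ι_specMap U hU ψ)
    simp only [e, Iso.trans_hom, Category.assoc]
    exact (congrArg ((B.ι U hU).isoOpensRange.hom ≫ ·) (Scheme.isoOfEq_hom_ι_assoc _ _ _)).trans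
      (Scheme.Hom.isoOpensRange_hom_ι_assoc _ _)
  rw [h1]
  exact (MorphismProperty.cancel_right_of_respectsIso Q _ a.hom).2 (h U hU)

variable (E : S.Modules) {A : QCAlg S} {j : E ⟶ A.toModule} (hA : IsSymAlg E A j) (hE : Coh.IsQCoh E)

include hA hE in
/-- Sections over an affine open, as an algebra isomorphic to the symmetric algebra. -/
theorem exists_algEquiv (U : S.Opens) (hU : IsAffineOpen U) :
    letI := (A.str.app (op U)).hom.toAlgebra
    Nonempty (SymmetricAlgebra Γ(S, U) Γ(E, U) ≃ₐ[Γ(S, U)] A.presheaf.obj (op U)) := by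
  letI := (A.str.app (op U)).hom.toAlgebra
  exact ⟨AlgEquiv.ofBijective ({ symLift E A j U with commutes' := symLift_algebraMap E A j U } :
    SymmetricAlgebra Γ(S, U) Γ(E, U) →ₐ[Γ(S, U)] A.presheaf.obj (op U)) (bijective_symLift E hA hE U hU)⟩

include hA in
theorem locallyOfFiniteType_π (hE : Coh.IsCoh E) : LocallyOfFiniteType A.π := by
  refine π_prop A @LocallyOfFiniteType fun U hU => ?_
  rw [HasRingHomProperty.Spec_iff (P := @LocallyOfFiniteType)]
  letI := (A.str.app (op U)).hom.toAlgebra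
  obtain ⟨e⟩ := exists_algEquiv E hA hE.1 U hU
  haveI := QCohBase.isFiniteType_toFinite hE hU
  haveI := finiteType_symmetricAlgebra (R := Γ(S, U)) (M := Γ(E, U))
  exact (inferInstance : Algebra.FiniteType Γ(S, U) (SymmetricAlgebra Γ(S, U) Γ(E, U))).equiv e

include hA hE in
theorem smooth_π (hlf : FlatMod.IsFinLocFree E) : Smooth A.π := by
  haveI : E.IsQuasicoherent := hE
  refine π_prop A @Smooth fun U hU => ?_
  rw [HasRingHomProperty.Spec_iff (P := @Smooth)]
  letI := (A.str.app (op U)).hom.toAlgebra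
  obtain ⟨e⟩ := exists_algEquiv E hA hE U hU
  obtain ⟨h1, h2⟩ := (FinLocFreeSections.isFinLocFree_iff E).1 hlf U hU
  haveI := h1
  haveI := h2
  haveI := smooth_symmetricAlgebra (R := Γ(S, U)) (M := Γ(E, U))
  exact RingHom.smooth_algebraMap.2 (Algebra.Smooth.of_equiv e)

include hA hE in
theorem isClosedImmersion_specMap {F : S.Modules} (hF : Coh.IsQCoh F) (u : E ⟶ F) [Epi u]
    {B : QCAlg S} {k : F ⟶ B.toModule} (hB : IsSymAlg F B k)
    (ψ : A ⟶ B) (hψ : j ≫ QCAlg.Hom.toModuleMap ψ = u ≫ k) : IsClosedImmersion (QCAlg.specMap ψ) := by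
  refine specMap_prop ψ @IsClosedImmersion fun U hU => IsClosedImmersion.spec_of_surjective _ ?_
  let l : Γ(E, U) →+ Γ(F, U) := (u.app U).hom
  have hl : ∀ (r : Γ(S, U)) (m : Γ(E, U)), l (r • m) = RingHom.id _ r • l m := fun r m =>
    map_smul (u.val.app (op U)).hom r m
  have hsq : (ψ.hom.app (op U)).hom.comp (symLift E A j U) =
      (symLift F B k U).comp (symMap (RingHom.id _) l hl) := by
    refine ringHom_ext (fun r => ?_) fun m => ?_
    · rw [RingHom.comp_apply, RingHom.comp_apply, symMap_algebraMap, symLift_algebraMap, symLift_algebraMap]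
      exact ConcreteCategory.congr_hom (NatTrans.congr_app ψ.comm (op U)) r
    · rw [RingHom.comp_apply, RingHom.comp_apply, symMap_ι, symLift_ι, symLift_ι]
      exact ConcreteCategory.congr_hom (congrArg (fun t : E ⟶ B.toModule => t.app U) hψ) m
  intro b
  obtain ⟨z, hz⟩ := ((bijective_symLift F hB hF U hU).2.comp
    (symMap_surjective l hl (QCohBase.app_surjective_of_epi u hE hF hU))) b
  exact ⟨symLift E A j U z, (congr($hsq z)).trans hz⟩

end Groth.Agent.SymAlgRel
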