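import Groth.Agent.SymAlgRel.SegreComp
import Groth.Agent.QCohExt.Basic
import Groth.Agent.QCohBase.CohRestrict
import Groth.Agent.TensorMod.Restrict

/-! High twists by a relatively very ample module are quotients of pullbacks. -/

set_option autoImplicit false
set_option backward.isDefEq.respectTransparency false
set_option backward.isDefEq.respectTransparency.types false
set_option linter.style.haveILetI false
set_option maxHeartbeats 1000000

noncomputable section

universe u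

open CategoryTheory Limits AlgebraicGeometry Opposite TopologicalSpace
open Groth.Agent.QCohBase Groth.Agent.GenLocus

namespace Groth.Agent.SymAlgRel

theorem hom_eq_zero_of_sect {X : Scheme.{u}} {L : X.Modules} (c : Coh.structureModule X ⟶ L)
    (h : sect c ⊤ = 0) : c = 0 := by
  refine Scheme.Modules.hom_ext _ _ fun U => ?_
  ext r
  show c.app U r = 0
  erw [app_eq_smul, ← mres_sect c (le_top : U ≤ ⊤), h, map_zero, smul_zero]

theorem eq_zero_of_restrict {X : Scheme.{u}} {M N : X.Modules} (h : M ⟶ N) {κ : Type u} (V : κ → X.Opens)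
    (hcov : ∀ x : X, ∃ k, x ∈ V k) (h0 : ∀ k, (Scheme.Modules.restrictFunctor (V k).ι).map h = 0) : h = 0 := by
  refine Scheme.Modules.hom_ext _ _ fun U => ?_
  ext t
  show h.app U t = 0
  refine QCohBase.eq_of_iSup_le N (fun k => U ⊓ V k) (fun k => inf_le_left) (fun x hx => ?_) _ _ fun k => ?_
  · obtain ⟨k, hk⟩ := hcov x
    exact Opens.mem_iSup.2 ⟨k, hx, hk⟩
  rw [map_zero, app_nat]
  have e : (V k).ι ''ᵁ ((V k).ι ⁻¹ᵁ U) = U ⊓ V k := by
    rw [Scheme.Hom.image_preimage_eq_opensRange_inf, Scheme.Opens.opensRange_ι, inf_comm]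
  have h1 : h.app ((V k).ι ''ᵁ ((V k).ι ⁻¹ᵁ U)) = 0 :=
    congrArg (fun φ => Scheme.Modules.Hom.app φ ((V k).ι ⁻¹ᵁ U)) (h0 k)
  rw [e] at h1
  exact ConcreteCategory.congr_hom h1 _

theorem eventually_epi_pullback {Y Z : Scheme.{u}}
    (hZ : (CompactSpace Z ∧ Z.IsSeparated) ∨ TopologicalSpace.NoetherianSpace Z) (g : Y ⟶ Z) [QuasiCompact g]
    (K : Y.Modules) (hK : PicF.IsInvertible K) (hKva : RelProj.IsRelVeryAmple g K)
    (E : Y.Modules) (hE : Coh.IsQCoh E) (hEft : CohB1.IsFT E) :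
    ∃ m₀ : ℕ, ∀ m : ℕ, m₀ ≤ m →
      ∃ (F : Z.Modules) (φ : (Scheme.Modules.pullback g).obj F ⟶ CohB1.tensorMod E (CohB1.tensorPow K m)),
        Coh.IsQCoh F ∧ CohB1.IsFT F ∧ Epi φ := by
  classical
  haveI : CompactSpace Z := by
    rcases hZ with ⟨h, -⟩ | h
    · exact h
    · exact NoetherianSpace.compactSpace (α := Z)
  haveI := isSeparated_of_isRelVeryAmple hKva
  haveI : QuasiSeparatedSpace Z := by
    rcases hZ with ⟨-, h⟩ | h
    · haveI := h; infer_instance
    · haveI := h; infer_instance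
  obtain ⟨κ, _, U, hU, hcov⟩ := QCohBase.exists_finite_affine_cover' Z
  have hamp := fun k => (S5721.result g K hK hKva).2 ⟨U k, hU k⟩
  have hEc : ∀ k, Coh.IsCoh (E.restrict (g ⁻¹ᵁ U k).ι) := fun k =>
    isCoh_restrict _ (⟨hE, hEft⟩ : Coh.IsCoh E)
  obtain ⟨m₀, hm₀⟩ := Filter.eventually_atTop.1 (Filter.eventually_all.2 fun k : κ =>
    ProjUPLib.eventually_exists_epi_free (hamp k) (hEc k))
  refine ⟨m₀, fun m hm => ?_⟩
  set M := CohB1.tensorMod E (CohB1.tensorPow K m) with hM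
  have hMq : M.IsQuasicoherent := DCohBridge.isQCoh_cohb1TensorMod hE
    (TensorMod.isQCoh_of_isInvertible (TensorMod.isInvertible_tensorPow hK m))
  haveI := hMq
  choose r p hp using hm₀ m hm
  let α : ∀ k, M.restrict (g ⁻¹ᵁ U k).ι ≅
      CohB1.tensorMod (E.restrict (g ⁻¹ᵁ U k).ι) (CohB1.tensorPow (K.restrict (g ⁻¹ᵁ U k).ι) m) := fun k =>
    TensorMod.restrictTensorIso _ _ _ ≪≫ TensorMod.tensorIso (Iso.refl _) (TensorMod.restrictPowIso _ K m)
  have htop : ∀ k, (g ⁻¹ᵁ U k).ι ''ᵁ ⊤ = g ⁻¹ᵁ U k := fun k => Scheme.Opens.ι_image_top _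
  let s : ∀ j : Σ k, Fin (r k), Γ(M, g ⁻¹ᵁ U j.1) := fun j => mres M (htop j.1).ge
    ((M.restrictAppIso (g ⁻¹ᵁ U j.1).ι ⊤).hom
      (sect (Sigma.ι (fun _ : Fin (r j.1) => Coh.structureModule _) j.2 ≫ p j.1 ≫ (α j.1).inv) ⊤))
  cases nonempty_fintype κ
  let e := (Fintype.equivFin (Σ k, Fin (r k))).symm
  haveI : ((Scheme.Modules.pushforward g).obj M).IsQuasicoherent := isQuasicoherent_pushforward M g
  obtain ⟨J, i, -, hJq, hJF, hJs⟩ := QCohExt.exists_sub_through ((Scheme.Modules.pushforward g).obj M)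
    (Fintype.card (Σ k, Fin (r k))) (fun n => U (e n).1) (fun n => hU _) (fun n => s (e n))
  let adj := Scheme.Modules.pullbackPushforwardAdjunction g
  refine ⟨J, (adj.homEquiv J M).symm i, hJq, QCohExt.isFT_of_FTOn_top J hJF,
    Preadditive.epi_of_cancel_zero _ fun {P} h hh => ?_⟩
  have hi : i ≫ (Scheme.Modules.pushforward g).map h = 0 := by
    have h1 := congrArg (adj.homEquiv J P) hh
    rw [adj.homEquiv_naturality_right, Equiv.apply_symm_apply] at h1
    rw [h1, adj.homEquiv_unit, Functor.map_zero, comp_zero]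
  refine eq_zero_of_restrict h (fun k => g ⁻¹ᵁ U k) (fun y => hcov (g y)) fun k => ?_
  have hs : ∀ a : Fin (r k), h.app (g ⁻¹ᵁ U k) (s ⟨k, a⟩) = 0 := fun a => by
    obtain ⟨n, hn⟩ := e.surjective ⟨k, a⟩
    have hmem := hJs n
    rw [hn] at hmem
    obtain ⟨b, hb⟩ := hmem
    rw [← hb]
    exact ConcreteCategory.congr_hom (congrArg (fun φ => Scheme.Modules.Hom.app φ (U k)) hi) b
  haveI := hp k
  rw [← cancel_epi (p k ≫ (α k).inv), comp_zero]
  refine Sigma.hom_ext _ _ fun a => ?_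
  rw [comp_zero]
  refine hom_eq_zero_of_sect _ ?_
  have h2 := hs a
  simp only [s] at h2
  rw [← app_nat] at h2
  have h3 := congrArg (mres P (htop k).le) h2
  rw [mres_mres, map_zero] at h3
  refine Eq.trans ?_ h3
  exact (ConcreteCategory.congr_hom (P.presheaf.map_id (op ((g ⁻¹ᵁ U k).ι ''ᵁ ⊤))) _).symm

end Groth.Agent.SymAlgRel
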