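import Mathlib
import Groth.Prelude.Def_RelProj3
import Groth.Agent.EGA2Misc.ProjTN
import Groth.Agent.GrModLib.SelfTwist

/-!
# A module on a relative Proj with quasi-coherent charts is quasi-coherent
-/

set_option autoImplicit false

noncomputable section

universe u

open CategoryTheory AlgebraicGeometry TopologicalSpace Opposite

namespace Groth.Agent.SymAlgRel

theorem isQCoh_of_relCharts {S P : Scheme.{u}} {𝒮 : RelProj.QCGrAlg S} {p : P ⟶ S}
    {chart : ∀ (U : S.Opens) (hU : IsAffineOpen U), (((p ⁻¹ᵁ U : P.Opens) : Scheme.{u}) ≅ Proj (𝒮.deg U hU))}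
    (L : P.Modules) (T : ∀ (U : S.Opens) (hU : IsAffineOpen U), (Proj (𝒮.deg U hU)).Modules)
    (hT : ∀ U hU, (T U hU).IsQuasicoherent)
    (lam : ∀ (U : S.Opens) (hU : IsAffineOpen U),
      L ⟶ (Scheme.Modules.pushforward (RelProj.emb p chart U hU)).obj (T U hU))
    (hbij : ∀ (U : S.Opens) (hU : IsAffineOpen U) (W : P.Opens), W ≤ p ⁻¹ᵁ U →
      Function.Bijective ((lam U hU).app W)) : Coh.IsQCoh L := by
  refine GrModLib.isQCoh_of_charts L fun y => ?_
  obtain ⟨⟨U, hU⟩, hy⟩ := TopologicalSpace.Opens.mem_iSup.1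
    ((AlgebraicGeometry.iSup_affineOpens_eq_top S).ge (Set.mem_univ (p.base y)))
  have h := EGA2Misc.opensRange_emb p chart U hU
  exact ⟨_, RelProj.emb p chart U hU, inferInstance, T U hU, lam U hU, (SetLike.ext_iff.mp h y).2 hy, hT U hU,
    fun W hW => hbij U hU W (hW.trans h.le)⟩

end Groth.Agent.SymAlgRel

end
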