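import Mathlib
import Groth.Prelude.Def_RelSpec2
import Groth.Prelude.Def_RelProj2
import Groth.Agent.SymAlgRel.Exists
import Groth.Agent.SymAlgRel.GrSym

/-!
# The symmetric algebra of `E ⊞ O`
-/

set_option autoImplicit false
set_option backward.isDefEq.respectTransparency false
set_option backward.isDefEq.respectTransparency.types false

noncomputable section

universe u

open CategoryTheory CategoryTheory.Limits AlgebraicGeometry TopologicalSpace Opposite RelSpec
open Groth.Agent.QCohBase

namespace Groth.Agent.SymAlgRel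

variable {Y : Scheme.{u}} {𝒮 𝒮h : RelProj.QCGrAlg Y} {ι : 𝒮.toQCAlg ⟶ 𝒮h.toQCAlg}
  {z : 𝒮h.presheaf.obj (op ⊤)}

theorem poly_hom_ext (hz : RelCone.IsPolyOver 𝒮 𝒮h ι z) {U : Y.Opens} (hU : IsAffineOpen U) {R : Type u}
    [CommRing R] {a b : 𝒮h.presheaf.obj (op U) →+* R}
    (h1 : ∀ x, a ((ι.hom.app (op U)).hom x) = b ((ι.hom.app (op U)).hom x))
    (h2 : a (RelCone.restrictTop 𝒮h z U) = b (RelCone.restrictTop 𝒮h z U)) : a = b := by
  refine RingHom.ext fun y => ?_
  obtain ⟨p, rfl⟩ := (hz.bij U hU).2 y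
  exact RingHom.congr_fun (Polynomial.ringHom_ext (f := a.comp _) (g := b.comp _)
    (fun x => by simpa using h1 x) (by simpa using h2)) p

theorem unit_hom_app {N : Y.Modules} (g : Coh.structureModule Y ⟶ N) (U : Y.Opens) (r : Γ(Y, U)) :
    g.app U r = r • g.app U (1 : Γ(Y, U)) := by
  refine Eq.trans ?_ (map_smul (g.val.app (op U)).hom r (1 : Γ(Y, U)))
  exact congrArg (g.app U) (mul_one r).symm

theorem isGrSymAlg_biprod (E : Y.Modules) (j : E ⟶ 𝒮.toModule) (hS : RelProj.IsGrSymAlg E 𝒮 j)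
    (hz : RelCone.IsPolyOver 𝒮 𝒮h ι z) (k : Coh.structureModule Y ⟶ 𝒮h.toModule)
    (hk : ∀ U : Y.Opens, (k.app U) (1 : Γ(Y, U)) = RelCone.restrictTop 𝒮h z U) :
    RelProj.IsGrSymAlg (E ⊞ Coh.structureModule Y) 𝒮h
      (biprod.desc (j ≫ RelSpec.QCAlg.Hom.toModuleMap ι) k) := by
  refine ⟨fun B Φ => ?_, fun U hU x => ?_⟩
  · obtain ⟨ψ₀, hψ₀, hψ₀u⟩ := hS.1 B (biprod.inl ≫ Φ)
    let g := biprod.inr ≫ Φ
    let bb : ∀ U : Y.Opens, B.presheaf.obj (op U) := fun U => g.app U (1 : Γ(Y, U))
    have hbb : ∀ {U V : Y.Opens} (i : op U ⟶ op V), (B.presheaf.map i).hom (bb U) = bb V := fun {U V} i => by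
      refine (ConcreteCategory.congr_hom (g.mapPresheaf.naturality i) (1 : Γ(Y, U))).symm.trans ?_
      exact congrArg (g.app V) (map_one (Y.presheaf.map i).hom)
    have hzz : ∀ {U V : Y.Opens} (i : op U ⟶ op V),
        (𝒮h.presheaf.map i).hom (RelCone.restrictTop 𝒮h z U) = RelCone.restrictTop 𝒮h z V := fun {U V} i => by
      rw [← hk, ← hk]
      refine (ConcreteCategory.congr_hom (k.mapPresheaf.naturality i) (1 : Γ(Y, U))).symm.trans ?_
      exact congrArg (k.app V) (map_one (Y.presheaf.map i).hom)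
    let L : ∀ U : Y.AffineZariskiSite, 𝒮h.presheaf.obj (op U.toOpens) →+* B.presheaf.obj (op U.toOpens) := fun U =>
      (Polynomial.eval₂RingHom (ψ₀.hom.app (op U.toOpens)).hom (bb U.toOpens)).comp
        (hz.polyEquiv U.toOpens U.2).symm.toRingHom
    have hLι : ∀ U x, L U ((ι.hom.app (op U.toOpens)).hom x) = (ψ₀.hom.app (op U.toOpens)).hom x := fun U x => by
      have : (hz.polyEquiv U.toOpens U.2).symm ((ι.hom.app (op U.toOpens)).hom x) = Polynomial.C x := by
        rw [RingEquiv.symm_apply_eq, hz.polyEquiv_apply, Polynomial.eval₂_C]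
      show Polynomial.eval₂ _ _ ((hz.polyEquiv U.toOpens U.2).symm _) = _
      rw [this, Polynomial.eval₂_C]
    have hLz : ∀ U, L U (RelCone.restrictTop 𝒮h z U.toOpens) = bb U.toOpens := fun U => by
      have : (hz.polyEquiv U.toOpens U.2).symm (RelCone.restrictTop 𝒮h z U.toOpens) = Polynomial.X := by
        rw [RingEquiv.symm_apply_eq, hz.polyEquiv_apply, Polynomial.eval₂_X]
      show Polynomial.eval₂ _ _ ((hz.polyEquiv U.toOpens U.2).symm _) = _
      rw [this, Polynomial.eval₂_X]
    let q : (site Y).op ⋙ 𝒮h.presheaf ⟶ (site Y).op ⋙ B.presheaf :=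
      { app := fun U => CommRingCat.ofHom (L U.unop)
        naturality := fun U V i => by
          refine CommRingCat.hom_ext (poly_hom_ext hz U.unop.2 (fun x => ?_) ?_)
          · show L V.unop ((𝒮h.presheaf.map ((site Y).map i.unop).op).hom ((ι.hom.app _).hom x)) =
              (B.presheaf.map ((site Y).map i.unop).op).hom (L U.unop ((ι.hom.app _).hom x))
            rw [hLι]
            refine (congrArg (L V.unop) (ConcreteCategory.congr_hom (ι.hom.naturality ((site Y).map i.unop).op) x).symm).trans ?_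
            exact (hLι V.unop _).trans (ConcreteCategory.congr_hom (ψ₀.hom.naturality ((site Y).map i.unop).op) x)
          · show L V.unop ((𝒮h.presheaf.map ((site Y).map i.unop).op).hom _) =
              (B.presheaf.map ((site Y).map i.unop).op).hom (L U.unop _)
            rw [hLz]
            exact (congrArg (L V.unop) (hzz _)).trans ((hLz V.unop).trans (hbb _).symm) }
    have hq : ∀ (U : Y.AffineZariskiSite) (x), (extend B q).app (op U.toOpens) x = L U x := fun U x =>
      ConcreteCategory.congr_hom (extend_app B q U) x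
    let ψ : 𝒮h.toQCAlg ⟶ B := ⟨extend B q, presheaf_ext B fun U => CommRingCat.hom_ext (RingHom.ext fun r => by
      show (extend B q).app (op U.toOpens) ((𝒮h.str.app (op U.toOpens)).hom r) = _
      rw [hq]
      refine (congrArg (L U) (ConcreteCategory.congr_hom (NatTrans.congr_app ι.comm (op U.toOpens)) r).symm).trans ?_
      exact (hLι U _).trans (ConcreteCategory.congr_hom (NatTrans.congr_app ψ₀.comm (op U.toOpens)) r))⟩
    have hιψ : ι ≫ ψ = ψ₀ := QCAlg.hom_ext (presheaf_ext B fun U => CommRingCat.hom_ext (RingHom.ext fun x =>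
      (hq U _).trans (hLι U x)))
    refine ⟨ψ, biprod.hom_ext' _ _ ?_ ?_, fun ψ' hψ' => ?_⟩
    · rw [biprod.inl_desc_assoc, Category.assoc]
      refine Eq.trans ?_ hψ₀
      exact congrArg (fun t => j ≫ QCAlg.Hom.toModuleMap t) hιψ
    · rw [biprod.inr_desc_assoc]
      refine modules_hom_ext fun U => ?_
      ext r
      show (k ≫ QCAlg.Hom.toModuleMap ψ).app U.toOpens r = g.app U.toOpens r
      rw [unit_hom_app, unit_hom_app g]
      congr 1
      show (extend B q).app (op U.toOpens) (k.app U.toOpens (1 : Γ(Y, U.toOpens))) = _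
      rw [hk, hq]
      exact hLz U
    · have h1 : ι ≫ ψ' = ψ₀ := by
        refine hψ₀u _ ?_
        show j ≫ QCAlg.Hom.toModuleMap ι ≫ QCAlg.Hom.toModuleMap ψ' = _
        rw [← hψ', biprod.inl_desc_assoc, Category.assoc]
      refine QCAlg.hom_ext (presheaf_ext B fun U => CommRingCat.hom_ext (poly_hom_ext hz U.2 (fun x => ?_) ?_))
      · refine Eq.trans ?_ ((hq U _).trans (hLι U x)).symm
        exact ConcreteCategory.congr_hom (NatTrans.congr_app (congrArg QCAlg.Hom.hom h1) (op U.toOpens)) x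
      · refine Eq.trans ?_ ((hq U _).trans (hLz U)).symm
        show _ = (biprod.inr ≫ Φ).app U.toOpens (1 : Γ(Y, U.toOpens))
        rw [← hψ', biprod.inr_desc_assoc, ← hk]
        rfl
  · have hx : x = (biprod.inl : E ⟶ E ⊞ Coh.structureModule Y).app U ((biprod.fst : E ⊞ Coh.structureModule Y ⟶ E).app U x) +
        (biprod.inr : Coh.structureModule Y ⟶ E ⊞ Coh.structureModule Y).app U
          ((biprod.snd : E ⊞ Coh.structureModule Y ⟶ Coh.structureModule Y).app U x) :=
      (ConcreteCategory.congr_hom (congrArg (fun t : E ⊞ Coh.structureModule Y ⟶ E ⊞ Coh.structureModule Y =>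
        t.app U) biprod.total) x).symm
    rw [hx, map_add]
    refine add_mem ?_ ?_
    · show (biprod.inl ≫ biprod.desc (j ≫ RelSpec.QCAlg.Hom.toModuleMap ι) k).app U
        ((biprod.fst : E ⊞ Coh.structureModule Y ⟶ E).app U x) ∈ _
      rw [biprod.inl_desc]
      exact hz.graded U hU 1 _ (hS.2 U hU _)
    · show (biprod.inr ≫ biprod.desc (j ≫ RelSpec.QCAlg.Hom.toModuleMap ι) k).app U
        ((biprod.snd : E ⊞ Coh.structureModule Y ⟶ Coh.structureModule Y).app U x) ∈ _
      rw [biprod.inr_desc, unit_hom_app, hk]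
      have := SetLike.mul_mem_graded (𝒮h.str_mem U hU ((biprod.snd : E ⊞ Coh.structureModule Y ⟶
        Coh.structureModule Y).app U x)) (hz.deg_z U hU)
      rwa [zero_add] at this

end Groth.Agent.SymAlgRel
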