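import Mathlib
import Groth.Prelude.Def_RelSpec2
import Groth.Prelude.Def_RelProj2
import Groth.Agent.EGA2G.Cone
import Groth.Agent.EGA2Misc.ProjQMap
import Groth.Agent.SymAlgRel.TwistComap
import Groth.Agent.SymAlgRel.SymPoly
import Groth.Agent.SymAlgRel.VeronDeg

/-!
# The cone at finite distance and the locus at infinity
-/

set_option autoImplicit false
set_option backward.isDefEq.respectTransparency false
set_option backward.isDefEq.respectTransparency.types false

noncomputable section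

universe u

open CategoryTheory CategoryTheory.Limits AlgebraicGeometry TopologicalSpace Opposite RelSpec
open Groth.Agent.QCohBase
open scoped HomogeneousIdeal

namespace Groth.Agent.SymAlgRel

variable {Y : Scheme.{u}} {𝒮 𝒮h : RelProj.QCGrAlg Y} {ι : 𝒮.toQCAlg ⟶ 𝒮h.toQCAlg}
  {z : 𝒮h.presheaf.obj (op ⊤)}

theorem bijective_awayZ (hz : RelCone.IsPolyOver 𝒮 𝒮h ι z) (U : Y.Opens) (hU : IsAffineOpen U) :
    Function.Bijective (hz.awayZToBase U hU) := by
  letI : Algebra (𝒮.presheaf.obj (op U)) (𝒮h.presheaf.obj (op U)) := (ι.hom.app (op U)).hom.toAlgebra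
  let z' := RelCone.restrictTop 𝒮h z U
  have hz' : z' ∈ 𝒮h.deg U hU 1 := hz.deg_z U hU
  let φ : VeronDeg.intGr (𝒮.deg U hU) →+*ᵍ VeronDeg.intGr (𝒮h.deg U hU) :=
    { (ι.hom.app (op U)).hom with map_mem := fun hx => hz.graded U hU _ _ hx }
  have hψ : ∀ (n : ℕ) (b : 𝒮h.presheaf.obj (op U)) (hb : b ∈ 𝒮h.deg U hU (n • 1)),
      hz.awayZToBase U hU (HomogeneousLocalization.Away.mk (𝒮h.deg U hU) hz' n b hb) = hz.evalOne U hU b :=
    fun n b hb => hz.awayZToBase_of_val U hU _ b n (HomogeneousLocalization.Away.val_mk (𝒮h.deg U hU) n hz' b hb)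
  refine ⟨(injective_iff_map_eq_zero _).2 fun x hx => ?_, fun a => ?_⟩
  · obtain ⟨n, b, hb, rfl⟩ := HomogeneousLocalization.Away.mk_surjective (𝒮h.deg U hU) hz' x
    rw [hψ] at hx
    have he : Polynomial.aeval (R := 𝒮.presheaf.obj (op U)) z' ((hz.polyEquiv U hU).symm b) = b :=
      (hz.polyEquiv U hU).apply_symm_apply b
    have h0 : (hz.polyEquiv U hU).symm b = 0 :=
      EGA2G.cone_eq_zero φ (fun _ => rfl) (z := z') hz' (hz.bij U hU) (n := n • 1) (by rw [he]; exact hb) hx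
    have hb0 : b = 0 := by rw [← he, h0, map_zero]
    apply HomogeneousLocalization.val_injective
    simp [HomogeneousLocalization.Away.val_mk, hb0, Localization.mk_zero]
  · induction a using DirectSum.Decomposition.inductionOn (𝒮.deg U hU) with
    | zero => exact ⟨0, map_zero _⟩
    | @homogeneous i m =>
      refine ⟨HomogeneousLocalization.Away.mk (𝒮h.deg U hU) hz' i ((ι.hom.app (op U)).hom m.1)
        (by rw [smul_eq_mul, mul_one]; exact hz.graded U hU i _ m.2), ?_⟩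
      rw [hψ, hz.evalOne_ι]
    | add a b ha hb =>
      obtain ⟨x, rfl⟩ := ha
      obtain ⟨y, rfl⟩ := hb
      exact ⟨x + y, map_add _ x y⟩

variable {PC P : Scheme.{u}} {pC : PC ⟶ Y}
  {chartC : ∀ (U : Y.Opens) (hU : IsAffineOpen U), (((pC ⁻¹ᵁ U : PC.Opens) : Scheme.{u}) ≅ Proj (𝒮h.deg U hU))}

/-- `z` does not vanish at the point `w` of the chart; independent of the chart. -/
theorem z_mem_iff (hPC : RelProj.IsRelProj 𝒮h pC chartC) {U U' : Y.Opens} (hU : IsAffineOpen U)
    (hU' : IsAffineOpen U') {w : Proj (𝒮h.deg U hU)} {w' : Proj (𝒮h.deg U' hU')}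
    (h : RelProj.emb pC chartC U hU w = RelProj.emb pC chartC U' hU' w') :
    w ∈ Proj.basicOpen (𝒮h.deg U hU) (RelCone.restrictTop 𝒮h z U) ↔
      w' ∈ Proj.basicOpen (𝒮h.deg U' hU') (RelCone.restrictTop 𝒮h z U') := by
  have key : ∀ (U : Y.Opens) (hU : IsAffineOpen U) (r : Γ(Y, U)) (w : Proj (𝒮h.deg U hU))
      (v : Proj (𝒮h.deg (Y.basicOpen r) (hU.basicOpen r))),
      RelProj.emb pC chartC (Y.basicOpen r) (hU.basicOpen r) v = RelProj.emb pC chartC U hU w →
      (v ∈ Proj.basicOpen (𝒮h.deg _ (hU.basicOpen r)) (RelCone.restrictTop 𝒮h z (Y.basicOpen r)) ↔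
        w ∈ Proj.basicOpen (𝒮h.deg U hU) (RelCone.restrictTop 𝒮h z U)) := by
    intro U hU r w v hv
    rw [EGA2Misc.emb_res hPC U hU r] at hv
    have hw : Proj.map (𝒮h.res hU (hU.basicOpen r) (Y.basicOpen_le r)) (𝒮h.irrelevant_le_map U hU r) v = w :=
      (RelProj.emb pC chartC U hU).isOpenEmbedding.injective hv
    subst hw
    have e : RelCone.restrictTop 𝒮h z (Y.basicOpen r) =
        (𝒮h.presheaf.map (homOfLE (Y.basicOpen_le r)).op).hom (RelCone.restrictTop 𝒮h z U) := by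
      show (𝒮h.presheaf.map _).hom z = (𝒮h.presheaf.map _).hom ((𝒮h.presheaf.map _).hom z)
      rw [← ConcreteCategory.comp_apply, ← Functor.map_comp]
      rfl
    rw [e]
    rfl
  have hpU : ∀ (U : Y.Opens) (hU : IsAffineOpen U) (w : Proj (𝒮h.deg U hU)),
      pC (RelProj.emb pC chartC U hU w) ∈ U := fun U hU w => by
    have : RelProj.emb pC chartC U hU w ∈ (RelProj.emb pC chartC U hU).opensRange := ⟨w, rfl⟩
    rwa [EGA2Misc.opensRange_emb] at this
  obtain ⟨r, r', hrr, hyr⟩ := exists_basicOpen_le_affine_inter hU hU' _ ⟨hpU U hU w, h ▸ hpU U' hU' w'⟩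
  have hx : RelProj.emb pC chartC U hU w ∈ (RelProj.emb pC chartC (Y.basicOpen r) (hU.basicOpen r)).opensRange := by
    rw [EGA2Misc.opensRange_emb]; exact hyr
  have hx' : RelProj.emb pC chartC U' hU' w' ∈
      (RelProj.emb pC chartC (Y.basicOpen r') (hU'.basicOpen r')).opensRange := by
    rw [EGA2Misc.opensRange_emb, ← h]; exact hrr ▸ hyr
  obtain ⟨v, hv⟩ := hx
  obtain ⟨v', hv'⟩ := hx'
  rw [← key U hU r w v hv, ← key U' hU' r' w' v' hv']
  have gen : ∀ (A B : Y.Opens) (hA : IsAffineOpen A) (hB : IsAffineOpen B) (e : A = B)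
      (a : Proj (𝒮h.deg A hA)) (b : Proj (𝒮h.deg B hB)),
      RelProj.emb pC chartC A hA a = RelProj.emb pC chartC B hB b →
      (a ∈ Proj.basicOpen (𝒮h.deg A hA) (RelCone.restrictTop 𝒮h z A) ↔
        b ∈ Proj.basicOpen (𝒮h.deg B hB) (RelCone.restrictTop 𝒮h z B)) := by
    rintro A B hA hB rfl a b hab
    rw [(RelProj.emb pC chartC A hA).isOpenEmbedding.injective hab]
  exact gen _ _ _ _ hrr v v' (hv.trans (h.trans hv'.symm))

theorem range_coneImm (hz : RelCone.IsPolyOver 𝒮 𝒮h ι z) (hPC : RelProj.IsRelProj 𝒮h pC chartC)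
    (i : 𝒮.toQCAlg.spec ⟶ PC) (hi : RelCone.IsConeImm 𝒮 hz pC chartC i)
    (θ : 𝒮h.toQCAlg ⟶ 𝒮.toQCAlg) (hθ : RelProj.IsGradedHom θ) (hιθ : ι ≫ θ = 𝟙 _)
    (hθz : (θ.hom.app (op ⊤)).hom z = 0)
    (hirr : ∀ (U : Y.Opens) (hU : IsAffineOpen U),
      (𝒮.deg U hU)₊ ≤ ((𝒮h.deg U hU)₊).map (RelProj.gradedHomAt θ hθ U hU))
    {p : P ⟶ Y}
    {chart : ∀ (U : Y.Opens) (hU : IsAffineOpen U), (((p ⁻¹ᵁ U : P.Opens) : Scheme.{u}) ≅ Proj (𝒮.deg U hU))}
    {j : P ⟶ PC} (hj : RelProj.IsRelProjMap θ hθ hirr chartC chart j) :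
    Set.range i.base = (Set.range j.base)ᶜ := by
  have hzU : ∀ U : Y.Opens, (θ.hom.app (op U)).hom (RelCone.restrictTop 𝒮h z U) = 0 := fun U => by
    refine (ConcreteCategory.congr_hom (θ.hom.naturality (homOfLE le_top).op) z).trans ?_
    show (𝒮.presheaf.map _).hom ((θ.hom.app (op ⊤)).hom z) = 0
    rw [hθz, map_zero]
  refine Set.ext fun x => ⟨?_, fun hx => ?_⟩
  · rintro ⟨c, rfl⟩ ⟨q, hq⟩
    obtain ⟨U, hU, hcU, -⟩ := Opens.isBasis_iff_nbhd.1 Y.isBasis_affineOpens
      (Opens.mem_top (𝒮.toQCAlg.π c))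
    have hc : c ∈ (𝒮.toQCAlg.ι U hU).opensRange := by rw [← QCAlg.π_preimage]; exact hcU
    obtain ⟨t, rfl⟩ := hc
    obtain ⟨U', hU', q', hq'⟩ := exists_affine_emb p chart q
    subst hq'
    rw [emb_projMap hj ⟨U', hU'⟩, ← Scheme.Hom.comp_apply, hi U hU] at hq
    have h2 := (z_mem_iff (z := z) hPC hU hU' hq.symm).1 ?_
    · refine h2 ?_
      show (θ.hom.app (op U')).hom (RelCone.restrictTop 𝒮h z U') ∈ q'.asHomogeneousIdeal
      rw [hzU]
      exact zero_mem _
    · rw [← Proj.opensRange_awayι (𝒮h.deg U hU) _ (hz.deg_z U hU) one_pos]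
      exact ⟨_, rfl⟩
  · obtain ⟨U, hU, w, rfl⟩ := exists_affine_emb pC chartC x
    by_cases hw : w ∈ Proj.basicOpen (𝒮h.deg U hU) (RelCone.restrictTop 𝒮h z U)
    · rw [← Proj.opensRange_awayι (𝒮h.deg U hU) _ (hz.deg_z U hU) one_pos] at hw
      obtain ⟨s, hs⟩ := hw
      let e : CommRingCat.of (HomogeneousLocalization.Away (𝒮h.deg U hU) (RelCone.restrictTop 𝒮h z U)) ⟶
        𝒮.presheaf.obj (op U) := CommRingCat.ofHom (hz.awayZToBase U hU)
      haveI : IsIso e := (ConcreteCategory.isIso_iff_bijective e).2 (bijective_awayZ hz U hU)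
      refine ⟨𝒮.toQCAlg.ι U hU (inv (Spec.map e) s), ?_⟩
      rw [← Scheme.Hom.comp_apply, hi U hU, Scheme.Hom.comp_apply, Scheme.Hom.comp_apply,
        ← Scheme.Hom.comp_apply (inv (Spec.map e)), IsIso.inv_hom_id]
      exact congrArg _ hs
    · refine absurd ?_ hx
      have hzw : RelCone.restrictTop 𝒮h z U ∈ w.asHomogeneousIdeal := not_not.1 hw
      have hιθU : ∀ a, (θ.hom.app (op U)).hom ((ι.hom.app (op U)).hom a) = a := fun a =>
        ConcreteCategory.congr_hom (NatTrans.congr_app (congrArg QCAlg.Hom.hom hιθ) (op U)) a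
      have hdiff : ∀ y, y - (ι.hom.app (op U)).hom ((θ.hom.app (op U)).hom y) ∈ w.asHomogeneousIdeal.toIdeal := fun y => by
        obtain ⟨Q, rfl⟩ := (hz.bij U hU).2 y
        induction Q using Polynomial.induction_on' with
        | add a b ha hb =>
          simp only [map_add]
          rw [add_sub_add_comm]
          exact add_mem ha hb
        | monomial n a =>
          simp only [Polynomial.coe_eval₂RingHom, Polynomial.eval₂_monomial]
          cases n with
          | zero => simp [hιθU]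
          | succ n =>
            simp only [map_mul, map_pow, hzU, zero_pow (Nat.succ_ne_zero n), mul_zero, map_zero, sub_zero]
            exact Ideal.mul_mem_left _ _ (Ideal.pow_mem_of_mem _ hzw _ n.succ_pos)
      let g := RelProj.gradedHomAt ι hz.graded U hU
      have hmem : ∀ y, y ∈ w.asHomogeneousIdeal.toIdeal ↔
          (ι.hom.app (op U)).hom ((θ.hom.app (op U)).hom y) ∈ w.asHomogeneousIdeal.toIdeal := fun y =>
        ⟨fun h => by have := sub_mem h (hdiff y); rwa [sub_sub_cancel] at this,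
          fun h => by have := add_mem (hdiff y) h; rwa [sub_add_cancel] at this⟩
      let q : Proj (𝒮.deg U hU) :=
        ⟨w.asHomogeneousIdeal.comap g, Ideal.IsPrime.comap _ (hK := w.isPrime), fun hle => w.not_irrelevant_le (by
          refine (HomogeneousIdeal.irrelevant_le _).2 fun n hn y hy => (hmem y).2 ?_
          exact hle (HomogeneousIdeal.mem_irrelevant_of_mem _ hn (hθ U hU n y hy)))⟩
      refine ⟨RelProj.emb p chart U hU q, ?_⟩
      rw [emb_projMap hj ⟨U, hU⟩]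
      congr 1
      refine ProjectiveSpectrum.ext (HomogeneousIdeal.ext (SetLike.ext fun y => ?_))
      exact (hmem y).symm

end Groth.Agent.SymAlgRel
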