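import Groth.Agent.SymAlgRel.ConeComplement
import Groth.Agent.EGA2Misc.ProjTN

/-!
# The pointed projective cone is the complement of the vertex
-/

set_option autoImplicit false
set_option backward.isDefEq.respectTransparency false
set_option backward.isDefEq.respectTransparency.types false

noncomputable section

universe u

open CategoryTheory CategoryTheory.Limits AlgebraicGeometry TopologicalSpace Opposite RelSpec
open Groth.Agent.QCohBase
open scoped HomogeneousIdeal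

namespace Groth.Agent.SymAlgRel

variable {Y : Scheme.{u}} {𝒮 𝒮h : RelProj.QCGrAlg Y} {ι : 𝒮.toQCAlg ⟶ 𝒮h.toQCAlg}
  {z : 𝒮h.presheaf.obj (op ⊤)}

theorem awayι_mem_iff (hz : RelCone.IsPolyOver 𝒮 𝒮h ι z) (U : Y.Opens) (hU : IsAffineOpen U)
    (P : PrimeSpectrum (𝒮.presheaf.obj (op U))) {d : ℕ} (hd : 0 < d) {s : 𝒮.presheaf.obj (op U)}
    (hs : s ∈ 𝒮.deg U hU d) :
    (ι.hom.app (op U)).hom s ∈ (Proj.awayι (𝒮h.deg U hU) (RelCone.restrictTop 𝒮h z U) (hz.deg_z U hU) one_pos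
      (Spec.map (CommRingCat.ofHom (hz.awayZToBase U hU)) P)).asHomogeneousIdeal ↔ s ∈ P.asIdeal := by
  have hg := hz.graded U hU d s hs
  have h := SetLike.ext_iff.1 (Proj.awayι_preimage_basicOpen (𝒮h.deg U hU) (hz.deg_z U hU) one_pos hg hd)
    (Spec.map (CommRingCat.ofHom (hz.awayZToBase U hU)) P)
  refine not_iff_not.1 (h.trans (Iff.trans ?_ Iff.rfl))
  show ¬ (hz.awayZToBase U hU) (HomogeneousLocalization.Away.isLocalizationElem (hz.deg_z U hU) hg) ∈ P.asIdeal ↔ _
  rw [hz.awayZToBase_of_val U hU _ ((ι.hom.app (op U)).hom s ^ 1) d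
    (HomogeneousLocalization.Away.val_mk (𝒮h.deg U hU) d (hz.deg_z U hU) _ _), pow_one, hz.evalOne_ι]

theorem eq_compl_range_vertex (h0 : RelCone.StrZeroBij 𝒮) (hz : RelCone.IsPolyOver 𝒮 𝒮h ι z)
    {PC : Scheme.{u}} {pC : PC ⟶ Y}
    {chartC : ∀ (U : Y.Opens) (hU : IsAffineOpen U), (((pC ⁻¹ᵁ U : PC.Opens) : Scheme.{u}) ≅ Proj (𝒮h.deg U hU))}
    (hPC : RelProj.IsRelProj 𝒮h pC chartC) (aug : 𝒮.toQCAlg ⟶ RelSpec.QCAlg.unit Y)
    (haug : RelCone.IsAugmentation 𝒮 aug) (ε : Y ⟶ 𝒮.toQCAlg.spec) (hε : RelCone.IsVertex 𝒮 aug ε)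
    (i : 𝒮.toQCAlg.spec ⟶ PC) (hi : RelCone.IsConeImm 𝒮 hz pC chartC i) :
    ((RelCone.pointedProjCone 𝒮 hz pC chartC : PC.Opens) : Set PC) = (Set.range (ε ≫ i).base)ᶜ := by
  have hfs : ∀ (U : Y.Opens) (hU : IsAffineOpen U) (u : Spec Γ(Y, U)),
      (ε ≫ i) (hU.fromSpec u) = RelProj.emb pC chartC U hU (Proj.awayι (𝒮h.deg U hU) (RelCone.restrictTop 𝒮h z U)
        (hz.deg_z U hU) one_pos (Spec.map (CommRingCat.ofHom (hz.awayZToBase U hU))
          (Spec.map (aug.hom.app (op U)) u))) := fun U hU u => by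
    have h := congrArg (· ≫ i) (hε.chart U hU)
    simp only [Category.assoc, hi U hU] at h
    exact congrArg (fun t : Spec Γ(Y, U) ⟶ PC => t u) h
  have hfz : ∀ (U : Y.Opens) (hU : IsAffineOpen U) (u : Spec Γ(Y, U)),
      pC ((ε ≫ i) (hU.fromSpec u)) = hU.fromSpec u := fun U hU u => by
    have h : Spec.map (aug.hom.app (op U)) ≫ Spec.map (CommRingCat.ofHom (hz.awayZToBase U hU)) ≫
        Proj.awayι (𝒮h.deg U hU) (RelCone.restrictTop 𝒮h z U) (hz.deg_z U hU) one_pos ≫
          Proj.toSpecZero (𝒮h.deg U hU) ≫ Spec.map (𝒮h.strZero U hU) = 𝟙 _ := by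
      rw [Proj.awayι_toSpecZero_assoc, ← Spec.map_comp, ← Spec.map_comp, ← Spec.map_comp, ← Spec.map_id]
      congr 1
      refine CommRingCat.hom_ext (RingHom.ext fun r => ?_)
      show (aug.hom.app (op U)).hom (hz.awayZToBase U hU _) = r
      rw [hz.awayZToBase_of_val U hU _ ((𝒮h.str.app (op U)).hom r) 0 (by
        simp only [pow_zero]; rfl)]
      rw [show (𝒮h.str.app (op U)).hom r = (ι.hom.app (op U)).hom ((𝒮.str.app (op U)).hom r) from
        (ConcreteCategory.congr_hom (NatTrans.congr_app ι.comm (op U)) r).symm, hz.evalOne_ι]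
      exact ConcreteCategory.congr_hom (NatTrans.congr_app aug.comm (op U)) r
    rw [hfs]
    have := congrArg (· ≫ hU.fromSpec) h
    simp only [Category.assoc, Category.id_comp, ← EGA2Misc.emb_comp hPC U hU] at this
    exact congrArg (fun t : Spec Γ(Y, U) ⟶ Y => t u) this
  refine Set.ext fun x => ⟨?_, fun hx => ?_⟩
  · intro hx
    rintro ⟨y, rfl⟩
    obtain ⟨⟨U, hU⟩, w, hw, hwx⟩ := Opens.mem_iSup.1 hx
    obtain ⟨U₀, hU₀, hy, -⟩ := Opens.isBasis_iff_nbhd.1 Y.isBasis_affineOpens (Opens.mem_top y)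
    have hyy : pC ((ε ≫ i) y) = y := by
      obtain ⟨u₀, rfl⟩ : y ∈ hU₀.fromSpec.opensRange := by rwa [hU₀.opensRange_fromSpec]
      exact hfz U₀ hU₀ u₀
    have hyU : y ∈ U := by
      rw [← hyy]
      have : (ε ≫ i) y ∈ (RelProj.emb pC chartC U hU).opensRange := ⟨w, hwx⟩
      rwa [EGA2Misc.opensRange_emb] at this
    obtain ⟨u, rfl⟩ : y ∈ hU.fromSpec.opensRange := by rwa [hU.opensRange_fromSpec]
    obtain ⟨f, hf, hfw⟩ := (RelCone.mem_domOpen _ _).1 hw
    have := (RelProj.emb pC chartC U hU).isOpenEmbedding.injective (hwx.trans (hfs U hU u))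
    subst this
    have hle : (HomogeneousIdeal.irrelevant (𝒮.deg U hU)) ≤
        HomogeneousIdeal.comap (RelProj.gradedHomAt ι hz.graded U hU) (Proj.awayι (𝒮h.deg U hU)
          (RelCone.restrictTop 𝒮h z U) (hz.deg_z U hU) one_pos (Spec.map (CommRingCat.ofHom (hz.awayZToBase U hU))
            (Spec.map (aug.hom.app (op U)) u))).asHomogeneousIdeal := (HomogeneousIdeal.irrelevant_le _).2 fun n hn s hs => ?_
    exact hfw (hle hf)
    refine (awayι_mem_iff hz U hU _ hn hs).2 ?_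
    show (aug.hom.app (op U)).hom s ∈ u.asIdeal
    obtain ⟨m, rfl⟩ := Nat.exists_eq_succ_of_ne_zero hn.ne'
    rw [haug U hU m s hs]
    exact zero_mem _
  · obtain ⟨U, hU, w, rfl⟩ := exists_affine_emb pC chartC x
    refine Opens.mem_iSup.2 ⟨⟨U, hU⟩, w, not_not.1 fun hdom => hx ?_, rfl⟩
    have hsub : ∀ f ∈ (HomogeneousIdeal.irrelevant (𝒮.deg U hU)).toIdeal,
        (ι.hom.app (op U)).hom f ∈ w.asHomogeneousIdeal.toIdeal := fun f hf => not_not.1 fun h =>
      hdom ((RelCone.mem_domOpen _ _).2 ⟨f, hf, h⟩)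
    have hzw : w ∈ Proj.basicOpen (𝒮h.deg U hU) (RelCone.restrictTop 𝒮h z U) := fun hzw => w.not_irrelevant_le (by
      refine (HomogeneousIdeal.irrelevant_le _).2 fun n hn y hy => ?_
      letI : Algebra (𝒮.presheaf.obj (op U)) (𝒮h.presheaf.obj (op U)) := (ι.hom.app (op U)).hom.toAlgebra
      let φ : VeronDeg.intGr (𝒮.deg U hU) →+*ᵍ VeronDeg.intGr (𝒮h.deg U hU) :=
        { (ι.hom.app (op U)).hom with map_mem := fun hx => hz.graded U hU _ _ hx }
      obtain ⟨Q, rfl⟩ := (hz.bij U hU).2 y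
      have h0' := EGA2G.cone_coeff_mem φ (fun _ => rfl) (z := RelCone.restrictTop 𝒮h z U) (hz.deg_z U hU)
        (hz.bij U hU) (p := Q) (n := n) hy 0
      rw [if_pos (Nat.zero_le n), Nat.sub_zero] at h0'
      show Q.eval₂ _ _ ∈ w.asHomogeneousIdeal.toIdeal
      rw [← Q.X_mul_divX_add]
      simp only [Polynomial.eval₂_add, Polynomial.eval₂_mul, Polynomial.eval₂_X, Polynomial.eval₂_C]
      exact add_mem (Ideal.mul_mem_right _ _ hzw) (hsub _ (HomogeneousIdeal.mem_irrelevant_of_mem _ hn h0')))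
    rw [← Proj.opensRange_awayι (𝒮h.deg U hU) _ (hz.deg_z U hU) one_pos] at hzw
    obtain ⟨Q, rfl⟩ := hzw
    let e : CommRingCat.of (HomogeneousLocalization.Away (𝒮h.deg U hU) (RelCone.restrictTop 𝒮h z U)) ⟶
      𝒮.presheaf.obj (op U) := CommRingCat.ofHom (hz.awayZToBase U hU)
    haveI : IsIso e := (ConcreteCategory.isIso_iff_bijective e).2 (bijective_awayZ hz U hU)
    obtain ⟨P, rfl⟩ : ∃ P, Spec.map e P = Q :=
      ⟨inv (Spec.map e) Q, by rw [← Scheme.Hom.comp_apply, IsIso.inv_hom_id]; rfl⟩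
    refine ⟨hU.fromSpec (Spec.map (𝒮.str.app (op U)) P), ?_⟩
    rw [hfs]
    congr 3
    refine PrimeSpectrum.ext (SetLike.ext fun s => ?_)
    show (𝒮.str.app (op U)).hom ((aug.hom.app (op U)).hom s) ∈ P.asIdeal ↔ s ∈ P.asIdeal
    have hd : (𝒮.str.app (op U)).hom ((aug.hom.app (op U)).hom s) - s ∈ P.asIdeal := by
      induction s using DirectSum.Decomposition.inductionOn (𝒮.deg U hU) with
      | zero => simp
      | @homogeneous m s =>
        cases m with
        | zero =>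
          obtain ⟨r, hr⟩ := (h0 U hU).2 s
          have hr' : (𝒮.str.app (op U)).hom r = s.1 := congrArg Subtype.val hr
          have ha : (aug.hom.app (op U)).hom ((𝒮.str.app (op U)).hom r) = r :=
            ConcreteCategory.congr_hom (NatTrans.congr_app aug.comm (op U)) r
          rw [← hr', ha, sub_self]
          exact zero_mem _
        | succ m =>
          rw [haug U hU m s.1 s.2, map_zero, zero_sub, neg_mem_iff]
          exact (awayι_mem_iff hz U hU P m.succ_pos s.2).1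
            (hsub _ (HomogeneousIdeal.mem_irrelevant_of_mem _ m.succ_pos s.2))
      | add a b ha hb =>
        rw [map_add, map_add, add_sub_add_comm]
        exact add_mem ha hb
    exact ⟨fun h => by have := sub_mem h hd; rwa [sub_sub_cancel] at this,
      fun h => by have := add_mem hd h; rwa [sub_add_cancel] at this⟩

end Groth.Agent.SymAlgRel
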