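import Mathlib
import Groth.Prelude.Def_RelProj3
import Groth.Agent.RelTildeEx.Basic
import Groth.Agent.SymAlgRel.TwistLoc

/-!
# Modules attached to graded modules along a localization at an element of degree zero
-/

set_option autoImplicit false
set_option backward.isDefEq.respectTransparency false
set_option backward.isDefEq.respectTransparency.types false

noncomputable section

universe u

open CategoryTheory AlgebraicGeometry TopologicalSpace Opposite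
open scoped HomogeneousIdeal

namespace Groth.Agent.SymAlgRel.TildeLoc

variable {A σ : Type u} [CommRing A] [SetLike σ A] [AddSubgroupClass σ A] {𝒜 : ℕ → σ} [GradedRing 𝒜]
variable {M τ : Type u} [AddCommGroup M] [Module A M] [SetLike τ M] [AddSubgroupClass τ M] {ℳ : ℕ → τ}
  [SetLike.GradedSMul 𝒜 ℳ] [DirectSum.Decomposition ℳ]
variable {B σ' : Type u} [CommRing B] [SetLike σ' B] [AddSubgroupClass σ' B] {ℬ : ℕ → σ'} [GradedRing ℬ]
variable {N τ' : Type u} [AddCommGroup N] [Module B N] [SetLike τ' N] [AddSubgroupClass τ' N] {𝒩 : ℕ → τ'}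
  [SetLike.GradedSMul ℬ 𝒩] [DirectSum.Decomposition 𝒩]
variable (ψ : 𝒜 →+*ᵍ ℬ) (g : A) (hg : g ∈ 𝒜 0) (hu : IsUnit (ψ g))
  (hsurj : ∀ b : B, ∃ (k : ℕ) (a : A), b * ψ g ^ k = ψ a)
variable (v : M →ₛₗ[ψ.toRingHom] N) (hv : ∀ (i : ℕ) (m : M), m ∈ ℳ i → v m ∈ 𝒩 i)
  (hsurjv : ∀ x : N, ∃ (k : ℕ) (m : M), ψ g ^ k • x = v m)
  (hinjv : ∀ m : M, v m = 0 → ∃ k : ℕ, g ^ k • m = 0)

include hg hsurjv hv in
theorem exists_homog {i : ℕ} {x : N} (hx : x ∈ 𝒩 i) : ∃ (k : ℕ) (m : M), m ∈ ℳ i ∧ ψ g ^ k • x = v m := by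
  classical
  obtain ⟨k, m, h⟩ := hsurjv x
  refine ⟨k, DirectSum.decompose ℳ m i, SetLike.coe_mem _, ?_⟩
  have hg' : ψ g ∈ ℬ 0 := ψ.map_mem hg
  have hxi : v m ∈ 𝒩 i := by
    rw [← h]
    have := SetLike.GradedSMul.smul_mem (A := ℬ) (B := 𝒩) (SetLike.pow_mem_graded k hg') hx
    simpa using this
  have e := RelTildeEx.map_decompose ℳ 𝒩 v.toAddMonoidHom hv m i
  rw [LinearMap.toAddMonoidHom_coe, DirectSum.decompose_of_mem_same _ hxi] at e
  rw [← e, h]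

variable (hψ : ℬ₊ ≤ (𝒜₊).map ψ)

include hu hsurj hinjv in
theorem locModMap_injective (y : ProjectiveSpectrum ℬ) : Function.Injective (GrMod.locModMap ψ hψ v y) := by
  rw [injective_iff_map_eq_zero]
  intro q
  induction q using LocalizedModule.induction_on with
  | h m s =>
    intro h
    rw [GrMod.locModMap_mk, ← LocalizedModule.zero_mk (1 : y.asHomogeneousIdeal.toIdeal.primeCompl),
      LocalizedModule.mk_eq] at h
    obtain ⟨⟨t, ht⟩, hta⟩ := h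
    simp only [Submonoid.smul_def, OneMemClass.coe_one, one_smul, smul_zero] at hta
    obtain ⟨k, c, hc⟩ := hsurj t
    have hca : v (c • m) = 0 := by
      rw [LinearMap.map_smulₛₗ]
      show ψ c • v m = 0
      rw [← hc, mul_comm, mul_smul, hta, smul_zero]
    obtain ⟨l, hl⟩ := hinjv _ hca
    rw [← LocalizedModule.zero_mk (1 : (ProjectiveSpectrum.comap ψ hψ y).asHomogeneousIdeal.toIdeal.primeCompl),
      LocalizedModule.mk_eq]
    refine ⟨⟨g ^ l * c, fun hmem => ?_⟩, by simp [Submonoid.smul_def, mul_smul, hl]⟩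
    rcases (ProjectiveSpectrum.comap ψ hψ y).isPrime.mem_or_mem hmem with h1 | h1
    · exact TwistLoc.not_mem_comap ψ g hu hψ y ((ProjectiveSpectrum.comap ψ hψ y).isPrime.mem_of_pow_mem _ h1)
    · have h2 : t * ψ g ^ k ∈ y.asHomogeneousIdeal.toIdeal := hc ▸ h1
      rcases y.isPrime.mem_or_mem h2 with h3 | h3
      · exact ht h3
      · exact y.isPrime.ne_top (Ideal.eq_top_of_isUnit_mem _ h3 (hu.pow k))

include hg hu hsurj hsurjv hinjv in
theorem comap_app_bijective [IsOpenImmersion (Proj.map ψ hψ)] (n : ℤ) (W : (Proj 𝒜).Opens)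
    (hW : W ≤ (Proj.map ψ hψ).opensRange) : Function.Bijective ((GrMod.comap ψ hψ v hv n).app W) := by
  classical
  have inj := locModMap_injective ψ g hu hsurj v hinjv hψ
  refine ⟨fun s t h => ?_, fun t => ?_⟩
  · refine Subtype.ext (funext fun x => Subtype.ext ?_)
    obtain ⟨x, hx⟩ := x
    obtain ⟨y, hy⟩ := hW hx
    obtain rfl : ProjectiveSpectrum.comap ψ hψ y = x := hy
    refine inj y ?_
    refine (GrMod.comap_app_val ψ hψ v hv n W s ⟨y, hx⟩).symm.trans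
      (Eq.trans ?_ (GrMod.comap_app_val ψ hψ v hv n W t ⟨y, hx⟩))
    rw [show (GrMod.comap ψ hψ v hv n).app W s = (GrMod.comap ψ hψ v hv n).app W t from h]
  let f : Proj ℬ ⟶ Proj 𝒜 := Proj.map ψ hψ
  let tw : TopCat.Sheaf AddCommGrpCat.{u} (Proj 𝒜) :=
    ⟨(GrMod.tilde 𝒜 ℳ n).presheaf, (GrMod.tilde 𝒜 ℳ n).isSheaf⟩
  have loc : ∀ y : (f ⁻¹ᵁ W : (Proj ℬ).Opens), ∃ (O : (Proj 𝒜).Opens) (h : O ≤ W)
      (σ : GrMod.sect 𝒜 ℳ n (op O)), f.base y.1 ∈ O ∧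
        ∀ (z : ProjectiveSpectrum ℬ) (hz : ProjectiveSpectrum.comap ψ hψ z ∈ O),
          GrMod.locModMap ψ hψ v z (σ.1 ⟨_, hz⟩).1 = GrMod.val (V := f ⁻¹ᵁ W) t ⟨z, h hz⟩ := by
    intro y
    obtain ⟨O, hO, hyO, i, j, b, hb, c, hc, hcn, hij, hfr⟩ := RelTildeEx.exists_frac t y
    let O' : (Proj 𝒜).Opens := f ''ᵁ O
    have hpre : ∀ z, ProjectiveSpectrum.comap ψ hψ z ∈ O' → z ∈ O := fun z hz => by
      obtain ⟨z', hz', hzz⟩ := hz
      exact (f.isOpenEmbedding.injective hzz) ▸ hz'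
    have hOW : O' ≤ W := by
      rintro _ ⟨z, hz, rfl⟩
      exact hO hz
    obtain ⟨l, d, hd, hdc⟩ := TwistLoc.exists_homog ψ g hg hsurj hc
    rcases hij with hij | hb0
    · obtain ⟨k, a, ha, hab⟩ := exists_homog ψ g hg v hv hsurjv hb
      have hgl : ∀ m, g ^ m ∈ 𝒜 0 := fun m => by simpa using SetLike.pow_mem_graded m hg
      have hden : ∀ x : O', d * g ^ k ∉ x.1.asHomogeneousIdeal := by
        rintro ⟨_, z, hz, rfl⟩ hmem
        have h1 : ψ (d * g ^ k) ∈ z.asHomogeneousIdeal.toIdeal := hmem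
        rw [map_mul, map_pow, ← hdc, mul_assoc, ← pow_add] at h1
        rcases z.isPrime.mem_or_mem h1 with h2 | h2
        · exact hcn ⟨z, hz⟩ h2
        · exact z.isPrime.ne_top (Ideal.eq_top_of_isUnit_mem _ h2 (hu.pow _))
      have hnum : g ^ l • a ∈ ℳ i := by
        simpa using SetLike.GradedSMul.smul_mem (A := 𝒜) (B := ℳ) (hgl l) ha
      have hden' : d * g ^ k ∈ 𝒜 j := by simpa using SetLike.mul_mem_graded hd (hgl k)
      refine ⟨O', hOW, RelTildeEx.frac 𝒜 ℳ n O' (g ^ l • a) hnum (d * g ^ k) hden' hden (Or.inl hij),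
        ⟨y.1, hyO, rfl⟩, fun z hz => ?_⟩
      refine (GrMod.locModMap_mk ψ hψ v z _ _).trans (Eq.trans ?_ (hfr ⟨z, hpre z hz⟩).symm)
      rw [LocalizedModule.mk_eq]
      refine ⟨1, ?_⟩
      have hv1 : v (g ^ l • a) = ψ g ^ l • v a := by rw [LinearMap.map_smulₛₗ]; simp [map_pow]
      simp only [Submonoid.smul_def, OneMemClass.coe_one, one_smul, hv1, ← hab, map_mul, map_pow, ← hdc, smul_smul]
      congr 1
      ring
    · refine ⟨O', hOW, 0, ⟨y.1, hyO, rfl⟩, fun z hz => ?_⟩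
      refine (map_zero _).trans (Eq.trans ?_ (hfr ⟨z, hpre z hz⟩).symm)
      rw [hb0, LocalizedModule.zero_mk]
  choose O hOW σ hmem hσ using loc
  have hcover : W ≤ iSup O := fun x hx => by
    obtain ⟨y, rfl⟩ := hW hx
    exact TopologicalSpace.Opens.mem_iSup.2 ⟨⟨y, hx⟩, hmem ⟨y, hx⟩⟩
  have hcompat : ∀ p q, tw.1.map (homOfLE (inf_le_left : O p ⊓ O q ≤ O p)).op (σ p) =
      tw.1.map (homOfLE (inf_le_right : O p ⊓ O q ≤ O q)).op (σ q) := by
    intro p q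
    refine Subtype.ext (funext fun x => Subtype.ext ?_)
    obtain ⟨x, hx⟩ := x
    obtain ⟨y, hy⟩ := hW (hOW p hx.1)
    obtain rfl : ProjectiveSpectrum.comap ψ hψ y = x := hy
    exact inj y ((hσ p y hx.1).trans (hσ q y hx.2).symm)
  obtain ⟨s, hs, -⟩ := TopCat.Sheaf.existsUnique_gluing' tw O W (fun p => homOfLE (hOW p)) hcover σ
    (fun p q => hcompat p q)
  refine ⟨s, Subtype.ext (funext fun z => Subtype.ext ?_)⟩
  obtain ⟨p, hp⟩ := TopologicalSpace.Opens.mem_iSup.1 (hcover z.2)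
  refine (GrMod.comap_app_val ψ hψ v hv n W s z).trans (Eq.trans ?_ (hσ p z.1 hp))
  refine congrArg (GrMod.locModMap ψ hψ v z.1) ?_
  exact congrArg (fun r : GrMod.sect 𝒜 ℳ n (op (O p)) => ((r.1 ⟨_, hp⟩).1)) (hs p)

section comp

variable {C σ'' : Type u} [CommRing C] [SetLike σ'' C] [AddSubgroupClass σ'' C] {𝒞 : ℕ → σ''} [GradedRing 𝒞]
variable {Q τ'' : Type u} [AddCommGroup Q] [Module C Q] [SetLike τ'' Q] [AddSubgroupClass τ'' Q]
  (φ : ℬ →+*ᵍ 𝒞) (hφ : 𝒞₊ ≤ (ℬ₊).map φ) (χ : 𝒜 →+*ᵍ 𝒞) (hχ : 𝒞₊ ≤ (𝒜₊).map χ)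
  (hcomp : ∀ a, φ (ψ a) = χ a)
  (w : N →ₛₗ[φ.toRingHom] Q) (z : M →ₛₗ[χ.toRingHom] Q) (hcompv : ∀ m, w (v m) = z m)

include hcomp hcompv in
theorem locModMap_locModMap (n : ℤ) {V : (Proj 𝒜).Opens} (s : Γ(GrMod.tilde 𝒜 ℳ n, V))
    (y : ProjectiveSpectrum 𝒞)
    (hy : ProjectiveSpectrum.comap ψ hψ (ProjectiveSpectrum.comap φ hφ y) ∈ V)
    (hy' : ProjectiveSpectrum.comap χ hχ y ∈ V) :
    GrMod.locModMap φ hφ w y (GrMod.locModMap ψ hψ v (ProjectiveSpectrum.comap φ hφ y) (GrMod.val s ⟨_, hy⟩)) =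
      GrMod.locModMap χ hχ z y (GrMod.val s ⟨_, hy'⟩) := by
  obtain ⟨O, hO, hyO, i, j, x, hx, c, hc, hcn, -, hfr⟩ := RelTildeEx.exists_frac s ⟨_, hy'⟩
  have hpt : ProjectiveSpectrum.comap ψ hψ (ProjectiveSpectrum.comap φ hφ y) =
      ProjectiveSpectrum.comap χ hχ y := by
    refine ProjectiveSpectrum.ext (HomogeneousIdeal.ext (Ideal.ext fun z => ?_))
    show φ (ψ z) ∈ y.asHomogeneousIdeal ↔ χ z ∈ y.asHomogeneousIdeal
    rw [hcomp]
  have hyO' : ProjectiveSpectrum.comap ψ hψ (ProjectiveSpectrum.comap φ hφ y) ∈ O := hpt ▸ hyO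
  refine (congrArg (fun q => GrMod.locModMap φ hφ w y (GrMod.locModMap ψ hψ v _ q)) (hfr ⟨_, hyO'⟩)).trans
    (Eq.trans ?_ (congrArg (GrMod.locModMap χ hχ z y) (hfr ⟨_, hyO⟩)).symm)
  rw [GrMod.locModMap_mk, GrMod.locModMap_mk, GrMod.locModMap_mk]
  simp only [hcomp, hcompv]

end comp

end Groth.Agent.SymAlgRel.TildeLoc

end
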