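import Mathlib
import Groth.Prelude.Def_RelProj3
import Groth.Agent.QCohBase.Criteria
import Groth.Agent.SymAlgRel.TwistExist
import Groth.Agent.SymAlgRel.TildeLoc

/-!
# The module on a relative Proj attached to a quasi-coherent graded module
-/

set_option autoImplicit false
set_option backward.isDefEq.respectTransparency false
set_option backward.isDefEq.respectTransparency.types false

noncomputable section

universe u

open CategoryTheory CategoryTheory.Limits AlgebraicGeometry TopologicalSpace Opposite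
open scoped HomogeneousIdeal

namespace Groth.Agent.SymAlgRel

variable {S P : Scheme.{u}} {𝒮 : RelProj.QCGrAlg S} {p : P ⟶ S}
  {chart : ∀ (U : S.Opens) (hU : IsAffineOpen U), (((p ⁻¹ᵁ U : P.Opens) : Scheme.{u}) ≅ Proj (𝒮.deg U hU))}
  (ℳ : RelProj.GrModule 𝒮)

theorem grModule_res_res {U D E : S.affineOpens} (a : IsBasic U D) (b : IsBasic D E) (m : ℳ.mod.val.obj (op U.1)) :
    ℳ.res D.2 E.2 b.le (ℳ.res U.2 D.2 a.le m) = ℳ.res U.2 E.2 (a.trans b).le m :=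
  (PresheafOfModules.map_comp_apply ℳ.mod.val (homOfLE a.le).op (homOfLE b.le).op m).symm

/-- localization data of a basic restriction of a quasi-coherent graded module -/
theorem res_basic_loc_module (hℳ : Coh.IsQCoh ((AMod.toOS 𝒮.toQCAlg).obj ℳ.mod)) {U D : S.affineOpens}
    (h : IsBasic U D) :
    ∃ g ∈ 𝒮.deg U.1 U.2 0, IsUnit (𝒮.res U.2 D.2 h.le g) ∧
      (∀ b, ∃ (k : ℕ) (a : 𝒮.presheaf.obj (op U.1)), b * 𝒮.res U.2 D.2 h.le g ^ k = 𝒮.res U.2 D.2 h.le a) ∧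
      (∀ x, ∃ (k : ℕ) (m : ℳ.mod.val.obj (op U.1)), 𝒮.res U.2 D.2 h.le g ^ k • x = ℳ.res U.2 D.2 h.le m) ∧
      ∀ m, ℳ.res U.2 D.2 h.le m = 0 → ∃ k : ℕ, g ^ k • m = 0 := by
  obtain ⟨D, hD⟩ := D
  obtain ⟨r, hr⟩ := id h
  dsimp only at hr
  subst hr
  haveI : ((AMod.toOS 𝒮.toQCAlg).obj ℳ.mod).IsQuasicoherent := hℳ
  have hloc := QCohBase.localizesOn_of_isQuasicoherent ((AMod.toOS 𝒮.toQCAlg).obj ℳ.mod) U.2 r
  let _inst := (𝒮.presheaf.map (homOfLE (S.basicOpen_le r)).op).hom.toAlgebra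
  haveI : IsLocalization.Away ((𝒮.str.app (op U.1)).hom r) (𝒮.presheaf.obj (op (S.basicOpen r))) :=
    𝒮.isQC U.1 U.2 r
  have hstr : (𝒮.str.app (op (S.basicOpen r))).hom ((S.presheaf.map (homOfLE (S.basicOpen_le r)).op).hom r) =
      𝒮.res U.2 (U.2.basicOpen r) (S.basicOpen_le r) ((𝒮.str.app (op U.1)).hom r) :=
    ConcreteCategory.congr_hom (𝒮.str.naturality (homOfLE (S.basicOpen_le r)).op) r
  refine ⟨(𝒮.str.app (op U.1)).hom r, 𝒮.str_mem U.1 U.2 r, IsLocalization.Away.algebraMap_isUnit _,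
    fun b => ?_, fun x => ?_, fun m hm => ?_⟩
  · obtain ⟨n, a, hna⟩ := IsLocalization.Away.surj ((𝒮.str.app (op U.1)).hom r) b
    exact ⟨n, a, hna⟩
  · obtain ⟨k, m, hm⟩ := hloc.1 x
    refine ⟨k, m, Eq.trans ?_ hm.symm⟩
    show _ = (𝒮.str.app (op (S.basicOpen r))).hom
      ((S.presheaf.map (homOfLE (S.basicOpen_le r)).op).hom r ^ k) • x
    rw [map_pow, hstr]
  · obtain ⟨k, hk⟩ := hloc.2 m hm
    refine ⟨k, Eq.trans ?_ hk⟩
    show _ = (𝒮.str.app (op U.1)).hom (r ^ k) • m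
    rw [map_pow]

variable (p chart) in
/-- the module over an affine open, as a module on `P` -/
def tildeG (n : ℤ) (U : S.affineOpens) : P.Modules :=
  (Scheme.Modules.pushforward (RelProj.emb p chart U.1 U.2)).obj
    (GrMod.tilde (𝒮.deg U.1 U.2) (ℳ.deg U.1 U.2) n)

/-- the transition map -/
def tildeφ (hP : RelProj.IsRelProj 𝒮 p chart) (n : ℤ) {U D : S.affineOpens} (h : IsBasic U D) :
    tildeG p chart ℳ n U ⟶ tildeG p chart ℳ n D :=
  (Scheme.Modules.pushforward (RelProj.emb p chart U.1 U.2)).map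
      (GrMod.comap (𝒮.res U.2 D.2 h.le) h.irrelevant_le (ℳ.res U.2 D.2 h.le) (ℳ.res_mem U.2 D.2 h.le) n) ≫
    (Scheme.Modules.pushforwardComp (Proj.map (𝒮.res U.2 D.2 h.le) h.irrelevant_le)
        (RelProj.emb p chart U.1 U.2)).hom.app (GrMod.tilde (𝒮.deg D.1 D.2) (ℳ.deg D.1 D.2) n) ≫
      (Scheme.Modules.pushforwardCongr (h.map_emb hP)).hom.app (GrMod.tilde (𝒮.deg D.1 D.2) (ℳ.deg D.1 D.2) n)

theorem tildeφ_val (hP : RelProj.IsRelProj 𝒮 p chart) (n : ℤ) {U D : S.affineOpens} (h : IsBasic U D)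
    (W : P.Opens) (s : Γ(tildeG p chart ℳ n U, W)) (y : ProjectiveSpectrum (𝒮.deg D.1 D.2))
    (hy : (RelProj.emb p chart D.1 D.2).base y ∈ W)
    (hy' : (RelProj.emb p chart U.1 U.2).base
      (ProjectiveSpectrum.comap (𝒮.res U.2 D.2 h.le) h.irrelevant_le y) ∈ W) :
    GrMod.val (V := RelProj.emb p chart D.1 D.2 ⁻¹ᵁ W) ((tildeφ ℳ hP n h).app W s) ⟨y, hy⟩ =
      GrMod.locModMap (𝒮.res U.2 D.2 h.le) h.irrelevant_le (ℳ.res U.2 D.2 h.le) y
        (GrMod.val (V := RelProj.emb p chart U.1 U.2 ⁻¹ᵁ W) s ⟨_, hy'⟩) := rfl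

theorem tildeφ_bijective (hℳ : Coh.IsQCoh ((AMod.toOS 𝒮.toQCAlg).obj ℳ.mod))
    (hP : RelProj.IsRelProj 𝒮 p chart) (n : ℤ) {U D : S.affineOpens} (h : IsBasic U D)
    (W : P.Opens) (hW : W ≤ p ⁻¹ᵁ D.1) : Function.Bijective ((tildeφ ℳ hP n h).app W) := by
  haveI := h.isOpenImmersion_map hP
  obtain ⟨g, hg, hu, hs, hsv, hiv⟩ := res_basic_loc_module ℳ hℳ h
  have h1 := TildeLoc.comap_app_bijective (𝒮.res U.2 D.2 h.le) g hg hu hs (ℳ.res U.2 D.2 h.le)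
    (ℳ.res_mem U.2 D.2 h.le) hsv hiv h.irrelevant_le n
    (RelProj.emb p chart U.1 U.2 ⁻¹ᵁ W) (h.le_range hP W hW)
  have h2 : IsIso (((Scheme.Modules.pushforwardComp (Proj.map (𝒮.res U.2 D.2 h.le) h.irrelevant_le)
      (RelProj.emb p chart U.1 U.2)).hom.app (GrMod.tilde (𝒮.deg D.1 D.2) (ℳ.deg D.1 D.2) n) ≫
        (Scheme.Modules.pushforwardCongr (h.map_emb hP)).hom.app _).app W) := inferInstance
  exact ((ConcreteCategory.isIso_iff_bijective _).1 h2).comp h1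

theorem tildeG_bij_rs (n : ℤ) (U : S.affineOpens) (W : P.Opens) :
    Function.Bijective (BasicGlue.rs (tildeG p chart ℳ n U) (inf_le_left : W ⊓ p ⁻¹ᵁ U.1 ≤ W)) := by
  have he : RelProj.emb p chart U.1 U.2 ⁻¹ᵁ (W ⊓ p ⁻¹ᵁ U.1) = RelProj.emb p chart U.1 U.2 ⁻¹ᵁ W := by
    refine le_antisymm (fun x hx => hx.1) fun x hx => ⟨hx, ?_⟩
    rw [← EGA2Misc.opensRange_emb p chart U.1 U.2]
    exact ⟨x, rfl⟩
  have h2 : IsIso ((GrMod.tilde (𝒮.deg U.1 U.2) (ℳ.deg U.1 U.2) n).presheaf.map (eqToHom he).op) := inferInstance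
  exact (ConcreteCategory.isIso_iff_bijective _).1 h2

theorem tilde_locMap_comp {U D E : S.affineOpens} (a : IsBasic U D) (b : IsBasic D E) (n : ℤ)
    {V : (Proj (𝒮.deg U.1 U.2)).Opens} (s : Γ(GrMod.tilde (𝒮.deg U.1 U.2) (ℳ.deg U.1 U.2) n, V))
    (y : ProjectiveSpectrum (𝒮.deg E.1 E.2))
    (hy : ProjectiveSpectrum.comap (𝒮.res U.2 D.2 a.le) a.irrelevant_le
      (ProjectiveSpectrum.comap (𝒮.res D.2 E.2 b.le) b.irrelevant_le y) ∈ V)
    (hy' : ProjectiveSpectrum.comap (𝒮.res U.2 E.2 (a.trans b).le) (a.trans b).irrelevant_le y ∈ V) :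
    GrMod.locModMap (𝒮.res D.2 E.2 b.le) b.irrelevant_le (ℳ.res D.2 E.2 b.le) y
      (GrMod.locModMap (𝒮.res U.2 D.2 a.le) a.irrelevant_le (ℳ.res U.2 D.2 a.le) _ (GrMod.val s ⟨_, hy⟩)) =
    GrMod.locModMap (𝒮.res U.2 E.2 (a.trans b).le) (a.trans b).irrelevant_le (ℳ.res U.2 E.2 (a.trans b).le) y
      (GrMod.val s ⟨_, hy'⟩) :=
  TildeLoc.locModMap_locModMap (𝒮.res U.2 D.2 a.le) (ℳ.res U.2 D.2 a.le) a.irrelevant_le
    (𝒮.res D.2 E.2 b.le) b.irrelevant_le (𝒮.res U.2 E.2 (a.trans b).le) (a.trans b).irrelevant_le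
    (fun x => (ConcreteCategory.congr_hom (𝒮.presheaf.map_comp (homOfLE a.le).op (homOfLE b.le).op) x).symm)
    (ℳ.res D.2 E.2 b.le) (ℳ.res U.2 E.2 (a.trans b).le) (grModule_res_res ℳ a b) n s y hy hy'

/-- the gluing datum -/
def tildeData (hℳ : Coh.IsQCoh ((AMod.toOS 𝒮.toQCAlg).obj ℳ.mod)) (hP : RelProj.IsRelProj 𝒮 p chart) (n : ℤ) :
    BasicGlue.GlueData P where
  ι := S.affineOpens
  O U := p ⁻¹ᵁ U.1
  R := IsBasic
  le h := (TopologicalSpace.Opens.map p.base).monotone h.le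
  trans := IsBasic.trans
  cover x := by
    obtain ⟨U, hU⟩ := TopologicalSpace.Opens.mem_iSup.1
      ((AlgebraicGeometry.iSup_affineOpens_eq_top S).ge (Set.mem_univ (p.base x)))
    exact ⟨U, hU⟩
  inter U V x hx hx' := IsBasic.inter U V (p.base x) hx hx'
  G := tildeG p chart ℳ n
  φ h := tildeφ ℳ hP n h
  bij h W hW := tildeφ_bijective ℳ hℳ hP n h W hW
  bij_rs := tildeG_bij_rs ℳ n
  comp {U D E} a b W s := by
    refine Subtype.ext (funext fun y => Subtype.ext ?_)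
    obtain ⟨y, hy⟩ := y
    have hy1 : (RelProj.emb p chart D.1 D.2).base
        (ProjectiveSpectrum.comap (𝒮.res D.2 E.2 b.le) b.irrelevant_le y) ∈ W := by
      rw [← b.map_emb hP] at hy; exact hy
    have hy2 : (RelProj.emb p chart U.1 U.2).base (ProjectiveSpectrum.comap (𝒮.res U.2 D.2 a.le) a.irrelevant_le
        (ProjectiveSpectrum.comap (𝒮.res D.2 E.2 b.le) b.irrelevant_le y)) ∈ W := by
      rw [← a.map_emb hP] at hy1; exact hy1
    have hy3 : (RelProj.emb p chart U.1 U.2).base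
        (ProjectiveSpectrum.comap (𝒮.res U.2 E.2 (a.trans b).le) (a.trans b).irrelevant_le y) ∈ W := by
      rw [← (a.trans b).map_emb hP] at hy; exact hy
    refine (tildeφ_val ℳ hP n b W _ y hy hy1).trans ?_
    refine Eq.trans ?_ (tildeφ_val ℳ hP n (a.trans b) W s y hy hy3).symm
    refine (congrArg _ (tildeφ_val ℳ hP n a W s _ hy1 hy2)).trans ?_
    exact tilde_locMap_comp ℳ a b n s y hy2 hy3

/-- Existence of `ℳ(n)~`. -/
theorem exists_isRelTilde (hℳ : Coh.IsQCoh ((AMod.toOS 𝒮.toQCAlg).obj ℳ.mod))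
    (hP : RelProj.IsRelProj 𝒮 p chart) (n : ℤ) :
    ∃ (F : P.Modules) (lam : ∀ (U : S.Opens) (hU : IsAffineOpen U),
      F ⟶ (Scheme.Modules.pushforward (RelProj.emb p chart U hU)).obj
        (GrMod.tilde (𝒮.deg U hU) (ℳ.deg U hU) n)),
      RelProj.IsRelTilde 𝒮 p chart ℳ n F lam := by
  refine ⟨(tildeData ℳ hℳ hP n).L, fun U hU => (tildeData ℳ hℳ hP n).lam ⟨U, hU⟩,
    ⟨fun U hU W hW => (tildeData ℳ hℳ hP n).bijective_lam ⟨U, hU⟩ W hW, fun U hU r W s y hy hy' => ?_⟩⟩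
  let U' : S.affineOpens := ⟨U, hU⟩
  let D : S.affineOpens := ⟨S.basicOpen r, hU.basicOpen r⟩
  have a : IsBasic U' D := ⟨r, rfl⟩
  have h := (tildeData ℳ hℳ hP n).lam_app_φ (i := U') (j := D) a W s
  exact (congrArg (fun z : Γ(tildeG p chart ℳ n D, W) =>
    GrMod.val (V := RelProj.emb p chart (S.basicOpen r) (hU.basicOpen r) ⁻¹ᵁ W) z ⟨y, hy⟩) h.symm).trans
      (tildeφ_val ℳ hP n a W _ y hy hy')

section unique

variable {ℳ} {n : ℤ} {F : P.Modules}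
  {lam : ∀ (U : S.Opens) (hU : IsAffineOpen U),
    F ⟶ (Scheme.Modules.pushforward (RelProj.emb p chart U hU)).obj (GrMod.tilde (𝒮.deg U hU) (ℳ.deg U hU) n)}

theorem lam_tildeφ (hP : RelProj.IsRelProj 𝒮 p chart) (hF : RelProj.IsRelTilde 𝒮 p chart ℳ n F lam)
    {U D : S.affineOpens} (h : IsBasic U D) :
    (show F ⟶ tildeG p chart ℳ n U from lam U.1 U.2) ≫ tildeφ ℳ hP n h = lam D.1 D.2 := by
  refine Scheme.Modules.hom_ext _ _ fun W => ?_
  refine AddCommGrpCat.ext fun s => ?_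
  obtain ⟨D, hD⟩ := D
  obtain ⟨r, hr⟩ := id h
  dsimp only at hr
  subst hr
  refine Subtype.ext (funext fun y => Subtype.ext ?_)
  obtain ⟨y, hy⟩ := y
  have hy' : (RelProj.emb p chart U.1 U.2).base (ProjectiveSpectrum.comap
      (𝒮.res U.2 (U.2.basicOpen r) (S.basicOpen_le r)) (𝒮.irrelevant_le_map U.1 U.2 r) y) ∈ W := by
    rw [← RelProj.map_res_emb hP U.1 U.2 r] at hy; exact hy
  exact (tildeφ_val ℳ hP n h W _ y hy hy').trans (hF.compat U.1 U.2 r W s y hy hy').symm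

/-- the comparison with the glued module -/
def toTildeData (hℳ : Coh.IsQCoh ((AMod.toOS 𝒮.toQCAlg).obj ℳ.mod)) (hP : RelProj.IsRelProj 𝒮 p chart)
    (hF : RelProj.IsRelTilde 𝒮 p chart ℳ n F lam) : F ⟶ (tildeData ℳ hℳ hP n).L :=
  (tildeData ℳ hℳ hP n).lift (fun U => lam U.1 U.2) fun a => lam_tildeφ hP hF a

theorem toTildeData_lam (hℳ : Coh.IsQCoh ((AMod.toOS 𝒮.toQCAlg).obj ℳ.mod)) (hP : RelProj.IsRelProj 𝒮 p chart)
    (hF : RelProj.IsRelTilde 𝒮 p chart ℳ n F lam) (U : S.affineOpens) :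
    toTildeData hℳ hP hF ≫ (tildeData ℳ hℳ hP n).lam U = lam U.1 U.2 :=
  (tildeData ℳ hℳ hP n).lift_lam (fun U => lam U.1 U.2) (fun a => lam_tildeφ hP hF a) U

theorem isIso_toTildeData (hℳ : Coh.IsQCoh ((AMod.toOS 𝒮.toQCAlg).obj ℳ.mod)) (hP : RelProj.IsRelProj 𝒮 p chart)
    (hF : RelProj.IsRelTilde 𝒮 p chart ℳ n F lam) : IsIso (toTildeData hℳ hP hF) := by
  refine BasicGlue.isIso_of_bijective _ (tildeData ℳ hℳ hP n).O (tildeData ℳ hℳ hP n).cover fun U W hW => ?_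
  refine (((tildeData ℳ hℳ hP n).bijective_lam U W hW).of_comp_iff' _).1 ?_
  have : ⇑(((tildeData ℳ hℳ hP n).lam U).app W) ∘ ⇑((toTildeData hℳ hP hF).app W) = ⇑((lam U.1 U.2).app W) :=
    funext fun s => congrArg (fun f : F ⟶ tildeG p chart ℳ n U => f.app W s) (toTildeData_lam hℳ hP hF U)
  rw [this]
  exact hF.bijective U.1 U.2 W hW

/-- morphisms into `ℳ(n)~` are those into its charts -/
theorem existsUnique_relTilde_lift (hℳ : Coh.IsQCoh ((AMod.toOS 𝒮.toQCAlg).obj ℳ.mod))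
    (hP : RelProj.IsRelProj 𝒮 p chart) (hF : RelProj.IsRelTilde 𝒮 p chart ℳ n F lam) {M : P.Modules}
    (ν : ∀ U : S.affineOpens, M ⟶ tildeG p chart ℳ n U)
    (hν : ∀ {U D : S.affineOpens} (h : IsBasic U D), ν U ≫ tildeφ ℳ hP n h = ν D) :
    ∃! φ : M ⟶ F, ∀ (U : S.Opens) (hU : IsAffineOpen U), φ ≫ lam U hU = ν ⟨U, hU⟩ := by
  haveI := isIso_toTildeData hℳ hP hF
  refine ⟨(tildeData ℳ hℳ hP n).lift ν (fun a => hν a) ≫ inv (toTildeData hℳ hP hF), fun U hU => ?_,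
    fun φ hφ => ?_⟩
  · show (_ ≫ _) ≫ _ = _
    rw [← toTildeData_lam hℳ hP hF ⟨U, hU⟩, Category.assoc, IsIso.inv_hom_id_assoc,
      BasicGlue.GlueData.lift_lam]
  · rw [IsIso.eq_comp_inv]
    refine (tildeData ℳ hℳ hP n).hom_ext_L fun U => ?_
    rw [Category.assoc, toTildeData_lam, BasicGlue.GlueData.lift_lam]
    exact hφ U.1 U.2

end unique

/-- a homomorphism of graded modules commutes with the transition maps -/
theorem map_tildeφ {ℳ 𝒩 : RelProj.GrModule 𝒮} (hP : RelProj.IsRelProj 𝒮 p chart) (u : ℳ.mod ⟶ 𝒩.mod)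
    (hu : RelProj.IsGrModHom u) (n : ℤ) {U D : S.affineOpens} (h : IsBasic U D) :
    (Scheme.Modules.pushforward (RelProj.emb p chart U.1 U.2)).map
        (GrMod.map (𝒮.deg U.1 U.2)
          (show ℳ.mod.val.obj (op U.1) →ₗ[𝒮.presheaf.obj (op U.1)] 𝒩.mod.val.obj (op U.1) from (u.val.app (op U.1)).hom)
          (hu U.1 U.2) n) ≫ tildeφ 𝒩 hP n h =
      tildeφ ℳ hP n h ≫ (Scheme.Modules.pushforward (RelProj.emb p chart D.1 D.2)).map
        (GrMod.map (𝒮.deg D.1 D.2)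
          (show ℳ.mod.val.obj (op D.1) →ₗ[𝒮.presheaf.obj (op D.1)] 𝒩.mod.val.obj (op D.1) from (u.val.app (op D.1)).hom)
          (hu D.1 D.2) n) := by
  refine Scheme.Modules.hom_ext _ _ fun W => AddCommGrpCat.ext fun s => ?_
  refine Subtype.ext (funext fun y => Subtype.ext ?_)
  obtain ⟨y, hy⟩ := y
  have hy' : (RelProj.emb p chart U.1 U.2).base (ProjectiveSpectrum.comap
      (𝒮.res U.2 D.2 h.le) h.irrelevant_le y) ∈ W := by
    rw [← h.map_emb hP] at hy; exact hy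
  refine (tildeφ_val 𝒩 hP n h W _ y hy hy').trans ?_
  refine Eq.trans ?_ ((congrArg (GrMod.locMap (show ℳ.mod.val.obj (op D.1) →ₗ[𝒮.presheaf.obj (op D.1)]
    𝒩.mod.val.obj (op D.1) from (u.val.app (op D.1)).hom) y) (tildeφ_val ℳ hP n h W s y hy hy')).symm)
  show GrMod.locModMap _ _ _ y (GrMod.locMap _ _ (GrMod.val (V := RelProj.emb p chart U.1 U.2 ⁻¹ᵁ W) s ⟨_, hy'⟩)) = _
  generalize GrMod.val (V := RelProj.emb p chart U.1 U.2 ⁻¹ᵁ W) s ⟨_, hy'⟩ = q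
  induction q using LocalizedModule.induction_on with
  | h m t =>
    rw [GrMod.locMap_mk, GrMod.locModMap_mk, GrMod.locModMap_mk, GrMod.locMap_mk]
    congr 1
    exact (PresheafOfModules.naturality_apply u.val (homOfLE h.le).op m).symm

end Groth.Agent.SymAlgRel

end
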