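import Mathlib
import Groth.Agent.SymAlgRel.TwistSections
import Groth.Agent.GrTildeLib.TensorFrame
import Groth.Agent.TensorMod.Restrict

/-!
# `O(-n)` inverse to `O(n)` on quasi-compact opens
-/

set_option autoImplicit false
set_option backward.isDefEq.respectTransparency false
set_option backward.isDefEq.respectTransparency.types false

noncomputable section

universe u

open CategoryTheory AlgebraicGeometry TopologicalSpace Opposite
open Groth.Agent.QCohBase Groth.Agent.GenLocus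
open scoped HomogeneousIdeal

namespace Groth.Agent.SymAlgRel

variable {S P : Scheme.{u}} {𝒮 : RelProj.QCGrAlg S} {p : P ⟶ S}
  {chart : ∀ (U : S.Opens) (hU : IsAffineOpen U), (((p ⁻¹ᵁ U : P.Opens) : Scheme.{u}) ≅ Proj (𝒮.deg U hU))}

theorem bijective_app_of_frame {X : Scheme.{u}} {M N : X.Modules} (φ : M ⟶ N) {V : X.Opens} {a : Γ(M, V)}
    (ha : IsFrame M a) (ha' : IsFrame N (φ.app V a)) (W : X.Opens) (hW : W ≤ V) :
    Function.Bijective (φ.app W) := by
  have hb := ha W hW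
  rw [← Function.Bijective.of_comp_iff (φ.app W) hb]
  convert ha' W hW using 1
  exact funext fun r ↦ (app_smul' φ r _).trans (congrArg (r • ·) (app_mres φ hW a).symm)

theorem exists_period_inv (hP : RelProj.IsRelProj 𝒮 p chart) (U : P.Opens) (hU : IsCompact (U : Set P)) :
    ∃ d : ℕ, 0 < d ∧ ∀ (n : ℤ), (d : ℤ) ∣ n →
      ∀ (L : P.Modules)
        (lam : ∀ (V : S.Opens) (hV : IsAffineOpen V),
          L ⟶ (Scheme.Modules.pushforward (RelProj.emb p chart V hV)).obj (GrTwist.twist (𝒮.deg V hV) n)),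
        RelProj.IsRelTwist 𝒮 p chart n L lam →
      ∀ (L' : P.Modules)
        (lam' : ∀ (V : S.Opens) (hV : IsAffineOpen V),
          L' ⟶ (Scheme.Modules.pushforward (RelProj.emb p chart V hV)).obj (GrTwist.twist (𝒮.deg V hV) (-n))),
        RelProj.IsRelTwist 𝒮 p chart (-n) L' lam' →
          Nonempty (CohB1.tensorMod (L.restrict U.ι) (L'.restrict U.ι) ≅ Coh.structureModule (U : Scheme.{u})) := by
  classical
  have h : ∀ y : P, ∃ (V : S.Opens) (hV : IsAffineOpen V) (e : ℕ) (_ : 0 < e) (f : 𝒮.deg V hV e),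
      y ∈ RelProj.emb p chart V hV ''ᵁ Proj.basicOpen (𝒮.deg V hV) f.1 := by
    intro y
    obtain ⟨V, hV, z, rfl⟩ := exists_affine_emb p chart y
    obtain ⟨e, f, he, hf, hfz⟩ : ∃ (e : ℕ) (f : 𝒮.presheaf.obj (op V)), 0 < e ∧ f ∈ 𝒮.deg V hV e ∧
        f ∉ (show ProjectiveSpectrum (𝒮.deg V hV) from z).asHomogeneousIdeal := by
      by_contra hne
      push Not at hne
      refine (show ProjectiveSpectrum (𝒮.deg V hV) from z).not_irrelevant_le ?_
      rw [HomogeneousIdeal.irrelevant_le]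
      exact fun i hi b hb => hne i b hi hb
    exact ⟨V, hV, e, he, ⟨f, hf⟩, z, hfz, rfl⟩
  choose V hV e he f hy using h
  obtain ⟨T, hT⟩ := hU.elim_finite_subcover
    (fun y : P => (RelProj.emb p chart (V y) (hV y) ''ᵁ Proj.basicOpen (𝒮.deg (V y) (hV y)) (f y).1 : Set P))
    (fun y => (RelProj.emb p chart (V y) (hV y) ''ᵁ Proj.basicOpen (𝒮.deg (V y) (hV y)) (f y).1).2)
    fun y _ => Set.mem_iUnion.2 ⟨y, hy y⟩
  refine ⟨∏ y ∈ T, e y, Finset.prod_pos fun y _ => he y, fun n hn L lam hL L' lam' hL' => ?_⟩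
  obtain ⟨N, lamN, hN⟩ := exists_isRelTwist hP (n + -n)
  -- O(0) is trivial
  obtain ⟨a, ha⟩ := nonempty_restrict_iso_structure (d := 0) hP hN 1
    (fun W hW => by rw [map_one]; exact SetLike.GradedOne.one_mem) ⊤
    (fun W hW z _ => by
      rw [map_one, Proj.basicOpen_one]
      exact trivial) 0 (by simp)
  obtain ⟨eN⟩ := nonempty_iso_structure_of_frame U (ha.res (le_top : U ≤ ⊤))
  have hiso : IsIso ((Scheme.Modules.restrictFunctor U.ι).map (relMulMap hP hL hL' hN)) := by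
    refine GrTildeLib.isIso_restrict_of_bijective _ U fun x hx => ?_
    obtain ⟨W, hxW, b, hb, hb'⟩ := isIso_restrict_relMulMap hP hL hL' hN U (fun x hx => by
      obtain ⟨y, hyT, hxy⟩ := Set.mem_iUnion₂.1 (hT hx)
      obtain ⟨k, hk⟩ : (e y : ℤ) ∣ n :=
        (Int.natCast_dvd_natCast.2 (Finset.dvd_prod_of_mem e hyT)).trans hn
      exact ⟨V y, hV y, e y, f y, k, -k, by rw [hk]; ring, by rw [hk]; ring, hxy⟩) x hx
    exact ⟨W, hxW, fun W' hW' => bijective_app_of_frame _ hb hb' W' hW'⟩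
  exact ⟨(TensorMod.restrictTensorIso U.ι L L').symm ≪≫
    asIso ((Scheme.Modules.restrictFunctor U.ι).map (relMulMap hP hL hL' hN)) ≪≫ eN⟩

end Groth.Agent.SymAlgRel

end
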