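import Groth.Agent.SymAlgRel.RLample
import Groth.Agent.GenLocus.Rel
import Groth.Agent.GenLocus.Ample

/-!
# The morphism `r_{L,σ}` for an ample module
-/

set_option autoImplicit false
set_option backward.isDefEq.respectTransparency false
set_option backward.isDefEq.respectTransparency.types false

noncomputable section

universe u

open CategoryTheory Limits AlgebraicGeometry Opposite TopologicalSpace RelSpec
open Groth.Agent.QCohBase Groth.Agent.GenLocus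
open scoped HomogeneousIdeal

namespace Groth.Agent.SymAlgRel

variable {Y X P PL : Scheme.{u}} {q : X ⟶ Y} {L : X.Modules} {𝒮 : RelProj.QCGrAlg Y} {𝒮L : RelProj.QCGrAlg X}
  {j : L ⟶ 𝒮L.toModule} (u : RelProj.QGrHom q 𝒮 𝒮L)
  {p : P ⟶ Y} {chart : ∀ (U : Y.Opens) (hU : IsAffineOpen U), (((p ⁻¹ᵁ U : P.Opens) : Scheme.{u}) ≅ Proj (𝒮.deg U hU))}
  {pL : PL ⟶ X} {chartL : ∀ (U : X.Opens) (hU : IsAffineOpen U), (((pL ⁻¹ᵁ U : PL.Opens) : Scheme.{u}) ≅ Proj (𝒮L.deg U hU))}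
  (hj : RelProj.IsGrSymAlg L 𝒮L j) (hLq : Coh.IsQCoh L) (hL : PicF.IsInvertible L)
  (hP : RelProj.IsRelProj 𝒮 p chart) (hPL : RelProj.IsRelProj 𝒮L pL chartL)

theorem ares_appLE (U : Y.Opens) (V : X.Opens) (h : V ≤ q ⁻¹ᵁ U) (x : 𝒮.presheaf.obj (op U)) :
    ares 𝒮L.toQCAlg h ((u.appLE U (q ⁻¹ᵁ U) le_rfl).hom x) = (u.appLE U V h).hom x := by
  show (u.appLE U (q ⁻¹ᵁ U) le_rfl ≫ 𝒮L.presheaf.map (homOfLE h).op).hom x = _
  rw [RelSpec.QHom.appLE_map]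

theorem appLE_self_apply (U : Y.Opens) (x : 𝒮.presheaf.obj (op U)) :
    (u.appLE U (q ⁻¹ᵁ U) le_rfl).hom x = (u.app U).hom x :=
  ares_self 𝒮L.toQCAlg le_rfl _

theorem isDeg_appLE (U : Y.Opens) (hU : IsAffineOpen U) {n : ℕ} {x : 𝒮.presheaf.obj (op U)}
    (hx : x ∈ 𝒮.deg U hU n) : IsDeg 𝒮L (q ⁻¹ᵁ U) n ((u.appLE U (q ⁻¹ᵁ U) le_rfl).hom x) := by
  intro V hV h
  rw [ares_appLE]
  exact (u.gradedAt U hU V hV h).map_mem hx

theorem mem_deg_of_isDeg (U : Y.Opens) (hU : IsAffineOpen U) (hinj : Function.Injective (u.app U).hom)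
    {n : ℕ} {x : 𝒮.presheaf.obj (op U)} (hx : IsDeg 𝒮L (q ⁻¹ᵁ U) n ((u.appLE U (q ⁻¹ᵁ U) le_rfl).hom x)) :
    x ∈ 𝒮.deg U hU n := by
  classical
  have hzero : ∀ i, i ≠ n → (DirectSum.decompose (𝒮.deg U hU) x i : 𝒮.presheaf.obj (op U)) = 0 := by
    intro i hi
    refine hinj ?_
    rw [map_zero, ← appLE_self_apply]
    choose V hV hxV hle using fun z : (q ⁻¹ᵁ U : X.Opens) =>
      X.isBasis_affineOpens.exists_subset_of_mem_open (show z.1 ∈ ((q ⁻¹ᵁ U : X.Opens) : Set X) from z.2) (q ⁻¹ᵁ U).2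
    choose V' hV' using hV
    have hle' : ∀ z, V' z ≤ q ⁻¹ᵁ U := fun z => by
      intro y hy; exact hle z ((hV' z).2 ▸ hy)
    refine eq_of_ares 𝒮L.toQCAlg V' hle'
      (fun y hy => Opens.mem_iSup.2 ⟨⟨y, hy⟩, (Set.ext_iff.1 (hV' ⟨y, hy⟩).2 y).2 (hxV ⟨y, hy⟩)⟩) _ _ fun z => ?_
    rw [map_zero, ares_appLE]
    show u.gradedAt U hU (V' z) (hV' z).1 (hle' z) (DirectSum.decompose (𝒮.deg U hU) x i) = 0
    rw [GradedRingHom.map_directSumDecompose]
    have hm := hx (V' z) (hV' z).1 (hle' z)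
    rw [ares_appLE] at hm
    exact DirectSum.decompose_of_mem_ne _ hm (Ne.symm hi)
  rw [← DirectSum.sum_support_decompose (𝒮.deg U hU) x]
  refine sum_mem fun i _ => ?_
  by_cases hi : i = n
  · subst hi; exact SetLike.coe_mem _
  · rw [hzero i hi]; exact zero_mem _

include hj hLq hL hPL in
theorem genAt_iff_basicOpen (U : Y.Opens) (hU : IsAffineOpen U) {d : ℕ} (hd : 0 < d)
    (f : 𝒮.presheaf.obj (op U)) (hf : f ∈ 𝒮.deg U hU d) {V : X.Opens} (hV : IsAffineOpen V) (hle : V ≤ q ⁻¹ᵁ U)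
    {e : Γ(L, V)} (he : IsFrame L e) {c : Γ(X, V)}
    (hc : (u.appLE U V hle).hom f = (𝒮L.str.app (op V)).hom c * tgen j e ^ d) {x : X} (hx : x ∈ V) :
    GenAt 𝒮L u U d f x ↔ x ∈ X.basicOpen c := by
  haveI := isIso_pL hj hLq hPL hL
  obtain ⟨y, hyx⟩ := pL.homeomorph.surjective x
  obtain rfl : pL y = x := hyx
  rw [← exists_mem_emb_iff_genAt u hj hLq hL hPL U hU hd f hf y]
  refine Iff.trans ?_ (mem_emb_frame_iff hj hLq hV he hPL c d hd y hx)
  constructor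
  · rintro ⟨W, hW, hWle, hy⟩
    obtain ⟨r, r', hr, hxr⟩ := exists_basicOpen_le_affine_inter hV hW (pL y) ⟨hx, EGA2Misc.mem_of_mem_emb hy⟩
    have hB := hV.basicOpen r
    have hBW : X.basicOpen r ≤ W := hr ▸ X.basicOpen_le r'
    have h1 := (EGA2Misc.mem_emb_res_iff hPL W hW _ hB r' hr hBW y hxr _).2 hy
    refine (EGA2Misc.mem_emb_res_iff hPL V hV _ hB r rfl (X.basicOpen_le r) y hxr _).1 ?_
    rw [← hc]
    rw [res_gradedAt] at h1
    rwa [show (u.appLE U V hle).hom f = u.gradedAt U hU V hV hle f from rfl, res_gradedAt]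
  · intro h
    refine ⟨V, hV, hle, ?_⟩
    rw [show u.gradedAt U hU V hV hle f = (u.appLE U V hle).hom f from rfl, hc]
    exact h

include hj hLq hL hPL in
/-- The locus of generation is `X_f`. -/
theorem image_genLocus_eq_xs (U : Y.Opens) (hU : IsAffineOpen U) {d : ℕ} (hd : 0 < d)
    (f : 𝒮.presheaf.obj (op U)) (hf : f ∈ 𝒮.deg U hU d)
    (τ : Γ(CohB1.tensorPow (L.restrict (q ⁻¹ᵁ U).ι) d, ⊤))
    (hτ : gv (q ⁻¹ᵁ U) ((powMap _ (q ⁻¹ᵁ U) (jr (q ⁻¹ᵁ U) j) d).app ⊤ τ) = (u.appLE U (q ⁻¹ᵁ U) le_rfl).hom f) :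
    (q ⁻¹ᵁ U).ι ''ᵁ CohB1.genLocus _ (homOfSection _ τ) = xs u U d f := by
  let W := q ⁻¹ᵁ U
  have key : ∀ x : W, x ∈ CohB1.genLocus _ (homOfSection _ τ) ↔ GenAt 𝒮L u U d f x.1 := by
    intro x
    obtain ⟨V', hV, -, e, hxV, he⟩ := exists_frame_le hL W ⊤ x trivial
    obtain ⟨r, hr⟩ := ((isFrame_restrict W e he).framePow d).bijective.2 (mres _ le_top τ)
    have hsect : r • GenLocus.framePow (L := L.restrict W.ι) e d = sect (homOfSection _ τ) V' :=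
      hr.trans (sect_homOfSection _ τ V').symm
    have h1 := genLocus_inf_eq_basicOpen (homOfSection _ τ) ((isFrame_restrict W e he).framePow d) hsect
    have hc : (u.appLE U (W.ι ''ᵁ V') (image_ι_le W V')).hom f =
        (𝒮L.str.app (op (W.ι ''ᵁ V'))).hom ((W.ι.appIso V').inv r) * tgen j e ^ d := by
      rw [← ares_appLE u U _ (image_ι_le W V') f, ← hτ, ares_gv, app_mres, ← hr, powMap_frame_eq hj]
    refine Iff.trans ?_ (genAt_iff_basicOpen u hj hLq hL hPL U hU hd f hf hV (image_ι_le W V') he hc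
      (x := x.1) ⟨x, hxV, rfl⟩).symm
    rw [← Scheme.image_basicOpen]
    refine ⟨fun h => ⟨x, h1.le ⟨h, hxV⟩, rfl⟩, ?_⟩
    rintro ⟨z, hz, hzx⟩
    exact (h1.ge ((W.ι.isOpenEmbedding.injective hzx) ▸ hz)).1
  refine SetLike.ext fun z => ⟨?_, fun hz => ?_⟩
  · rintro ⟨x, hx, rfl⟩
    exact (mem_xs u).2 ((key x).1 hx)
  · exact ⟨⟨z, xs_le u U d f hz⟩, (key ⟨z, _⟩).2 ((mem_xs u).1 hz), rfl⟩

include hj hLq hL hPL in
/-- A homogeneous element gives a section of a power. -/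
theorem exists_section (U : Y.Opens) (hU : IsAffineOpen U) {d : ℕ} (hd : 0 < d)
    (f : 𝒮.presheaf.obj (op U)) (hf : f ∈ 𝒮.deg U hU d) :
    ∃ s : Coh.structureModule _ ⟶ CohB1.tensorPow (L.restrict (q ⁻¹ᵁ U).ι) d,
      (q ⁻¹ᵁ U).ι ''ᵁ CohB1.genLocus _ s = xs u U d f := by
  obtain ⟨τ, hτ⟩ := exists_powMap_eq hj hLq hL (q ⁻¹ᵁ U) d _ (isDeg_appLE u U hU hf)
  exact ⟨_, image_genLocus_eq_xs u hj hLq hL hPL U hU hd f hf τ hτ⟩

include hj hLq hL hPL in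
/-- A section of a power comes from a homogeneous element. -/
theorem exists_deg_of_section (U : Y.Opens) (hU : IsAffineOpen U) (hbij : Function.Bijective (u.app U).hom)
    {d : ℕ} (hd : 0 < d) (s : Coh.structureModule _ ⟶ CohB1.tensorPow (L.restrict (q ⁻¹ᵁ U).ι) d) :
    ∃ (f : 𝒮.presheaf.obj (op U)) (_ : f ∈ 𝒮.deg U hU d),
      xs u U d f = (q ⁻¹ᵁ U).ι ''ᵁ CohB1.genLocus _ s := by
  obtain ⟨f, hf⟩ := hbij.2 (gv (q ⁻¹ᵁ U) ((powMap _ (q ⁻¹ᵁ U) (jr (q ⁻¹ᵁ U) j) d).app ⊤ (sect s ⊤)))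
  rw [← appLE_self_apply] at hf
  have hfd : f ∈ 𝒮.deg U hU d := mem_deg_of_isDeg u U hU hbij.1 (hf ▸ isDeg_powMap hj hL _ d _)
  refine ⟨f, hfd, ?_⟩
  rw [← image_genLocus_eq_xs u hj hLq hL hPL U hU hd f hfd (sect s ⊤) hf.symm]
  congr 2
  apply (CohB1.tensorPow (L.restrict (q ⁻¹ᵁ U).ι) d).unitHomEquiv.injective
  refine Subtype.ext (funext fun V => ?_)
  exact (sect_homOfSection _ _ _).trans (mres_sect s le_top)

include hj hLq hL hPL in
theorem exists_finset_frames (W : X.Opens) (hW : IsCompact (W : Set X)) :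
    ∃ t : Finset {V : X.Opens // IsAffineOpen V ∧ V ≤ W ∧ ∃ e : Γ(L, V), IsFrame L e},
      W ≤ ⨆ V : t, V.1.1 := by
  classical
  obtain ⟨t, ht⟩ := hW.elim_finite_subcover
    (fun V : {V : X.Opens // IsAffineOpen V ∧ V ≤ W ∧ ∃ e : Γ(L, V), IsFrame L e} => (V.1 : Set X))
    (fun V => V.1.2) fun x hx => by
      obtain ⟨V, hV, hxV, hVW, e, he⟩ := exists_isFrame hL (show x ∈ W from hx)
      exact Set.mem_iUnion.2 ⟨⟨V, hV, hVW, e, he⟩, hxV⟩
  refine ⟨t, fun x hx => ?_⟩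
  obtain ⟨V, hV, hxV⟩ := Set.mem_iUnion₂.1 (ht hx)
  exact Opens.mem_iSup.2 ⟨⟨V, hV⟩, hxV⟩

include hj hLq hL hPL in
theorem xs_inf_eq_basicOpen (U : Y.Opens) (hU : IsAffineOpen U) {d : ℕ} (hd : 0 < d)
    (f : 𝒮.presheaf.obj (op U)) (hf : f ∈ 𝒮.deg U hU d) {V : X.Opens} (hV : IsAffineOpen V) (hle : V ≤ q ⁻¹ᵁ U)
    {e : Γ(L, V)} (he : IsFrame L e) :
    ∃ c : Γ(X, V), (u.appLE U V hle).hom f = (𝒮L.str.app (op V)).hom c * tgen j e ^ d ∧
      xs u U d f ⊓ V = X.basicOpen c := by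
  obtain ⟨c, hc⟩ := exists_eq_of_mem_deg hj hLq hV he ((u.gradedAt U hU V hV hle).map_mem hf)
  refine ⟨c, hc, SetLike.ext fun x => ⟨?_, fun h => ?_⟩⟩
  · rintro ⟨h, hx⟩
    exact (genAt_iff_basicOpen u hj hLq hL hPL U hU hd f hf hV hle he hc hx).1 ((mem_xs u).1 h)
  · have hx := X.basicOpen_le c h
    exact ⟨(mem_xs u).2 ((genAt_iff_basicOpen u hj hLq hL hPL U hU hd f hf hV hle he hc hx).2 h), hx⟩

include hj hLq hL hPL in
theorem isCompact_xs (U : Y.Opens) (hU : IsAffineOpen U) (hW : IsCompact ((q ⁻¹ᵁ U : X.Opens) : Set X))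
    {d : ℕ} (hd : 0 < d) (f : 𝒮.presheaf.obj (op U)) (hf : f ∈ 𝒮.deg U hU d) :
    IsCompact (xs u U d f : Set X) := by
  obtain ⟨t, ht⟩ := exists_finset_frames hj hLq hL hPL (q ⁻¹ᵁ U) hW
  have heq : (xs u U d f : Set X) = ⋃ V : t, ((xs u U d f ⊓ V.1.1 : X.Opens) : Set X) := by
    refine Set.ext fun x => ⟨fun hx => ?_, fun hx => ?_⟩
    · obtain ⟨V, hV⟩ := Opens.mem_iSup.1 (ht (xs_le u U d f hx))
      exact Set.mem_iUnion.2 ⟨V, hx, hV⟩
    · obtain ⟨V, hV⟩ := Set.mem_iUnion.1 hx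
      exact hV.1
  rw [heq]
  refine isCompact_iUnion fun V => ?_
  obtain ⟨hV, hle, e, he⟩ := V.1.2
  obtain ⟨c, -, hc⟩ := xs_inf_eq_basicOpen u hj hLq hL hPL U hU hd f hf hV hle he
  rw [hc]
  exact (hV.basicOpen c).isCompact

include hj hLq hL hPL in
/-- With `u` injective on `U` and a quasi-compact preimage, the kernel is torsion. -/
theorem tors_of_injective (U : Y.Opens) (hU : IsAffineOpen U) (hW : IsCompact ((q ⁻¹ᵁ U : X.Opens) : Set X))
    (hinj : Function.Injective (u.app U).hom) {d : ℕ} (hd : 0 < d) (f : 𝒮.presheaf.obj (op U))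
    (hf : f ∈ 𝒮.deg U hU d) : Tors u U hU (xs u U d f) (xs_le u U d f) d f := by
  classical
  intro m hm a ha h0
  obtain ⟨t, ht⟩ := exists_finset_frames hj hLq hL hPL (q ⁻¹ᵁ U) hW
  have key : ∀ V : t, ∃ k, (u.appLE U V.1.1 V.1.2.2.1).hom (f ^ k * a) = 0 := by
    rintro ⟨⟨V, hV, hle, e, he⟩, -⟩
    obtain ⟨c, hc, hxs⟩ := xs_inf_eq_basicOpen u hj hLq hL hPL U hU hd f hf hV hle he
    obtain ⟨c', hc'⟩ := exists_eq_of_mem_deg hj hLq hV he ((u.gradedAt U hU V hV hle).map_mem ha)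
    replace hc' : (u.appLE U V hle).hom a = (𝒮L.str.app (op V)).hom c' * tgen j e ^ (m * d) := hc'
    have hB : X.basicOpen c ≤ V := X.basicOpen_le c
    have hBT : X.basicOpen c ≤ xs u U d f := hxs.ge.trans inf_le_left
    have hres : ores hB c' = 0 := by
      refine str_mul_pow_eq_zero hj hLq (hV.basicOpen c) (he.res hB) (n := m * d) ?_
      have h1 : ares 𝒮L.toQCAlg hB ((u.appLE U V hle).hom a) = 0 := by
        rw [← ares_appLE u U V hle a, ares_ares, ← ares_ares 𝒮L.toQCAlg (xs_le u U d f) hBT,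
          ares_appLE, h0, map_zero]
      rw [hc', map_mul, map_pow, ares_str] at h1
      rw [← res_tgen hj hB]
      exact h1
    haveI := hV.isLocalization_basicOpen c
    obtain ⟨⟨_, k, rfl⟩, hk⟩ := (IsLocalization.map_eq_zero_iff (Submonoid.powers c) Γ(X, X.basicOpen c) c').1 hres
    refine ⟨k, ?_⟩
    rw [map_mul, map_pow, hc, hc', mul_pow, ← map_pow]
    calc _ = (𝒮L.str.app (op V)).hom (c ^ k * c') * ((tgen j e ^ d) ^ k * tgen j e ^ (m * d)) := by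
          rw [map_mul]; ring
      _ = 0 := by rw [show c ^ k * c' = 0 from hk, map_zero, zero_mul]
  choose k hk using key
  refine ⟨Finset.univ.sup k + 1, Nat.succ_pos _, hinj ?_⟩
  rw [map_zero, ← appLE_self_apply]
  refine eq_of_ares 𝒮L.toQCAlg (fun V : t => V.1.1) (fun V => V.1.2.2.1) ht _ _ fun V => ?_
  rw [map_zero, ares_appLE]
  have hle : k V ≤ Finset.univ.sup k + 1 := (Finset.le_sup (Finset.mem_univ V)).trans (Nat.le_succ _)
  rw [← Nat.sub_add_cancel hle, pow_add, mul_assoc, map_mul, hk, mul_zero]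

include hj hLq hL hPL in
/-- With `u` bijective on `U`, functions on `X_f` are fractions. -/
theorem frac_of_bijective (U : Y.Opens) (hU : IsAffineOpen U) (hbij : Function.Bijective (u.app U).hom)
    (hW : IsCompact ((q ⁻¹ᵁ U : X.Opens) : Set X))
    [QuasiSeparatedSpace ((q ⁻¹ᵁ U : X.Opens) : Scheme.{u})]
    {d : ℕ} (hd : 0 < d) (f : 𝒮.presheaf.obj (op U)) (hf : f ∈ 𝒮.deg U hU d) :
    Frac u U hU (xs u U d f) (xs_le u U d f) d f := by
  let W := q ⁻¹ᵁ U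
  let jd := powMap 𝒮L.toQCAlg W (jr W j) d
  haveI : CompactSpace (W : Scheme.{u}) := isCompact_iff_compactSpace.mp hW
  have hL' := TensorMod.isInvertible_restrict hL W.ι
  obtain ⟨τ, hτ⟩ := exists_powMap_eq hj hLq hL W d _ (isDeg_appLE u U hU hf)
  have hG := image_genLocus_eq_xs u hj hLq hL hPL U hU hd f hf τ hτ
  let s := homOfSection (CohB1.tensorPow (L.restrict W.ι) d) τ
  let G := CohB1.genLocus _ s
  intro t
  obtain ⟨N, c, hc⟩ := exists_extend (TensorMod.isInvertible_tensorPow hL' d) s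
    ((W.ι.appIso G).hom (ores hG.le t))
  let b := gv W ((powMap 𝒮L.toQCAlg W jd N).app ⊤ (sect c ⊤))
  have hb : IsDeg 𝒮L W (N * d) b := by
    refine isDeg_of_local fun x hx => ?_
    obtain ⟨V', hV, -, e, hxV, he⟩ := exists_frame_le hL W ⊤ ⟨x, hx⟩ trivial
    refine ⟨W.ι ''ᵁ V', hV, image_ι_le W V', ⟨⟨x, hx⟩, hxV, rfl⟩, ?_⟩
    obtain ⟨r, hr⟩ := (((isFrame_restrict W e he).framePow d).framePow N).bijective.2 (mres _ le_top (sect c ⊤))
    rw [show b = gv W _ from rfl, ares_gv, app_mres, ← hr, powMap_smul_framePow, powMap_framePow, ← pow_mul,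
      mul_comm d N]
    exact str_tgen_pow_mem hj hV _ _
  obtain ⟨a, ha⟩ := hbij.2 b
  rw [← appLE_self_apply] at ha
  have had : a ∈ 𝒮.deg U hU (N * d) := mem_deg_of_isDeg u U hU hbij.1 (ha ▸ hb)
  refine ⟨N + 1, Nat.succ_pos _, a * f,
    by simpa [add_mul] using SetLike.mul_mem_graded (A := 𝒮.deg U hU) had hf, ?_⟩
  have h1 : ares 𝒮L.toQCAlg (image_ι_le W G) b = (𝒮L.str.app (op (W.ι ''ᵁ G))).hom (ores hG.le t) *
      (u.appLE U (W.ι ''ᵁ G) (image_ι_le W G)).hom f ^ N := by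
    rw [show b = gv W _ from rfl, ares_gv, app_mres, mres_sect, hc, powMap_smul_framePow]
    congr 1
    · exact congrArg _ (ConcreteCategory.congr_hom (W.ι.appIso G).hom_inv_id _)
    · congr 1
      rw [← ares_appLE u U _ (image_ι_le W G) f, ← hτ, ares_gv, app_mres, sect_homOfSection]
  have h2 : ∀ T (e : W.ι ''ᵁ G = T) (t' : Γ(X, T)) (hT : T ≤ q ⁻¹ᵁ U),
      (∀ h, ares 𝒮L.toQCAlg (image_ι_le W G) b = (𝒮L.str.app (op (W.ι ''ᵁ G))).hom (ores h t') *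
        (u.appLE U (W.ι ''ᵁ G) (image_ι_le W G)).hom f ^ N) →
      (𝒮L.str.app (op T)).hom t' * ((u.appLE U T hT).hom f) ^ (N + 1) = (u.appLE U T hT).hom (a * f) := by
    intro T e t' hT h
    subst e
    have h' := h le_rfl
    rw [show ores (le_rfl : W.ι ''ᵁ G ≤ W.ι ''ᵁ G) t' = t' from
      ConcreteCategory.congr_hom (X.presheaf.map_id _) t'] at h'
    rw [map_mul, ← ares_appLE u U _ hT a, ha, h', pow_succ, mul_assoc]
  exact h2 _ hG t (xs_le u U d f) fun _ => h1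

end Groth.Agent.SymAlgRel
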