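import Groth.Agent.GenLocus.Extend
import Groth.Agent.GenLocus.PullFrame
import Groth.Agent.SymAlgRel.GrSym

/-!
# Tensor powers mapped into a quasi-coherent algebra
-/

set_option autoImplicit false
set_option backward.isDefEq.respectTransparency false
set_option backward.isDefEq.respectTransparency.types false

noncomputable section

universe u

open CategoryTheory Limits AlgebraicGeometry Opposite TopologicalSpace RelSpec
open Groth.Agent.QCohBase Groth.Agent.GenLocus
open scoped TensorProduct MonoidalCategory

namespace Groth.Agent.SymAlgRel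

variable {X : Scheme.{u}} (A : QCAlg X) (W : X.Opens)

/-- the algebra as a module on an open -/
abbrev rA : (W : Scheme.{u}).Modules := A.toModule.restrict W.ι

/-- a section of `rA`, as an element of the ring -/
def rv (V : (W : Scheme.{u}).Opens) : Γ(rA A W, V) →+ A.presheaf.obj (op (W.ι ''ᵁ V)) where
  toFun x := x
  map_zero' := rfl
  map_add' _ _ := rfl

/-- an element of the ring, as a section of `rA` -/
def ru (V : (W : Scheme.{u}).Opens) : A.presheaf.obj (op (W.ι ''ᵁ V)) →+ Γ(rA A W, V) where
  toFun x := x
  map_zero' := rfl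
  map_add' _ _ := rfl

theorem rv_ru (V : (W : Scheme.{u}).Opens) (x : A.presheaf.obj (op (W.ι ''ᵁ V))) : rv A W V (ru A W V x) = x := rfl

theorem rv_injective (V : (W : Scheme.{u}).Opens) : Function.Injective (rv A W V) := fun _ _ h => h

theorem rv_smul (V : (W : Scheme.{u}).Opens) (r : Γ(W, V)) (x : Γ(rA A W, V)) :
    rv A W V (r • x) = (A.str.app (op (W.ι ''ᵁ V))).hom ((W.ι.appIso V).inv r) * rv A W V x := rfl

theorem rv_mres {V V' : (W : Scheme.{u}).Opens} (h : V' ≤ V) (x : Γ(rA A W, V)) :
    rv A W V' (mres (rA A W) h x) =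
      (A.presheaf.map (homOfLE (W.ι.image_mono h)).op).hom (rv A W V x) := rfl

variable {M N : (W : Scheme.{u}).Modules} (g : M ⟶ rA A W) (k : N ⟶ rA A W)

/-- multiplication of sections -/
def mulT (V : (W : Scheme.{u}).Opens) : Γ(M, V) ⊗[Γ(W, V)] Γ(N, V) →+ Γ(rA A W, V) :=
  TensorProduct.liftAddHom
    (AddMonoidHom.mk' (fun m ↦ AddMonoidHom.mk'
        (fun l ↦ ru A W V (rv A W V (g.app V m) * rv A W V (k.app V l)))
        (fun l l' ↦ by rw [map_add (k.app V).hom, map_add, mul_add, map_add]))
      (fun m m' ↦ AddMonoidHom.ext fun l ↦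
        ((congrArg (fun z ↦ ru A W V (z * rv A W V (k.app V l)))
          ((congrArg (rv A W V) (map_add (g.app V).hom m m')).trans (map_add (rv A W V) _ _))).trans
            (congrArg (ru A W V) (add_mul _ _ _))).trans (map_add (ru A W V) _ _)))
    (fun r m l ↦ by
      show ru A W V _ = ru A W V _
      congr 1
      rw [show g.app V (r • m) = r • g.app V m from map_smul (g.val.app (op V)).hom r m,
        show k.app V (r • l) = r • k.app V l from map_smul (k.val.app (op V)).hom r l, rv_smul, rv_smul]
      ring)

theorem mulT_smul (V : (W : Scheme.{u}).Opens) (r : Γ(W, V)) (t : Γ(M, V) ⊗[Γ(W, V)] Γ(N, V)) :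
    mulT A W g k V (r • t) = r • mulT A W g k V t := by
  induction t using TensorProduct.induction_on with
  | zero => simp
  | add x y hx hy => rw [smul_add, map_add, map_add, hx, hy, smul_add]
  | tmul m l =>
    refine rv_injective A W V ?_
    rw [TensorProduct.smul_tmul', rv_smul]
    show rv A W V (g.app V (r • m)) * _ = _
    rw [show g.app V (r • m) = r • g.app V m from map_smul (g.val.app (op V)).hom r m, rv_smul, mul_assoc]
    rfl

/-- multiplication on presheaves -/
def mulPre : CohB1.tensorPre M N ⟶ (TensorMod.incl (W : Scheme.{u})).obj (rA A W) :=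
  PresheafOfModules.homMk
    { app := fun V ↦ AddCommGrpCat.ofHom (mulT A W g k V.unop)
      naturality := fun V V' i ↦ by
        ext x
        induction x using TensorProduct.induction_on with
        | zero => exact (map_zero _).trans (map_zero _).symm
        | add x y hx hy =>
          exact (map_add _ _ _).trans ((congrArg₂ (· + ·) hx hy).trans (map_add _ _ _).symm)
        | tmul a b =>
          refine rv_injective A W V'.unop ?_
          refine Eq.trans ?_ (rv_mres A W i.unop.le _).symm
          show rv A W V'.unop (g.app V'.unop (mres M i.unop.le a)) * rv A W V'.unop (k.app V'.unop (mres N i.unop.le b)) =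
            (A.presheaf.map (homOfLE (W.ι.image_mono i.unop.le)).op).hom (rv A W V.unop (g.app V.unop a) * rv A W V.unop (k.app V.unop b))
          rw [← app_mres, ← app_mres, rv_mres, rv_mres, map_mul] }
    (fun V r x ↦ mulT_smul A W g k V.unop r x)

/-- the product of two maps into the algebra -/
def mulHom : CohB1.tensorMod M N ⟶ rA A W :=
  ((TensorMod.shAdj (W : Scheme.{u})).homEquiv _ _).symm (mulPre A W g k)

theorem mulHom_tmul (V : (W : Scheme.{u}).Opens) (m : Γ(M, V)) (l : Γ(N, V)) :
    rv A W V ((mulHom A W g k).app V (SecTwist.tmul _ _ V m l)) =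
      rv A W V (g.app V m) * rv A W V (k.app V l) := by
  have h2 := Adjunction.homEquiv_unit (TensorMod.shAdj (W : Scheme.{u})) _ _ (mulHom A W g k)
  rw [mulHom, Equiv.apply_symm_apply] at h2
  exact congrArg (rv A W V) (congr(($h2).app (op V) (m ⊗ₜ[Γ(W, V)] l))).symm

/-- the unit -/
def oneHom : Coh.structureModule (W : Scheme.{u}) ⟶ rA A W :=
  homOfSection (rA A W) (ru A W ⊤ 1)

theorem oneHom_sect (V : (W : Scheme.{u}).Opens) :
    rv A W V ((oneHom A W).app V (sect (𝟙 (Coh.structureModule (W : Scheme.{u}))) V)) = 1 := by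
  have h : (oneHom A W).app V (sect (𝟙 (Coh.structureModule (W : Scheme.{u}))) V) = sect (oneHom A W) V := rfl
  rw [h, oneHom, sect_homOfSection, rv_mres, rv_ru, map_one]

variable {L : (W : Scheme.{u}).Modules} (j : L ⟶ rA A W)

/-- tensor powers into the algebra -/
def powMap : (n : ℕ) → (CohB1.tensorPow L n ⟶ rA A W)
  | 0 => oneHom A W
  | n + 1 => mulHom A W (powMap n) j

theorem powMap_framePow {V : (W : Scheme.{u}).Opens} (e : Γ(L, V)) : ∀ n : ℕ,
    rv A W V ((powMap A W j n).app V (framePow e n)) = rv A W V (j.app V e) ^ n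
  | 0 => (oneHom_sect A W V).trans (pow_zero _).symm
  | n + 1 => by
    rw [pow_succ, ← powMap_framePow e n]
    exact mulHom_tmul A W (powMap A W j n) j V (framePow e n) e

theorem powMap_smul_framePow {V : (W : Scheme.{u}).Opens} (r : Γ(W, V)) (e : Γ(L, V)) (n : ℕ) :
    rv A W V ((powMap A W j n).app V (r • framePow e n)) =
      (A.str.app (op (W.ι ''ᵁ V))).hom ((W.ι.appIso V).inv r) * rv A W V (j.app V e) ^ n := by
  rw [← powMap_framePow A W j e n,
    show (powMap A W j n).app V (r • framePow e n) = r • (powMap A W j n).app V (framePow e n) from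
      map_smul ((powMap A W j n).val.app (op V)).hom r _, rv_smul]

end Groth.Agent.SymAlgRel
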